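import Cfsg.Agent.Lib.Spor.RuOut.ChainY

/-!
The orbits of a chain.
-/

set_option autoImplicit false
set_option maxRecDepth 100000
set_option maxHeartbeats 0
set_option Elab.async false

namespace CfsgLib.Spor.RuOut

open CfsgLib.Spor.TC CfsgLib.Spor.ActCert

theorem chainY_ok : chainW CfsgLib.Spor.Ru.ActR.act [] levY = true ∧ chainProd levY = 145926144000 := by
  decide +kernel

end CfsgLib.Spor.RuOut
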