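import Cfsg.Agent.Lib.Spor.RuOut.Data
import Cfsg.Agent.Lib.Spor.RuOut.ChainX

/-!
The checks on the pair and the candidates.
-/

set_option autoImplicit false
set_option maxRecDepth 100000
set_option maxHeartbeats 0
set_option Elab.async false

namespace CfsgLib.Spor.RuOut

open CfsgLib.Spor.TC CfsgLib.Spor.ActCert

theorem elts_ok : dat.eltsOK CfsgLib.Spor.Ru.ActR.act levX = true := by decide +kernel

theorem cands_ok : dat.candsOK CfsgLib.Spor.Ru.ActR.act levX allowed = true := by decide +kernel

end CfsgLib.Spor.RuOut
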