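import Cfsg.Agent.Lib.Spor.ActCert.Search

/-!
Branches of a search.
-/

set_option autoImplicit false
set_option maxRecDepth 100000
set_option maxHeartbeats 0
set_option Elab.async false

namespace CfsgLib.Spor.RuOut

open CfsgLib.Spor.TC CfsgLib.Spor.ActCert

/-- Branches. -/
def kidsXPart0 : List Branch := [
  .sub [] [.sub [] [.sub [] [.done 0]]],
  .sub [4] [.out 3575],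
  .sub [3, 4] [.sub [25, 18, 19, 18, 24, 27, 30] [.out 2939]],
  .sub [1, 3, 4] [.sub [19, 24, 18, 18, 18, 20, 27, 31, 27, 30, 29] [.out 2781]],
  .sub [2, 3, 4] [.sub [27, 31, 20, 18, 30, 31, 24, 20, 30, 25, 29, 29] [.out 2604]],
  .sub [4, 1, 3, 4] [.out 1594],
  .sub [3, 1, 3, 4] [.sub [19, 20, 29, 18, 18, 25, 20, 20, 20, 20] [.out 3496]],
  .sub [2, 1, 3, 4] [.out 3460],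
  .sub [3, 2, 3, 4] [.out 2013],
  .sub [1, 2, 3, 4] [.out 3879],
  .sub [1, 4, 1, 3, 4] [.out 2543],
  .sub [2, 4, 1, 3, 4] [.out 3356],
  .sub [2, 3, 1, 3, 4] [.out 2057],
  .sub [3, 2, 1, 3, 4] [.out 3803],
  .sub [1, 2, 1, 3, 4] [.sub [19, 30, 19, 20, 18, 30, 20, 31, 29, 24, 30] [.out 4023]],
  .sub [4, 3, 2, 3, 4] [.sub [20, 31, 18, 18, 19, 30, 25, 20, 31, 30, 25, 29] [.out 83]],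
  .sub [1, 3, 2, 3, 4] [.out 3389],
  .sub [3, 1, 2, 3, 4] [.sub [29, 18, 30, 19, 18, 30, 20, 24, 20, 20, 30, 29] [.out 2076]],
  .sub [2, 1, 4, 1, 3, 4] [.out 3886],
  .sub [3, 2, 4, 1, 3, 4] [.sub [29, 19, 18, 25, 18, 18, 31, 25, 20, 31, 24, 27] [.out 1210]],
  .sub [1, 2, 4, 1, 3, 4] [.sub [30, 20, 24, 18, 29, 25, 20, 31, 20, 27] [.sub [20, 18, 31, 24, 18, 30, 31, 20, 31, 29, 25] [.out 2249]]],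
  .sub [3, 2, 3, 1, 3, 4] [.sub [24, 18, 18, 19, 20, 24, 31, 25, 29] [.sub [30, 18, 18, 24, 29, 30, 31, 30, 27, 29] [.out 2016]]],
  .sub [1, 2, 3, 1, 3, 4] [.sub [31, 19, 27, 31, 18, 30, 20, 31, 29, 24, 25, 29] [.out 2221]],
  .sub [4, 3, 2, 1, 3, 4] [.sub [27, 19, 30, 20, 19, 18, 24, 24, 27, 31, 30, 27, 29, 29] [.out 3720]],
  .sub [1, 3, 2, 1, 3, 4] [.sub [29, 24, 24, 31, 18, 24, 29, 30, 31, 30, 27, 29, 29] [.sub [29, 19, 30, 18, 18, 31, 31, 29, 25, 29] [.out 797]]],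
  .sub [2, 3, 2, 1, 3, 4] [.sub [18, 31, 19, 29, 18, 20, 31, 27, 20, 20, 29, 25, 29] [.out 3754]],
  .sub [3, 1, 2, 1, 3, 4] [.sub [19, 24, 24, 18, 24, 29, 25, 31, 24, 30, 25, 29, 29] [.out 2292]],
  .sub [1, 4, 3, 2, 3, 4] [.sub [30, 18, 31, 20, 18, 31, 20, 20, 20, 29] [.out 2171]],
  .sub [4, 1, 3, 2, 3, 4] [.sub [24, 27, 19, 20, 19, 20, 31, 29, 31, 24, 29, 25] [.out 2805]],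
  .sub [3, 1, 3, 2, 3, 4] [.sub [29, 18, 31, 25, 18, 20, 31, 29, 24, 25, 29] [.sub [31, 18, 19, 27, 18, 24, 30, 31, 24, 20, 27, 29, 29] [.out 2604]]],
  .sub [2, 1, 3, 2, 3, 4] [.sub [18, 24, 31, 19, 30, 24, 25, 24, 20, 30, 29, 29] [.out 1228]],
  .sub [4, 3, 1, 2, 3, 4] [.sub [31, 25, 19, 24, 19, 18, 25, 24, 27, 24, 25] [.out 2820]],
  .sub [1, 3, 1, 2, 3, 4] [.out 3267],
  .sub [2, 3, 1, 2, 3, 4] [.sub [30, 19, 19, 18, 19, 31, 25, 20, 31, 24, 30] [.out 3380]],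
  .sub [3, 2, 1, 4, 1, 3, 4] [.sub [20, 18, 27, 18, 19, 30, 29, 31, 30, 27, 29, 29] [.sub [20, 19, 19, 27, 18, 24, 30, 24, 31, 27, 29] [.out 1221]]],
  .sub [1, 2, 1, 4, 1, 3, 4] [.out 3966],
  .sub [4, 3, 2, 4, 1, 3, 4] [.out 2456],
  .sub [1, 3, 2, 4, 1, 3, 4] [.sub [31, 18, 30, 18, 18, 30, 27, 27, 31, 30, 25, 29, 29] [.out 3505]],
  .sub [2, 3, 2, 4, 1, 3, 4] [.out 3758],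
  .sub [3, 1, 2, 4, 1, 3, 4] [.sub [31, 20, 25, 19, 20, 27, 20, 31, 30, 25, 29] [.out 1370]],
  .sub [4, 3, 2, 3, 1, 3, 4] [.sub [20, 24, 19, 29, 18, 27, 31, 20, 29, 24, 27, 30, 29, 29] [.out 2276]],
  .sub [1, 3, 2, 3, 1, 3, 4] [.sub [31, 24, 19, 25, 18, 25, 24, 24, 20, 20, 25] [.out 2817]],
  .sub [2, 3, 2, 3, 1, 3, 4] [.out 1273],
  .sub [3, 1, 2, 3, 1, 3, 4] [.sub [18, 18, 27, 18, 31, 20, 25, 20, 27, 29] [.out 3609]],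
  .sub [1, 4, 3, 2, 1, 3, 4] [.out 2990],
  .sub [2, 4, 3, 2, 1, 3, 4] [.sub [18, 24, 30, 31, 18, 31, 25, 20, 24, 29, 25] [.out 1935]],
  .sub [4, 1, 3, 2, 1, 3, 4] [.out 1947],
  .sub [3, 1, 3, 2, 1, 3, 4] [.out 3888],
  .sub [2, 1, 3, 2, 1, 3, 4] [.out 2560],
  .sub [1, 2, 3, 2, 1, 3, 4] [.sub [25, 19, 18, 19, 19, 25, 31, 20, 27, 30, 29] [.sub [30, 18, 18, 27, 25, 24, 31, 20, 30, 27, 29] [.out 3749]]],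
  .sub [4, 3, 1, 2, 1, 3, 4] [.out 2542],
  .sub [1, 3, 1, 2, 1, 3, 4] [.out 4013],
  .sub [2, 3, 1, 2, 1, 3, 4] [.sub [24, 31, 19, 19, 24, 20, 24, 20, 27, 29, 29] [.out 2365]],
  .sub [4, 1, 4, 3, 2, 3, 4] [.sub [27, 25, 18, 25, 18, 18, 25, 31, 20, 20, 30] [.out 582]],
  .sub [3, 1, 4, 3, 2, 3, 4] [.out 1103],
  .sub [2, 1, 4, 3, 2, 3, 4] [.out 950],
  .sub [3, 4, 1, 3, 2, 3, 4] [.out 1245],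
  .sub [2, 4, 1, 3, 2, 3, 4] [.sub [29, 18, 19, 18, 30, 20, 31, 27, 30] [.out 2726]],
  .sub [4, 3, 1, 3, 2, 3, 4] [.out 3607],
  .sub [1, 3, 1, 3, 2, 3, 4] [.out 2283],
  .sub [2, 3, 1, 3, 2, 3, 4] [.sub [19, 19, 20, 19, 31, 20, 20, 25] [.out 2249]],
  .sub [3, 2, 1, 3, 2, 3, 4] [.out 2080],
  .sub [1, 4, 3, 1, 2, 3, 4] [.sub [31, 27, 24, 19, 18, 20, 20, 31, 24, 30, 29, 29] [.sub [31, 19, 18, 18, 19, 27, 24, 20, 24, 29, 25, 29, 29] [.out 582]]],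
  .sub [2, 4, 3, 1, 2, 3, 4] [.out 3777]]

/-- Branches. -/
def kidsXPart1 : List Branch := [
  .sub [4, 1, 3, 1, 2, 3, 4] [.out 3127],
  .sub [2, 1, 3, 1, 2, 3, 4] [.sub [25, 24, 19, 24, 18, 25, 20, 30, 24, 20, 27, 30] [.out 3669]],
  .sub [3, 2, 3, 1, 2, 3, 4] [.out 2336],
  .sub [1, 2, 3, 1, 2, 3, 4] [.sub [30, 31, 20, 18, 27, 27, 31, 30, 20, 25, 29] [.out 1693]],
  .sub [4, 3, 2, 1, 4, 1, 3, 4] [.sub [20, 31, 18, 19, 18, 27, 27, 30, 20, 24, 30, 25, 29, 29] [.out 3840]],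
  .sub [3, 1, 2, 1, 4, 1, 3, 4] [.sub [18, 19, 24, 18, 18, 25, 27, 24, 30] [.out 2545]],
  .sub [1, 4, 3, 2, 4, 1, 3, 4] [.out 4049],
  .sub [2, 4, 3, 2, 4, 1, 3, 4] [.out 3264],
  .sub [4, 1, 3, 2, 4, 1, 3, 4] [.out 395],
  .sub [3, 1, 3, 2, 4, 1, 3, 4] [.out 2790],
  .sub [2, 1, 3, 2, 4, 1, 3, 4] [.sub [19, 19, 24, 29, 18, 29, 20, 31, 20, 24, 25, 29, 29] [.sub [19, 27, 31, 31, 18, 31, 31, 25, 31] [.out 256]]],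
  .sub [1, 2, 3, 2, 4, 1, 3, 4] [.sub [31, 30, 31, 19, 31, 29, 20, 24, 20, 27, 29, 29] [.out 2444]],
  .sub [4, 3, 1, 2, 4, 1, 3, 4] [.out 1857],
  .sub [1, 3, 1, 2, 4, 1, 3, 4] [.out 2560],
  .sub [2, 3, 1, 2, 4, 1, 3, 4] [.sub [20, 20, 18, 18, 19, 18, 24, 25, 31, 24, 30, 27, 29] [.out 150]],
  .sub [1, 4, 3, 2, 3, 1, 3, 4] [.out 2902],
  .sub [2, 4, 3, 2, 3, 1, 3, 4] [.out 3409],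
  .sub [4, 1, 3, 2, 3, 1, 3, 4] [.sub [27, 19, 24, 25, 18, 20, 30, 25, 27, 24, 30, 29, 29] [.out 1003]],
  .sub [3, 1, 3, 2, 3, 1, 3, 4] [.out 2942],
  .sub [2, 1, 3, 2, 3, 1, 3, 4] [.sub [20, 20, 18, 19, 25, 20, 24, 20, 30, 29] [.sub [18, 31, 31, 20, 18, 18, 30, 27, 31, 20, 25, 29] [.out 358]]],
  .sub [1, 2, 3, 2, 3, 1, 3, 4] [.sub [18, 18, 20, 31, 18, 18, 30, 27, 24, 27] [.out 3061]],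
  .sub [4, 3, 1, 2, 3, 1, 3, 4] [.out 3733],
  .sub [1, 3, 1, 2, 3, 1, 3, 4] [.sub [31, 31, 30, 19, 18, 20, 31, 30, 20, 29, 25, 29] [.out 3071]],
  .sub [2, 3, 1, 2, 3, 1, 3, 4] [.sub [20, 27, 18, 18, 29, 24, 27, 24, 27, 29] [.out 3971]],
  .sub [4, 1, 4, 3, 2, 1, 3, 4] [.out 2545],
  .sub [3, 1, 4, 3, 2, 1, 3, 4] [.out 1902],
  .sub [2, 1, 4, 3, 2, 1, 3, 4] [.out 2434],
  .sub [3, 2, 4, 3, 2, 1, 3, 4] [.out 3406],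
  .sub [1, 2, 4, 3, 2, 1, 3, 4] [.sub [31, 30, 19, 19, 19, 30, 27, 24, 27, 24, 29, 25, 29] [.sub [25, 19, 19, 24, 18, 30, 24, 20, 20, 25] [.out 3680]]],
  .sub [3, 4, 1, 3, 2, 1, 3, 4] [.out 3022],
  .sub [1, 4, 1, 3, 2, 1, 3, 4] [.out 1619],
  .sub [2, 4, 1, 3, 2, 1, 3, 4] [.out 2078],
  .sub [4, 3, 1, 3, 2, 1, 3, 4] [.sub [19, 20, 29, 18, 18, 25, 20, 20, 20, 20] [.sub [18, 30, 18, 18, 18, 31, 24, 25] [.out 1145]]],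
  .sub [1, 3, 1, 3, 2, 1, 3, 4] [.sub [31, 24, 24, 19, 29, 31, 20, 20, 24] [.out 2338]],
  .sub [2, 3, 1, 3, 2, 1, 3, 4] [.sub [27, 31, 27, 25, 18, 24, 27, 31, 20, 20, 30, 25, 29] [.out 222]],
  .sub [3, 2, 1, 3, 2, 1, 3, 4] [.sub [24, 24, 20, 19, 18, 30, 25, 31, 20, 27, 30, 29, 29] [.out 165]],
  .sub [1, 2, 1, 3, 2, 1, 3, 4] [.out 2153],
  .sub [4, 1, 2, 3, 2, 1, 3, 4] [.sub [27, 31, 31, 18, 24, 25, 24, 31, 27, 29, 29] [.out 526]],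
  .sub [3, 1, 2, 3, 2, 1, 3, 4] [.sub [24, 20, 20, 18, 18, 25, 24, 31, 20, 25, 29, 29] [.out 3372]],
  .sub [1, 4, 3, 1, 2, 1, 3, 4] [.out 2118],
  .sub [2, 4, 3, 1, 2, 1, 3, 4] [.sub [27, 31, 18, 31, 30, 27, 31, 30, 25] [.sub [29, 25, 31, 20, 18, 31, 27, 24, 20, 29, 25] [.out 1369]]],
  .sub [4, 1, 3, 1, 2, 1, 3, 4] [.sub [18, 20, 18, 18, 18, 29, 24, 30, 25, 29] [.sub [25, 27, 25, 18, 18, 27, 30, 27, 24, 29, 29] [.out 1278]]],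
  .sub [2, 1, 3, 1, 2, 1, 3, 4] [.sub [18, 30, 31, 24, 19, 24, 31, 20, 24, 20, 27, 30] [.sub [20, 20, 20, 20, 18, 20, 30, 20, 20, 27, 30, 29, 29] [.out 2745]]],
  .sub [3, 2, 3, 1, 2, 1, 3, 4] [.sub [29, 19, 24, 18, 18, 24, 20, 27, 24, 29, 25] [.out 2226]],
  .sub [1, 2, 3, 1, 2, 1, 3, 4] [.sub [30, 31, 19, 19, 31, 24, 20, 31, 27, 29, 29] [.out 2126]],
  .sub [3, 4, 1, 4, 3, 2, 3, 4] [.out 3006],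
  .sub [2, 4, 1, 4, 3, 2, 3, 4] [.out 3702],
  .sub [4, 3, 1, 4, 3, 2, 3, 4] [.sub [27, 30, 18, 18, 18, 29, 31, 20, 20, 30, 25] [.out 929]],
  .sub [1, 3, 1, 4, 3, 2, 3, 4] [.sub [27, 19, 24, 18, 18, 18, 20, 31, 24, 20, 29, 25, 29, 29] [.out 825]],
  .sub [2, 3, 1, 4, 3, 2, 3, 4] [.sub [30, 31, 19, 18, 19, 18, 25, 31, 25, 20, 20, 27, 29] [.out 2611]],
  .sub [3, 2, 1, 4, 3, 2, 3, 4] [.sub [18, 19, 24, 18, 18, 18, 31, 20, 30, 20, 29, 25] [.out 3953]],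
  .sub [4, 3, 4, 1, 3, 2, 3, 4] [.sub [29, 19, 27, 31, 19, 30, 31, 30, 31] [.out 3803]],
  .sub [1, 3, 4, 1, 3, 2, 3, 4] [.out 3830],
  .sub [2, 3, 4, 1, 3, 2, 3, 4] [.sub [19, 18, 31, 20, 18, 30, 31, 24] [.out 95]],
  .sub [3, 2, 4, 1, 3, 2, 3, 4] [.sub [20, 29, 18, 25, 18, 18, 20, 20, 24, 25, 29, 29] [.out 3709]],
  .sub [2, 4, 3, 1, 3, 2, 3, 4] [.sub [30, 31, 24, 18, 27, 30, 20, 27, 29, 29] [.out 1627]],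
  .sub [4, 1, 3, 1, 3, 2, 3, 4] [.sub [31, 20, 27, 18, 20, 20, 30, 24, 20, 30, 29] [.out 642]],
  .sub [2, 1, 3, 1, 3, 2, 3, 4] [.sub [18, 27, 19, 18, 29, 20, 20, 20, 20] [.sub [30, 20, 25, 18, 30, 20, 29, 20, 31, 29, 25, 29, 29] [.out 538]]],
  .sub [3, 2, 3, 1, 3, 2, 3, 4] [.sub [30, 19, 31, 18, 18, 27, 30, 27, 31, 20, 30, 25, 29, 29] [.out 3603]],
  .sub [1, 2, 3, 1, 3, 2, 3, 4] [.out 3461],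
  .sub [4, 3, 2, 1, 3, 2, 3, 4] [.sub [19, 27, 18, 19, 24, 20, 24, 30, 25, 29, 29] [.out 3806]],
  .sub [1, 3, 2, 1, 3, 2, 3, 4] [.out 3993],
  .sub [2, 3, 2, 1, 3, 2, 3, 4] [.sub [20, 30, 19, 19, 18, 24, 31, 29] [.sub [31, 24, 18, 19, 29, 24, 31, 30, 27, 29, 29] [.out 1364]]],
  .sub [3, 2, 4, 3, 1, 2, 3, 4] [.sub [31, 25, 18, 24, 18, 31, 20, 20, 20, 29] [.sub [31, 19, 27, 24, 31, 25, 29] [.out 2868]]]]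

/-- Branches. -/
def kidsXPart2 : List Branch := [
  .sub [3, 4, 1, 3, 1, 2, 3, 4] [.sub [27, 18, 27, 18, 18, 29, 31, 25, 31, 20] [.sub [19, 19, 27, 20, 18, 18, 25, 31, 31, 27, 30] [.out 538]]],
  .sub [1, 4, 1, 3, 1, 2, 3, 4] [.out 3208],
  .sub [2, 4, 1, 3, 1, 2, 3, 4] [.out 3024],
  .sub [3, 2, 1, 3, 1, 2, 3, 4] [.out 567],
  .sub [1, 2, 1, 3, 1, 2, 3, 4] [.sub [19, 18, 29, 18, 18, 29, 20, 31, 20, 24, 30, 27, 29, 29] [.out 1155]],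
  .sub [4, 3, 2, 3, 1, 2, 3, 4] [.sub [19, 27, 18, 18, 27, 29, 20, 20, 20, 29, 25] [.out 359]],
  .sub [1, 3, 2, 3, 1, 2, 3, 4] [.sub [29, 19, 19, 20, 18, 18, 31, 31, 25, 20] [.sub [27, 29, 18, 18, 19, 31, 29, 20, 24, 20, 30, 25, 29, 29] [.out 3725]]],
  .sub [4, 1, 2, 3, 1, 2, 3, 4] [.out 3011],
  .sub [3, 1, 2, 3, 1, 2, 3, 4] [.out 3120],
  .sub [4, 3, 1, 2, 1, 4, 1, 3, 4] [.sub [31, 31, 19, 19, 31, 20, 31, 27, 30, 29] [.out 3471]],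
  .sub [1, 3, 1, 2, 1, 4, 1, 3, 4] [.out 3207],
  .sub [2, 3, 1, 2, 1, 4, 1, 3, 4] [.out 2733],
  .sub [4, 1, 4, 3, 2, 4, 1, 3, 4] [.sub [24, 18, 24, 27, 19, 30, 24, 20, 29, 25, 29, 29] [.out 2695]],
  .sub [3, 1, 4, 3, 2, 4, 1, 3, 4] [.out 2544],
  .sub [2, 1, 4, 3, 2, 4, 1, 3, 4] [.sub [20, 25, 18, 19, 20, 24, 25, 29, 29] [.out 2967]],
  .sub [3, 2, 4, 3, 2, 4, 1, 3, 4] [.out 3728],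
  .sub [1, 2, 4, 3, 2, 4, 1, 3, 4] [.sub [18, 18, 20, 25, 19, 29, 20, 24, 20, 30, 25] [.out 121]],
  .sub [3, 4, 1, 3, 2, 4, 1, 3, 4] [.sub [29, 20, 19, 18, 19, 24, 30, 27, 27, 24, 30, 25, 29] [.out 3819]],
  .sub [1, 4, 1, 3, 2, 4, 1, 3, 4] [.out 3035],
  .sub [2, 4, 1, 3, 2, 4, 1, 3, 4] [.sub [27, 29, 18, 29, 18, 20, 20, 30, 24, 30, 25] [.sub [29, 31, 18, 20, 30, 25, 20, 27, 29] [.out 426]]],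
  .sub [4, 3, 1, 3, 2, 4, 1, 3, 4] [.out 2283],
  .sub [1, 3, 1, 3, 2, 4, 1, 3, 4] [.out 3201],
  .sub [2, 3, 1, 3, 2, 4, 1, 3, 4] [.out 3508],
  .sub [3, 2, 1, 3, 2, 4, 1, 3, 4] [.out 3160],
  .sub [1, 2, 1, 3, 2, 4, 1, 3, 4] [.sub [20, 18, 29, 18, 20, 25, 20, 30, 25, 29] [.out 126]],
  .sub [3, 1, 2, 3, 2, 4, 1, 3, 4] [.out 3938],
  .sub [1, 4, 3, 1, 2, 4, 1, 3, 4] [.sub [24, 27, 18, 19, 27, 25, 31, 27, 29, 29] [.out 3311]],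
  .sub [2, 4, 3, 1, 2, 4, 1, 3, 4] [.out 567],
  .sub [4, 1, 3, 1, 2, 4, 1, 3, 4] [.sub [20, 27, 18, 18, 31, 31, 30, 20, 30, 27, 29] [.sub [18, 30, 31, 20, 18, 20, 30, 24, 20, 30, 25, 29] [.out 3461]]],
  .sub [2, 1, 3, 1, 2, 4, 1, 3, 4] [.sub [29, 19, 31, 27, 18, 24, 31, 30] [.out 2870]],
  .sub [3, 2, 3, 1, 2, 4, 1, 3, 4] [.sub [18, 27, 29, 20, 18, 31, 24, 27, 25, 20, 30, 27, 29, 29] [.out 3155]],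
  .sub [1, 2, 3, 1, 2, 4, 1, 3, 4] [.sub [30, 19, 30, 18, 18, 29, 30, 24, 30, 25, 29, 29] [.sub [] [.out 2600]]],
  .sub [4, 1, 4, 3, 2, 3, 1, 3, 4] [.out 2697],
  .sub [2, 1, 4, 3, 2, 3, 1, 3, 4] [.sub [24, 18, 27, 18, 30, 20, 20, 31, 27, 30, 29] [.out 488]],
  .sub [3, 2, 4, 3, 2, 3, 1, 3, 4] [.sub [18, 30, 24, 27, 18, 24, 31, 31, 27] [.out 1671]],
  .sub [3, 4, 1, 3, 2, 3, 1, 3, 4] [.sub [20, 27, 18, 31, 19, 29, 31, 25, 31, 20, 29, 25, 29, 29] [.out 1704]],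
  .sub [1, 4, 1, 3, 2, 3, 1, 3, 4] [.sub [27, 18, 18, 19, 24, 20, 31, 20, 25, 29] [.sub [29, 24, 29, 18, 18, 30, 29, 20, 20, 25] [.out 2875]]],
  .sub [2, 4, 1, 3, 2, 3, 1, 3, 4] [.out 2146],
  .sub [4, 3, 1, 3, 2, 3, 1, 3, 4] [.out 395],
  .sub [1, 3, 1, 3, 2, 3, 1, 3, 4] [.out 3386],
  .sub [2, 3, 1, 3, 2, 3, 1, 3, 4] [.sub [20, 27, 18, 18, 25, 20, 31, 24, 30, 25, 29, 29] [.out 3385]],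
  .sub [3, 2, 1, 3, 2, 3, 1, 3, 4] [.sub [31, 25, 18, 24, 18, 31, 20, 20, 20, 29] [.sub [24, 18, 29, 19, 18, 31, 29, 31, 30] [.out 2554]]],
  .sub [1, 2, 1, 3, 2, 3, 1, 3, 4] [.sub [25, 19, 29, 25, 18, 25, 31, 31, 24, 20, 30, 27] [.out 83]],
  .sub [3, 1, 2, 3, 2, 3, 1, 3, 4] [.sub [18, 20, 19, 18, 20, 18, 24, 25, 24, 20, 20, 30, 27, 29, 29] [.out 3587]],
  .sub [1, 4, 3, 1, 2, 3, 1, 3, 4] [.sub [24, 27, 31, 18, 19, 24, 20, 27, 31, 25] [.out 714]],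
  .sub [2, 4, 3, 1, 2, 3, 1, 3, 4] [.sub [29, 31, 19, 24, 31, 30, 20, 27, 29] [.out 3026]],
  .sub [2, 1, 3, 1, 2, 3, 1, 3, 4] [.out 2322],
  .sub [3, 2, 3, 1, 2, 3, 1, 3, 4] [.out 1630],
  .sub [1, 2, 3, 1, 2, 3, 1, 3, 4] [.sub [25, 19, 18, 20, 18, 18, 27, 31, 31, 20, 27] [.out 3100]],
  .sub [3, 4, 1, 4, 3, 2, 1, 3, 4] [.sub [25, 27, 20, 19, 18, 20, 24, 27, 24, 20, 25, 29] [.sub [20, 20, 18, 18, 29, 31, 30, 20, 20, 29] [.out 1846]]],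
  .sub [1, 4, 1, 4, 3, 2, 1, 3, 4] [.sub [20, 24, 19, 29, 18, 27, 31, 20, 29, 24, 27, 30, 29, 29] [.out 3430]],
  .sub [2, 4, 1, 4, 3, 2, 1, 3, 4] [.sub [27, 20, 31, 20, 18, 31, 29, 31, 20, 20, 30, 25, 29, 29] [.out 3130]],
  .sub [4, 3, 1, 4, 3, 2, 1, 3, 4] [.out 3510],
  .sub [1, 3, 1, 4, 3, 2, 1, 3, 4] [.sub [20, 18, 18, 24, 18, 25, 31, 20, 24, 27, 29] [.out 1317]],
  .sub [2, 3, 1, 4, 3, 2, 1, 3, 4] [.out 555],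
  .sub [3, 2, 1, 4, 3, 2, 1, 3, 4] [.out 1812],
  .sub [1, 2, 1, 4, 3, 2, 1, 3, 4] [.sub [29, 19, 24, 18, 18, 27, 24, 27, 24, 27, 30] [.sub [25, 20, 24, 20, 18, 27, 31, 30, 20, 20, 30, 27, 29] [.out 1911]]],
  .sub [1, 3, 2, 4, 3, 2, 1, 3, 4] [.sub [29, 19, 24, 18, 18, 31, 25, 20, 20, 27, 30] [.out 3530]],
  .sub [2, 3, 2, 4, 3, 2, 1, 3, 4] [.out 2744],
  .sub [3, 1, 2, 4, 3, 2, 1, 3, 4] [.out 3140],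
  .sub [4, 3, 4, 1, 3, 2, 1, 3, 4] [.sub [24, 19, 20, 18, 18, 31, 31, 24, 30, 25, 29] [.sub [20, 30, 18, 18, 19, 31, 31, 31] [.out 1496]]],
  .sub [1, 3, 4, 1, 3, 2, 1, 3, 4] [.sub [30, 19, 18, 24, 31, 20, 31, 20, 30, 25] [.out 3459]],
  .sub [2, 3, 4, 1, 3, 2, 1, 3, 4] [.out 3676],
  .sub [3, 1, 4, 1, 3, 2, 1, 3, 4] [.out 3058]]

/-- Branches. -/
def kidsXPart3 : List Branch := [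
  .sub [2, 1, 4, 1, 3, 2, 1, 3, 4] [.out 3670],
  .sub [3, 2, 4, 1, 3, 2, 1, 3, 4] [.sub [29, 31, 24, 18, 27, 29, 20, 31, 29] [.sub [30, 20, 24, 18, 19, 24, 27, 29, 31, 30, 25] [.out 3864]]],
  .sub [1, 2, 4, 1, 3, 2, 1, 3, 4] [.out 3019],
  .sub [2, 4, 3, 1, 3, 2, 1, 3, 4] [.out 1910],
  .sub [4, 1, 3, 1, 3, 2, 1, 3, 4] [.sub [20, 20, 24, 19, 18, 20, 20, 24, 20, 20, 30, 25, 29] [.out 740]],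
  .sub [2, 1, 3, 1, 3, 2, 1, 3, 4] [.sub [18, 18, 24, 18, 24, 29, 25, 31, 29, 25, 29] [.sub [20, 19, 19, 24, 18, 18, 24, 24, 31, 31, 30] [.out 2113]]],
  .sub [3, 2, 3, 1, 3, 2, 1, 3, 4] [.out 2958],
  .sub [1, 2, 3, 1, 3, 2, 1, 3, 4] [.sub [19, 27, 18, 18, 27, 29, 20, 20, 20, 29, 25] [.out 1121]],
  .sub [4, 3, 2, 1, 3, 2, 1, 3, 4] [.sub [20, 19, 19, 24, 18, 18, 25, 27, 24, 31] [.out 958]],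
  .sub [1, 3, 2, 1, 3, 2, 1, 3, 4] [.sub [30, 18, 30, 20, 18, 25, 24, 20, 24, 29, 25, 29, 29] [.out 794]],
  .sub [2, 3, 2, 1, 3, 2, 1, 3, 4] [.out 2538],
  .sub [4, 1, 2, 1, 3, 2, 1, 3, 4] [.sub [18, 24, 27, 19, 30, 31, 24, 30] [.out 1687]],
  .sub [3, 1, 2, 1, 3, 2, 1, 3, 4] [.out 3110],
  .sub [3, 4, 1, 2, 3, 2, 1, 3, 4] [.sub [24, 29, 20, 24, 18, 27, 29, 20, 24, 30, 27, 29, 29] [.out 714]],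
  .sub [4, 3, 1, 2, 3, 2, 1, 3, 4] [.sub [24, 18, 24, 27, 19, 24, 20, 30, 25, 20, 30, 25, 29] [.out 4003]],
  .sub [1, 3, 1, 2, 3, 2, 1, 3, 4] [.out 2464],
  .sub [2, 3, 1, 2, 3, 2, 1, 3, 4] [.out 3069],
  .sub [4, 1, 4, 3, 1, 2, 1, 3, 4] [.sub [29, 18, 18, 18, 24, 20, 29, 31, 20, 27, 30, 29, 29] [.out 825]],
  .sub [3, 1, 4, 3, 1, 2, 1, 3, 4] [.sub [18, 29, 31, 25, 19, 31, 30, 29, 20, 20, 30, 27, 29, 29] [.out 1570]],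
  .sub [2, 1, 4, 3, 1, 2, 1, 3, 4] [.sub [24, 24, 18, 18, 18, 20, 20, 29, 31, 30] [.out 1786]],
  .sub [3, 2, 4, 3, 1, 2, 1, 3, 4] [.sub [24, 31, 31, 19, 18, 24, 30, 31, 24, 20, 25, 29, 29] [.out 707]],
  .sub [1, 2, 4, 3, 1, 2, 1, 3, 4] [.sub [19, 25, 24, 19, 18, 24, 20, 20, 27, 29] [.sub [27, 18, 24, 25, 18, 25, 27, 20, 24, 29, 25] [.out 2019]]],
  .sub [3, 4, 1, 3, 1, 2, 1, 3, 4] [.out 3469],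
  .sub [1, 4, 1, 3, 1, 2, 1, 3, 4] [.out 3786],
  .sub [2, 4, 1, 3, 1, 2, 1, 3, 4] [.out 2634],
  .sub [3, 2, 1, 3, 1, 2, 1, 3, 4] [.sub [19, 20, 18, 18, 24, 24, 20, 24, 20, 25, 29] [.out 3849]],
  .sub [1, 2, 1, 3, 1, 2, 1, 3, 4] [.out 3268],
  .sub [4, 3, 2, 3, 1, 2, 1, 3, 4] [.sub [19, 18, 27, 18, 18, 20, 31, 25, 20, 30, 25, 29, 29] [.out 2534]],
  .sub [1, 3, 2, 3, 1, 2, 1, 3, 4] [.sub [19, 19, 30, 18, 18, 24, 20, 30, 25, 20, 27, 30, 29] [.sub [19, 20, 18, 18, 30, 20, 24, 30, 27, 29] [.out 3991]]],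
  .sub [4, 1, 2, 3, 1, 2, 1, 3, 4] [.out 3505],
  .sub [3, 1, 2, 3, 1, 2, 1, 3, 4] [.sub [31, 19, 18, 24, 18, 25, 24, 30, 20, 30, 25] [.sub [31, 20, 18, 18, 19, 25, 31, 25, 31, 27, 29, 29] [.out 40]]],
  .sub [1, 3, 4, 1, 4, 3, 2, 3, 4] [.sub [19, 18, 29, 18, 20, 20, 31, 20, 30, 27, 29] [.out 58]],
  .sub [3, 2, 4, 1, 4, 3, 2, 3, 4] [.sub [29, 25, 18, 19, 18, 24, 27, 20, 20, 20] [.out 3413]],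
  .sub [2, 4, 3, 1, 4, 3, 2, 3, 4] [.sub [30, 20, 27, 18, 18, 27, 31, 29, 20, 20, 27, 30, 29, 29] [.out 1377]],
  .sub [4, 1, 3, 1, 4, 3, 2, 3, 4] [.out 569],
  .sub [2, 1, 3, 1, 4, 3, 2, 3, 4] [.sub [19, 19, 24, 24, 18, 25, 27, 25, 24, 27, 29, 29] [.out 761]],
  .sub [3, 2, 3, 1, 4, 3, 2, 3, 4] [.out 2877],
  .sub [1, 2, 3, 1, 4, 3, 2, 3, 4] [.out 3960],
  .sub [4, 3, 2, 1, 4, 3, 2, 3, 4] [.sub [24, 27, 18, 19, 20, 24, 20, 24, 25] [.out 1003]],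
  .sub [2, 3, 2, 1, 4, 3, 2, 3, 4] [.out 1919],
  .sub [2, 4, 3, 4, 1, 3, 2, 3, 4] [.sub [18, 19, 18, 18, 18, 24, 30, 31, 30, 27, 29] [.out 990]],
  .sub [4, 1, 3, 4, 1, 3, 2, 3, 4] [.sub [31, 30, 19, 19, 18, 20, 27, 24, 20, 30, 29] [.out 2759]],
  .sub [2, 1, 3, 4, 1, 3, 2, 3, 4] [.out 2351],
  .sub [3, 2, 3, 4, 1, 3, 2, 3, 4] [.out 2828],
  .sub [1, 2, 3, 4, 1, 3, 2, 3, 4] [.sub [25, 18, 18, 18, 18, 31, 24, 30, 20, 25] [.sub [30, 20, 18, 19, 19, 30, 31, 25, 24, 27, 30, 29] [.out 1278]]],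
  .sub [4, 3, 2, 4, 1, 3, 2, 3, 4] [.out 1596],
  .sub [1, 3, 2, 4, 1, 3, 2, 3, 4] [.out 3565],
  .sub [2, 3, 2, 4, 1, 3, 2, 3, 4] [.out 2101],
  .sub [3, 2, 4, 3, 1, 3, 2, 3, 4] [.sub [30, 18, 19, 29, 18, 24, 30, 20, 30, 20, 29, 25, 29] [.sub [18, 18, 19, 25, 18, 31, 24, 30, 31, 25, 29] [.out 90]]],
  .sub [1, 2, 4, 3, 1, 3, 2, 3, 4] [.sub [19, 19, 29, 20, 18, 31, 25, 20, 24, 25, 29] [.out 1949]],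
  .sub [3, 4, 1, 3, 1, 3, 2, 3, 4] [.out 4034],
  .sub [2, 4, 1, 3, 1, 3, 2, 3, 4] [.sub [24, 24, 20, 19, 18, 30, 25, 31, 20, 27, 30, 29, 29] [.out 2331]],
  .sub [3, 2, 1, 3, 1, 3, 2, 3, 4] [.sub [25, 19, 31, 19, 30, 31, 20, 20, 20, 29] [.out 3587]],
  .sub [1, 2, 1, 3, 1, 3, 2, 3, 4] [.out 2446],
  .sub [4, 3, 2, 3, 1, 3, 2, 3, 4] [.out 2476],
  .sub [1, 3, 2, 3, 1, 3, 2, 3, 4] [.sub [20, 25, 20, 19, 18, 27, 25, 31, 30, 29, 29] [.out 1357]],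
  .sub [2, 3, 2, 3, 1, 3, 2, 3, 4] [.sub [18, 19, 19, 18, 30, 24, 27, 20, 24, 30, 25] [.out 3918]],
  .sub [3, 1, 2, 3, 1, 3, 2, 3, 4] [.sub [24, 20, 19, 31, 19, 18, 29, 20, 20, 20, 30, 27, 29] [.out 51]],
  .sub [1, 4, 3, 2, 1, 3, 2, 3, 4] [.sub [29, 20, 18, 27, 29, 30, 31, 30, 25, 29] [.out 1666]],
  .sub [2, 4, 3, 2, 1, 3, 2, 3, 4] [.sub [18, 18, 24, 18, 18, 29, 31, 24, 29, 25] [.out 996]],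
  .sub [4, 1, 3, 2, 1, 3, 2, 3, 4] [.out 3000],
  .sub [2, 1, 3, 2, 1, 3, 2, 3, 4] [.sub [24, 20, 24, 18, 24, 31, 27, 24, 20, 29] [.out 2967]],
  .sub [1, 2, 3, 2, 1, 3, 2, 3, 4] [.sub [29, 19, 18, 18, 19, 31, 20, 25, 24, 20, 29, 25, 29] [.out 1032]],
  .sub [4, 3, 2, 4, 3, 1, 2, 3, 4] [.sub [18, 31, 19, 25, 18, 29, 30, 20, 30, 20, 27] [.sub [24, 30, 18, 24, 18, 30, 25, 31, 25, 29, 29] [.out 402]]]]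

/-- Branches. -/
def kidsXPart4 : List Branch := [
  .sub [2, 3, 2, 4, 3, 1, 2, 3, 4] [.out 2869],
  .sub [1, 3, 4, 1, 3, 1, 2, 3, 4] [.out 3158],
  .sub [2, 3, 4, 1, 3, 1, 2, 3, 4] [.out 3298],
  .sub [3, 1, 4, 1, 3, 1, 2, 3, 4] [.sub [27, 24, 29, 18, 18, 31, 27, 25, 20, 20, 27, 29] [.out 1293]],
  .sub [2, 1, 4, 1, 3, 1, 2, 3, 4] [.sub [25, 19, 18, 19, 18, 18, 20, 31, 20, 29] [.out 3055]],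
  .sub [3, 2, 4, 1, 3, 1, 2, 3, 4] [.sub [24, 27, 18, 24, 18, 27, 30, 20, 24, 30, 29, 29] [.sub [31, 24, 24, 19, 20, 31, 20, 31, 30, 27, 29, 29] [.out 392]]],
  .sub [1, 2, 4, 1, 3, 1, 2, 3, 4] [.out 3997],
  .sub [4, 3, 2, 1, 3, 1, 2, 3, 4] [.sub [31, 31, 20, 18, 18, 30, 27, 20, 20, 25, 29, 29] [.out 1374]],
  .sub [1, 3, 2, 1, 3, 1, 2, 3, 4] [.sub [24, 31, 19, 29, 18, 30, 27, 27, 31, 30, 27, 29] [.out 3508]],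
  .sub [2, 3, 2, 1, 3, 1, 2, 3, 4] [.sub [31, 24, 24, 19, 24, 27, 25, 31, 27] [.out 666]],
  .sub [4, 1, 2, 1, 3, 1, 2, 3, 4] [.sub [24, 19, 25, 20, 18, 27, 20, 31, 20, 27, 30] [.sub [24, 24, 18, 31, 24, 18, 24, 25, 27, 20, 20, 27, 30, 29] [.out 694]]],
  .sub [3, 1, 2, 1, 3, 1, 2, 3, 4] [.sub [18, 18, 19, 19, 24, 27, 20, 24, 29, 25, 29, 29] [.out 2617]],
  .sub [1, 4, 3, 2, 3, 1, 2, 3, 4] [.out 3772],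
  .sub [4, 1, 3, 2, 3, 1, 2, 3, 4] [.sub [31, 30, 18, 24, 18, 27, 31, 31, 20, 27, 30, 29, 29] [.out 3601]],
  .sub [3, 1, 3, 2, 3, 1, 2, 3, 4] [.sub [20, 20, 20, 20, 18, 27, 30, 27, 31, 20, 29, 25, 29] [.out 1708]],
  .sub [2, 1, 3, 2, 3, 1, 2, 3, 4] [.sub [25, 27, 18, 20, 19, 18, 29, 20, 20, 31, 27, 29] [.out 1763]],
  .sub [4, 3, 1, 2, 3, 1, 2, 3, 4] [.out 3369],
  .sub [1, 3, 1, 2, 3, 1, 2, 3, 4] [.sub [24, 27, 18, 19, 18, 31, 31, 25, 20, 25, 29] [.sub [31, 24, 29, 18, 18, 27, 20, 31, 24, 27, 30, 29] [.out 2858]]],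
  .sub [2, 3, 1, 2, 3, 1, 2, 3, 4] [.out 3547],
  .sub [2, 4, 3, 1, 2, 1, 4, 1, 3, 4] [.sub [24, 18, 20, 18, 25, 20, 30, 24, 20, 30, 27] [.sub [25, 31, 25, 19, 24, 31, 25, 20, 30, 29] [.out 2594]]],
  .sub [4, 1, 3, 1, 2, 1, 4, 1, 3, 4] [.sub [25, 19, 29, 25, 18, 29, 24, 29, 24, 20, 25, 29] [.sub [29, 31, 18, 24, 20, 24, 20, 27, 30] [.out 1904]]],
  .sub [2, 1, 3, 1, 2, 1, 4, 1, 3, 4] [.out 2134],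
  .sub [3, 2, 3, 1, 2, 1, 4, 1, 3, 4] [.out 1605],
  .sub [1, 2, 3, 1, 2, 1, 4, 1, 3, 4] [.sub [19, 31, 20, 19, 31, 29, 31, 20, 20, 27, 29] [.out 2874]],
  .sub [1, 4, 1, 4, 3, 2, 4, 1, 3, 4] [.sub [18, 19, 18, 18, 18, 31, 25, 20, 31, 20] [.out 2489]],
  .sub [2, 4, 1, 4, 3, 2, 4, 1, 3, 4] [.out 2232],
  .sub [1, 3, 1, 4, 3, 2, 4, 1, 3, 4] [.sub [20, 27, 19, 25, 18, 18, 20, 29, 20, 31, 27, 30] [.out 3978]],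
  .sub [2, 3, 1, 4, 3, 2, 4, 1, 3, 4] [.sub [24, 25, 18, 31, 19, 20, 20, 31, 20, 25, 29] [.out 345]],
  .sub [3, 2, 1, 4, 3, 2, 4, 1, 3, 4] [.sub [24, 27, 18, 19, 18, 27, 31, 20, 20, 31, 30, 25] [.out 2497]],
  .sub [1, 2, 1, 4, 3, 2, 4, 1, 3, 4] [.sub [20, 18, 24, 18, 31, 27, 30, 20, 30, 29, 29] [.out 2123]],
  .sub [1, 3, 2, 4, 3, 2, 4, 1, 3, 4] [.sub [24, 25, 18, 31, 19, 20, 20, 31, 20, 25, 29] [.out 1809]],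
  .sub [2, 3, 2, 4, 3, 2, 4, 1, 3, 4] [.out 1218],
  .sub [3, 1, 2, 4, 3, 2, 4, 1, 3, 4] [.sub [19, 20, 18, 18, 24, 24, 20, 24, 20, 25, 29] [.out 2150]],
  .sub [4, 3, 4, 1, 3, 2, 4, 1, 3, 4] [.sub [29, 19, 20, 18, 18, 24, 24, 27, 25, 20, 29, 25, 29] [.out 1988]],
  .sub [1, 3, 4, 1, 3, 2, 4, 1, 3, 4] [.sub [31, 31, 18, 30, 20, 18, 27, 20, 31, 30, 29] [.out 3658]],
  .sub [2, 3, 4, 1, 3, 2, 4, 1, 3, 4] [.out 3920],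
  .sub [3, 1, 4, 1, 3, 2, 4, 1, 3, 4] [.out 2988],
  .sub [2, 1, 4, 1, 3, 2, 4, 1, 3, 4] [.out 3623],
  .sub [3, 2, 4, 1, 3, 2, 4, 1, 3, 4] [.out 3163],
  .sub [1, 2, 4, 1, 3, 2, 4, 1, 3, 4] [.out 2757],
  .sub [2, 4, 3, 1, 3, 2, 4, 1, 3, 4] [.sub [24, 29, 25, 19, 25, 27, 25, 24, 30, 25, 29] [.sub [19, 29, 19, 29, 18, 30, 27, 31, 27, 29, 29] [.out 797]]],
  .sub [4, 1, 3, 1, 3, 2, 4, 1, 3, 4] [.out 2727],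
  .sub [2, 1, 3, 1, 3, 2, 4, 1, 3, 4] [.sub [18, 29, 19, 18, 19, 20, 24, 27, 24, 29, 25] [.out 1666]],
  .sub [3, 2, 3, 1, 3, 2, 4, 1, 3, 4] [.sub [19, 20, 24, 18, 24, 31, 25, 24, 29, 25, 29, 29] [.out 3340]],
  .sub [1, 2, 3, 1, 3, 2, 4, 1, 3, 4] [.sub [24, 24, 24, 24, 18, 30, 20, 30, 24, 20, 30, 27, 29, 29] [.out 614]],
  .sub [4, 3, 2, 1, 3, 2, 4, 1, 3, 4] [.out 3718],
  .sub [1, 3, 2, 1, 3, 2, 4, 1, 3, 4] [.sub [27, 18, 19, 25, 18, 27, 27, 24, 27] [.out 2461]],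
  .sub [2, 3, 2, 1, 3, 2, 4, 1, 3, 4] [.sub [25, 24, 25, 19, 27, 25, 20, 31, 25, 29, 29] [.sub [18, 31, 31, 20, 18, 18, 30, 27, 31, 20, 25, 29] [.out 3040]]],
  .sub [3, 1, 2, 1, 3, 2, 4, 1, 3, 4] [.sub [27, 18, 27, 24, 18, 18, 24, 30, 24, 31, 29, 25] [.out 2302]],
  .sub [4, 3, 1, 2, 3, 2, 4, 1, 3, 4] [.sub [30, 20, 27, 18, 18, 27, 31, 29, 20, 20, 27, 30, 29, 29] [.out 1140]],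
  .sub [1, 3, 1, 2, 3, 2, 4, 1, 3, 4] [.sub [29, 31, 25, 18, 24, 18, 30, 25, 31, 31, 30, 25] [.out 666]],
  .sub [2, 3, 1, 2, 3, 2, 4, 1, 3, 4] [.sub [24, 18, 30, 29, 18, 18, 25, 31, 20, 27, 29, 29] [.sub [18, 24, 19, 25, 18, 31, 24, 29, 24, 27, 30] [.out 3839]]],
  .sub [2, 1, 4, 3, 1, 2, 4, 1, 3, 4] [.out 3802],
  .sub [3, 2, 4, 3, 1, 2, 4, 1, 3, 4] [.out 2141],
  .sub [1, 2, 4, 3, 1, 2, 4, 1, 3, 4] [.sub [20, 27, 19, 25, 18, 18, 27, 25, 24, 29, 25] [.sub [19, 30, 18, 18, 29, 31, 31, 25, 20, 25] [.out 3953]]],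
  .sub [3, 4, 1, 3, 1, 2, 4, 1, 3, 4] [.sub [18, 29, 31, 25, 18, 24, 24, 20, 20, 30, 25, 29] [.out 2299]],
  .sub [1, 4, 1, 3, 1, 2, 4, 1, 3, 4] [.sub [24, 29, 25, 19, 29, 31, 31, 25, 20, 29] [.out 2740]],
  .sub [2, 4, 1, 3, 1, 2, 4, 1, 3, 4] [.sub [30, 24, 20, 18, 31, 29, 20, 24, 30, 29, 29] [.out 2470]],
  .sub [3, 2, 1, 3, 1, 2, 4, 1, 3, 4] [.out 2111],
  .sub [1, 2, 1, 3, 1, 2, 4, 1, 3, 4] [.out 3700],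
  .sub [4, 3, 2, 3, 1, 2, 4, 1, 3, 4] [.sub [31, 19, 25, 18, 29, 30, 31, 20, 30, 27, 29, 29] [.sub [25, 20, 20, 18, 30, 20, 27, 30] [.out 1700]]],
  .sub [1, 3, 2, 3, 1, 2, 4, 1, 3, 4] [.out 3366],
  .sub [4, 1, 2, 3, 1, 2, 4, 1, 3, 4] [.out 3526],
  .sub [1, 4, 1, 4, 3, 2, 3, 1, 3, 4] [.out 3539]]

/-- Branches. -/
def kidsXPart5 : List Branch := [
  .sub [2, 4, 1, 4, 3, 2, 3, 1, 3, 4] [.sub [18, 19, 18, 30, 29, 24, 31, 30, 25] [.out 3670]],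
  .sub [3, 2, 1, 4, 3, 2, 3, 1, 3, 4] [.out 2947],
  .sub [1, 3, 2, 4, 3, 2, 3, 1, 3, 4] [.out 3840],
  .sub [2, 3, 2, 4, 3, 2, 3, 1, 3, 4] [.sub [24, 30, 31, 19, 18, 30, 31, 25, 20, 27, 29] [.out 151]],
  .sub [4, 3, 4, 1, 3, 2, 3, 1, 3, 4] [.out 3911],
  .sub [2, 3, 4, 1, 3, 2, 3, 1, 3, 4] [.out 2708],
  .sub [3, 1, 4, 1, 3, 2, 3, 1, 3, 4] [.sub [29, 30, 20, 19, 18, 20, 24, 30, 29, 29] [.out 2805]],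
  .sub [2, 1, 4, 1, 3, 2, 3, 1, 3, 4] [.sub [29, 24, 24, 19, 24, 31, 29, 25, 29, 29] [.sub [27, 27, 18, 18, 25, 20, 31, 25, 20, 27] [.out 2013]]],
  .sub [3, 2, 4, 1, 3, 2, 3, 1, 3, 4] [.out 470],
  .sub [1, 2, 4, 1, 3, 2, 3, 1, 3, 4] [.sub [27, 19, 19, 25, 18, 18, 27, 20, 31, 30, 20, 30, 29, 29] [.out 3385]],
  .sub [2, 4, 3, 1, 3, 2, 3, 1, 3, 4] [.sub [31, 19, 27, 31, 18, 20, 30, 20, 24, 30, 29] [.out 900]],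
  .sub [4, 1, 3, 1, 3, 2, 3, 1, 3, 4] [.out 3474],
  .sub [2, 1, 3, 1, 3, 2, 3, 1, 3, 4] [.out 2872],
  .sub [3, 2, 3, 1, 3, 2, 3, 1, 3, 4] [.sub [25, 20, 20, 18, 18, 27, 31, 31, 29, 25, 29, 29] [.sub [19, 18, 19, 18, 31, 24, 20, 30, 20, 27, 30, 29] [.out 1133]]],
  .sub [1, 2, 3, 1, 3, 2, 3, 1, 3, 4] [.out 2900],
  .sub [4, 3, 2, 1, 3, 2, 3, 1, 3, 4] [.sub [27, 18, 18, 19, 24, 20, 31, 20, 25, 29] [.sub [20, 27, 18, 18, 19, 30, 27, 24, 31, 27, 29] [.out 3749]]],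
  .sub [2, 3, 2, 1, 3, 2, 3, 1, 3, 4] [.sub [27, 27, 18, 18, 19, 27, 31, 29, 20, 20, 27] [.out 1075]],
  .sub [3, 1, 2, 1, 3, 2, 3, 1, 3, 4] [.out 3455],
  .sub [4, 3, 1, 2, 3, 2, 3, 1, 3, 4] [.out 3115],
  .sub [1, 3, 1, 2, 3, 2, 3, 1, 3, 4] [.sub [18, 24, 24, 19, 18, 20, 31, 29, 31, 27, 30, 29] [.out 2346]],
  .sub [2, 1, 4, 3, 1, 2, 3, 1, 3, 4] [.out 1196],
  .sub [3, 2, 4, 3, 1, 2, 3, 1, 3, 4] [.sub [18, 19, 25, 27, 18, 30, 25, 31, 31, 29, 25] [.out 1708]],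
  .sub [1, 2, 4, 3, 1, 2, 3, 1, 3, 4] [.out 2111],
  .sub [1, 2, 1, 3, 1, 2, 3, 1, 3, 4] [.sub [27, 19, 31, 20, 19, 31, 25, 20, 31, 24, 27, 29] [.out 2212]],
  .sub [4, 3, 2, 3, 1, 2, 3, 1, 3, 4] [.sub [25, 27, 24, 18, 18, 30, 31, 27, 20, 20, 29] [.out 2708]],
  .sub [1, 3, 2, 3, 1, 2, 3, 1, 3, 4] [.sub [24, 20, 31, 20, 19, 31, 20, 20, 31, 27] [.sub [19, 27, 29, 25, 19, 18, 25, 27, 31, 31, 30, 27, 29] [.out 3135]]],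
  .sub [4, 1, 2, 3, 1, 2, 3, 1, 3, 4] [.sub [31, 18, 27, 27, 24, 25] [.sub [31, 25, 18, 18, 20, 25, 27, 20, 31, 30, 25] [.out 601]]],
  .sub [3, 1, 2, 3, 1, 2, 3, 1, 3, 4] [.out 2566],
  .sub [1, 3, 4, 1, 4, 3, 2, 1, 3, 4] [.sub [20, 19, 18, 18, 19, 24, 27, 31, 20, 29] [.out 2357]],
  .sub [2, 3, 4, 1, 4, 3, 2, 1, 3, 4] [.out 3241],
  .sub [2, 1, 4, 1, 4, 3, 2, 1, 3, 4] [.out 3949],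
  .sub [3, 2, 4, 1, 4, 3, 2, 1, 3, 4] [.out 3050],
  .sub [1, 2, 4, 1, 4, 3, 2, 1, 3, 4] [.sub [20, 20, 20, 20, 18, 27, 30, 27, 31, 20, 29, 25, 29] [.out 1145]],
  .sub [1, 4, 3, 1, 4, 3, 2, 1, 3, 4] [.sub [24, 20, 25, 19, 31, 25, 20, 31, 20, 30, 29] [.out 3794]],
  .sub [2, 4, 3, 1, 4, 3, 2, 1, 3, 4] [.sub [20, 18, 18, 19, 18, 29, 31, 30, 20, 24, 29, 25, 29] [.out 3874]],
  .sub [4, 1, 3, 1, 4, 3, 2, 1, 3, 4] [.sub [18, 19, 31, 20, 19, 30, 31, 25, 24, 27] [.out 989]],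
  .sub [2, 1, 3, 1, 4, 3, 2, 1, 3, 4] [.out 3386],
  .sub [3, 2, 3, 1, 4, 3, 2, 1, 3, 4] [.sub [30, 19, 19, 18, 24, 27, 30, 31, 20, 25] [.sub [19, 30, 24, 25, 19, 18, 25, 24, 31, 31, 30, 27] [.out 2800]]],
  .sub [1, 2, 3, 1, 4, 3, 2, 1, 3, 4] [.out 1945],
  .sub [4, 3, 2, 1, 4, 3, 2, 1, 3, 4] [.out 932],
  .sub [1, 3, 2, 1, 4, 3, 2, 1, 3, 4] [.out 2641],
  .sub [2, 3, 2, 1, 4, 3, 2, 1, 3, 4] [.out 2635],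
  .sub [3, 1, 2, 1, 4, 3, 2, 1, 3, 4] [.out 1057],
  .sub [4, 1, 3, 2, 4, 3, 2, 1, 3, 4] [.out 2464],
  .sub [3, 1, 3, 2, 4, 3, 2, 1, 3, 4] [.sub [27, 27, 25, 18, 18, 29, 24, 29, 24, 30, 27] [.sub [31, 19, 18, 18, 19, 27, 24, 20, 24, 29, 25, 29, 29] [.out 1911]]],
  .sub [2, 1, 3, 2, 4, 3, 2, 1, 3, 4] [.sub [19, 25, 24, 19, 18, 31, 20, 27, 24] [.sub [29, 24, 25, 20, 18, 29, 31, 30, 20, 20, 25, 29] [.out 23]]],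
  .sub [1, 2, 3, 2, 4, 3, 2, 1, 3, 4] [.out 3611],
  .sub [4, 3, 1, 2, 4, 3, 2, 1, 3, 4] [.sub [30, 31, 20, 19, 18, 24, 30, 31, 30, 27] [.sub [31, 24, 19, 25, 18, 24, 31, 24, 20, 27, 30, 29, 29] [.out 2916]]],
  .sub [2, 4, 3, 4, 1, 3, 2, 1, 3, 4] [.out 1882],
  .sub [4, 1, 3, 4, 1, 3, 2, 1, 3, 4] [.sub [25, 19, 31, 19, 30, 31, 20, 20, 20, 29] [.out 3351]],
  .sub [3, 1, 3, 4, 1, 3, 2, 1, 3, 4] [.sub [19, 18, 19, 18, 18, 29, 24, 30, 31, 20, 30, 27] [.out 57]],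
  .sub [2, 1, 3, 4, 1, 3, 2, 1, 3, 4] [.sub [24, 18, 18, 31, 25, 31, 27, 29, 29] [.out 3694]],
  .sub [3, 2, 3, 4, 1, 3, 2, 1, 3, 4] [.sub [30, 31, 19, 20, 18, 24, 20, 30, 24, 20, 30, 25] [.out 638]],
  .sub [1, 2, 3, 4, 1, 3, 2, 1, 3, 4] [.out 3950],
  .sub [1, 3, 1, 4, 1, 3, 2, 1, 3, 4] [.sub [20, 25, 20, 19, 18, 31, 20, 20, 25, 29, 29] [.out 216]],
  .sub [3, 2, 1, 4, 1, 3, 2, 1, 3, 4] [.sub [19, 29, 31, 18, 27, 20, 24, 25, 29] [.sub [20, 18, 31, 20, 18, 18, 27, 30, 31, 29] [.out 2509]]],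
  .sub [1, 2, 1, 4, 1, 3, 2, 1, 3, 4] [.sub [20, 19, 20, 19, 29, 31, 24, 30, 27] [.out 929]],
  .sub [4, 3, 2, 4, 1, 3, 2, 1, 3, 4] [.sub [31, 27, 19, 19, 19, 18, 24, 27, 20, 24, 30, 29, 29] [.out 1808]],
  .sub [1, 3, 2, 4, 1, 3, 2, 1, 3, 4] [.sub [29, 25, 18, 18, 25, 20, 31, 20, 30, 27, 29, 29] [.out 3040]],
  .sub [2, 3, 2, 4, 1, 3, 2, 1, 3, 4] [.sub [18, 19, 24, 25, 18, 25, 24, 31, 30, 25] [.out 4042]],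
  .sub [4, 1, 2, 4, 1, 3, 2, 1, 3, 4] [.out 3513],
  .sub [3, 1, 2, 4, 1, 3, 2, 1, 3, 4] [.sub [18, 24, 30, 18, 19, 25, 27, 20, 31] [.out 3697]],
  .sub [3, 2, 4, 3, 1, 3, 2, 1, 3, 4] [.sub [20, 19, 27, 19, 18, 20, 20, 25, 20, 30, 25, 29, 29] [.sub [20, 31, 18, 19, 18, 31, 31, 25, 29] [.out 2087]]],
  .sub [1, 2, 4, 3, 1, 3, 2, 1, 3, 4] [.out 3234]]

/-- Branches. -/
def kidsXPart6 : List Branch := [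
  .sub [3, 4, 1, 3, 1, 3, 2, 1, 3, 4] [.sub [29, 19, 24, 18, 18, 27, 24, 27, 24, 27, 30] [.out 3458]],
  .sub [2, 4, 1, 3, 1, 3, 2, 1, 3, 4] [.sub [31, 27, 19, 18, 18, 18, 31, 30, 31, 31, 30] [.out 3659]],
  .sub [3, 2, 1, 3, 1, 3, 2, 1, 3, 4] [.sub [18, 31, 20, 19, 27, 30, 20, 29, 25, 29, 29] [.out 2252]],
  .sub [1, 2, 1, 3, 1, 3, 2, 1, 3, 4] [.sub [18, 29, 19, 20, 18, 18, 24, 29, 24, 25, 20, 29] [.out 1781]],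
  .sub [4, 3, 2, 3, 1, 3, 2, 1, 3, 4] [.out 3175],
  .sub [2, 3, 2, 3, 1, 3, 2, 1, 3, 4] [.out 3552],
  .sub [4, 1, 2, 3, 1, 3, 2, 1, 3, 4] [.sub [19, 31, 24, 18, 19, 31, 27, 30, 20, 20, 30, 27, 29, 29] [.out 2210]],
  .sub [3, 1, 2, 3, 1, 3, 2, 1, 3, 4] [.out 2108],
  .sub [1, 4, 3, 2, 1, 3, 2, 1, 3, 4] [.out 1605],
  .sub [2, 4, 3, 2, 1, 3, 2, 1, 3, 4] [.sub [31, 18, 27, 20, 18, 18, 20, 25, 20, 27, 29, 29] [.sub [31, 24, 18, 19, 20, 27, 31, 29, 25, 29, 29] [.bad [19, 25, 27, 18, 25, 31, 25, 31, 30, 25, 29, 29] 1]]],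
  .sub [4, 1, 3, 2, 1, 3, 2, 1, 3, 4] [.sub [24, 20, 18, 18, 18, 20, 29, 24, 31, 20, 30, 29, 29] [.out 2875]],
  .sub [3, 1, 3, 2, 1, 3, 2, 1, 3, 4] [.out 2209],
  .sub [2, 1, 3, 2, 1, 3, 2, 1, 3, 4] [.sub [19, 24, 31, 19, 25, 20, 30, 24, 20, 27, 30, 29, 29] [.out 2530]],
  .sub [1, 2, 3, 2, 1, 3, 2, 1, 3, 4] [.sub [31, 29, 18, 19, 18, 20, 20, 30, 20, 27, 29, 29] [.out 2007]],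
  .sub [3, 4, 1, 2, 1, 3, 2, 1, 3, 4] [.out 3555],
  .sub [4, 3, 1, 2, 1, 3, 2, 1, 3, 4] [.sub [24, 25, 19, 18, 24, 29, 25, 29, 29] [.sub [18, 30, 19, 27, 19, 24, 29, 30, 31, 27, 30, 29, 29] [.out 1015]]],
  .sub [1, 3, 1, 2, 1, 3, 2, 1, 3, 4] [.sub [20, 31, 31, 19, 27, 20, 20, 24, 29, 25] [.sub [20, 20, 20, 20, 18, 20, 30, 20, 20, 27, 30, 29, 29] [.out 3720]]],
  .sub [2, 3, 1, 2, 1, 3, 2, 1, 3, 4] [.sub [19, 24, 31, 19, 20, 30, 20, 20, 24, 30, 27] [.out 687]],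
  .sub [4, 3, 4, 1, 2, 3, 2, 1, 3, 4] [.sub [24, 29, 20, 24, 18, 27, 29, 20, 24, 30, 27, 29, 29] [.sub [25, 19, 19, 25, 18, 27, 30, 27, 24, 29] [.out 3220]]],
  .sub [1, 3, 4, 1, 2, 3, 2, 1, 3, 4] [.sub [29, 20, 18, 18, 27, 24, 20, 20, 30, 25] [.out 170]],
  .sub [2, 3, 4, 1, 2, 3, 2, 1, 3, 4] [.sub [20, 18, 18, 24, 18, 20, 31, 24, 31, 27, 30, 29, 29] [.out 1468]],
  .sub [2, 4, 3, 1, 2, 3, 2, 1, 3, 4] [.sub [18, 27, 20, 18, 29, 24, 20, 31, 27, 29] [.out 2763]],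
  .sub [4, 1, 3, 1, 2, 3, 2, 1, 3, 4] [.sub [18, 25, 24, 25, 18, 31, 27, 20, 31, 20, 25] [.out 3447]],
  .sub [3, 2, 3, 1, 2, 3, 2, 1, 3, 4] [.out 3792],
  .sub [1, 2, 3, 1, 2, 3, 2, 1, 3, 4] [.out 2069],
  .sub [1, 4, 1, 4, 3, 1, 2, 1, 3, 4] [.sub [20, 31, 31, 18, 19, 18, 30, 24, 20, 20, 25] [.out 3770]],
  .sub [2, 4, 1, 4, 3, 1, 2, 1, 3, 4] [.sub [20, 29, 20, 18, 27, 20, 20, 25] [.out 150]],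
  .sub [1, 3, 1, 4, 3, 1, 2, 1, 3, 4] [.out 3711],
  .sub [2, 3, 1, 4, 3, 1, 2, 1, 3, 4] [.sub [30, 20, 18, 18, 19, 24, 29, 20, 20, 27, 30, 29] [.out 1615]],
  .sub [3, 2, 1, 4, 3, 1, 2, 1, 3, 4] [.sub [27, 29, 24, 18, 18, 20, 31, 31, 25, 20, 27, 30] [.sub [24, 29, 31, 19, 18, 20, 27, 24, 29, 25, 29, 29] [.out 90]]],
  .sub [1, 2, 1, 4, 3, 1, 2, 1, 3, 4] [.out 2451],
  .sub [4, 3, 2, 4, 3, 1, 2, 1, 3, 4] [.sub [31, 24, 19, 24, 18, 18, 29, 31, 30, 20, 24, 29, 25, 29] [.out 303]],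
  .sub [1, 3, 2, 4, 3, 1, 2, 1, 3, 4] [.sub [27, 20, 31, 20, 18, 25, 27, 25, 31, 30, 27] [.out 2198]],
  .sub [2, 3, 2, 4, 3, 1, 2, 1, 3, 4] [.sub [24, 20, 25, 19, 27, 24, 31, 20, 20, 30, 25] [.out 2781]],
  .sub [4, 1, 2, 4, 3, 1, 2, 1, 3, 4] [.out 2458],
  .sub [3, 1, 2, 4, 3, 1, 2, 1, 3, 4] [.out 3399],
  .sub [1, 3, 4, 1, 3, 1, 2, 1, 3, 4] [.out 2845],
  .sub [2, 3, 4, 1, 3, 1, 2, 1, 3, 4] [.sub [30, 18, 31, 20, 18, 20, 20, 31, 29, 29] [.out 2870]],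
  .sub [3, 1, 4, 1, 3, 1, 2, 1, 3, 4] [.out 3075],
  .sub [2, 1, 4, 1, 3, 1, 2, 1, 3, 4] [.sub [20, 19, 20, 25, 18, 24, 27, 30, 31, 30, 29] [.out 3343]],
  .sub [3, 2, 4, 1, 3, 1, 2, 1, 3, 4] [.out 2448],
  .sub [1, 2, 4, 1, 3, 1, 2, 1, 3, 4] [.sub [30, 20, 24, 18, 29, 25, 20, 31, 20, 27] [.out 3053]],
  .sub [4, 3, 2, 1, 3, 1, 2, 1, 3, 4] [.sub [31, 18, 18, 18, 18, 31, 25, 20, 24, 20, 27, 30, 29] [.out 1953]],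
  .sub [1, 3, 2, 1, 3, 1, 2, 1, 3, 4] [.sub [24, 18, 24, 24, 19, 24, 29, 24, 20] [.out 3768]],
  .sub [2, 3, 2, 1, 3, 1, 2, 1, 3, 4] [.out 3412],
  .sub [4, 1, 2, 1, 3, 1, 2, 1, 3, 4] [.out 3838],
  .sub [3, 1, 2, 1, 3, 1, 2, 1, 3, 4] [.sub [25, 18, 30, 19, 18, 30, 24, 27, 24, 20, 25, 29] [.sub [30, 25, 18, 18, 18, 24, 31, 30, 27, 29] [.out 2167]]],
  .sub [1, 4, 3, 2, 3, 1, 2, 1, 3, 4] [.out 3649],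
  .sub [4, 1, 3, 2, 3, 1, 2, 1, 3, 4] [.out 1929],
  .sub [3, 1, 3, 2, 3, 1, 2, 1, 3, 4] [.sub [24, 25, 20, 18, 27, 31, 29, 24, 29, 25, 29, 29] [.out 830]],
  .sub [2, 1, 3, 2, 3, 1, 2, 1, 3, 4] [.out 408],
  .sub [3, 4, 1, 2, 3, 1, 2, 1, 3, 4] [.out 2500],
  .sub [1, 4, 1, 2, 3, 1, 2, 1, 3, 4] [.out 2752],
  .sub [4, 3, 1, 2, 3, 1, 2, 1, 3, 4] [.out 3401],
  .sub [1, 3, 1, 2, 3, 1, 2, 1, 3, 4] [.sub [30, 24, 20, 19, 27, 29, 25, 24, 27] [.out 1728]],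
  .sub [2, 3, 1, 2, 3, 1, 2, 1, 3, 4] [.out 930],
  .sub [2, 1, 3, 4, 1, 4, 3, 2, 3, 4] [.sub [24, 20, 24, 18, 30, 24, 30, 31, 30, 25] [.out 1752]],
  .sub [4, 3, 2, 4, 1, 4, 3, 2, 3, 4] [.out 3426],
  .sub [1, 3, 2, 4, 1, 4, 3, 2, 3, 4] [.out 3602],
  .sub [3, 2, 4, 3, 1, 4, 3, 2, 3, 4] [.out 2728],
  .sub [1, 2, 4, 3, 1, 4, 3, 2, 3, 4] [.out 3708],
  .sub [3, 4, 1, 3, 1, 4, 3, 2, 3, 4] [.sub [20, 24, 20, 18, 30, 25, 24, 20, 29, 25, 29] [.sub [29, 24, 27, 18, 19, 20, 30, 20, 24, 30, 29] [.out 3017]]],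
  .sub [2, 4, 1, 3, 1, 4, 3, 2, 3, 4] [.out 3128],
  .sub [3, 2, 1, 3, 1, 4, 3, 2, 3, 4] [.sub [31, 19, 18, 18, 19, 30, 25, 31, 20, 27, 29, 29] [.out 739]]]

/-- Branches. -/
def kidsXPart7 : List Branch := [
  .sub [1, 2, 1, 3, 1, 4, 3, 2, 3, 4] [.sub [31, 24, 19, 18, 27, 31, 25, 31, 20, 25, 29] [.out 898]],
  .sub [1, 3, 2, 3, 1, 4, 3, 2, 3, 4] [.sub [19, 31, 18, 20, 30, 29, 31, 20, 30, 25, 29, 29] [.out 407]],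
  .sub [2, 3, 2, 3, 1, 4, 3, 2, 3, 4] [.out 3751],
  .sub [4, 1, 2, 3, 1, 4, 3, 2, 3, 4] [.out 3515],
  .sub [3, 1, 2, 3, 1, 4, 3, 2, 3, 4] [.sub [31, 18, 18, 18, 18, 31, 25, 20, 24, 20, 27, 30, 29] [.out 1800]],
  .sub [1, 4, 3, 2, 1, 4, 3, 2, 3, 4] [.sub [20, 19, 19, 24, 18, 18, 25, 27, 24, 31] [.out 3583]],
  .sub [2, 4, 3, 2, 1, 4, 3, 2, 3, 4] [.out 3600],
  .sub [1, 2, 3, 2, 1, 4, 3, 2, 3, 4] [.out 2238],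
  .sub [3, 2, 4, 3, 4, 1, 3, 2, 3, 4] [.sub [31, 19, 20, 27, 19, 29, 24, 20, 31, 27] [.out 3141]],
  .sub [1, 2, 4, 3, 4, 1, 3, 2, 3, 4] [.sub [31, 19, 19, 20, 18, 20, 31, 20, 24, 30, 29, 29] [.out 3554]],
  .sub [3, 4, 1, 3, 4, 1, 3, 2, 3, 4] [.out 2444],
  .sub [2, 4, 1, 3, 4, 1, 3, 2, 3, 4] [.sub [19, 30, 18, 18, 18, 24, 25, 24, 31, 27, 30] [.out 2906]],
  .sub [3, 2, 1, 3, 4, 1, 3, 2, 3, 4] [.sub [19, 24, 31, 19, 25, 20, 30, 24, 20, 27, 30, 29, 29] [.out 340]],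
  .sub [1, 2, 1, 3, 4, 1, 3, 2, 3, 4] [.out 2484],
  .sub [4, 3, 2, 3, 4, 1, 3, 2, 3, 4] [.sub [20, 20, 20, 19, 18, 31, 30, 29, 31, 20, 27] [.out 3164]],
  .sub [1, 3, 2, 3, 4, 1, 3, 2, 3, 4] [.out 2108],
  .sub [2, 3, 2, 3, 4, 1, 3, 2, 3, 4] [.out 3932],
  .sub [4, 1, 2, 3, 4, 1, 3, 2, 3, 4] [.sub [20, 18, 18, 24, 27, 31, 20, 30, 25, 29, 29] [.out 2147]],
  .sub [3, 1, 2, 3, 4, 1, 3, 2, 3, 4] [.sub [18, 29, 19, 20, 19, 29, 24, 31, 30, 27, 29] [.out 699]],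
  .sub [1, 4, 3, 2, 4, 1, 3, 2, 3, 4] [.sub [25, 20, 19, 19, 18, 27, 25, 20, 24, 25, 29, 29] [.out 210]],
  .sub [2, 4, 3, 2, 4, 1, 3, 2, 3, 4] [.out 3712],
  .sub [4, 1, 3, 2, 4, 1, 3, 2, 3, 4] [.out 3782],
  .sub [3, 1, 3, 2, 4, 1, 3, 2, 3, 4] [.out 3139],
  .sub [2, 1, 3, 2, 4, 1, 3, 2, 3, 4] [.out 3719],
  .sub [1, 2, 3, 2, 4, 1, 3, 2, 3, 4] [.out 2469],
  .sub [4, 3, 2, 4, 3, 1, 3, 2, 3, 4] [.out 3310],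
  .sub [1, 3, 2, 4, 3, 1, 3, 2, 3, 4] [.out 432],
  .sub [2, 3, 2, 4, 3, 1, 3, 2, 3, 4] [.sub [18, 30, 18, 24, 18, 25, 31, 31, 20, 20, 27, 30, 29, 29] [.out 3309]],
  .sub [4, 1, 2, 4, 3, 1, 3, 2, 3, 4] [.out 3633],
  .sub [3, 1, 2, 4, 3, 1, 3, 2, 3, 4] [.sub [31, 25, 20, 19, 24, 25, 24, 31, 30, 25, 29, 29] [.out 2625]],
  .sub [2, 3, 4, 1, 3, 1, 3, 2, 3, 4] [.sub [20, 19, 19, 27, 18, 27, 24, 29, 24, 27, 29, 29] [.out 2176]],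
  .sub [3, 2, 4, 1, 3, 1, 3, 2, 3, 4] [.sub [31, 19, 18, 24, 18, 24, 31, 30, 27, 29, 29] [.out 1804]],
  .sub [1, 2, 4, 1, 3, 1, 3, 2, 3, 4] [.out 3763],
  .sub [4, 3, 2, 1, 3, 1, 3, 2, 3, 4] [.sub [29, 19, 31, 18, 31, 20, 27, 29, 29] [.sub [27, 19, 18, 20, 18, 18, 31, 27, 25, 31, 20, 25] [.out 1456]]],
  .sub [1, 3, 2, 1, 3, 1, 3, 2, 3, 4] [.out 3478],
  .sub [2, 3, 2, 1, 3, 1, 3, 2, 3, 4] [.sub [20, 18, 30, 25, 18, 18, 31, 30, 31, 27, 30] [.out 165]],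
  .sub [3, 1, 2, 1, 3, 1, 3, 2, 3, 4] [.sub [18, 20, 27, 18, 20, 29, 31, 20, 30, 25, 29] [.out 3524]],
  .sub [1, 4, 3, 2, 3, 1, 3, 2, 3, 4] [.out 2757],
  .sub [2, 4, 3, 2, 3, 1, 3, 2, 3, 4] [.out 3772],
  .sub [4, 1, 3, 2, 3, 1, 3, 2, 3, 4] [.sub [19, 31, 20, 19, 27, 24, 31, 20, 30, 29, 29] [.out 1988]],
  .sub [3, 1, 3, 2, 3, 1, 3, 2, 3, 4] [.sub [25, 24, 20, 18, 19, 20, 25, 24, 20, 30, 29] [.out 2097]],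
  .sub [2, 1, 3, 2, 3, 1, 3, 2, 3, 4] [.sub [31, 20, 30, 18, 18, 31, 25, 24, 31, 27, 29] [.out 3632]],
  .sub [1, 2, 3, 2, 3, 1, 3, 2, 3, 4] [.sub [27, 19, 27, 31, 18, 30, 31, 31, 30, 24, 27, 30] [.out 3634]],
  .sub [1, 3, 1, 2, 3, 1, 3, 2, 3, 4] [.sub [29, 19, 20, 18, 18, 24, 24, 27, 25, 20, 29, 25, 29] [.sub [30, 25, 31, 19, 30, 20, 31, 20, 27, 30, 29, 29] [.out 1846]]],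
  .sub [4, 1, 4, 3, 2, 1, 3, 2, 3, 4] [.sub [27, 18, 24, 27, 19, 30, 24, 30, 25, 20, 27, 29, 29] [.out 2386]],
  .sub [3, 1, 4, 3, 2, 1, 3, 2, 3, 4] [.out 2372],
  .sub [2, 1, 4, 3, 2, 1, 3, 2, 3, 4] [.sub [25, 19, 29, 25, 18, 29, 24, 29, 24, 20, 25, 29] [.sub [30, 18, 18, 24, 29, 30, 31, 30, 27, 29] [.out 2499]]],
  .sub [3, 2, 4, 3, 2, 1, 3, 2, 3, 4] [.sub [18, 27, 20, 19, 18, 27, 25, 31, 31, 30] [.sub [25, 19, 25, 18, 19, 31, 20, 20, 29, 25, 29] [.out 1234]]],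
  .sub [1, 2, 4, 3, 2, 1, 3, 2, 3, 4] [.sub [30, 19, 29, 25, 18, 31, 25, 20, 31, 24, 29, 25] [.out 1109]],
  .sub [1, 4, 1, 3, 2, 1, 3, 2, 3, 4] [.sub [31, 20, 27, 18, 20, 20, 20, 25] [.out 1222]],
  .sub [2, 4, 1, 3, 2, 1, 3, 2, 3, 4] [.sub [30, 19, 29, 18, 18, 20, 30, 31, 20] [.out 2966]],
  .sub [3, 2, 1, 3, 2, 1, 3, 2, 3, 4] [.out 3719],
  .sub [1, 2, 1, 3, 2, 1, 3, 2, 3, 4] [.sub [30, 20, 24, 18, 19, 31, 20, 20, 30, 27, 29, 29] [.sub [29, 31, 27, 25, 18, 20, 30, 20, 20, 24, 29] [.out 1918]]],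
  .sub [4, 1, 2, 3, 2, 1, 3, 2, 3, 4] [.out 2441],
  .sub [3, 1, 2, 3, 2, 1, 3, 2, 3, 4] [.sub [27, 19, 19, 20, 18, 29, 24, 31, 20, 29, 29] [.out 1773]],
  .sub [1, 4, 3, 2, 4, 3, 1, 2, 3, 4] [.out 1622],
  .sub [2, 4, 3, 2, 4, 3, 1, 2, 3, 4] [.out 2975],
  .sub [1, 2, 3, 2, 4, 3, 1, 2, 3, 4] [.out 3025],
  .sub [2, 1, 3, 4, 1, 3, 1, 2, 3, 4] [.sub [25, 27, 18, 25, 31, 24, 20, 27, 30, 29, 29] [.out 2576]],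
  .sub [3, 2, 3, 4, 1, 3, 1, 2, 3, 4] [.sub [27, 18, 19, 24, 19, 20, 20, 25, 20, 30, 29, 29] [.out 2439]],
  .sub [1, 2, 3, 4, 1, 3, 1, 2, 3, 4] [.out 3510],
  .sub [2, 3, 1, 4, 1, 3, 1, 2, 3, 4] [.out 2643],
  .sub [3, 2, 1, 4, 1, 3, 1, 2, 3, 4] [.out 3010],
  .sub [1, 2, 1, 4, 1, 3, 1, 2, 3, 4] [.out 2358]]

/-- Branches. -/
def kidsXPart8 : List Branch := [
  .sub [4, 3, 2, 4, 1, 3, 1, 2, 3, 4] [.out 2389],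
  .sub [1, 3, 2, 4, 1, 3, 1, 2, 3, 4] [.sub [29, 31, 29, 18, 19, 31, 20, 20, 31, 30, 29, 29] [.out 2193]],
  .sub [2, 3, 2, 4, 1, 3, 1, 2, 3, 4] [.sub [31, 30, 31, 18, 19, 25, 24, 24, 20, 20, 25, 29, 29] [.out 1270]],
  .sub [4, 1, 2, 4, 1, 3, 1, 2, 3, 4] [.out 3843],
  .sub [3, 1, 2, 4, 1, 3, 1, 2, 3, 4] [.sub [29, 24, 24, 31, 18, 24, 29, 30, 31, 30, 27, 29, 29] [.out 809]],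
  .sub [1, 4, 3, 2, 1, 3, 1, 2, 3, 4] [.out 3364],
  .sub [2, 4, 3, 2, 1, 3, 1, 2, 3, 4] [.out 2732],
  .sub [4, 1, 3, 2, 1, 3, 1, 2, 3, 4] [.out 1301],
  .sub [3, 1, 3, 2, 1, 3, 1, 2, 3, 4] [.sub [20, 18, 27, 18, 19, 24, 24, 31, 24, 29, 25, 29] [.sub [18, 18, 25, 18, 30, 24, 24, 20, 20, 30, 27, 29] [.out 906]]],
  .sub [2, 1, 3, 2, 1, 3, 1, 2, 3, 4] [.sub [20, 31, 31, 19, 27, 20, 20, 24, 29, 25] [.out 1682]],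
  .sub [1, 2, 3, 2, 1, 3, 1, 2, 3, 4] [.sub [31, 20, 20, 19, 18, 29, 24, 25, 24, 20, 29, 29] [.out 2346]],
  .sub [3, 4, 1, 2, 1, 3, 1, 2, 3, 4] [.out 3969],
  .sub [1, 4, 1, 2, 1, 3, 1, 2, 3, 4] [.sub [31, 25, 18, 19, 31, 27, 27, 31, 27, 30, 29, 29] [.out 2958]],
  .sub [4, 3, 1, 2, 1, 3, 1, 2, 3, 4] [.out 3974],
  .sub [1, 3, 1, 2, 1, 3, 1, 2, 3, 4] [.out 3986],
  .sub [2, 3, 1, 2, 1, 3, 1, 2, 3, 4] [.sub [20, 20, 25, 19, 18, 27, 29, 20, 20, 29, 25] [.out 1769]],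
  .sub [4, 1, 4, 3, 2, 3, 1, 2, 3, 4] [.sub [24, 18, 19, 20, 18, 31, 29, 20, 24, 29, 29] [.sub [18, 31, 18, 18, 20, 29, 24, 30, 29, 29] [.out 2868]]],
  .sub [3, 1, 4, 3, 2, 3, 1, 2, 3, 4] [.out 2238],
  .sub [2, 1, 4, 3, 2, 3, 1, 2, 3, 4] [.sub [24, 27, 31, 18, 19, 30, 20, 20, 24, 29, 25, 29] [.sub [27, 18, 24, 20, 18, 30, 29, 24, 20, 29, 25, 29, 29] [.out 941]]],
  .sub [3, 4, 1, 3, 2, 3, 1, 2, 3, 4] [.out 4049],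
  .sub [1, 4, 1, 3, 2, 3, 1, 2, 3, 4] [.sub [24, 27, 19, 24, 19, 27, 24, 27, 31, 20, 30, 27, 29, 29] [.sub [30, 24, 25, 19, 18, 31, 27, 29, 20, 24, 30, 29] [.done 5]]],
  .sub [2, 4, 1, 3, 2, 3, 1, 2, 3, 4] [.sub [20, 29, 19, 18, 18, 31, 30, 29, 31, 20, 25, 29, 29] [.sub [31, 19, 27, 24, 31, 25, 29] [.out 2019]]],
  .sub [4, 3, 1, 3, 2, 3, 1, 2, 3, 4] [.out 3775],
  .sub [1, 3, 1, 3, 2, 3, 1, 2, 3, 4] [.sub [20, 19, 18, 18, 24, 29, 25, 31, 29, 25] [.out 3176]],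
  .sub [2, 3, 1, 3, 2, 3, 1, 2, 3, 4] [.sub [30, 18, 19, 18, 18, 18, 31, 24, 29, 20, 20, 30, 29, 29] [.sub [27, 19, 30, 25, 20, 18, 27, 25, 24, 27, 30, 29] [.out 440]]],
  .sub [3, 2, 1, 3, 2, 3, 1, 2, 3, 4] [.out 3723],
  .sub [1, 4, 3, 1, 2, 3, 1, 2, 3, 4] [.sub [20, 19, 20, 19, 27, 25, 31, 31, 29] [.out 3691]],
  .sub [2, 4, 3, 1, 2, 3, 1, 2, 3, 4] [.sub [30, 27, 20, 19, 19, 18, 20, 27, 20, 31, 27, 29] [.out 3330]],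
  .sub [4, 1, 3, 1, 2, 3, 1, 2, 3, 4] [.sub [30, 24, 31, 18, 18, 31, 25, 20, 20, 30, 25, 29, 29] [.sub [19, 27, 19, 20, 18, 27, 24, 27, 31, 30, 25, 29] [.out 3764]]],
  .sub [2, 1, 3, 1, 2, 3, 1, 2, 3, 4] [.sub [19, 29, 19, 29, 18, 27, 29, 31, 20, 30] [.out 899]],
  .sub [3, 2, 3, 1, 2, 3, 1, 2, 3, 4] [.out 3683],
  .sub [1, 2, 3, 1, 2, 3, 1, 2, 3, 4] [.sub [29, 24, 27, 19, 20, 31, 20, 24, 30, 27, 29, 29] [.out 1800]],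
  .sub [3, 2, 4, 3, 1, 2, 1, 4, 1, 3, 4] [.out 2406],
  .sub [1, 2, 4, 3, 1, 2, 1, 4, 1, 3, 4] [.sub [25, 27, 20, 19, 18, 30, 27, 31, 24, 29, 25, 29] [.out 3997]],
  .sub [2, 4, 1, 3, 1, 2, 1, 4, 1, 3, 4] [.sub [27, 18, 24, 25, 18, 24, 30, 31, 24, 30] [.out 470]],
  .sub [3, 2, 1, 3, 1, 2, 1, 4, 1, 3, 4] [.sub [19, 30, 19, 18, 25, 31, 25, 31, 27, 30] [.out 772]],
  .sub [1, 2, 1, 3, 1, 2, 1, 4, 1, 3, 4] [.sub [25, 19, 31, 27, 18, 31, 29, 20, 24, 20, 27] [.sub [18, 24, 19, 25, 18, 30, 31, 24, 31, 25, 29] [.done 22]]],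
  .sub [4, 3, 2, 3, 1, 2, 1, 4, 1, 3, 4] [.out 3492],
  .sub [1, 3, 2, 3, 1, 2, 1, 4, 1, 3, 4] [.out 1935],
  .sub [4, 1, 2, 3, 1, 2, 1, 4, 1, 3, 4] [.out 3928],
  .sub [3, 1, 2, 3, 1, 2, 1, 4, 1, 3, 4] [.sub [25, 20, 20, 18, 31, 24, 30, 20, 30, 25, 29] [.out 3135]],
  .sub [2, 1, 4, 1, 4, 3, 2, 4, 1, 3, 4] [.sub [31, 31, 31, 19, 18, 31, 20, 24, 31, 30, 25, 29] [.sub [29, 24, 19, 18, 31, 20, 24, 30, 20, 27, 30, 29, 29] [.out 2630]]],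
  .sub [3, 2, 4, 1, 4, 3, 2, 4, 1, 3, 4] [.sub [24, 29, 20, 24, 18, 27, 29, 20, 24, 30, 27, 29, 29] [.out 2625]],
  .sub [1, 2, 4, 1, 4, 3, 2, 4, 1, 3, 4] [.sub [24, 27, 31, 18, 19, 30, 20, 20, 24, 29, 25, 29] [.sub [27, 19, 30, 25, 20, 18, 27, 25, 24, 27, 30, 29] [.out 429]]],
  .sub [4, 1, 3, 1, 4, 3, 2, 4, 1, 3, 4] [.out 2872],
  .sub [2, 1, 3, 1, 4, 3, 2, 4, 1, 3, 4] [.sub [30, 31, 19, 19, 31, 24, 20, 31, 27, 29, 29] [.out 3025]],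
  .sub [3, 2, 3, 1, 4, 3, 2, 4, 1, 3, 4] [.out 3771],
  .sub [1, 2, 3, 1, 4, 3, 2, 4, 1, 3, 4] [.out 2944],
  .sub [4, 3, 2, 1, 4, 3, 2, 4, 1, 3, 4] [.sub [29, 24, 18, 18, 19, 31, 20, 30, 20, 27, 29, 29] [.out 126]],
  .sub [1, 3, 2, 1, 4, 3, 2, 4, 1, 3, 4] [.out 3508],
  .sub [2, 3, 2, 1, 4, 3, 2, 4, 1, 3, 4] [.sub [18, 18, 25, 18, 18, 30, 25, 31, 20, 27, 30] [.sub [24, 24, 18, 31, 24, 18, 24, 25, 27, 20, 20, 27, 30, 29] [.out 1911]]],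
  .sub [3, 1, 2, 1, 4, 3, 2, 4, 1, 3, 4] [.sub [18, 29, 18, 18, 19, 30, 27, 20, 20, 27, 30, 29, 29] [.sub [24, 24, 19, 31, 19, 31, 31, 20, 20, 29] [.out 3839]]],
  .sub [4, 1, 3, 2, 4, 3, 2, 4, 1, 3, 4] [.sub [25, 19, 18, 19, 18, 18, 20, 31, 20, 29] [.out 1808]],
  .sub [3, 1, 3, 2, 4, 3, 2, 4, 1, 3, 4] [.out 3062],
  .sub [4, 3, 1, 2, 4, 3, 2, 4, 1, 3, 4] [.out 3442],
  .sub [1, 3, 1, 2, 4, 3, 2, 4, 1, 3, 4] [.sub [25, 18, 18, 24, 18, 24, 20, 24, 30, 20, 29] [.out 1465]],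
  .sub [2, 3, 1, 2, 4, 3, 2, 4, 1, 3, 4] [.out 3029],
  .sub [2, 4, 3, 4, 1, 3, 2, 4, 1, 3, 4] [.out 1596],
  .sub [4, 1, 3, 4, 1, 3, 2, 4, 1, 3, 4] [.sub [24, 19, 24, 19, 31, 31, 27, 20, 20] [.out 2261]],
  .sub [3, 1, 3, 4, 1, 3, 2, 4, 1, 3, 4] [.sub [31, 19, 24, 18, 31, 30, 31, 29, 25, 29, 29] [.out 2778]],
  .sub [2, 1, 3, 4, 1, 3, 2, 4, 1, 3, 4] [.sub [29, 18, 29, 18, 19, 18, 24, 20, 30, 29, 24, 30, 29, 29] [.out 3505]],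
  .sub [3, 2, 3, 4, 1, 3, 2, 4, 1, 3, 4] [.sub [18, 18, 19, 20, 19, 27, 27, 24, 27, 24, 29, 25, 29] [.out 2076]],
  .sub [1, 2, 3, 4, 1, 3, 2, 4, 1, 3, 4] [.sub [31, 20, 19, 30, 25, 31, 25, 24] [.sub [20, 18, 31, 24, 18, 27, 27, 24, 27, 24, 27, 29, 29] [.out 2245]]],
  .sub [1, 3, 1, 4, 1, 3, 2, 4, 1, 3, 4] [.sub [18, 19, 20, 24, 18, 18, 20, 27, 24, 20, 20, 27, 30, 29, 29] [.out 1109]]]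

/-- Branches. -/
def kidsXPart9 : List Branch := [
  .sub [3, 2, 1, 4, 1, 3, 2, 4, 1, 3, 4] [.sub [29, 18, 19, 18, 18, 24, 24, 31, 24, 30, 27] [.sub [31, 19, 19, 27, 18, 25, 20, 30, 24, 20, 27] [.done 6]]],
  .sub [1, 2, 1, 4, 1, 3, 2, 4, 1, 3, 4] [.out 2813],
  .sub [4, 3, 2, 4, 1, 3, 2, 4, 1, 3, 4] [.sub [19, 24, 18, 24, 18, 24, 27, 24, 20, 20, 29, 25, 29, 29] [.out 1606]],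
  .sub [1, 3, 2, 4, 1, 3, 2, 4, 1, 3, 4] [.out 3241],
  .sub [2, 3, 2, 4, 1, 3, 2, 4, 1, 3, 4] [.out 2024],
  .sub [3, 1, 2, 4, 1, 3, 2, 4, 1, 3, 4] [.out 4037],
  .sub [3, 2, 4, 3, 1, 3, 2, 4, 1, 3, 4] [.out 3269],
  .sub [1, 2, 4, 3, 1, 3, 2, 4, 1, 3, 4] [.out 3268],
  .sub [3, 4, 1, 3, 1, 3, 2, 4, 1, 3, 4] [.sub [20, 18, 31, 25, 18, 20, 30, 20, 24, 30, 27, 29] [.out 3577]],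
  .sub [2, 4, 1, 3, 1, 3, 2, 4, 1, 3, 4] [.sub [18, 18, 29, 18, 29, 25, 31, 20, 29, 25, 29, 29] [.out 195]],
  .sub [3, 2, 1, 3, 1, 3, 2, 4, 1, 3, 4] [.sub [24, 24, 24, 24, 18, 30, 20, 30, 24, 20, 30, 27, 29, 29] [.out 1138]],
  .sub [1, 2, 1, 3, 1, 3, 2, 4, 1, 3, 4] [.out 1266],
  .sub [4, 3, 2, 3, 1, 3, 2, 4, 1, 3, 4] [.out 1176],
  .sub [1, 3, 2, 3, 1, 3, 2, 4, 1, 3, 4] [.sub [31, 18, 18, 18, 19, 18, 20, 31, 20, 25, 20, 30, 27, 29] [.out 3992]],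
  .sub [2, 3, 2, 3, 1, 3, 2, 4, 1, 3, 4] [.sub [18, 31, 24, 19, 27, 31, 24, 29, 25] [.sub [20, 27, 18, 31, 19, 24, 27, 30, 31, 27, 30, 29, 29] [.out 2750]]],
  .sub [4, 1, 2, 3, 1, 3, 2, 4, 1, 3, 4] [.out 3971],
  .sub [3, 1, 2, 3, 1, 3, 2, 4, 1, 3, 4] [.sub [20, 19, 29, 18, 24, 31, 24, 20, 20, 30, 25, 29, 29] [.out 3300]],
  .sub [1, 4, 3, 2, 1, 3, 2, 4, 1, 3, 4] [.sub [29, 24, 25, 19, 31, 29, 25, 20, 20, 25, 29] [.out 2327]],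
  .sub [2, 4, 3, 2, 1, 3, 2, 4, 1, 3, 4] [.sub [29, 19, 24, 31, 18, 27, 31, 30, 20, 29, 25, 29] [.out 3166]],
  .sub [4, 1, 3, 2, 1, 3, 2, 4, 1, 3, 4] [.sub [30, 31, 18, 19, 30, 27, 20, 20, 27, 29] [.out 3758]],
  .sub [4, 3, 1, 2, 1, 3, 2, 4, 1, 3, 4] [.out 3986],
  .sub [1, 3, 1, 2, 1, 3, 2, 4, 1, 3, 4] [.sub [20, 18, 18, 30, 20, 24, 20, 20, 25, 29] [.out 2744]],
  .sub [2, 3, 1, 2, 1, 3, 2, 4, 1, 3, 4] [.out 3457],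
  .sub [2, 4, 3, 1, 2, 3, 2, 4, 1, 3, 4] [.out 3858],
  .sub [4, 1, 3, 1, 2, 3, 2, 4, 1, 3, 4] [.out 3619],
  .sub [2, 1, 3, 1, 2, 3, 2, 4, 1, 3, 4] [.sub [25, 24, 18, 20, 18, 27, 20, 24, 29, 25] [.sub [25, 18, 31, 20, 18, 18, 24, 24, 27, 20, 24, 25, 29, 29] [.done 8]]],
  .sub [3, 2, 3, 1, 2, 3, 2, 4, 1, 3, 4] [.out 3860],
  .sub [1, 2, 3, 1, 2, 3, 2, 4, 1, 3, 4] [.out 4039],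
  .sub [3, 2, 1, 4, 3, 1, 2, 4, 1, 3, 4] [.out 2659],
  .sub [1, 2, 1, 4, 3, 1, 2, 4, 1, 3, 4] [.out 3261],
  .sub [4, 3, 2, 4, 3, 1, 2, 4, 1, 3, 4] [.sub [24, 18, 31, 24, 18, 24, 27, 27, 24, 30, 29, 29] [.sub [30, 24, 27, 20, 18, 24, 30, 20, 24, 20, 20, 30, 27, 29, 29] [.out 3220]]],
  .sub [1, 3, 2, 4, 3, 1, 2, 4, 1, 3, 4] [.sub [27, 18, 18, 27, 30, 31, 27, 29, 29] [.out 1829]],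
  .sub [2, 3, 2, 4, 3, 1, 2, 4, 1, 3, 4] [.sub [27, 31, 19, 18, 25, 20, 30, 25, 31, 30] [.out 1280]],
  .sub [4, 1, 2, 4, 3, 1, 2, 4, 1, 3, 4] [.sub [24, 24, 18, 19, 24, 29, 20, 31, 30, 25, 29, 29] [.out 3355]],
  .sub [3, 1, 2, 4, 3, 1, 2, 4, 1, 3, 4] [.out 3151],
  .sub [1, 3, 4, 1, 3, 1, 2, 4, 1, 3, 4] [.sub [25, 31, 18, 19, 29, 25, 31, 27, 29] [.sub [18, 18, 30, 19, 18, 27, 24, 25, 24, 20, 25, 29] [.out 562]]],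
  .sub [3, 1, 4, 1, 3, 1, 2, 4, 1, 3, 4] [.out 4012],
  .sub [2, 1, 4, 1, 3, 1, 2, 4, 1, 3, 4] [.out 3100],
  .sub [3, 2, 4, 1, 3, 1, 2, 4, 1, 3, 4] [.out 3756],
  .sub [1, 2, 4, 1, 3, 1, 2, 4, 1, 3, 4] [.sub [25, 31, 20, 18, 18, 24, 27, 29, 31, 27, 30, 29, 29] [.out 773]],
  .sub [4, 3, 2, 1, 3, 1, 2, 4, 1, 3, 4] [.sub [20, 20, 19, 25, 18, 18, 31, 29, 20, 24, 27, 30, 29] [.sub [18, 31, 19, 18, 24, 27, 31, 20, 27, 30, 29, 29] [.out 1742]]],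
  .sub [1, 3, 2, 1, 3, 1, 2, 4, 1, 3, 4] [.sub [30, 18, 20, 19, 18, 30, 24, 30, 31, 30, 27] [.out 1928]],
  .sub [2, 3, 2, 1, 3, 1, 2, 4, 1, 3, 4] [.sub [20, 18, 27, 19, 29, 25, 20, 24, 27, 30, 29] [.sub [31, 25, 18, 24, 18, 24, 30, 20, 30, 20, 29, 25, 29, 29] [.bad [30, 20, 24, 19, 20, 30, 20, 20, 24, 27, 30, 29, 29] 1]]],
  .sub [4, 1, 2, 1, 3, 1, 2, 4, 1, 3, 4] [.sub [25, 19, 29, 18, 18, 29, 30, 20, 30, 20, 30, 29, 29] [.sub [24, 18, 29, 19, 18, 27, 31, 29, 24, 29, 25, 29, 29] [.out 3766]]],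
  .sub [3, 1, 2, 1, 3, 1, 2, 4, 1, 3, 4] [.out 1880],
  .sub [4, 1, 3, 2, 3, 1, 2, 4, 1, 3, 4] [.out 3840],
  .sub [2, 1, 3, 2, 3, 1, 2, 4, 1, 3, 4] [.sub [27, 19, 24, 31, 18, 31, 24, 29, 24, 30, 27, 29, 29] [.sub [27, 18, 19, 27, 18, 31, 25, 20, 20, 27, 29] [.bad [30, 20, 24, 19, 20, 30, 20, 20, 24, 27, 30, 29, 29] 1]]],
  .sub [3, 4, 1, 2, 3, 1, 2, 4, 1, 3, 4] [.sub [20, 29, 19, 18, 18, 18, 20, 25, 31, 30, 25, 29] [.out 3477]],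
  .sub [1, 4, 1, 2, 3, 1, 2, 4, 1, 3, 4] [.out 2887],
  .sub [2, 1, 4, 1, 4, 3, 2, 3, 1, 3, 4] [.out 2742],
  .sub [3, 2, 4, 1, 4, 3, 2, 3, 1, 3, 4] [.sub [24, 20, 18, 18, 24, 29, 20, 31, 29, 29] [.out 501]],
  .sub [4, 3, 2, 1, 4, 3, 2, 3, 1, 3, 4] [.sub [31, 24, 18, 19, 27, 20, 31, 20, 29, 25, 29] [.out 1353]],
  .sub [1, 3, 2, 1, 4, 3, 2, 3, 1, 3, 4] [.out 3312],
  .sub [2, 3, 2, 1, 4, 3, 2, 3, 1, 3, 4] [.sub [29, 31, 19, 19, 20, 30, 25, 31, 30, 27, 29, 29] [.sub [20, 20, 24, 19, 18, 20, 30, 20, 20, 27, 29] [.out 635]]],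
  .sub [4, 1, 3, 2, 4, 3, 2, 3, 1, 3, 4] [.sub [31, 27, 19, 19, 19, 18, 31, 31, 25, 31, 30, 29] [.sub [18, 20, 20, 25, 19, 20, 20, 20, 27, 30] [.out 3839]]],
  .sub [3, 1, 3, 2, 4, 3, 2, 3, 1, 3, 4] [.sub [18, 29, 25, 18, 20, 30, 29, 24, 20, 27, 30, 29, 29] [.sub [30, 20, 24, 18, 19, 24, 27, 29, 31, 30, 25] [.out 3720]]],
  .sub [2, 1, 3, 2, 4, 3, 2, 3, 1, 3, 4] [.out 3876],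
  .sub [1, 2, 3, 2, 4, 3, 2, 3, 1, 3, 4] [.out 2592],
  .sub [2, 4, 3, 4, 1, 3, 2, 3, 1, 3, 4] [.out 3031],
  .sub [3, 2, 3, 4, 1, 3, 2, 3, 1, 3, 4] [.out 2310],
  .sub [1, 2, 3, 4, 1, 3, 2, 3, 1, 3, 4] [.sub [24, 20, 25, 19, 18, 30, 24, 20, 27, 24, 30] [.out 192]],
  .sub [3, 2, 1, 4, 1, 3, 2, 3, 1, 3, 4] [.out 3371],
  .sub [1, 2, 1, 4, 1, 3, 2, 3, 1, 3, 4] [.out 3744],
  .sub [4, 3, 2, 4, 1, 3, 2, 3, 1, 3, 4] [.out 3783]]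

/-- Branches. -/
def kidsXPart10 : List Branch := [
  .sub [1, 3, 2, 4, 1, 3, 2, 3, 1, 3, 4] [.sub [27, 19, 20, 29, 18, 31, 27, 29, 20, 24, 29, 25, 29] [.out 1582]],
  .sub [2, 3, 2, 4, 1, 3, 2, 3, 1, 3, 4] [.out 1942],
  .sub [3, 1, 2, 4, 1, 3, 2, 3, 1, 3, 4] [.out 2369],
  .sub [3, 2, 4, 3, 1, 3, 2, 3, 1, 3, 4] [.sub [18, 25, 20, 18, 25, 20, 30, 24, 20, 30, 25, 29, 29] [.out 3621]],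
  .sub [1, 2, 4, 3, 1, 3, 2, 3, 1, 3, 4] [.sub [20, 19, 29, 18, 24, 30, 27, 27, 24, 25, 29, 29] [.out 2759]],
  .sub [2, 4, 1, 3, 1, 3, 2, 3, 1, 3, 4] [.out 3095],
  .sub [1, 2, 1, 3, 1, 3, 2, 3, 1, 3, 4] [.sub [19, 25, 19, 29, 18, 31, 27, 20, 20, 30, 29, 29] [.out 4008]],
  .sub [4, 3, 2, 3, 1, 3, 2, 3, 1, 3, 4] [.sub [29, 31, 19, 31, 18, 24, 29, 31, 30, 29, 29] [.out 2458]],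
  .sub [1, 3, 2, 3, 1, 3, 2, 3, 1, 3, 4] [.out 2534],
  .sub [2, 3, 2, 3, 1, 3, 2, 3, 1, 3, 4] [.sub [18, 20, 24, 19, 18, 20, 24, 30, 31, 24, 30, 27, 29] [.out 122]],
  .sub [4, 1, 2, 3, 1, 3, 2, 3, 1, 3, 4] [.sub [18, 18, 20, 31, 18, 18, 30, 27, 24, 27] [.out 3837]],
  .sub [1, 4, 3, 2, 1, 3, 2, 3, 1, 3, 4] [.out 3550],
  .sub [2, 4, 3, 2, 1, 3, 2, 3, 1, 3, 4] [.sub [31, 24, 19, 18, 30, 24, 20, 20, 27, 29, 29] [.out 820]],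
  .sub [4, 3, 1, 2, 1, 3, 2, 3, 1, 3, 4] [.sub [29, 19, 19, 18, 31, 29, 20, 24, 20, 30, 27, 29] [.out 1077]],
  .sub [4, 1, 3, 1, 2, 3, 2, 3, 1, 3, 4] [.out 3089],
  .sub [3, 2, 1, 4, 3, 1, 2, 3, 1, 3, 4] [.out 3883],
  .sub [1, 2, 1, 4, 3, 1, 2, 3, 1, 3, 4] [.sub [18, 24, 27, 19, 31, 27, 20, 20, 20, 30, 25] [.out 3045]],
  .sub [4, 3, 2, 4, 3, 1, 2, 3, 1, 3, 4] [.sub [25, 20, 19, 19, 18, 30, 31, 31, 30, 24, 30, 25, 29] [.out 255]],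
  .sub [1, 3, 2, 4, 3, 1, 2, 3, 1, 3, 4] [.sub [19, 29, 19, 18, 25, 27, 31, 30] [.out 3713]],
  .sub [2, 3, 2, 4, 3, 1, 2, 3, 1, 3, 4] [.out 3817],
  .sub [4, 1, 2, 4, 3, 1, 2, 3, 1, 3, 4] [.out 3408],
  .sub [3, 1, 2, 4, 3, 1, 2, 3, 1, 3, 4] [.out 3120],
  .sub [4, 1, 2, 1, 3, 1, 2, 3, 1, 3, 4] [.out 3728],
  .sub [4, 1, 3, 2, 3, 1, 2, 3, 1, 3, 4] [.out 1615],
  .sub [3, 1, 3, 2, 3, 1, 2, 3, 1, 3, 4] [.sub [18, 24, 24, 18, 29, 24, 27, 24, 27] [.out 312]],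
  .sub [2, 1, 3, 2, 3, 1, 2, 3, 1, 3, 4] [.sub [30, 18, 25, 18, 29, 30, 20, 24, 27, 30] [.out 2368]],
  .sub [3, 4, 1, 2, 3, 1, 2, 3, 1, 3, 4] [.out 3902],
  .sub [1, 4, 1, 2, 3, 1, 2, 3, 1, 3, 4] [.out 2490],
  .sub [4, 3, 1, 2, 3, 1, 2, 3, 1, 3, 4] [.sub [27, 20, 18, 25, 18, 18, 24, 25, 31, 20, 29, 29] [.sub [24, 19, 24, 18, 19, 29, 31, 30, 20, 20, 29, 25] [.out 2016]]],
  .sub [1, 3, 1, 2, 3, 1, 2, 3, 1, 3, 4] [.out 4019],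
  .sub [2, 3, 1, 2, 3, 1, 2, 3, 1, 3, 4] [.out 3630],
  .sub [2, 1, 3, 4, 1, 4, 3, 2, 1, 3, 4] [.sub [19, 31, 19, 25, 18, 27, 24, 30, 25] [.out 2800]],
  .sub [3, 2, 3, 4, 1, 4, 3, 2, 1, 3, 4] [.sub [30, 25, 20, 18, 29, 24, 30, 25, 20, 27, 30, 29, 29] [.out 1844]],
  .sub [1, 2, 3, 4, 1, 4, 3, 2, 1, 3, 4] [.sub [25, 20, 18, 29, 18, 20, 31, 20, 24, 25, 29, 29] [.out 1027]],
  .sub [1, 2, 1, 4, 1, 4, 3, 2, 1, 3, 4] [.out 3637],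
  .sub [4, 3, 2, 4, 1, 4, 3, 2, 1, 3, 4] [.sub [25, 20, 19, 20, 20, 24, 30, 25, 29] [.out 3964]],
  .sub [1, 3, 2, 4, 1, 4, 3, 2, 1, 3, 4] [.out 2983],
  .sub [2, 3, 2, 4, 1, 4, 3, 2, 1, 3, 4] [.out 3414],
  .sub [4, 1, 4, 3, 1, 4, 3, 2, 1, 3, 4] [.out 3858],
  .sub [2, 1, 4, 3, 1, 4, 3, 2, 1, 3, 4] [.sub [19, 19, 27, 18, 19, 24, 31, 25, 20, 30, 27, 29] [.out 4012]],
  .sub [3, 2, 4, 3, 1, 4, 3, 2, 1, 3, 4] [.out 3178],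
  .sub [1, 2, 4, 3, 1, 4, 3, 2, 1, 3, 4] [.sub [20, 30, 19, 20, 18, 20, 24, 31, 25, 20, 30, 29] [.sub [30, 19, 24, 29, 18, 18, 31, 27, 25, 31, 20, 30, 25, 29] [.out 696]]],
  .sub [3, 4, 1, 3, 1, 4, 3, 2, 1, 3, 4] [.out 3395],
  .sub [1, 4, 1, 3, 1, 4, 3, 2, 1, 3, 4] [.out 1061],
  .sub [2, 4, 1, 3, 1, 4, 3, 2, 1, 3, 4] [.sub [19, 29, 18, 27, 19, 29, 20, 20, 31, 27, 29, 29] [.out 216]],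
  .sub [3, 2, 1, 3, 1, 4, 3, 2, 1, 3, 4] [.sub [27, 18, 30, 31, 20, 18, 25, 24, 31, 24, 30] [.out 3469]],
  .sub [4, 3, 2, 3, 1, 4, 3, 2, 1, 3, 4] [.sub [30, 31, 24, 19, 24, 30, 31, 24, 20, 25, 29] [.out 3494]],
  .sub [1, 3, 2, 3, 1, 4, 3, 2, 1, 3, 4] [.out 3032],
  .sub [2, 3, 2, 3, 1, 4, 3, 2, 1, 3, 4] [.sub [24, 18, 31, 19, 18, 24, 20, 27, 24, 30, 27, 29] [.sub [20, 18, 27, 19, 29, 30, 24, 20, 30, 29, 29] [.out 2966]]],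
  .sub [4, 1, 2, 3, 1, 4, 3, 2, 1, 3, 4] [.sub [27, 19, 30, 20, 19, 18, 27, 29, 20, 20, 29, 25, 29, 29] [.out 3500]],
  .sub [3, 1, 2, 3, 1, 4, 3, 2, 1, 3, 4] [.out 2267],
  .sub [1, 4, 3, 2, 1, 4, 3, 2, 1, 3, 4] [.sub [30, 24, 20, 19, 25, 31, 24, 27] [.sub [24, 18, 19, 18, 18, 24, 31, 31, 20, 30, 27] [.out 1911]]],
  .sub [2, 4, 3, 2, 1, 4, 3, 2, 1, 3, 4] [.out 3392],
  .sub [4, 1, 3, 2, 1, 4, 3, 2, 1, 3, 4] [.out 3141],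
  .sub [3, 1, 3, 2, 1, 4, 3, 2, 1, 3, 4] [.out 3643],
  .sub [2, 1, 3, 2, 1, 4, 3, 2, 1, 3, 4] [.sub [19, 27, 20, 31, 18, 31, 29, 31, 24, 25] [.out 3718]],
  .sub [1, 2, 3, 2, 1, 4, 3, 2, 1, 3, 4] [.out 3351],
  .sub [4, 3, 1, 2, 1, 4, 3, 2, 1, 3, 4] [.sub [19, 18, 31, 20, 19, 31, 31, 30, 20, 30] [.out 3689]],
  .sub [1, 3, 1, 2, 1, 4, 3, 2, 1, 3, 4] [.out 3761],
  .sub [3, 4, 1, 3, 2, 4, 3, 2, 1, 3, 4] [.sub [27, 19, 27, 19, 30, 25, 24, 31, 20, 29, 25, 29] [.out 3933]],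
  .sub [1, 4, 1, 3, 2, 4, 3, 2, 1, 3, 4] [.sub [20, 19, 20, 19, 18, 24, 27, 31, 20, 20, 27] [.out 1856]],
  .sub [2, 4, 1, 3, 2, 4, 3, 2, 1, 3, 4] [.sub [31, 19, 24, 18, 24, 18, 24, 31, 31, 31, 24, 30, 27, 29, 29] [.sub [24, 24, 19, 31, 19, 30, 31, 30, 31, 27, 29, 29] [.out 639]]],
  .sub [4, 3, 1, 3, 2, 4, 3, 2, 1, 3, 4] [.sub [18, 27, 29, 20, 18, 31, 24, 27, 25, 20, 30, 27, 29, 29] [.out 1210]],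
  .sub [2, 3, 1, 3, 2, 4, 3, 2, 1, 3, 4] [.sub [31, 18, 27, 20, 18, 18, 24, 27, 31, 20, 25] [.out 3915]]]

/-- Branches. -/
def kidsXPart11 : List Branch := [
  .sub [3, 2, 1, 3, 2, 4, 3, 2, 1, 3, 4] [.out 3561],
  .sub [1, 2, 1, 3, 2, 4, 3, 2, 1, 3, 4] [.sub [30, 31, 20, 18, 29, 24, 29, 24, 29] [.out 3837]],
  .sub [4, 1, 2, 3, 2, 4, 3, 2, 1, 3, 4] [.sub [20, 24, 19, 18, 19, 24, 20, 25, 20, 20, 29, 25] [.out 1992]],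
  .sub [3, 1, 2, 3, 2, 4, 3, 2, 1, 3, 4] [.sub [18, 19, 25, 19, 18, 29, 25, 20, 31, 20, 30] [.sub [24, 25, 18, 18, 18, 18, 31, 29, 20, 20, 20, 30] [.out 1283]]],
  .sub [1, 4, 3, 1, 2, 4, 3, 2, 1, 3, 4] [.out 3320],
  .sub [3, 2, 4, 3, 4, 1, 3, 2, 1, 3, 4] [.out 1787],
  .sub [1, 2, 4, 3, 4, 1, 3, 2, 1, 3, 4] [.sub [29, 18, 18, 18, 30, 24, 30, 25] [.sub [20, 19, 30, 18, 18, 30, 31, 24, 20, 30, 27] [.out 739]]],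
  .sub [3, 4, 1, 3, 4, 1, 3, 2, 1, 3, 4] [.out 3957],
  .sub [2, 4, 1, 3, 4, 1, 3, 2, 1, 3, 4] [.out 3563],
  .sub [4, 3, 1, 3, 4, 1, 3, 2, 1, 3, 4] [.out 3538],
  .sub [1, 3, 1, 3, 4, 1, 3, 2, 1, 3, 4] [.sub [27, 27, 18, 25, 18, 18, 20, 30, 25, 31, 31, 29] [.out 151]],
  .sub [2, 3, 1, 3, 4, 1, 3, 2, 1, 3, 4] [.out 2369],
  .sub [3, 2, 1, 3, 4, 1, 3, 2, 1, 3, 4] [.out 3973],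
  .sub [1, 2, 1, 3, 4, 1, 3, 2, 1, 3, 4] [.out 3816],
  .sub [4, 3, 2, 3, 4, 1, 3, 2, 1, 3, 4] [.sub [29, 24, 27, 19, 18, 30, 27, 24, 20, 20, 30, 29] [.out 3260]],
  .sub [1, 3, 2, 3, 4, 1, 3, 2, 1, 3, 4] [.sub [20, 19, 19, 24, 18, 18, 25, 20, 24, 20, 25, 29] [.sub [19, 20, 20, 19, 20, 25, 20, 30, 20, 29, 25] [.out 635]]],
  .sub [2, 3, 2, 3, 4, 1, 3, 2, 1, 3, 4] [.out 2024],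
  .sub [4, 1, 2, 3, 4, 1, 3, 2, 1, 3, 4] [.sub [31, 18, 31, 24, 19, 31, 27, 20, 20, 30, 25, 29, 29] [.sub [24, 24, 18, 31, 24, 18, 24, 25, 27, 20, 20, 27, 30, 29] [.out 1996]]],
  .sub [3, 1, 2, 3, 4, 1, 3, 2, 1, 3, 4] [.sub [25, 24, 19, 18, 24, 29, 31] [.out 3155]],
  .sub [2, 1, 3, 1, 4, 1, 3, 2, 1, 3, 4] [.out 2425],
  .sub [1, 3, 2, 1, 4, 1, 3, 2, 1, 3, 4] [.out 1330],
  .sub [4, 1, 2, 1, 4, 1, 3, 2, 1, 3, 4] [.sub [31, 20, 19, 19, 24, 30, 29, 31, 30] [.out 3869]],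
  .sub [3, 1, 2, 1, 4, 1, 3, 2, 1, 3, 4] [.sub [19, 24, 20, 18, 27, 31, 30, 20, 29, 29] [.out 74]],
  .sub [1, 4, 3, 2, 4, 1, 3, 2, 1, 3, 4] [.out 2000],
  .sub [2, 4, 3, 2, 4, 1, 3, 2, 1, 3, 4] [.out 3463],
  .sub [4, 1, 3, 2, 4, 1, 3, 2, 1, 3, 4] [.sub [20, 19, 20, 19, 18, 24, 27, 31, 20, 20, 27] [.out 3064]],
  .sub [3, 1, 3, 2, 4, 1, 3, 2, 1, 3, 4] [.sub [24, 31, 27, 19, 29, 25, 20, 24, 30, 25] [.sub [27, 18, 19, 27, 18, 31, 25, 20, 20, 27, 29] [.out 753]]],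
  .sub [2, 1, 3, 2, 4, 1, 3, 2, 1, 3, 4] [.sub [25, 18, 31, 24, 19, 25, 20, 31, 31, 27, 29] [.sub [31, 29, 19, 18, 25, 24, 30, 24, 20, 25, 29] [.bad [18, 19, 25, 20, 30, 20, 30, 27, 29] 1]]],
  .sub [1, 2, 3, 2, 4, 1, 3, 2, 1, 3, 4] [.sub [27, 20, 18, 25, 18, 18, 31, 20, 20, 24, 27, 29, 29] [.out 2957]],
  .sub [3, 4, 1, 2, 4, 1, 3, 2, 1, 3, 4] [.sub [24, 18, 18, 24, 18, 24, 27, 30, 31, 30, 29, 29] [.out 1911]],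
  .sub [4, 3, 1, 2, 4, 1, 3, 2, 1, 3, 4] [.out 2149],
  .sub [4, 3, 2, 4, 3, 1, 3, 2, 1, 3, 4] [.out 3651],
  .sub [1, 3, 2, 4, 3, 1, 3, 2, 1, 3, 4] [.sub [31, 18, 31, 18, 27, 24, 31, 20, 30, 27] [.out 3412]],
  .sub [2, 3, 2, 4, 3, 1, 3, 2, 1, 3, 4] [.sub [19, 18, 24, 24, 18, 24, 30, 20, 31, 30, 27, 29] [.sub [27, 24, 25, 18, 31, 20, 24, 30, 25, 29] [.out 426]]],
  .sub [4, 1, 2, 4, 3, 1, 3, 2, 1, 3, 4] [.out 2756],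
  .sub [3, 1, 2, 4, 3, 1, 3, 2, 1, 3, 4] [.sub [20, 31, 31, 18, 19, 18, 30, 24, 20, 20, 25] [.sub [27, 29, 18, 18, 30, 24, 31, 31, 20, 27, 30, 29] [.out 2611]]],
  .sub [2, 3, 4, 1, 3, 1, 3, 2, 1, 3, 4] [.sub [25, 20, 19, 19, 20, 31, 29, 24, 30, 25, 29, 29] [.sub [20, 18, 31, 24, 18, 25, 31, 24, 30, 27, 29, 29] [.out 2656]]],
  .sub [3, 2, 4, 1, 3, 1, 3, 2, 1, 3, 4] [.sub [18, 24, 20, 24, 18, 30, 27, 27, 24, 29, 25] [.out 586]],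
  .sub [1, 2, 4, 1, 3, 1, 3, 2, 1, 3, 4] [.sub [18, 31, 18, 18, 18, 30, 24, 20, 20, 30, 25] [.out 856]],
  .sub [4, 3, 2, 1, 3, 1, 3, 2, 1, 3, 4] [.sub [31, 24, 18, 19, 19, 31, 30, 27, 31, 30, 27] [.out 3165]],
  .sub [1, 3, 2, 1, 3, 1, 3, 2, 1, 3, 4] [.out 4059],
  .sub [2, 3, 2, 1, 3, 1, 3, 2, 1, 3, 4] [.sub [20, 29, 19, 18, 24, 25, 31, 20, 20, 27, 29] [.out 1842]],
  .sub [4, 1, 2, 1, 3, 1, 3, 2, 1, 3, 4] [.sub [25, 18, 27, 19, 18, 31, 27, 29, 29] [.out 2041]],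
  .sub [3, 1, 2, 1, 3, 1, 3, 2, 1, 3, 4] [.sub [25, 31, 18, 19, 29, 25, 31, 27, 29] [.out 2874]],
  .sub [1, 4, 3, 2, 3, 1, 3, 2, 1, 3, 4] [.sub [20, 19, 24, 18, 25, 24, 29, 20, 24, 25, 29] [.sub [24, 20, 18, 19, 30, 20, 31, 29, 25, 29, 29] [.out 1960]]],
  .sub [2, 4, 3, 2, 3, 1, 3, 2, 1, 3, 4] [.sub [31, 19, 18, 19, 18, 31, 30, 29, 20, 20, 27, 29, 29] [.out 18]],
  .sub [1, 2, 3, 2, 3, 1, 3, 2, 1, 3, 4] [.sub [31, 19, 19, 19, 24, 20, 30, 29, 24, 30, 27, 29] [.out 1665]],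
  .sub [1, 4, 1, 2, 3, 1, 3, 2, 1, 3, 4] [.out 2715],
  .sub [4, 3, 1, 2, 3, 1, 3, 2, 1, 3, 4] [.out 2968],
  .sub [2, 3, 1, 2, 3, 1, 3, 2, 1, 3, 4] [.sub [20, 18, 20, 20, 18, 27, 31, 31, 20, 29, 25] [.out 3034]],
  .sub [4, 1, 4, 3, 2, 1, 3, 2, 1, 3, 4] [.sub [27, 18, 19, 18, 19, 24, 25, 31, 30, 25, 29] [.out 1685]],
  .sub [3, 1, 4, 3, 2, 1, 3, 2, 1, 3, 4] [.sub [27, 18, 20, 18, 18, 30, 20, 24, 20, 20, 29, 25, 29] [.out 3033]],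
  .sub [2, 1, 4, 3, 2, 1, 3, 2, 1, 3, 4] [.out 1940],
  .sub [3, 2, 4, 3, 2, 1, 3, 2, 1, 3, 4] [.sub [31, 29, 20, 19, 18, 24, 20, 30, 24, 30, 25, 29, 29] [.out 3886]],
  .sub [1, 2, 4, 3, 2, 1, 3, 2, 1, 3, 4] [.out 3073],
  .sub [3, 4, 1, 3, 2, 1, 3, 2, 1, 3, 4] [.out 3580],
  .sub [1, 4, 1, 3, 2, 1, 3, 2, 1, 3, 4] [.sub [31, 20, 19, 20, 20, 25, 20, 30, 27, 29] [.out 3697]],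
  .sub [2, 4, 1, 3, 2, 1, 3, 2, 1, 3, 4] [.out 2049],
  .sub [4, 3, 1, 3, 2, 1, 3, 2, 1, 3, 4] [.out 1333],
  .sub [1, 3, 1, 3, 2, 1, 3, 2, 1, 3, 4] [.out 3389],
  .sub [3, 2, 1, 3, 2, 1, 3, 2, 1, 3, 4] [.sub [20, 30, 19, 19, 18, 24, 31, 29] [.out 3399]],
  .sub [1, 2, 1, 3, 2, 1, 3, 2, 1, 3, 4] [.out 2936],
  .sub [4, 1, 2, 3, 2, 1, 3, 2, 1, 3, 4] [.out 2384],
  .sub [3, 1, 2, 3, 2, 1, 3, 2, 1, 3, 4] [.sub [24, 31, 27, 19, 29, 25, 20, 24, 30, 25] [.sub [25, 31, 30, 19, 19, 18, 24, 24, 27, 24] [.out 639]]]]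

/-- Branches. -/
def kidsXPart12 : List Branch := [
  .sub [4, 3, 4, 1, 2, 1, 3, 2, 1, 3, 4] [.out 3398],
  .sub [1, 3, 4, 1, 2, 1, 3, 2, 1, 3, 4] [.sub [31, 31, 31, 19, 18, 27, 24, 31, 31, 30] [.out 2164]],
  .sub [1, 4, 3, 1, 2, 1, 3, 2, 1, 3, 4] [.sub [24, 19, 18, 25, 18, 25, 27, 20, 24, 25] [.out 1138]],
  .sub [2, 4, 3, 1, 2, 1, 3, 2, 1, 3, 4] [.out 3840],
  .sub [4, 1, 3, 1, 2, 1, 3, 2, 1, 3, 4] [.sub [19, 24, 29, 18, 18, 25, 31, 20, 20, 27, 29] [.out 3278]],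
  .sub [2, 1, 3, 1, 2, 1, 3, 2, 1, 3, 4] [.out 3447],
  .sub [3, 2, 3, 1, 2, 1, 3, 2, 1, 3, 4] [.sub [24, 19, 18, 25, 31, 25, 20, 20] [.out 2097]],
  .sub [1, 2, 3, 1, 2, 1, 3, 2, 1, 3, 4] [.sub [25, 19, 29, 18, 18, 29, 30, 20, 30, 20, 30, 29, 29] [.out 2393]],
  .sub [1, 4, 3, 4, 1, 2, 3, 2, 1, 3, 4] [.sub [29, 25, 19, 29, 31, 31, 30, 29, 29] [.sub [25, 19, 24, 24, 19, 20, 25, 27, 20, 31, 25, 29] [.out 3404]]],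
  .sub [2, 4, 3, 4, 1, 2, 3, 2, 1, 3, 4] [.out 3039],
  .sub [4, 1, 3, 4, 1, 2, 3, 2, 1, 3, 4] [.out 3988],
  .sub [3, 1, 3, 4, 1, 2, 3, 2, 1, 3, 4] [.sub [24, 18, 18, 24, 18, 24, 27, 30, 31, 30, 29, 29] [.out 2097]],
  .sub [3, 2, 4, 3, 1, 2, 3, 2, 1, 3, 4] [.sub [19, 25, 20, 18, 18, 20, 31, 30, 29] [.out 2910]],
  .sub [1, 2, 4, 3, 1, 2, 3, 2, 1, 3, 4] [.out 2731],
  .sub [3, 4, 1, 3, 1, 2, 3, 2, 1, 3, 4] [.out 2538],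
  .sub [4, 3, 2, 3, 1, 2, 3, 2, 1, 3, 4] [.out 3520],
  .sub [1, 3, 2, 3, 1, 2, 3, 2, 1, 3, 4] [.sub [19, 24, 24, 31, 18, 31, 20, 27, 24, 30] [.sub [31, 27, 19, 18, 18, 18, 31, 31, 27, 20, 20, 30, 27, 29] [.out 256]]],
  .sub [4, 1, 2, 3, 1, 2, 3, 2, 1, 3, 4] [.out 1959],
  .sub [3, 1, 2, 3, 1, 2, 3, 2, 1, 3, 4] [.sub [30, 18, 24, 25, 18, 27, 25, 24, 31, 20, 27, 30, 29] [.out 3524]],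
  .sub [2, 1, 4, 1, 4, 3, 1, 2, 1, 3, 4] [.sub [19, 25, 20, 18, 18, 27, 24, 30, 31, 25, 29, 29] [.out 1163]],
  .sub [3, 2, 4, 1, 4, 3, 1, 2, 1, 3, 4] [.sub [19, 20, 19, 20, 18, 20, 25, 20, 29, 25, 29] [.out 1672]],
  .sub [1, 2, 4, 1, 4, 3, 1, 2, 1, 3, 4] [.out 3894],
  .sub [2, 1, 3, 1, 4, 3, 1, 2, 1, 3, 4] [.sub [30, 20, 24, 18, 29, 25, 20, 31, 20, 27] [.out 2379]],
  .sub [1, 2, 3, 1, 4, 3, 1, 2, 1, 3, 4] [.out 3700],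
  .sub [4, 3, 2, 1, 4, 3, 1, 2, 1, 3, 4] [.out 2878],
  .sub [1, 3, 2, 1, 4, 3, 1, 2, 1, 3, 4] [.sub [31, 19, 24, 27, 18, 25, 24, 20, 25] [.out 168]],
  .sub [2, 3, 2, 1, 4, 3, 1, 2, 1, 3, 4] [.sub [29, 31, 19, 19, 18, 31, 20, 20, 25, 20, 27, 30] [.sub [31, 25, 18, 24, 18, 24, 30, 20, 30, 20, 29, 25, 29, 29] [.out 1479]]],
  .sub [4, 1, 2, 1, 4, 3, 1, 2, 1, 3, 4] [.out 3016],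
  .sub [3, 1, 2, 1, 4, 3, 1, 2, 1, 3, 4] [.sub [20, 18, 18, 19, 19, 24, 20, 24, 27, 24, 27, 30] [.out 1182]],
  .sub [1, 4, 3, 2, 4, 3, 1, 2, 1, 3, 4] [.sub [24, 19, 25, 18, 18, 25, 31, 31, 24, 20, 30, 25, 29] [.sub [20, 18, 31, 24, 18, 30, 25, 24, 31, 20, 27] [.out 2207]]],
  .sub [4, 1, 3, 2, 4, 3, 1, 2, 1, 3, 4] [.out 1934],
  .sub [3, 1, 3, 2, 4, 3, 1, 2, 1, 3, 4] [.out 1759],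
  .sub [2, 1, 3, 2, 4, 3, 1, 2, 1, 3, 4] [.out 3431],
  .sub [1, 2, 3, 2, 4, 3, 1, 2, 1, 3, 4] [.sub [31, 19, 19, 20, 18, 27, 25, 31, 31, 27, 30, 29] [.out 3940]],
  .sub [1, 4, 1, 2, 4, 3, 1, 2, 1, 3, 4] [.out 3943],
  .sub [1, 3, 1, 2, 4, 3, 1, 2, 1, 3, 4] [.sub [20, 19, 18, 18, 24, 29, 25, 31, 29, 25] [.out 3074]],
  .sub [2, 3, 1, 2, 4, 3, 1, 2, 1, 3, 4] [.out 3007],
  .sub [3, 2, 3, 4, 1, 3, 1, 2, 1, 3, 4] [.out 3569],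
  .sub [1, 3, 1, 4, 1, 3, 1, 2, 1, 3, 4] [.out 3938],
  .sub [2, 3, 1, 4, 1, 3, 1, 2, 1, 3, 4] [.out 2225],
  .sub [3, 2, 1, 4, 1, 3, 1, 2, 1, 3, 4] [.out 3704],
  .sub [1, 2, 1, 4, 1, 3, 1, 2, 1, 3, 4] [.out 3303],
  .sub [4, 3, 2, 4, 1, 3, 1, 2, 1, 3, 4] [.sub [29, 19, 31, 27, 18, 24, 31, 30] [.out 1127]],
  .sub [1, 3, 2, 4, 1, 3, 1, 2, 1, 3, 4] [.sub [29, 18, 19, 18, 18, 24, 24, 31, 24, 30, 27] [.out 3132]],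
  .sub [2, 3, 2, 4, 1, 3, 1, 2, 1, 3, 4] [.sub [31, 27, 19, 18, 25, 20, 24, 20, 30, 27, 29, 29] [.out 3886]],
  .sub [4, 1, 2, 4, 1, 3, 1, 2, 1, 3, 4] [.out 4058],
  .sub [3, 1, 2, 4, 1, 3, 1, 2, 1, 3, 4] [.sub [19, 27, 18, 19, 18, 18, 31, 31, 20, 20, 30, 27, 29, 29] [.out 1322]],
  .sub [1, 4, 3, 2, 1, 3, 1, 2, 1, 3, 4] [.sub [19, 18, 25, 20, 19, 30, 24, 27, 20, 24, 30, 27] [.sub [27, 31, 19, 24, 18, 24, 30, 25, 20, 25, 29, 29] [.out 2164]]],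
  .sub [2, 4, 3, 2, 1, 3, 1, 2, 1, 3, 4] [.out 1910],
  .sub [4, 1, 3, 2, 1, 3, 1, 2, 1, 3, 4] [.out 2430],
  .sub [3, 1, 3, 2, 1, 3, 1, 2, 1, 3, 4] [.out 3815],
  .sub [2, 1, 3, 2, 1, 3, 1, 2, 1, 3, 4] [.sub [24, 18, 18, 18, 25, 31, 29, 30, 24, 30, 27, 29] [.out 2489]],
  .sub [1, 2, 3, 2, 1, 3, 1, 2, 1, 3, 4] [.out 3652],
  .sub [3, 4, 1, 2, 1, 3, 1, 2, 1, 3, 4] [.out 3317],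
  .sub [1, 4, 1, 2, 1, 3, 1, 2, 1, 3, 4] [.sub [31, 31, 31, 19, 18, 31, 20, 24, 31, 30, 25, 29] [.sub [19, 19, 27, 19, 31, 20, 30, 20, 27, 29] [.out 532]]],
  .sub [4, 3, 1, 2, 1, 3, 1, 2, 1, 3, 4] [.sub [19, 24, 25, 20, 18, 20, 20, 24, 20, 20] [.out 4055]],
  .sub [1, 3, 1, 2, 1, 3, 1, 2, 1, 3, 4] [.out 3195],
  .sub [2, 3, 1, 2, 1, 3, 1, 2, 1, 3, 4] [.sub [19, 18, 27, 20, 18, 18, 20, 25, 29] [.out 2947]],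
  .sub [4, 1, 4, 3, 2, 3, 1, 2, 1, 3, 4] [.sub [29, 25, 19, 18, 18, 18, 24, 20, 25, 20, 20, 30, 27] [.out 1949]],
  .sub [3, 1, 4, 3, 2, 3, 1, 2, 1, 3, 4] [.sub [18, 18, 19, 24, 31, 20, 20, 27, 30] [.out 1613]],
  .sub [2, 1, 4, 3, 2, 3, 1, 2, 1, 3, 4] [.out 400],
  .sub [3, 4, 1, 3, 2, 3, 1, 2, 1, 3, 4] [.out 2029],
  .sub [1, 4, 1, 3, 2, 3, 1, 2, 1, 3, 4] [.out 1940],
  .sub [2, 4, 1, 3, 2, 3, 1, 2, 1, 3, 4] [.sub [27, 19, 30, 18, 18, 31, 29, 25, 20, 20] [.out 2611]]]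

/-- Branches. -/
def kidsXPart13 : List Branch := [
  .sub [4, 3, 1, 3, 2, 3, 1, 2, 1, 3, 4] [.sub [30, 31, 18, 18, 19, 31, 27, 24, 30] [.sub [31, 29, 19, 18, 19, 27, 24, 20, 24, 20, 30, 25] [.out 639]]],
  .sub [1, 3, 1, 3, 2, 3, 1, 2, 1, 3, 4] [.out 3438],
  .sub [2, 3, 1, 3, 2, 3, 1, 2, 1, 3, 4] [.sub [25, 18, 31, 20, 18, 18, 31, 20, 25, 24, 20, 27, 30] [.out 2733]],
  .sub [4, 3, 4, 1, 2, 3, 1, 2, 1, 3, 4] [.out 2378],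
  .sub [1, 3, 4, 1, 2, 3, 1, 2, 1, 3, 4] [.out 3257],
  .sub [2, 3, 4, 1, 2, 3, 1, 2, 1, 3, 4] [.sub [30, 24, 27, 18, 30, 31, 31, 20, 24, 27, 30, 29, 29] [.out 44]],
  .sub [3, 1, 4, 1, 2, 3, 1, 2, 1, 3, 4] [.out 995],
  .sub [2, 1, 4, 1, 2, 3, 1, 2, 1, 3, 4] [.out 3716],
  .sub [1, 4, 3, 1, 2, 3, 1, 2, 1, 3, 4] [.sub [29, 25, 19, 29, 31, 31, 30, 29, 29] [.out 3853]],
  .sub [2, 4, 3, 1, 2, 3, 1, 2, 1, 3, 4] [.sub [20, 19, 20, 18, 29, 31, 20, 20, 24, 30, 25, 29, 29] [.out 1152]],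
  .sub [4, 1, 3, 1, 2, 3, 1, 2, 1, 3, 4] [.out 2927],
  .sub [2, 1, 3, 1, 2, 3, 1, 2, 1, 3, 4] [.out 3538],
  .sub [3, 2, 3, 1, 2, 3, 1, 2, 1, 3, 4] [.out 2456],
  .sub [1, 2, 3, 1, 2, 3, 1, 2, 1, 3, 4] [.sub [24, 18, 24, 25, 18, 27, 30, 20, 24, 30, 27, 29] [.out 3328]],
  .sub [3, 2, 1, 3, 4, 1, 4, 3, 2, 3, 4] [.out 1628],
  .sub [1, 3, 2, 4, 3, 1, 4, 3, 2, 3, 4] [.out 3089],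
  .sub [4, 1, 2, 4, 3, 1, 4, 3, 2, 3, 4] [.sub [24, 25, 27, 18, 20, 29, 24, 31, 20, 30, 25, 29] [.out 3182]],
  .sub [3, 1, 2, 4, 3, 1, 4, 3, 2, 3, 4] [.sub [29, 19, 20, 19, 29, 24, 30, 31, 20, 30, 29, 29] [.out 3145]],
  .sub [2, 3, 4, 1, 3, 1, 4, 3, 2, 3, 4] [.out 3771],
  .sub [3, 2, 4, 1, 3, 1, 4, 3, 2, 3, 4] [.sub [19, 19, 20, 31, 18, 29, 31, 25, 31, 27, 30, 29, 29] [.out 2292]],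
  .sub [1, 2, 4, 1, 3, 1, 4, 3, 2, 3, 4] [.sub [27, 31, 19, 19, 19, 29, 31, 25, 31, 20, 27, 30, 29, 29] [.out 3791]],
  .sub [4, 3, 2, 1, 3, 1, 4, 3, 2, 3, 4] [.out 3280],
  .sub [1, 3, 2, 1, 3, 1, 4, 3, 2, 3, 4] [.out 2013],
  .sub [2, 3, 2, 1, 3, 1, 4, 3, 2, 3, 4] [.sub [30, 18, 19, 20, 18, 31, 30, 27, 24, 27, 29, 29] [.sub [19, 20, 24, 20, 19, 30, 31, 24, 31, 29, 25, 29, 29] [.out 906]]],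
  .sub [4, 1, 2, 1, 3, 1, 4, 3, 2, 3, 4] [.sub [19, 25, 19, 19, 18, 20, 25, 27, 20, 31, 30, 27] [.out 4045]],
  .sub [3, 1, 2, 1, 3, 1, 4, 3, 2, 3, 4] [.out 3860],
  .sub [4, 1, 3, 2, 3, 1, 4, 3, 2, 3, 4] [.sub [18, 19, 31, 20, 19, 20, 24, 31, 30, 27, 29] [.out 940]],
  .sub [3, 1, 3, 2, 3, 1, 4, 3, 2, 3, 4] [.sub [29, 19, 24, 31, 18, 20, 31, 24, 20, 20, 30, 27, 29] [.sub [19, 31, 31, 27, 18, 20, 27, 24, 20, 27, 30, 29, 29] [.out 2858]]],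
  .sub [2, 1, 3, 2, 3, 1, 4, 3, 2, 3, 4] [.sub [31, 30, 18, 19, 18, 31, 27, 20, 20, 20, 25] [.out 3730]],
  .sub [1, 2, 3, 2, 3, 1, 4, 3, 2, 3, 4] [.out 4022],
  .sub [3, 4, 1, 2, 3, 1, 4, 3, 2, 3, 4] [.sub [20, 27, 18, 24, 18, 29, 24, 29, 24, 20, 29, 29] [.sub [24, 19, 19, 24, 18, 31, 27, 30, 20, 20, 25] [.out 582]]],
  .sub [1, 4, 1, 2, 3, 1, 4, 3, 2, 3, 4] [.out 1332],
  .sub [4, 3, 1, 2, 3, 1, 4, 3, 2, 3, 4] [.sub [20, 27, 19, 20, 18, 18, 24, 29, 20, 24, 20, 30, 27, 29] [.out 1483]],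
  .sub [1, 3, 1, 2, 3, 1, 4, 3, 2, 3, 4] [.sub [30, 24, 31, 24, 18, 27, 29, 30, 31] [.sub [20, 24, 18, 24, 29, 24, 31, 25, 29] [.out 2731]]],
  .sub [2, 3, 1, 2, 3, 1, 4, 3, 2, 3, 4] [.out 2391],
  .sub [4, 1, 4, 3, 2, 1, 4, 3, 2, 3, 4] [.sub [18, 19, 18, 20, 18, 18, 31, 27, 25, 20, 20, 29, 29] [.out 3412]],
  .sub [3, 1, 4, 3, 2, 1, 4, 3, 2, 3, 4] [.out 1844],
  .sub [2, 1, 4, 3, 2, 1, 4, 3, 2, 3, 4] [.sub [31, 30, 19, 19, 18, 20, 27, 24, 20, 30, 29] [.out 1048]],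
  .sub [3, 2, 4, 3, 2, 1, 4, 3, 2, 3, 4] [.sub [20, 20, 20, 20, 18, 27, 30, 27, 31, 20, 29, 25, 29] [.out 3145]],
  .sub [1, 2, 4, 3, 2, 1, 4, 3, 2, 3, 4] [.out 2304],
  .sub [4, 1, 2, 3, 2, 1, 4, 3, 2, 3, 4] [.sub [20, 24, 18, 31, 19, 30, 25, 24, 31, 30, 25, 29, 29] [.out 797]],
  .sub [3, 1, 2, 3, 2, 1, 4, 3, 2, 3, 4] [.out 3036],
  .sub [4, 3, 2, 4, 3, 4, 1, 3, 2, 3, 4] [.sub [24, 31, 18, 18, 25, 31, 25, 24, 29, 25, 29] [.sub [29, 19, 20, 19, 29, 20, 31, 20, 24, 25, 29, 29] [.out 1033]]],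
  .sub [2, 3, 2, 4, 3, 4, 1, 3, 2, 3, 4] [.out 2320],
  .sub [4, 1, 2, 4, 3, 4, 1, 3, 2, 3, 4] [.sub [18, 18, 29, 18, 30, 31, 27, 20, 20, 30, 27, 29] [.out 2148]],
  .sub [2, 3, 4, 1, 3, 4, 1, 3, 2, 3, 4] [.out 942],
  .sub [3, 2, 4, 1, 3, 4, 1, 3, 2, 3, 4] [.out 3190],
  .sub [1, 2, 4, 1, 3, 4, 1, 3, 2, 3, 4] [.out 3142],
  .sub [4, 3, 2, 1, 3, 4, 1, 3, 2, 3, 4] [.sub [18, 20, 20, 18, 18, 29, 20, 20, 20, 27] [.out 210]],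
  .sub [2, 3, 2, 1, 3, 4, 1, 3, 2, 3, 4] [.out 1113],
  .sub [4, 1, 2, 1, 3, 4, 1, 3, 2, 3, 4] [.out 3638],
  .sub [3, 1, 2, 1, 3, 4, 1, 3, 2, 3, 4] [.sub [25, 19, 31, 24, 18, 27, 30, 20, 25] [.out 3770]],
  .sub [1, 4, 3, 2, 3, 4, 1, 3, 2, 3, 4] [.sub [24, 20, 18, 27, 19, 18, 30, 25, 27, 24, 27, 29] [.out 3935]],
  .sub [2, 4, 3, 2, 3, 4, 1, 3, 2, 3, 4] [.out 2679],
  .sub [4, 1, 3, 2, 3, 4, 1, 3, 2, 3, 4] [.sub [30, 24, 31, 18, 18, 24, 24, 24, 20, 20, 30, 27] [.out 3630]],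
  .sub [3, 1, 3, 2, 3, 4, 1, 3, 2, 3, 4] [.out 2149],
  .sub [2, 1, 3, 2, 3, 4, 1, 3, 2, 3, 4] [.out 3845],
  .sub [1, 2, 3, 2, 3, 4, 1, 3, 2, 3, 4] [.sub [31, 29, 31, 25, 18, 31, 20, 20, 20, 27, 30, 29, 29] [.out 2632]],
  .sub [3, 4, 1, 2, 3, 4, 1, 3, 2, 3, 4] [.out 3924],
  .sub [1, 4, 1, 2, 3, 4, 1, 3, 2, 3, 4] [.out 2942],
  .sub [4, 3, 1, 2, 3, 4, 1, 3, 2, 3, 4] [.out 2854],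
  .sub [1, 3, 1, 2, 3, 4, 1, 3, 2, 3, 4] [.sub [27, 18, 19, 18, 18, 18, 31, 24, 29] [.out 474]],
  .sub [2, 3, 1, 2, 3, 4, 1, 3, 2, 3, 4] [.sub [31, 19, 18, 19, 18, 31, 30, 29, 20, 20, 27, 29, 29] [.out 3926]],
  .sub [3, 1, 4, 3, 2, 4, 1, 3, 2, 3, 4] [.out 2364]]

/-- Branches. -/
def kidsXPart14 : List Branch := [
  .sub [3, 2, 4, 3, 2, 4, 1, 3, 2, 3, 4] [.sub [18, 19, 18, 20, 18, 18, 31, 27, 25, 20, 20, 29, 29] [.out 2748]],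
  .sub [1, 2, 4, 3, 2, 4, 1, 3, 2, 3, 4] [.sub [20, 29, 18, 29, 18, 29, 25, 24, 30, 20, 25] [.out 88]],
  .sub [1, 4, 1, 3, 2, 4, 1, 3, 2, 3, 4] [.out 3146],
  .sub [2, 4, 1, 3, 2, 4, 1, 3, 2, 3, 4] [.sub [24, 29, 19, 18, 20, 31, 29, 31, 30, 25, 29] [.sub [18, 27, 25, 20, 18, 31, 25, 20, 24, 20, 29, 25, 29] [.done 14]]],
  .sub [2, 3, 1, 3, 2, 4, 1, 3, 2, 3, 4] [.out 3863],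
  .sub [3, 2, 1, 3, 2, 4, 1, 3, 2, 3, 4] [.sub [18, 24, 30, 18, 19, 20, 20, 20, 20] [.out 1908]],
  .sub [1, 2, 1, 3, 2, 4, 1, 3, 2, 3, 4] [.out 3930],
  .sub [4, 1, 2, 3, 2, 4, 1, 3, 2, 3, 4] [.sub [31, 25, 20, 19, 27, 31, 30, 31, 30, 25, 29] [.sub [29, 31, 27, 25, 18, 20, 30, 20, 20, 24, 29] [.out 3001]]],
  .sub [3, 1, 2, 3, 2, 4, 1, 3, 2, 3, 4] [.out 3412],
  .sub [1, 4, 3, 2, 4, 3, 1, 3, 2, 3, 4] [.out 2086],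
  .sub [2, 4, 3, 2, 4, 3, 1, 3, 2, 3, 4] [.sub [19, 20, 27, 19, 18, 30, 25, 24, 31, 20, 27, 30, 29] [.sub [18, 18, 19, 20, 18, 24, 27, 20, 20, 20, 29] [.out 1874]]],
  .sub [4, 1, 3, 2, 4, 3, 1, 3, 2, 3, 4] [.sub [30, 18, 27, 20, 18, 24, 29, 31, 20, 29, 25] [.out 2295]],
  .sub [3, 1, 3, 2, 4, 3, 1, 3, 2, 3, 4] [.sub [31, 29, 19, 18, 29, 24, 20, 31, 27] [.out 1209]],
  .sub [2, 1, 3, 2, 4, 3, 1, 3, 2, 3, 4] [.sub [31, 24, 24, 18, 19, 30, 24, 24, 20, 20, 30, 29] [.out 3660]],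
  .sub [1, 2, 3, 2, 4, 3, 1, 3, 2, 3, 4] [.sub [29, 20, 19, 25, 18, 18, 24, 24, 31, 24, 30] [.sub [18, 19, 20, 18, 18, 20, 24, 27, 24, 20, 27, 30, 29] [.out 3001]]],
  .sub [3, 4, 1, 2, 4, 3, 1, 3, 2, 3, 4] [.out 2271],
  .sub [4, 3, 1, 2, 4, 3, 1, 3, 2, 3, 4] [.sub [30, 19, 29, 25, 18, 27, 29, 20, 20, 30, 27, 29, 29] [.out 3816]],
  .sub [1, 3, 1, 2, 4, 3, 1, 3, 2, 3, 4] [.sub [27, 25, 18, 18, 31, 25, 27, 31, 27, 30, 29, 29] [.sub [25, 24, 29, 18, 18, 30, 24, 31, 31, 20, 30, 25, 29] [.out 1918]]],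
  .sub [2, 3, 1, 2, 4, 3, 1, 3, 2, 3, 4] [.sub [20, 19, 27, 19, 18, 25, 31, 27, 20, 20, 27] [.out 3829]],
  .sub [3, 2, 3, 4, 1, 3, 1, 3, 2, 3, 4] [.out 2430],
  .sub [1, 2, 3, 4, 1, 3, 1, 3, 2, 3, 4] [.out 3625],
  .sub [4, 3, 2, 4, 1, 3, 1, 3, 2, 3, 4] [.out 2800],
  .sub [1, 3, 2, 4, 1, 3, 1, 3, 2, 3, 4] [.sub [24, 18, 19, 20, 24, 31, 29, 25] [.out 1627]],
  .sub [2, 3, 2, 4, 1, 3, 1, 3, 2, 3, 4] [.out 3723],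
  .sub [4, 1, 2, 4, 1, 3, 1, 3, 2, 3, 4] [.out 3621],
  .sub [3, 1, 2, 4, 1, 3, 1, 3, 2, 3, 4] [.sub [24, 19, 18, 20, 18, 30, 24, 25, 20, 30, 27] [.out 3855]],
  .sub [1, 4, 3, 2, 1, 3, 1, 3, 2, 3, 4] [.sub [19, 20, 18, 18, 24, 24, 20, 24, 20, 25, 29] [.out 3668]],
  .sub [2, 4, 3, 2, 1, 3, 1, 3, 2, 3, 4] [.sub [20, 24, 19, 29, 18, 25, 31, 20, 24, 20, 27, 30] [.out 2726]],
  .sub [4, 1, 3, 2, 1, 3, 1, 3, 2, 3, 4] [.sub [18, 20, 18, 20, 20, 20, 24, 29, 25, 29, 29] [.out 2754]],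
  .sub [3, 1, 3, 2, 1, 3, 1, 3, 2, 3, 4] [.out 3832],
  .sub [2, 1, 3, 2, 1, 3, 1, 3, 2, 3, 4] [.sub [29, 19, 18, 25, 18, 18, 30, 24, 25, 20, 27, 30, 29] [.out 3260]],
  .sub [1, 2, 3, 2, 1, 3, 1, 3, 2, 3, 4] [.sub [30, 27, 20, 19, 19, 18, 20, 27, 20, 31, 27, 29] [.out 409]],
  .sub [1, 3, 1, 2, 1, 3, 1, 3, 2, 3, 4] [.sub [25, 31, 19, 31, 18, 31, 20, 30, 20, 29, 25, 29, 29] [.sub [25, 18, 25, 18, 18, 24, 30, 20, 25, 29] [.out 3316]]],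
  .sub [4, 1, 4, 3, 2, 3, 1, 3, 2, 3, 4] [.sub [20, 18, 31, 24, 18, 30, 29, 20, 20, 30, 27, 29] [.out 3034]],
  .sub [3, 1, 4, 3, 2, 3, 1, 3, 2, 3, 4] [.sub [18, 19, 20, 18, 18, 24, 27, 24, 30, 25, 29] [.sub [30, 18, 19, 29, 18, 20, 20, 30, 24, 20, 27, 30, 29] [.out 2239]]],
  .sub [2, 1, 4, 3, 2, 3, 1, 3, 2, 3, 4] [.sub [18, 29, 31, 25, 19, 31, 30, 29, 20, 20, 30, 27, 29, 29] [.out 2380]],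
  .sub [3, 2, 4, 3, 2, 3, 1, 3, 2, 3, 4] [.sub [27, 19, 19, 20, 18, 25, 24, 30, 25, 29] [.out 2753]],
  .sub [1, 2, 4, 3, 2, 3, 1, 3, 2, 3, 4] [.sub [30, 19, 18, 31, 29, 30, 24, 29, 25, 29] [.out 3000]],
  .sub [3, 4, 1, 3, 2, 3, 1, 3, 2, 3, 4] [.out 3569],
  .sub [1, 4, 1, 3, 2, 3, 1, 3, 2, 3, 4] [.sub [19, 24, 27, 19, 18, 31, 24, 27, 25, 20, 30, 29] [.out 3727]],
  .sub [2, 4, 1, 3, 2, 3, 1, 3, 2, 3, 4] [.out 3513],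
  .sub [4, 3, 1, 3, 2, 3, 1, 3, 2, 3, 4] [.out 3703],
  .sub [1, 3, 1, 3, 2, 3, 1, 3, 2, 3, 4] [.out 2625],
  .sub [2, 3, 1, 3, 2, 3, 1, 3, 2, 3, 4] [.out 3425],
  .sub [3, 2, 1, 3, 2, 3, 1, 3, 2, 3, 4] [.out 3989],
  .sub [1, 2, 1, 3, 2, 3, 1, 3, 2, 3, 4] [.out 1876],
  .sub [4, 1, 2, 3, 2, 3, 1, 3, 2, 3, 4] [.out 3355],
  .sub [3, 1, 2, 3, 2, 3, 1, 3, 2, 3, 4] [.sub [24, 31, 19, 29, 18, 31, 27, 25, 24, 27] [.out 3342]],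
  .sub [4, 1, 3, 1, 2, 3, 1, 3, 2, 3, 4] [.sub [24, 31, 31, 18, 18, 25, 24, 31, 31, 27, 29] [.out 3500]],
  .sub [2, 1, 3, 1, 2, 3, 1, 3, 2, 3, 4] [.sub [25, 27, 18, 20, 19, 18, 29, 20, 20, 31, 27, 29] [.out 2729]],
  .sub [1, 4, 1, 4, 3, 2, 1, 3, 2, 3, 4] [.sub [19, 25, 18, 19, 18, 29, 25, 20, 20, 30, 29, 29] [.sub [29, 20, 19, 20, 18, 30, 20, 24, 29, 29] [.out 637]]],
  .sub [2, 4, 1, 4, 3, 2, 1, 3, 2, 3, 4] [.sub [25, 19, 29, 25, 18, 25, 31, 31, 24, 20, 30, 27] [.out 1543]],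
  .sub [1, 3, 1, 4, 3, 2, 1, 3, 2, 3, 4] [.sub [29, 24, 25, 20, 18, 20, 29, 31, 30, 27, 29, 29] [.out 3625]],
  .sub [3, 2, 1, 4, 3, 2, 1, 3, 2, 3, 4] [.out 3270],
  .sub [1, 2, 1, 4, 3, 2, 1, 3, 2, 3, 4] [.out 3120],
  .sub [1, 3, 2, 4, 3, 2, 1, 3, 2, 3, 4] [.out 3174],
  .sub [2, 3, 2, 4, 3, 2, 1, 3, 2, 3, 4] [.sub [19, 19, 25, 18, 19, 29, 31, 20, 24, 20, 30, 27, 29, 29] [.out 1531]],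
  .sub [4, 1, 2, 4, 3, 2, 1, 3, 2, 3, 4] [.sub [27, 20, 18, 18, 19, 31, 31, 31, 24, 29, 25] [.out 2472]],
  .sub [3, 1, 2, 4, 3, 2, 1, 3, 2, 3, 4] [.out 2902],
  .sub [3, 1, 4, 1, 3, 2, 1, 3, 2, 3, 4] [.sub [18, 25, 31, 18, 18, 25, 24, 20, 24, 27, 29] [.out 1543]],
  .sub [2, 1, 4, 1, 3, 2, 1, 3, 2, 3, 4] [.out 2820],
  .sub [3, 2, 4, 1, 3, 2, 1, 3, 2, 3, 4] [.sub [24, 24, 18, 18, 18, 20, 20, 29, 31, 30] [.out 2700]],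
  .sub [1, 2, 4, 1, 3, 2, 1, 3, 2, 3, 4] [.sub [19, 31, 27, 18, 18, 24, 29, 31, 20, 30, 29] [.out 2217]],
  .sub [4, 3, 2, 1, 3, 2, 1, 3, 2, 3, 4] [.out 2013]]

/-- Branches. -/
def kidsXPart15 : List Branch := [
  .sub [1, 3, 2, 1, 3, 2, 1, 3, 2, 3, 4] [.out 3560],
  .sub [2, 3, 2, 1, 3, 2, 1, 3, 2, 3, 4] [.sub [20, 18, 30, 18, 19, 18, 27, 30, 31, 20, 25, 29, 29] [.sub [24, 18, 19, 18, 18, 24, 31, 31, 20, 30, 27] [.out 1456]]],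
  .sub [4, 1, 2, 1, 3, 2, 1, 3, 2, 3, 4] [.out 3845],
  .sub [3, 1, 2, 1, 3, 2, 1, 3, 2, 3, 4] [.out 1330],
  .sub [3, 4, 1, 2, 3, 2, 1, 3, 2, 3, 4] [.out 3525],
  .sub [1, 4, 1, 2, 3, 2, 1, 3, 2, 3, 4] [.out 3636],
  .sub [4, 3, 1, 2, 3, 2, 1, 3, 2, 3, 4] [.sub [24, 20, 18, 18, 20, 29, 31, 27, 30] [.out 2814]],
  .sub [1, 3, 1, 2, 3, 2, 1, 3, 2, 3, 4] [.out 2133],
  .sub [2, 3, 1, 2, 3, 2, 1, 3, 2, 3, 4] [.sub [31, 19, 19, 31, 18, 24, 20, 20, 31, 25, 29] [.out 942]],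
  .sub [4, 1, 4, 3, 2, 4, 3, 1, 2, 3, 4] [.out 3860],
  .sub [3, 1, 4, 3, 2, 4, 3, 1, 2, 3, 4] [.sub [27, 29, 19, 18, 18, 25, 24, 31, 24, 27, 29, 29] [.out 3953]],
  .sub [3, 2, 4, 3, 2, 4, 3, 1, 2, 3, 4] [.sub [24, 25, 19, 18, 24, 29, 25, 29, 29] [.out 3836]],
  .sub [4, 1, 2, 3, 2, 4, 3, 1, 2, 3, 4] [.sub [18, 18, 20, 25, 19, 29, 20, 24, 20, 30, 25] [.out 1700]],
  .sub [3, 1, 2, 3, 2, 4, 3, 1, 2, 3, 4] [.sub [25, 31, 29, 18, 19, 18, 27, 31, 30, 20, 20, 25, 29] [.out 2357]],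
  .sub [3, 2, 1, 3, 4, 1, 3, 1, 2, 3, 4] [.out 1950],
  .sub [1, 2, 1, 3, 4, 1, 3, 1, 2, 3, 4] [.out 1063],
  .sub [4, 3, 2, 3, 4, 1, 3, 1, 2, 3, 4] [.sub [18, 19, 29, 18, 24, 29, 20, 31, 30, 27, 29, 29] [.out 2129]],
  .sub [1, 3, 2, 3, 4, 1, 3, 1, 2, 3, 4] [.sub [25, 20, 18, 24, 18, 24, 30, 27, 27, 24, 29, 29] [.out 4003]],
  .sub [2, 3, 2, 3, 4, 1, 3, 1, 2, 3, 4] [.sub [29, 19, 18, 20, 30, 31, 24, 20, 30, 27, 29] [.out 199]],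
  .sub [3, 1, 2, 3, 4, 1, 3, 1, 2, 3, 4] [.out 3316],
  .sub [3, 2, 3, 1, 4, 1, 3, 1, 2, 3, 4] [.out 2384],
  .sub [1, 2, 3, 1, 4, 1, 3, 1, 2, 3, 4] [.sub [29, 18, 19, 18, 19, 31, 20, 29, 24, 27, 30, 29] [.out 1742]],
  .sub [4, 3, 2, 1, 4, 1, 3, 1, 2, 3, 4] [.sub [25, 31, 19, 30, 24, 24, 31, 27, 30, 29] [.out 3990]],
  .sub [1, 3, 2, 1, 4, 1, 3, 1, 2, 3, 4] [.sub [18, 29, 18, 31, 18, 18, 30, 24, 31, 24, 27, 30] [.out 3670]],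
  .sub [2, 3, 2, 1, 4, 1, 3, 1, 2, 3, 4] [.sub [18, 18, 31, 25, 18, 24, 27, 31, 25, 20, 30, 25, 29] [.sub [29, 24, 25, 20, 18, 29, 31, 30, 20, 20, 25, 29] [.out 2510]]],
  .sub [4, 1, 2, 1, 4, 1, 3, 1, 2, 3, 4] [.sub [30, 31, 18, 19, 30, 27, 20, 20, 27, 29] [.out 3025]],
  .sub [3, 1, 2, 1, 4, 1, 3, 1, 2, 3, 4] [.sub [29, 20, 20, 18, 24, 29, 25, 31, 24, 30, 25] [.out 51]],
  .sub [1, 4, 3, 2, 4, 1, 3, 1, 2, 3, 4] [.out 3920],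
  .sub [2, 4, 3, 2, 4, 1, 3, 1, 2, 3, 4] [.sub [24, 29, 18, 18, 19, 31, 25, 20, 24, 20, 30, 29] [.out 2007]],
  .sub [4, 1, 3, 2, 4, 1, 3, 1, 2, 3, 4] [.sub [19, 18, 27, 27, 18, 24, 27, 30, 31, 27, 29, 29] [.out 400]],
  .sub [3, 1, 3, 2, 4, 1, 3, 1, 2, 3, 4] [.out 2056],
  .sub [1, 2, 3, 2, 4, 1, 3, 1, 2, 3, 4] [.sub [29, 31, 20, 18, 18, 30, 27, 31, 24, 27, 30, 29] [.out 4001]],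
  .sub [3, 4, 1, 2, 4, 1, 3, 1, 2, 3, 4] [.sub [24, 29, 19, 18, 24, 29, 31, 29, 25, 29, 29] [.sub [20, 24, 24, 19, 31, 31, 20, 29, 29] [.out 696]]],
  .sub [1, 4, 1, 2, 4, 1, 3, 1, 2, 3, 4] [.sub [18, 19, 20, 18, 18, 24, 27, 24, 30, 25, 29] [.out 1908]],
  .sub [4, 3, 1, 2, 4, 1, 3, 1, 2, 3, 4] [.sub [19, 31, 29, 18, 19, 31, 27, 20, 31, 20, 30, 27, 29, 29] [.sub [24, 24, 19, 31, 19, 31, 31, 20, 20, 29] [.out 1236]]],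
  .sub [1, 3, 1, 2, 4, 1, 3, 1, 2, 3, 4] [.out 1030],
  .sub [2, 3, 1, 2, 4, 1, 3, 1, 2, 3, 4] [.sub [27, 20, 18, 24, 31, 20, 31, 20, 30, 27] [.out 1951]],
  .sub [4, 1, 4, 3, 2, 1, 3, 1, 2, 3, 4] [.out 2650],
  .sub [2, 1, 4, 3, 2, 1, 3, 1, 2, 3, 4] [.sub [19, 19, 18, 19, 27, 25, 20, 27, 29, 29] [.out 3130]],
  .sub [1, 2, 4, 3, 2, 1, 3, 1, 2, 3, 4] [.sub [19, 18, 20, 18, 18, 24, 27, 20, 20, 20, 30, 27] [.out 4059]],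
  .sub [3, 4, 1, 3, 2, 1, 3, 1, 2, 3, 4] [.out 2013],
  .sub [1, 4, 1, 3, 2, 1, 3, 1, 2, 3, 4] [.out 1776],
  .sub [2, 4, 1, 3, 2, 1, 3, 1, 2, 3, 4] [.out 2011],
  .sub [4, 3, 1, 3, 2, 1, 3, 1, 2, 3, 4] [.out 3647],
  .sub [1, 3, 1, 3, 2, 1, 3, 1, 2, 3, 4] [.sub [24, 30, 18, 18, 19, 18, 25, 31, 29, 25, 29] [.out 3015]],
  .sub [2, 3, 1, 3, 2, 1, 3, 1, 2, 3, 4] [.out 2359],
  .sub [1, 2, 1, 3, 2, 1, 3, 1, 2, 3, 4] [.sub [18, 18, 19, 29, 18, 18, 30, 24, 27, 20, 24, 25] [.out 207]],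
  .sub [4, 1, 2, 3, 2, 1, 3, 1, 2, 3, 4] [.sub [25, 18, 31, 20, 18, 18, 31, 20, 25, 24, 20, 27, 30] [.out 3046]],
  .sub [3, 1, 2, 3, 2, 1, 3, 1, 2, 3, 4] [.out 3765],
  .sub [4, 3, 4, 1, 2, 1, 3, 1, 2, 3, 4] [.sub [18, 29, 19, 20, 19, 20, 29, 31, 30, 27, 29, 29] [.out 1734]],
  .sub [3, 1, 4, 1, 2, 1, 3, 1, 2, 3, 4] [.sub [19, 31, 31, 27, 18, 27, 20, 20, 29, 25] [.out 2442]],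
  .sub [1, 4, 3, 1, 2, 1, 3, 1, 2, 3, 4] [.sub [31, 24, 19, 19, 18, 27, 30, 20, 24, 27, 30, 29, 29] [.out 614]],
  .sub [2, 4, 3, 1, 2, 1, 3, 1, 2, 3, 4] [.sub [20, 20, 20, 19, 18, 31, 30, 29, 31, 20, 27] [.out 1703]],
  .sub [2, 1, 3, 1, 2, 1, 3, 1, 2, 3, 4] [.out 2240],
  .sub [3, 2, 3, 1, 2, 1, 3, 1, 2, 3, 4] [.sub [31, 19, 19, 27, 18, 25, 31, 25, 24, 29, 25, 29, 29] [.out 3550]],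
  .sub [1, 2, 3, 1, 2, 1, 3, 1, 2, 3, 4] [.sub [19, 30, 18, 19, 29, 30, 24, 20, 29, 29] [.out 2642]],
  .sub [1, 4, 1, 4, 3, 2, 3, 1, 2, 3, 4] [.sub [18, 25, 31, 18, 18, 25, 24, 20, 24, 27, 29] [.out 2777]],
  .sub [2, 4, 1, 4, 3, 2, 3, 1, 2, 3, 4] [.sub [30, 18, 19, 27, 18, 18, 30, 20, 27, 30] [.out 1741]],
  .sub [1, 3, 1, 4, 3, 2, 3, 1, 2, 3, 4] [.out 3813],
  .sub [2, 3, 1, 4, 3, 2, 3, 1, 2, 3, 4] [.sub [30, 18, 24, 18, 30, 27, 27, 24, 27, 29] [.out 2856]],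
  .sub [3, 2, 1, 4, 3, 2, 3, 1, 2, 3, 4] [.sub [30, 20, 18, 18, 19, 24, 29, 20, 20, 27, 30, 29] [.out 3406]],
  .sub [1, 3, 4, 1, 3, 2, 3, 1, 2, 3, 4] [.out 2475],
  .sub [3, 1, 4, 1, 3, 2, 3, 1, 2, 3, 4] [.sub [27, 27, 19, 18, 18, 27, 31, 25, 31, 29, 25] [.out 2416]],
  .sub [2, 1, 4, 1, 3, 2, 3, 1, 2, 3, 4] [.sub [18, 25, 18, 24, 18, 29, 20, 24, 20, 30, 29, 29] [.sub [31, 24, 18, 19, 19, 27, 20, 20, 24, 27, 30, 29] [.bad [18, 30, 31, 19, 27, 30, 27, 31, 20, 30] 1]]]]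

/-- Branches. -/
def kidsXPart16 : List Branch := [
  .sub [3, 2, 4, 1, 3, 2, 3, 1, 2, 3, 4] [.sub [27, 19, 25, 19, 18, 31, 29, 20, 20, 30, 27, 29, 29] [.sub [25, 31, 30, 19, 18, 30, 20, 31, 30, 25] [.out 1742]]],
  .sub [1, 2, 4, 1, 3, 2, 3, 1, 2, 3, 4] [.sub [19, 19, 25, 20, 18, 18, 29, 25, 31] [.out 3764]],
  .sub [2, 4, 3, 1, 3, 2, 3, 1, 2, 3, 4] [.out 3758],
  .sub [2, 1, 3, 1, 3, 2, 3, 1, 2, 3, 4] [.out 1926],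
  .sub [3, 2, 3, 1, 3, 2, 3, 1, 2, 3, 4] [.sub [25, 19, 20, 24, 18, 25, 20, 24, 20, 30, 29, 29] [.out 57]],
  .sub [1, 2, 3, 1, 3, 2, 3, 1, 2, 3, 4] [.out 3118],
  .sub [4, 3, 2, 1, 3, 2, 3, 1, 2, 3, 4] [.sub [24, 24, 19, 20, 19, 31, 31, 20, 20, 30, 27] [.out 3536]],
  .sub [1, 3, 2, 1, 3, 2, 3, 1, 2, 3, 4] [.out 958],
  .sub [2, 3, 2, 1, 3, 2, 3, 1, 2, 3, 4] [.sub [31, 18, 20, 18, 18, 31, 31, 24, 20, 27, 29, 29] [.out 1434]],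
  .sub [3, 1, 4, 3, 1, 2, 3, 1, 2, 3, 4] [.sub [24, 20, 25, 18, 31, 20, 25, 24, 20, 30, 27, 29, 29] [.out 258]],
  .sub [3, 2, 4, 3, 1, 2, 3, 1, 2, 3, 4] [.sub [31, 25, 31, 18, 25, 24, 29, 20, 24, 30, 29] [.out 1157]],
  .sub [1, 2, 4, 3, 1, 2, 3, 1, 2, 3, 4] [.sub [20, 19, 24, 24, 18, 25, 31, 30, 24, 25, 29, 29] [.out 3728]],
  .sub [1, 4, 1, 3, 1, 2, 3, 1, 2, 3, 4] [.sub [20, 29, 31, 18, 27, 29, 20, 24, 30, 27] [.sub [18, 29, 18, 31, 19, 27, 31, 20, 29, 24, 25, 29] [.out 696]]],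
  .sub [2, 4, 1, 3, 1, 2, 3, 1, 2, 3, 4] [.sub [25, 27, 18, 20, 19, 18, 24, 30, 31, 24, 20, 30, 29, 29] [.out 2378]],
  .sub [3, 2, 1, 3, 1, 2, 3, 1, 2, 3, 4] [.out 3076],
  .sub [1, 2, 1, 3, 1, 2, 3, 1, 2, 3, 4] [.sub [18, 25, 31, 24, 18, 24, 24, 27, 20, 24, 30, 27, 29] [.out 4046]],
  .sub [4, 3, 2, 3, 1, 2, 3, 1, 2, 3, 4] [.out 1927],
  .sub [1, 3, 2, 3, 1, 2, 3, 1, 2, 3, 4] [.sub [31, 20, 27, 18, 25, 31, 20, 25] [.out 1727]],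
  .sub [4, 1, 2, 3, 1, 2, 3, 1, 2, 3, 4] [.sub [24, 20, 25, 18, 27, 31, 25, 20, 20] [.out 1898]],
  .sub [3, 1, 2, 3, 1, 2, 3, 1, 2, 3, 4] [.sub [31, 19, 27, 31, 18, 27, 20, 20, 31, 27, 30, 29] [.sub [20, 19, 24, 25, 20, 18, 25, 27, 25, 24, 25, 29, 29] [.out 2546]]],
  .sub [4, 3, 2, 4, 3, 1, 2, 1, 4, 1, 3, 4] [.sub [19, 24, 31, 19, 20, 27, 30, 20, 27, 29] [.out 1103]],
  .sub [1, 3, 2, 4, 3, 1, 2, 1, 4, 1, 3, 4] [.sub [25, 20, 20, 18, 31, 24, 30, 20, 30, 25, 29] [.out 777]],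
  .sub [2, 3, 2, 4, 3, 1, 2, 1, 4, 1, 3, 4] [.out 2108],
  .sub [4, 1, 2, 4, 3, 1, 2, 1, 4, 1, 3, 4] [.out 2723],
  .sub [3, 1, 2, 4, 3, 1, 2, 1, 4, 1, 3, 4] [.out 2736],
  .sub [3, 2, 4, 1, 3, 1, 2, 1, 4, 1, 3, 4] [.sub [30, 31, 29, 18, 30, 25, 31, 25, 24, 29, 25] [.sub [19, 29, 18, 18, 29, 25, 24, 31, 20, 30, 25, 29] [.out 696]]],
  .sub [1, 2, 4, 1, 3, 1, 2, 1, 4, 1, 3, 4] [.sub [31, 24, 19, 20, 18, 18, 31, 31, 31, 25, 31, 25] [.out 3368]],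
  .sub [4, 3, 2, 1, 3, 1, 2, 1, 4, 1, 3, 4] [.sub [18, 31, 19, 25, 18, 29, 30, 20, 30, 20, 27] [.out 1296]],
  .sub [1, 3, 2, 1, 3, 1, 2, 1, 4, 1, 3, 4] [.sub [24, 19, 24, 18, 25, 31, 25, 20, 30, 25, 29] [.out 1278]],
  .sub [2, 3, 2, 1, 3, 1, 2, 1, 4, 1, 3, 4] [.sub [25, 18, 27, 18, 18, 18, 31, 20, 29, 24, 25, 29] [.out 74]],
  .sub [4, 1, 2, 1, 3, 1, 2, 1, 4, 1, 3, 4] [.out 3457],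
  .sub [3, 1, 2, 1, 3, 1, 2, 1, 4, 1, 3, 4] [.out 2700],
  .sub [1, 4, 3, 2, 3, 1, 2, 1, 4, 1, 3, 4] [.sub [18, 30, 19, 25, 19, 31, 30, 29, 31, 20, 30, 27, 29, 29] [.out 2224]],
  .sub [4, 1, 3, 2, 3, 1, 2, 1, 4, 1, 3, 4] [.out 1091],
  .sub [2, 1, 3, 2, 3, 1, 2, 1, 4, 1, 3, 4] [.sub [18, 20, 27, 18, 20, 29, 31, 20, 30, 25, 29] [.out 1682]],
  .sub [3, 4, 1, 2, 3, 1, 2, 1, 4, 1, 3, 4] [.out 1799],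
  .sub [1, 4, 1, 2, 3, 1, 2, 1, 4, 1, 3, 4] [.sub [24, 25, 19, 29, 18, 25, 31, 20, 29] [.out 1969]],
  .sub [4, 3, 1, 2, 3, 1, 2, 1, 4, 1, 3, 4] [.out 3964],
  .sub [1, 3, 1, 2, 3, 1, 2, 1, 4, 1, 3, 4] [.out 3737],
  .sub [2, 3, 1, 2, 3, 1, 2, 1, 4, 1, 3, 4] [.out 3680],
  .sub [1, 2, 1, 4, 1, 4, 3, 2, 4, 1, 3, 4] [.out 944],
  .sub [4, 3, 2, 4, 1, 4, 3, 2, 4, 1, 3, 4] [.sub [18, 29, 18, 31, 18, 18, 30, 24, 31, 24, 27, 30] [.sub [31, 24, 24, 19, 20, 31, 20, 31, 30, 27, 29, 29] [.out 371]]],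
  .sub [1, 3, 2, 4, 1, 4, 3, 2, 4, 1, 3, 4] [.sub [20, 18, 18, 18, 31, 30, 27, 24, 27, 30, 29, 29] [.out 3537]],
  .sub [2, 3, 2, 4, 1, 4, 3, 2, 4, 1, 3, 4] [.out 3955],
  .sub [3, 1, 2, 4, 1, 4, 3, 2, 4, 1, 3, 4] [.sub [30, 19, 29, 25, 18, 27, 29, 20, 20, 30, 27, 29, 29] [.out 2210]],
  .sub [2, 4, 1, 3, 1, 4, 3, 2, 4, 1, 3, 4] [.out 3841],
  .sub [3, 2, 1, 3, 1, 4, 3, 2, 4, 1, 3, 4] [.out 3439],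
  .sub [1, 2, 1, 3, 1, 4, 3, 2, 4, 1, 3, 4] [.sub [20, 18, 18, 18, 31, 30, 27, 24, 27, 30, 29, 29] [.sub [20, 31, 20, 18, 19, 31, 29, 25, 24, 30, 25, 29] [.out 2750]]],
  .sub [1, 3, 2, 3, 1, 4, 3, 2, 4, 1, 3, 4] [.out 4045],
  .sub [4, 1, 2, 3, 1, 4, 3, 2, 4, 1, 3, 4] [.sub [24, 24, 19, 25, 18, 18, 27, 27, 24, 27, 30] [.out 2725]],
  .sub [3, 1, 2, 3, 1, 4, 3, 2, 4, 1, 3, 4] [.sub [29, 24, 25, 18, 31, 29, 31, 24, 29, 25, 29, 29] [.out 1588]],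
  .sub [1, 4, 3, 2, 1, 4, 3, 2, 4, 1, 3, 4] [.sub [20, 31, 31, 19, 27, 20, 20, 24, 29, 25] [.out 3775]],
  .sub [2, 4, 3, 2, 1, 4, 3, 2, 4, 1, 3, 4] [.out 3863],
  .sub [4, 1, 3, 2, 1, 4, 3, 2, 4, 1, 3, 4] [.out 3160],
  .sub [3, 1, 3, 2, 1, 4, 3, 2, 4, 1, 3, 4] [.sub [29, 18, 19, 18, 18, 24, 24, 31, 24, 30, 27] [.out 2367]],
  .sub [4, 3, 1, 2, 1, 4, 3, 2, 4, 1, 3, 4] [.out 3469],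
  .sub [1, 3, 1, 2, 1, 4, 3, 2, 4, 1, 3, 4] [.out 2396],
  .sub [2, 3, 1, 2, 1, 4, 3, 2, 4, 1, 3, 4] [.out 3150],
  .sub [3, 4, 1, 3, 2, 4, 3, 2, 4, 1, 3, 4] [.sub [27, 24, 18, 19, 18, 31, 27, 25, 31, 20, 29, 25, 29] [.out 4049]],
  .sub [1, 4, 1, 3, 2, 4, 3, 2, 4, 1, 3, 4] [.out 3021],
  .sub [4, 3, 1, 3, 2, 4, 3, 2, 4, 1, 3, 4] [.sub [20, 24, 24, 19, 18, 27, 31, 30, 20, 30, 25] [.out 2324]],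
  .sub [1, 3, 1, 3, 2, 4, 3, 2, 4, 1, 3, 4] [.sub [18, 19, 29, 20, 18, 20, 30, 20, 31, 29, 25, 29, 29] [.out 1936]],
  .sub [2, 3, 1, 3, 2, 4, 3, 2, 4, 1, 3, 4] [.out 3860],
  .sub [1, 4, 3, 1, 2, 4, 3, 2, 4, 1, 3, 4] [.sub [25, 27, 25, 18, 18, 25, 27, 31, 20, 30, 27, 29] [.out 3480]]]

/-- Branches. -/
def kidsXPart17 : List Branch := [
  .sub [2, 4, 3, 1, 2, 4, 3, 2, 4, 1, 3, 4] [.out 3547],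
  .sub [4, 1, 3, 1, 2, 4, 3, 2, 4, 1, 3, 4] [.out 3593],
  .sub [2, 1, 3, 1, 2, 4, 3, 2, 4, 1, 3, 4] [.out 2894],
  .sub [3, 2, 3, 1, 2, 4, 3, 2, 4, 1, 3, 4] [.sub [30, 18, 18, 27, 18, 20, 31, 29, 31, 29, 25, 29] [.sub [19, 20, 20, 19, 20, 25, 20, 30, 20, 29, 25] [.out 3749]]],
  .sub [1, 2, 3, 1, 2, 4, 3, 2, 4, 1, 3, 4] [.out 3679],
  .sub [3, 2, 4, 3, 4, 1, 3, 2, 4, 1, 3, 4] [.out 3422],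
  .sub [1, 2, 4, 3, 4, 1, 3, 2, 4, 1, 3, 4] [.out 1922],
  .sub [3, 4, 1, 3, 4, 1, 3, 2, 4, 1, 3, 4] [.sub [19, 31, 20, 19, 27, 24, 31, 20, 30, 29, 29] [.out 665]],
  .sub [2, 4, 1, 3, 4, 1, 3, 2, 4, 1, 3, 4] [.out 3699],
  .sub [3, 2, 1, 3, 4, 1, 3, 2, 4, 1, 3, 4] [.out 3760],
  .sub [1, 2, 1, 3, 4, 1, 3, 2, 4, 1, 3, 4] [.sub [19, 24, 31, 19, 20, 30, 20, 20, 24, 30, 27] [.sub [20, 27, 18, 31, 19, 27, 29, 30, 24, 29, 25] [.out 939]]],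
  .sub [4, 3, 2, 3, 4, 1, 3, 2, 4, 1, 3, 4] [.out 2057],
  .sub [1, 3, 2, 3, 4, 1, 3, 2, 4, 1, 3, 4] [.sub [27, 25, 24, 19, 18, 25, 24, 20, 24, 30, 29] [.out 3726]],
  .sub [2, 3, 2, 3, 4, 1, 3, 2, 4, 1, 3, 4] [.sub [24, 20, 25, 19, 18, 31, 31, 20, 20, 27, 30, 29, 29] [.sub [27, 24, 31, 19, 18, 29, 20, 30, 20, 30, 27, 29, 29] [.out 594]]],
  .sub [4, 1, 2, 3, 4, 1, 3, 2, 4, 1, 3, 4] [.sub [18, 18, 29, 25, 19, 18, 27, 24, 27, 31, 30, 25, 29] [.sub [31, 24, 27, 18, 25, 24, 31, 20, 30, 25, 29, 29] [.out 1542]]],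
  .sub [3, 1, 2, 3, 4, 1, 3, 2, 4, 1, 3, 4] [.out 3460],
  .sub [2, 1, 3, 1, 4, 1, 3, 2, 4, 1, 3, 4] [.sub [19, 29, 31, 20, 18, 31, 24, 29, 24, 29, 29] [.sub [29, 19, 20, 19, 29, 20, 31, 20, 24, 25, 29, 29] [.out 1015]]],
  .sub [3, 1, 2, 1, 4, 1, 3, 2, 4, 1, 3, 4] [.sub [31, 20, 18, 29, 24, 25, 24, 20, 25] [.sub [18, 27, 25, 20, 18, 31, 25, 20, 24, 20, 29, 25, 29] [.out 1145]]],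
  .sub [2, 4, 3, 2, 4, 1, 3, 2, 4, 1, 3, 4] [.out 3784],
  .sub [4, 1, 3, 2, 4, 1, 3, 2, 4, 1, 3, 4] [.sub [18, 18, 18, 18, 20, 31, 20, 20, 30, 29] [.out 830]],
  .sub [3, 1, 3, 2, 4, 1, 3, 2, 4, 1, 3, 4] [.out 3868],
  .sub [4, 3, 1, 2, 4, 1, 3, 2, 4, 1, 3, 4] [.out 2814],
  .sub [2, 3, 1, 2, 4, 1, 3, 2, 4, 1, 3, 4] [.sub [18, 29, 19, 19, 18, 30, 31, 30, 20, 30, 27, 29] [.out 800]],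
  .sub [4, 3, 2, 4, 3, 1, 3, 2, 4, 1, 3, 4] [.out 2153],
  .sub [1, 3, 2, 4, 3, 1, 3, 2, 4, 1, 3, 4] [.sub [19, 25, 20, 18, 18, 20, 31, 30, 29] [.sub [20, 27, 18, 18, 25, 31, 31, 24, 20, 30] [.out 3461]]],
  .sub [2, 3, 2, 4, 3, 1, 3, 2, 4, 1, 3, 4] [.sub [31, 18, 18, 18, 18, 31, 25, 20, 24, 20, 27, 30, 29] [.out 1627]],
  .sub [4, 1, 2, 4, 3, 1, 3, 2, 4, 1, 3, 4] [.out 1902],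
  .sub [3, 2, 4, 1, 3, 1, 3, 2, 4, 1, 3, 4] [.out 1268],
  .sub [1, 2, 4, 1, 3, 1, 3, 2, 4, 1, 3, 4] [.sub [31, 20, 25, 19, 25, 27, 30, 20, 27, 30, 29, 29] [.sub [31, 18, 29, 18, 27, 20, 20, 31, 30, 27, 29, 29] [.out 2428]]],
  .sub [4, 3, 2, 1, 3, 1, 3, 2, 4, 1, 3, 4] [.sub [18, 29, 18, 18, 19, 30, 27, 20, 20, 27, 30, 29, 29] [.out 1341]],
  .sub [2, 3, 2, 1, 3, 1, 3, 2, 4, 1, 3, 4] [.sub [18, 18, 19, 20, 19, 29, 31, 30, 20, 24, 27] [.sub [19, 20, 20, 18, 29, 25, 24, 29, 29] [.out 1328]]],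
  .sub [4, 1, 2, 1, 3, 1, 3, 2, 4, 1, 3, 4] [.out 3369],
  .sub [1, 4, 3, 2, 3, 1, 3, 2, 4, 1, 3, 4] [.sub [27, 18, 31, 18, 18, 30, 24, 30, 27] [.out 3002]],
  .sub [2, 4, 3, 2, 3, 1, 3, 2, 4, 1, 3, 4] [.sub [20, 27, 18, 19, 27, 31, 27, 20, 20, 30, 25] [.sub [18, 19, 19, 29, 25, 20, 24] [.out 2040]]],
  .sub [4, 1, 3, 2, 3, 1, 3, 2, 4, 1, 3, 4] [.out 1928],
  .sub [3, 1, 3, 2, 3, 1, 3, 2, 4, 1, 3, 4] [.out 2904],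
  .sub [2, 1, 3, 2, 3, 1, 3, 2, 4, 1, 3, 4] [.sub [19, 30, 25, 20, 18, 29, 30, 31, 20, 29, 25, 29, 29] [.out 2786]],
  .sub [3, 4, 1, 2, 3, 1, 3, 2, 4, 1, 3, 4] [.sub [29, 18, 29, 18, 30, 24, 20, 27, 24, 27, 30, 29, 29] [.out 718]],
  .sub [1, 4, 1, 2, 3, 1, 3, 2, 4, 1, 3, 4] [.sub [31, 18, 30, 20, 18, 27, 29, 31, 20, 29, 25, 29, 29] [.out 3602]],
  .sub [4, 3, 1, 2, 3, 1, 3, 2, 4, 1, 3, 4] [.sub [27, 19, 18, 25, 18, 31, 24, 31, 31, 27, 30, 29, 29] [.sub [18, 19, 31, 20, 18, 20, 30, 20, 31, 25, 29] [.out 2409]]],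
  .sub [1, 3, 1, 2, 3, 1, 3, 2, 4, 1, 3, 4] [.sub [18, 25, 31, 18, 18, 30, 20, 29, 20, 31, 30, 25, 29, 29] [.out 2731]],
  .sub [2, 3, 1, 2, 3, 1, 3, 2, 4, 1, 3, 4] [.out 3779],
  .sub [4, 1, 4, 3, 2, 1, 3, 2, 4, 1, 3, 4] [.sub [25, 20, 18, 18, 18, 18, 27, 31, 24, 20, 27, 29, 29] [.sub [20, 31, 24, 18, 29, 25, 20, 31, 29, 29] [.out 256]]],
  .sub [2, 1, 4, 3, 2, 1, 3, 2, 4, 1, 3, 4] [.out 4017],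
  .sub [3, 2, 4, 3, 2, 1, 3, 2, 4, 1, 3, 4] [.sub [31, 31, 19, 19, 27, 27, 30, 20, 24, 30, 25, 29, 29] [.sub [] [.out 3766]]],
  .sub [1, 2, 4, 3, 2, 1, 3, 2, 4, 1, 3, 4] [.sub [19, 18, 31, 20, 19, 27, 24, 30, 24, 20, 27, 30] [.out 1271]],
  .sub [3, 4, 1, 3, 2, 1, 3, 2, 4, 1, 3, 4] [.sub [25, 19, 18, 19, 19, 25, 31, 20, 27, 30, 29] [.out 3255]],
  .sub [1, 4, 1, 3, 2, 1, 3, 2, 4, 1, 3, 4] [.out 2726],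
  .sub [1, 4, 3, 1, 2, 1, 3, 2, 4, 1, 3, 4] [.sub [18, 18, 29, 25, 19, 18, 27, 24, 27, 31, 30, 25, 29] [.out 2129]],
  .sub [2, 4, 3, 1, 2, 1, 3, 2, 4, 1, 3, 4] [.sub [31, 30, 18, 19, 18, 25, 20, 31, 29, 24, 27, 30, 29] [.out 686]],
  .sub [3, 2, 3, 1, 2, 1, 3, 2, 4, 1, 3, 4] [.sub [19, 18, 29, 18, 20, 20, 31, 20, 30, 27, 29] [.out 3976]],
  .sub [1, 2, 3, 1, 2, 1, 3, 2, 4, 1, 3, 4] [.sub [31, 19, 31, 20, 19, 24, 25, 31, 25, 20, 29] [.out 3659]],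
  .sub [3, 2, 4, 3, 1, 2, 3, 2, 4, 1, 3, 4] [.out 2717],
  .sub [1, 2, 4, 3, 1, 2, 3, 2, 4, 1, 3, 4] [.sub [27, 19, 24, 31, 18, 31, 24, 29, 24, 30, 27, 29, 29] [.out 2992]],
  .sub [3, 4, 1, 3, 1, 2, 3, 2, 4, 1, 3, 4] [.sub [18, 30, 31, 19, 31, 25, 20, 24, 20, 27, 29, 29] [.out 1786]],
  .sub [2, 4, 1, 3, 1, 2, 3, 2, 4, 1, 3, 4] [.out 1252],
  .sub [1, 2, 1, 3, 1, 2, 3, 2, 4, 1, 3, 4] [.sub [24, 31, 24, 18, 19, 27, 25, 24, 31, 20, 25] [.out 2777]],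
  .sub [4, 3, 2, 3, 1, 2, 3, 2, 4, 1, 3, 4] [.sub [30, 31, 19, 19, 19, 24, 20, 30, 24, 20, 30, 27] [.out 1409]],
  .sub [1, 3, 2, 3, 1, 2, 3, 2, 4, 1, 3, 4] [.sub [29, 25, 18, 31, 19, 27, 31, 30, 20, 29, 25, 29] [.out 2820]],
  .sub [4, 1, 2, 3, 1, 2, 3, 2, 4, 1, 3, 4] [.out 3767],
  .sub [4, 3, 2, 1, 4, 3, 1, 2, 4, 1, 3, 4] [.out 3435],
  .sub [1, 3, 2, 1, 4, 3, 1, 2, 4, 1, 3, 4] [.out 4051],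
  .sub [2, 3, 2, 1, 4, 3, 1, 2, 4, 1, 3, 4] [.out 3782],
  .sub [3, 1, 2, 1, 4, 3, 1, 2, 4, 1, 3, 4] [.out 3974]]

/-- Branches. -/
def kidsXPart18 : List Branch := [
  .sub [1, 4, 3, 2, 4, 3, 1, 2, 4, 1, 3, 4] [.sub [20, 30, 24, 27, 18, 20, 20, 20, 30, 25, 29] [.out 2292]],
  .sub [2, 4, 3, 2, 4, 3, 1, 2, 4, 1, 3, 4] [.sub [25, 20, 18, 24, 18, 24, 30, 27, 27, 24, 29, 29] [.out 2708]],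
  .sub [4, 1, 3, 2, 4, 3, 1, 2, 4, 1, 3, 4] [.out 2818],
  .sub [2, 1, 3, 2, 4, 3, 1, 2, 4, 1, 3, 4] [.sub [18, 24, 19, 29, 18, 20, 20, 30, 24, 29] [.sub [20, 18, 31, 24, 18, 20, 20, 31, 30, 20, 29] [.out 2113]]],
  .sub [1, 2, 3, 2, 4, 3, 1, 2, 4, 1, 3, 4] [.sub [29, 18, 31, 25, 18, 20, 31, 29, 24, 25, 29] [.sub [27, 19, 24, 25, 18, 30, 24, 20, 30, 29] [.out 1509]]],
  .sub [3, 4, 1, 2, 4, 3, 1, 2, 4, 1, 3, 4] [.out 3588],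
  .sub [1, 4, 1, 2, 4, 3, 1, 2, 4, 1, 3, 4] [.out 3649],
  .sub [4, 3, 1, 2, 4, 3, 1, 2, 4, 1, 3, 4] [.sub [25, 19, 27, 31, 18, 18, 24, 20, 27, 24, 27, 29] [.out 2664]],
  .sub [2, 3, 1, 2, 4, 3, 1, 2, 4, 1, 3, 4] [.out 2986],
  .sub [2, 1, 3, 4, 1, 3, 1, 2, 4, 1, 3, 4] [.sub [24, 24, 18, 27, 19, 18, 24, 24, 24, 20, 20, 30, 29] [.sub [20, 24, 19, 24, 18, 25, 31, 25, 20, 20, 27] [.out 3766]]],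
  .sub [2, 3, 1, 4, 1, 3, 1, 2, 4, 1, 3, 4] [.sub [19, 19, 20, 30, 18, 18, 27, 31, 20, 20, 27, 29, 29] [.out 1528]],
  .sub [3, 2, 1, 4, 1, 3, 1, 2, 4, 1, 3, 4] [.sub [19, 20, 19, 18, 18, 25, 20, 31, 31, 27, 30, 29] [.out 624]],
  .sub [1, 2, 1, 4, 1, 3, 1, 2, 4, 1, 3, 4] [.sub [] [.out 3145]],
  .sub [4, 3, 2, 4, 1, 3, 1, 2, 4, 1, 3, 4] [.sub [18, 18, 30, 18, 18, 29, 24, 31, 20, 20, 29, 25] [.sub [19, 29, 31, 18, 24, 29, 20, 20, 29, 25, 29] [.out 638]]],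
  .sub [1, 3, 2, 4, 1, 3, 1, 2, 4, 1, 3, 4] [.out 3435],
  .sub [4, 1, 2, 4, 1, 3, 1, 2, 4, 1, 3, 4] [.sub [24, 20, 25, 19, 20, 31, 24, 20, 30, 29, 29] [.out 997]],
  .sub [3, 1, 2, 4, 1, 3, 1, 2, 4, 1, 3, 4] [.out 4007],
  .sub [1, 4, 3, 2, 1, 3, 1, 2, 4, 1, 3, 4] [.sub [19, 18, 19, 18, 18, 20, 29, 31, 30, 27, 29, 29] [.out 593]],
  .sub [2, 4, 3, 2, 1, 3, 1, 2, 4, 1, 3, 4] [.sub [31, 18, 20, 27, 18, 24, 24, 31, 24, 25] [.out 3615]],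
  .sub [4, 1, 3, 2, 1, 3, 1, 2, 4, 1, 3, 4] [.out 4059],
  .sub [3, 1, 3, 2, 1, 3, 1, 2, 4, 1, 3, 4] [.sub [25, 20, 25, 19, 18, 30, 20, 30, 24, 27, 29] [.out 414]],
  .sub [2, 1, 3, 2, 1, 3, 1, 2, 4, 1, 3, 4] [.sub [31, 18, 19, 24, 29, 20, 20, 30, 27] [.out 2697]],
  .sub [1, 2, 3, 2, 1, 3, 1, 2, 4, 1, 3, 4] [.out 3740],
  .sub [3, 4, 1, 2, 1, 3, 1, 2, 4, 1, 3, 4] [.out 2643],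
  .sub [1, 4, 1, 2, 1, 3, 1, 2, 4, 1, 3, 4] [.out 1504],
  .sub [4, 3, 1, 2, 1, 3, 1, 2, 4, 1, 3, 4] [.sub [25, 18, 19, 25, 18, 31, 24, 30, 20, 29, 25] [.out 669]],
  .sub [1, 3, 1, 2, 1, 3, 1, 2, 4, 1, 3, 4] [.out 2388],
  .sub [2, 3, 1, 2, 1, 3, 1, 2, 4, 1, 3, 4] [.sub [27, 31, 31, 18, 31, 31, 30, 20, 20, 27, 29] [.sub [19, 20, 19, 27, 31, 20, 20, 31, 27, 30, 29] [.out 3749]]],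
  .sub [3, 4, 1, 3, 2, 3, 1, 2, 4, 1, 3, 4] [.out 4007],
  .sub [1, 4, 1, 3, 2, 3, 1, 2, 4, 1, 3, 4] [.sub [29, 18, 29, 18, 19, 18, 31, 25, 20, 31, 30, 27, 29, 29] [.out 781]],
  .sub [2, 4, 1, 3, 2, 3, 1, 2, 4, 1, 3, 4] [.sub [20, 18, 29, 18, 24, 25, 31, 20, 20, 29, 29] [.out 4018]],
  .sub [3, 2, 1, 3, 2, 3, 1, 2, 4, 1, 3, 4] [.sub [31, 31, 27, 18, 20, 24, 30, 27, 29, 29] [.sub [24, 25, 19, 30, 27, 27, 31, 30, 27] [.out 3343]]],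
  .sub [1, 3, 4, 1, 2, 3, 1, 2, 4, 1, 3, 4] [.sub [18, 29, 18, 18, 29, 25, 31, 24, 27, 29, 29] [.out 1346]],
  .sub [3, 1, 4, 1, 2, 3, 1, 2, 4, 1, 3, 4] [.sub [29, 19, 24, 27, 18, 27, 31, 30, 20] [.sub [30, 24, 31, 18, 19, 24, 27, 25, 31, 25, 29, 29] [.bad [25, 24, 19, 18, 27, 20, 20, 27, 29, 29] 1]]],
  .sub [2, 1, 4, 1, 2, 3, 1, 2, 4, 1, 3, 4] [.sub [19, 24, 19, 25, 18, 18, 29, 31, 31, 27, 29, 29] [.sub [19, 20, 20, 19, 20, 25, 20, 30, 20, 29, 25] [.out 3884]]],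
  .sub [4, 3, 2, 4, 1, 4, 3, 2, 3, 1, 3, 4] [.sub [29, 30, 20, 18, 25, 20, 20, 25, 29] [.out 300]],
  .sub [2, 3, 2, 4, 1, 4, 3, 2, 3, 1, 3, 4] [.sub [20, 27, 19, 25, 18, 18, 27, 25, 24, 29, 25] [.out 3965]],
  .sub [1, 4, 3, 2, 1, 4, 3, 2, 3, 1, 3, 4] [.out 3326],
  .sub [2, 4, 3, 2, 1, 4, 3, 2, 3, 1, 3, 4] [.sub [30, 20, 18, 20, 18, 29, 24, 31, 29, 25, 29] [.sub [27, 24, 20, 19, 19, 18, 24, 20, 30, 31, 20, 29, 25, 29] [.bad [19, 29, 19, 29, 18, 30, 29, 24, 30, 25] 1]]],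
  .sub [4, 1, 3, 2, 1, 4, 3, 2, 3, 1, 3, 4] [.sub [31, 30, 18, 19, 18, 20, 24, 27, 24, 20, 25] [.out 3899]],
  .sub [3, 1, 3, 2, 1, 4, 3, 2, 3, 1, 3, 4] [.out 3442],
  .sub [2, 1, 3, 2, 1, 4, 3, 2, 3, 1, 3, 4] [.sub [30, 18, 18, 18, 31, 25, 24, 25, 29, 29] [.sub [19, 29, 19, 18, 18, 25, 24, 27, 25, 31, 29, 29] [.out 70]]],
  .sub [3, 4, 1, 3, 2, 4, 3, 2, 3, 1, 3, 4] [.sub [18, 18, 20, 31, 18, 18, 30, 27, 24, 27] [.out 3575]],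
  .sub [1, 4, 1, 3, 2, 4, 3, 2, 3, 1, 3, 4] [.out 3506],
  .sub [2, 4, 1, 3, 2, 4, 3, 2, 3, 1, 3, 4] [.out 2908],
  .sub [4, 3, 1, 3, 2, 4, 3, 2, 3, 1, 3, 4] [.sub [25, 19, 31, 27, 18, 31, 29, 20, 24, 20, 27] [.sub [25, 27, 25, 18, 18, 27, 20, 20, 25] [.out 2101]]],
  .sub [2, 3, 1, 3, 2, 4, 3, 2, 3, 1, 3, 4] [.out 3613],
  .sub [3, 2, 1, 3, 2, 4, 3, 2, 3, 1, 3, 4] [.sub [19, 20, 19, 18, 18, 25, 20, 31, 31, 27, 30, 29] [.out 2516]],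
  .sub [1, 2, 1, 3, 2, 4, 3, 2, 3, 1, 3, 4] [.out 1898],
  .sub [3, 1, 2, 3, 2, 4, 3, 2, 3, 1, 3, 4] [.out 3410],
  .sub [3, 2, 4, 3, 4, 1, 3, 2, 3, 1, 3, 4] [.sub [19, 29, 31, 18, 27, 20, 24, 25, 29] [.out 389]],
  .sub [1, 2, 4, 3, 4, 1, 3, 2, 3, 1, 3, 4] [.sub [19, 29, 18, 19, 18, 30, 25, 27, 24, 30, 27, 29] [.sub [20, 31, 20, 18, 19, 31, 29, 25, 24, 30, 25, 29] [.out 1483]]],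
  .sub [4, 3, 2, 3, 4, 1, 3, 2, 3, 1, 3, 4] [.out 3870],
  .sub [1, 3, 2, 3, 4, 1, 3, 2, 3, 1, 3, 4] [.sub [27, 19, 19, 20, 18, 29, 24, 31, 20, 29, 29] [.out 134]],
  .sub [2, 3, 2, 3, 4, 1, 3, 2, 3, 1, 3, 4] [.sub [29, 19, 24, 18, 18, 27, 24, 27, 24, 27, 30] [.out 1762]],
  .sub [4, 1, 2, 3, 4, 1, 3, 2, 3, 1, 3, 4] [.out 2398],
  .sub [3, 1, 2, 3, 4, 1, 3, 2, 3, 1, 3, 4] [.out 2540],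
  .sub [3, 1, 2, 1, 4, 1, 3, 2, 3, 1, 3, 4] [.out 2790],
  .sub [1, 4, 3, 2, 4, 1, 3, 2, 3, 1, 3, 4] [.out 2385],
  .sub [2, 4, 3, 2, 4, 1, 3, 2, 3, 1, 3, 4] [.out 3924],
  .sub [3, 1, 3, 2, 4, 1, 3, 2, 3, 1, 3, 4] [.sub [27, 18, 20, 18, 18, 25, 27, 24, 31, 29, 25] [.out 2459]],
  .sub [2, 1, 3, 2, 4, 1, 3, 2, 3, 1, 3, 4] [.out 3174],
  .sub [4, 3, 1, 2, 4, 1, 3, 2, 3, 1, 3, 4] [.out 3068],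
  .sub [1, 3, 1, 2, 4, 1, 3, 2, 3, 1, 3, 4] [.sub [31, 27, 19, 18, 18, 18, 30, 31, 24, 31, 29, 25, 29, 29] [.sub [19, 29, 31, 27, 18, 20, 27, 20, 20, 27, 30, 29, 29] [.out 903]]]]

/-- Branches. -/
def kidsXPart19 : List Branch := [
  .sub [4, 3, 2, 4, 3, 1, 3, 2, 3, 1, 3, 4] [.sub [20, 19, 19, 24, 18, 31, 27, 29, 20, 24, 29, 25, 29, 29] [.out 260]],
  .sub [1, 3, 2, 4, 3, 1, 3, 2, 3, 1, 3, 4] [.out 1075],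
  .sub [2, 3, 2, 4, 3, 1, 3, 2, 3, 1, 3, 4] [.sub [31, 29, 18, 18, 18, 18, 30, 27, 20, 31, 27, 29] [.sub [27, 24, 20, 19, 19, 18, 24, 20, 30, 31, 20, 29, 25, 29] [.out 939]]],
  .sub [4, 1, 2, 4, 3, 1, 3, 2, 3, 1, 3, 4] [.sub [29, 20, 20, 18, 31, 25, 20, 24] [.out 2823]],
  .sub [3, 1, 2, 4, 3, 1, 3, 2, 3, 1, 3, 4] [.sub [30, 19, 29, 25, 18, 30, 24, 31, 20, 20, 30, 25] [.out 958]],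
  .sub [3, 2, 4, 1, 3, 1, 3, 2, 3, 1, 3, 4] [.sub [29, 18, 19, 18, 19, 31, 31, 24, 25, 24, 29, 25, 29] [.sub [30, 24, 27, 19, 31, 29, 30, 24] [.out 2161]]],
  .sub [3, 1, 2, 1, 3, 1, 3, 2, 3, 1, 3, 4] [.out 3687],
  .sub [1, 4, 3, 2, 3, 1, 3, 2, 3, 1, 3, 4] [.out 3523],
  .sub [2, 4, 3, 2, 3, 1, 3, 2, 3, 1, 3, 4] [.out 3750],
  .sub [3, 1, 3, 2, 3, 1, 3, 2, 3, 1, 3, 4] [.sub [27, 19, 25, 19, 18, 30, 31, 20, 30, 20] [.out 1268]],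
  .sub [1, 2, 3, 2, 3, 1, 3, 2, 3, 1, 3, 4] [.sub [31, 25, 31, 18, 20, 24, 30, 25, 20, 29, 25, 29] [.out 1194]],
  .sub [4, 1, 4, 3, 2, 1, 3, 2, 3, 1, 3, 4] [.sub [24, 19, 24, 31, 18, 24, 27, 24, 29, 25, 29, 29] [.out 3941]],
  .sub [3, 1, 4, 3, 2, 1, 3, 2, 3, 1, 3, 4] [.out 764],
  .sub [2, 1, 4, 3, 2, 1, 3, 2, 3, 1, 3, 4] [.sub [19, 19, 27, 18, 19, 31, 30, 27, 29] [.sub [20, 31, 18, 19, 18, 24, 27, 24, 20, 20, 25, 29, 29] [.out 2245]]],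
  .sub [3, 2, 4, 3, 2, 1, 3, 2, 3, 1, 3, 4] [.out 1776],
  .sub [1, 2, 4, 3, 2, 1, 3, 2, 3, 1, 3, 4] [.sub [31, 31, 19, 19, 20, 20, 31, 30, 20, 30, 29, 29] [.sub [27, 18, 19, 18, 19, 29, 24, 30, 31, 25, 29, 29] [.out 3017]]],
  .sub [1, 4, 3, 1, 2, 1, 3, 2, 3, 1, 3, 4] [.sub [27, 25, 18, 19, 18, 29, 31, 31, 30, 24, 29, 25, 29] [.sub [29, 30, 18, 19, 18, 24, 24, 27, 20, 24, 30, 29] [.out 1114]]],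
  .sub [3, 4, 1, 3, 1, 2, 3, 2, 3, 1, 3, 4] [.sub [30, 24, 27, 18, 30, 31, 31, 20, 24, 27, 30, 29, 29] [.out 2190]],
  .sub [2, 3, 2, 1, 4, 3, 1, 2, 3, 1, 3, 4] [.out 4045],
  .sub [4, 1, 2, 1, 4, 3, 1, 2, 3, 1, 3, 4] [.sub [30, 24, 27, 19, 25, 31, 30, 24, 25, 29, 29] [.sub [27, 31, 19, 25, 27, 20, 31, 29, 25, 29, 29] [.out 1874]]],
  .sub [1, 4, 3, 2, 4, 3, 1, 2, 3, 1, 3, 4] [.out 3713],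
  .sub [2, 4, 3, 2, 4, 3, 1, 2, 3, 1, 3, 4] [.sub [30, 18, 20, 19, 18, 31, 27, 25, 20, 20] [.sub [24, 25, 18, 18, 24, 31, 25, 20, 30, 25] [.bad [31, 19, 24, 18, 18, 18, 20, 29, 20, 31, 29, 25, 29] 1]]],
  .sub [4, 1, 3, 2, 4, 3, 1, 2, 3, 1, 3, 4] [.sub [29, 25, 18, 18, 20, 27, 30, 20, 29, 29] [.sub [29, 31, 31, 25, 18, 30, 29, 31, 29, 25, 29] [.out 3187]]],
  .sub [3, 1, 3, 2, 4, 3, 1, 2, 3, 1, 3, 4] [.sub [25, 20, 24, 18, 19, 27, 31, 29, 24, 29, 25, 29] [.out 594]],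
  .sub [2, 1, 3, 2, 4, 3, 1, 2, 3, 1, 3, 4] [.sub [29, 31, 20, 18, 18, 30, 27, 31, 24, 27, 30, 29] [.out 2761]],
  .sub [1, 2, 3, 2, 4, 3, 1, 2, 3, 1, 3, 4] [.out 1783],
  .sub [3, 4, 1, 2, 4, 3, 1, 2, 3, 1, 3, 4] [.out 1301],
  .sub [1, 4, 1, 2, 4, 3, 1, 2, 3, 1, 3, 4] [.sub [19, 18, 27, 18, 18, 31, 24, 31, 31, 20, 27, 30, 29, 29] [.out 982]],
  .sub [4, 3, 1, 2, 4, 3, 1, 2, 3, 1, 3, 4] [.sub [24, 19, 29, 18, 25, 31, 20, 20] [.out 2190]],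
  .sub [1, 3, 1, 2, 4, 3, 1, 2, 3, 1, 3, 4] [.sub [19, 25, 24, 19, 18, 24, 20, 20, 27, 29] [.out 3300]],
  .sub [2, 3, 1, 2, 4, 3, 1, 2, 3, 1, 3, 4] [.sub [27, 30, 18, 18, 18, 29, 31, 20, 20, 30, 25] [.sub [24, 20, 19, 20, 18, 24, 20, 25, 20, 20, 25, 29, 29] [.out 1700]]],
  .sub [1, 4, 1, 2, 1, 3, 1, 2, 3, 1, 3, 4] [.sub [31, 24, 18, 31, 27, 30, 20, 20, 25, 29] [.sub [20, 24, 25, 19, 20, 20, 20, 31, 20, 25] [.out 3669]]],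
  .sub [3, 4, 1, 3, 2, 3, 1, 2, 3, 1, 3, 4] [.out 3923],
  .sub [1, 4, 1, 3, 2, 3, 1, 2, 3, 1, 3, 4] [.out 764],
  .sub [2, 4, 1, 3, 2, 3, 1, 2, 3, 1, 3, 4] [.sub [19, 27, 18, 18, 27, 29, 20, 20, 20, 29, 25] [.out 3308]],
  .sub [1, 3, 1, 3, 2, 3, 1, 2, 3, 1, 3, 4] [.sub [27, 25, 19, 25, 18, 24, 30, 27, 27, 24, 30, 29] [.out 1182]],
  .sub [3, 2, 1, 3, 2, 3, 1, 2, 3, 1, 3, 4] [.sub [19, 20, 19, 18, 19, 18, 20, 31, 20, 24, 30, 27, 29] [.sub [19, 18, 19, 18, 31, 24, 20, 30, 20, 27, 30, 29] [.out 2261]]],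
  .sub [4, 3, 4, 1, 2, 3, 1, 2, 3, 1, 3, 4] [.sub [31, 19, 29, 18, 18, 27, 30, 31, 31, 25, 29, 29] [.out 3788]],
  .sub [1, 3, 4, 1, 2, 3, 1, 2, 3, 1, 3, 4] [.sub [25, 31, 27, 18, 24, 18, 20, 27, 24, 20, 20, 29] [.out 2105]],
  .sub [2, 3, 4, 1, 2, 3, 1, 2, 3, 1, 3, 4] [.sub [19, 24, 31, 19, 20, 30, 20, 20, 24, 30, 27] [.out 965]],
  .sub [3, 1, 4, 1, 2, 3, 1, 2, 3, 1, 3, 4] [.out 3844],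
  .sub [2, 1, 4, 1, 2, 3, 1, 2, 3, 1, 3, 4] [.sub [25, 24, 27, 19, 24, 29, 30, 31, 25, 29, 29] [.out 1632]],
  .sub [1, 4, 3, 1, 2, 3, 1, 2, 3, 1, 3, 4] [.sub [29, 19, 31, 24, 18, 25, 20, 24, 25] [.sub [29, 19, 31, 18, 18, 31, 29, 20, 24, 30, 27, 29, 29] [.out 28]]],
  .sub [4, 1, 3, 1, 2, 3, 1, 2, 3, 1, 3, 4] [.out 2207],
  .sub [2, 1, 3, 1, 2, 3, 1, 2, 3, 1, 3, 4] [.out 1315],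
  .sub [1, 2, 3, 1, 2, 3, 1, 2, 3, 1, 3, 4] [.out 758],
  .sub [3, 2, 1, 3, 4, 1, 4, 3, 2, 1, 3, 4] [.sub [18, 19, 31, 20, 19, 30, 31, 25, 24, 27] [.out 1383]],
  .sub [1, 2, 1, 3, 4, 1, 4, 3, 2, 1, 3, 4] [.sub [20, 31, 19, 18, 25, 27, 30, 20, 27, 29, 29] [.out 3778]],
  .sub [4, 3, 2, 3, 4, 1, 4, 3, 2, 1, 3, 4] [.sub [24, 19, 24, 18, 19, 27, 29, 20, 20, 20, 27] [.out 2540]],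
  .sub [1, 3, 2, 3, 4, 1, 4, 3, 2, 1, 3, 4] [.out 3058],
  .sub [2, 3, 2, 3, 4, 1, 4, 3, 2, 1, 3, 4] [.sub [18, 29, 19, 18, 30, 24, 25, 24, 20, 27] [.sub [31, 18, 19, 27, 18, 24, 30, 31, 24, 20, 27, 29, 29] [.out 1911]]],
  .sub [3, 1, 2, 3, 4, 1, 4, 3, 2, 1, 3, 4] [.sub [30, 25, 31, 18, 31, 30, 27, 24, 25, 29, 29] [.sub [27, 24, 18, 18, 30, 25, 20, 27, 29] [.out 1496]]],
  .sub [3, 1, 2, 1, 4, 1, 4, 3, 2, 1, 3, 4] [.out 4059],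
  .sub [1, 4, 3, 2, 4, 1, 4, 3, 2, 1, 3, 4] [.sub [19, 18, 31, 25, 18, 31, 27, 25, 20, 20, 27, 30, 29] [.out 3978]],
  .sub [2, 4, 3, 2, 4, 1, 4, 3, 2, 1, 3, 4] [.sub [19, 24, 24, 18, 24, 20, 27, 24, 30, 25, 29, 29] [.sub [19, 20, 18, 18, 30, 20, 24, 30, 27, 29] [.out 4037]]],
  .sub [4, 1, 3, 2, 4, 1, 4, 3, 2, 1, 3, 4] [.out 2549],
  .sub [2, 4, 1, 4, 3, 1, 4, 3, 2, 1, 3, 4] [.sub [20, 30, 19, 25, 19, 24, 31, 31, 31, 24, 30, 25] [.out 2730]],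
  .sub [3, 2, 1, 4, 3, 1, 4, 3, 2, 1, 3, 4] [.out 4022],
  .sub [1, 2, 1, 4, 3, 1, 4, 3, 2, 1, 3, 4] [.out 3255],
  .sub [4, 3, 2, 4, 3, 1, 4, 3, 2, 1, 3, 4] [.sub [29, 19, 24, 18, 18, 27, 24, 27, 24, 27, 30] [.out 2732]],
  .sub [2, 3, 2, 4, 3, 1, 4, 3, 2, 1, 3, 4] [.sub [19, 29, 18, 27, 19, 29, 20, 20, 31, 27, 29, 29] [.out 3040]],
  .sub [4, 1, 2, 4, 3, 1, 4, 3, 2, 1, 3, 4] [.sub [31, 19, 31, 24, 18, 25, 24, 24, 20, 20, 30, 25, 29] [.out 2476]],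
  .sub [3, 1, 2, 4, 3, 1, 4, 3, 2, 1, 3, 4] [.out 4028],
  .sub [2, 1, 4, 1, 3, 1, 4, 3, 2, 1, 3, 4] [.sub [25, 19, 29, 18, 18, 20, 24, 27, 24, 20, 27] [.out 3965]]]

/-- Branches. -/
def kidsXPart20 : List Branch := [
  .sub [3, 2, 4, 1, 3, 1, 4, 3, 2, 1, 3, 4] [.out 2996],
  .sub [1, 2, 4, 1, 3, 1, 4, 3, 2, 1, 3, 4] [.out 2374],
  .sub [4, 3, 2, 1, 3, 1, 4, 3, 2, 1, 3, 4] [.sub [24, 29, 20, 24, 18, 27, 29, 20, 24, 30, 27, 29, 29] [.sub [30, 19, 18, 19, 30, 27, 24, 20, 20, 27, 30, 29, 29] [.out 3496]]],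
  .sub [2, 3, 2, 1, 3, 1, 4, 3, 2, 1, 3, 4] [.out 3916],
  .sub [1, 4, 3, 2, 3, 1, 4, 3, 2, 1, 3, 4] [.sub [20, 30, 20, 18, 18, 27, 30, 20, 20, 30, 29, 29] [.sub [19, 27, 19, 20, 18, 29, 25, 31, 24, 29, 25, 29] [.out 2750]]],
  .sub [2, 4, 3, 2, 3, 1, 4, 3, 2, 1, 3, 4] [.sub [30, 18, 27, 20, 18, 24, 31, 31, 30, 27, 29] [.sub [24, 25, 19, 30, 27, 27, 31, 30, 27] [.bad [18, 27, 31, 18, 27, 24, 31, 20, 20, 29, 25, 29, 29] 1]]],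
  .sub [4, 1, 3, 2, 3, 1, 4, 3, 2, 1, 3, 4] [.sub [27, 31, 20, 18, 31, 31, 31, 29, 29] [.out 1977]],
  .sub [3, 1, 3, 2, 3, 1, 4, 3, 2, 1, 3, 4] [.sub [27, 19, 24, 19, 30, 27, 20, 31, 29] [.out 122]],
  .sub [2, 1, 3, 2, 3, 1, 4, 3, 2, 1, 3, 4] [.sub [24, 19, 19, 24, 18, 25, 27, 25, 20, 30, 25] [.out 2475]],
  .sub [1, 2, 3, 2, 3, 1, 4, 3, 2, 1, 3, 4] [.out 3415],
  .sub [3, 4, 1, 2, 3, 1, 4, 3, 2, 1, 3, 4] [.sub [18, 29, 19, 18, 19, 20, 24, 27, 24, 29, 25] [.sub [30, 29, 31, 18, 18, 27, 24, 20, 24, 25, 29, 29] [.done 16]]],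
  .sub [1, 4, 1, 2, 3, 1, 4, 3, 2, 1, 3, 4] [.sub [29, 19, 18, 20, 30, 31, 24, 20, 30, 27, 29] [.out 526]],
  .sub [4, 3, 1, 2, 3, 1, 4, 3, 2, 1, 3, 4] [.sub [29, 24, 18, 18, 18, 31, 24, 31, 31, 20, 29, 25, 29] [.out 1203]],
  .sub [1, 3, 1, 2, 3, 1, 4, 3, 2, 1, 3, 4] [.out 2454],
  .sub [4, 1, 4, 3, 2, 1, 4, 3, 2, 1, 3, 4] [.sub [27, 27, 19, 24, 18, 18, 20, 30, 24, 25, 20, 29] [.out 2559]],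
  .sub [3, 1, 4, 3, 2, 1, 4, 3, 2, 1, 3, 4] [.out 3013],
  .sub [2, 1, 4, 3, 2, 1, 4, 3, 2, 1, 3, 4] [.sub [31, 25, 31, 19, 18, 27, 20, 31, 20, 30, 25, 29, 29] [.out 2726]],
  .sub [3, 2, 4, 3, 2, 1, 4, 3, 2, 1, 3, 4] [.sub [27, 19, 18, 18, 18, 24, 20, 27, 31, 30, 29] [.out 3522]],
  .sub [1, 2, 4, 3, 2, 1, 4, 3, 2, 1, 3, 4] [.sub [29, 18, 19, 31, 18, 24, 30, 20, 24, 20, 20, 27, 30, 29, 29] [.out 3790]],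
  .sub [3, 4, 1, 3, 2, 1, 4, 3, 2, 1, 3, 4] [.sub [20, 31, 18, 19, 18, 27, 27, 30, 20, 24, 30, 25, 29, 29] [.sub [29, 31, 18, 24, 20, 24, 20, 27, 30] [.out 3626]]],
  .sub [2, 4, 1, 3, 2, 1, 4, 3, 2, 1, 3, 4] [.out 2307],
  .sub [4, 3, 1, 3, 2, 1, 4, 3, 2, 1, 3, 4] [.out 3789],
  .sub [1, 3, 1, 3, 2, 1, 4, 3, 2, 1, 3, 4] [.sub [19, 24, 18, 24, 18, 24, 27, 24, 20, 20, 29, 25, 29, 29] [.sub [27, 19, 18, 27, 19, 20, 20, 25, 31, 25] [.out 4011]]],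
  .sub [2, 3, 1, 3, 2, 1, 4, 3, 2, 1, 3, 4] [.sub [27, 24, 31, 25, 18, 30, 31, 27, 20, 20, 27] [.out 1613]],
  .sub [1, 2, 1, 3, 2, 1, 4, 3, 2, 1, 3, 4] [.sub [20, 20, 25, 18, 27, 24, 20, 24, 20, 25, 29, 29] [.out 32]],
  .sub [4, 1, 2, 3, 2, 1, 4, 3, 2, 1, 3, 4] [.sub [30, 19, 31, 18, 18, 27, 30, 27, 31, 20, 30, 25, 29, 29] [.out 958]],
  .sub [3, 1, 2, 3, 2, 1, 4, 3, 2, 1, 3, 4] [.out 1801],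
  .sub [1, 4, 3, 1, 2, 1, 4, 3, 2, 1, 3, 4] [.sub [25, 24, 19, 24, 18, 24, 20, 29, 25] [.out 877]],
  .sub [4, 1, 3, 1, 2, 1, 4, 3, 2, 1, 3, 4] [.sub [27, 19, 30, 20, 19, 18, 24, 24, 27, 31, 30, 27, 29, 29] [.out 4059]],
  .sub [1, 3, 4, 1, 3, 2, 4, 3, 2, 1, 3, 4] [.out 1708],
  .sub [2, 3, 4, 1, 3, 2, 4, 3, 2, 1, 3, 4] [.sub [20, 19, 20, 25, 18, 20, 31, 25, 20, 29] [.out 2264]],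
  .sub [3, 2, 4, 1, 3, 2, 4, 3, 2, 1, 3, 4] [.sub [30, 18, 20, 19, 18, 31, 27, 25, 20, 20] [.out 2695]],
  .sub [2, 4, 3, 1, 3, 2, 4, 3, 2, 1, 3, 4] [.sub [30, 18, 27, 20, 18, 31, 25, 31, 30] [.sub [30, 19, 31, 27, 18, 31, 29, 20, 24, 20, 25, 29] [.out 167]]],
  .sub [3, 2, 3, 1, 3, 2, 4, 3, 2, 1, 3, 4] [.sub [24, 24, 19, 20, 19, 31, 31, 20, 20, 30, 27] [.out 1611]],
  .sub [4, 3, 2, 1, 3, 2, 4, 3, 2, 1, 3, 4] [.sub [19, 19, 25, 20, 18, 18, 29, 25, 31] [.out 3030]],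
  .sub [1, 3, 2, 1, 3, 2, 4, 3, 2, 1, 3, 4] [.sub [19, 30, 19, 18, 19, 29, 24, 25, 24, 20, 25] [.out 3599]],
  .sub [2, 3, 2, 1, 3, 2, 4, 3, 2, 1, 3, 4] [.sub [25, 18, 24, 24, 19, 20, 20, 29, 25] [.out 1602]],
  .sub [4, 1, 2, 1, 3, 2, 4, 3, 2, 1, 3, 4] [.sub [30, 24, 27, 19, 20, 27, 20, 20, 30, 27, 29] [.out 1062]],
  .sub [3, 1, 2, 1, 3, 2, 4, 3, 2, 1, 3, 4] [.out 2892],
  .sub [3, 4, 1, 2, 3, 2, 4, 3, 2, 1, 3, 4] [.out 2994],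
  .sub [4, 3, 1, 2, 3, 2, 4, 3, 2, 1, 3, 4] [.sub [18, 19, 29, 20, 18, 20, 30, 20, 31, 29, 25, 29, 29] [.out 2085]],
  .sub [1, 3, 1, 2, 3, 2, 4, 3, 2, 1, 3, 4] [.out 3297],
  .sub [2, 3, 2, 4, 3, 4, 1, 3, 2, 1, 3, 4] [.sub [29, 19, 19, 19, 27, 29, 31, 31, 27, 30] [.out 3589]],
  .sub [4, 1, 2, 4, 3, 4, 1, 3, 2, 1, 3, 4] [.out 3230],
  .sub [3, 1, 2, 4, 3, 4, 1, 3, 2, 1, 3, 4] [.out 3358],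
  .sub [3, 2, 4, 1, 3, 4, 1, 3, 2, 1, 3, 4] [.sub [29, 20, 18, 31, 27, 29, 24, 30, 25] [.sub [19, 31, 20, 19, 18, 27, 20, 31, 24, 27, 30] [.out 2858]]],
  .sub [1, 2, 4, 1, 3, 4, 1, 3, 2, 1, 3, 4] [.sub [20, 25, 18, 18, 27, 31, 20, 30, 29] [.out 3689]],
  .sub [2, 1, 3, 1, 3, 4, 1, 3, 2, 1, 3, 4] [.out 4039],
  .sub [3, 2, 3, 1, 3, 4, 1, 3, 2, 1, 3, 4] [.out 3356],
  .sub [1, 2, 3, 1, 3, 4, 1, 3, 2, 1, 3, 4] [.sub [19, 29, 31, 18, 27, 20, 24, 25, 29] [.out 1820]],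
  .sub [4, 3, 2, 1, 3, 4, 1, 3, 2, 1, 3, 4] [.sub [24, 30, 31, 19, 18, 27, 25, 20, 24] [.out 2098]],
  .sub [2, 3, 2, 1, 3, 4, 1, 3, 2, 1, 3, 4] [.sub [31, 20, 19, 24, 18, 24, 27, 31, 27, 30, 29] [.sub [19, 20, 27, 18, 18, 25, 27, 24, 31, 30, 27] [.out 1700]]],
  .sub [4, 1, 2, 1, 3, 4, 1, 3, 2, 1, 3, 4] [.sub [30, 19, 29, 25, 18, 30, 24, 31, 20, 20, 30, 25] [.out 1300]],
  .sub [3, 1, 2, 1, 3, 4, 1, 3, 2, 1, 3, 4] [.sub [29, 20, 20, 18, 31, 25, 20, 24] [.out 1098]],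
  .sub [1, 4, 3, 2, 3, 4, 1, 3, 2, 1, 3, 4] [.sub [20, 27, 18, 31, 19, 29, 31, 25, 31, 20, 29, 25, 29, 29] [.out 3745]],
  .sub [2, 4, 3, 2, 3, 4, 1, 3, 2, 1, 3, 4] [.sub [31, 27, 29, 18, 30, 31, 24, 20, 30, 27, 29, 29] [.sub [18, 29, 18, 31, 18, 18, 31, 30, 24, 20, 27] [.out 3347]]],
  .sub [3, 1, 3, 2, 3, 4, 1, 3, 2, 1, 3, 4] [.sub [29, 25, 31, 20, 18, 30, 24, 31, 24, 25, 29] [.out 1669]],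
  .sub [1, 2, 3, 2, 3, 4, 1, 3, 2, 1, 3, 4] [.sub [27, 24, 27, 18, 31, 20, 27, 24, 29] [.out 2563]],
  .sub [3, 4, 1, 2, 3, 4, 1, 3, 2, 1, 3, 4] [.sub [30, 31, 19, 18, 19, 18, 25, 31, 25, 20, 20, 27, 29] [.out 1111]],
  .sub [4, 3, 1, 2, 3, 4, 1, 3, 2, 1, 3, 4] [.out 2154],
  .sub [1, 3, 1, 2, 3, 4, 1, 3, 2, 1, 3, 4] [.sub [18, 29, 20, 20, 18, 29, 20, 24, 27, 29, 29] [.out 3837]],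
  .sub [2, 3, 1, 2, 3, 4, 1, 3, 2, 1, 3, 4] [.out 3938],
  .sub [3, 1, 3, 2, 1, 4, 1, 3, 2, 1, 3, 4] [.sub [31, 18, 19, 18, 18, 24, 31, 27, 24, 20, 30, 29, 29] [.out 3861]],
  .sub [2, 1, 3, 2, 1, 4, 1, 3, 2, 1, 3, 4] [.out 2755]]

/-- Branches. -/
def kidsXPart21 : List Branch := [
  .sub [3, 4, 1, 2, 1, 4, 1, 3, 2, 1, 3, 4] [.sub [20, 20, 24, 24, 18, 24, 30, 24, 31, 29, 25] [.sub [18, 29, 25, 19, 18, 25, 27, 20, 31, 30, 29, 29] [.out 2771]]],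
  .sub [4, 3, 1, 2, 1, 4, 1, 3, 2, 1, 3, 4] [.out 2848],
  .sub [1, 3, 1, 2, 1, 4, 1, 3, 2, 1, 3, 4] [.sub [30, 27, 20, 19, 19, 18, 20, 27, 20, 31, 27, 29] [.out 610]],
  .sub [2, 3, 1, 2, 1, 4, 1, 3, 2, 1, 3, 4] [.sub [24, 31, 24, 18, 19, 27, 25, 24, 31, 20, 25] [.out 3634]],
  .sub [4, 1, 4, 3, 2, 4, 1, 3, 2, 1, 3, 4] [.sub [24, 18, 24, 24, 19, 27, 20, 31, 31, 30, 27, 29] [.out 2557]],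
  .sub [3, 1, 4, 3, 2, 4, 1, 3, 2, 1, 3, 4] [.sub [29, 20, 24, 24, 18, 20, 29, 31, 20, 27, 30, 29, 29] [.sub [18, 31, 31, 18, 18, 20, 24, 31, 25, 29, 29] [.out 2261]]],
  .sub [2, 1, 4, 3, 2, 4, 1, 3, 2, 1, 3, 4] [.out 2900],
  .sub [3, 2, 4, 3, 2, 4, 1, 3, 2, 1, 3, 4] [.out 3812],
  .sub [1, 2, 4, 3, 2, 4, 1, 3, 2, 1, 3, 4] [.sub [30, 20, 19, 31, 18, 24, 29, 24, 31, 27, 29] [.out 3524]],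
  .sub [3, 4, 1, 3, 2, 4, 1, 3, 2, 1, 3, 4] [.out 2385],
  .sub [2, 4, 1, 3, 2, 4, 1, 3, 2, 1, 3, 4] [.sub [31, 20, 18, 31, 24, 30, 31, 27, 30] [.sub [24, 24, 18, 30, 25, 31, 20, 25, 29, 29] [.out 903]]],
  .sub [4, 3, 1, 3, 2, 4, 1, 3, 2, 1, 3, 4] [.out 3329],
  .sub [2, 3, 1, 3, 2, 4, 1, 3, 2, 1, 3, 4] [.out 3419],
  .sub [1, 2, 1, 3, 2, 4, 1, 3, 2, 1, 3, 4] [.out 2983],
  .sub [4, 1, 2, 3, 2, 4, 1, 3, 2, 1, 3, 4] [.sub [29, 24, 27, 18, 18, 24, 30, 31, 20, 30, 29] [.out 3849]],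
  .sub [3, 1, 2, 3, 2, 4, 1, 3, 2, 1, 3, 4] [.sub [18, 19, 29, 20, 18, 20, 30, 20, 31, 29, 25, 29, 29] [.sub [30, 20, 25, 18, 20, 31, 31, 20, 30, 29, 29] [.out 2066]]],
  .sub [4, 3, 4, 1, 2, 4, 1, 3, 2, 1, 3, 4] [.sub [19, 25, 24, 19, 18, 31, 20, 27, 24] [.sub [31, 19, 24, 18, 18, 18, 29, 31, 31, 25, 20, 30, 25, 29, 29] [.out 1328]]],
  .sub [1, 3, 4, 1, 2, 4, 1, 3, 2, 1, 3, 4] [.sub [20, 25, 18, 29, 18, 24, 27, 31, 20, 20, 30, 27, 29, 29] [.out 3047]],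
  .sub [2, 3, 4, 1, 2, 4, 1, 3, 2, 1, 3, 4] [.sub [30, 29, 18, 18, 25, 20, 30, 20, 30, 29] [.out 1147]],
  .sub [1, 4, 3, 1, 2, 4, 1, 3, 2, 1, 3, 4] [.sub [18, 19, 19, 19, 29, 24, 30] [.out 122]],
  .sub [1, 4, 3, 2, 4, 3, 1, 3, 2, 1, 3, 4] [.out 3298],
  .sub [2, 4, 3, 2, 4, 3, 1, 3, 2, 1, 3, 4] [.out 936],
  .sub [2, 1, 3, 2, 4, 3, 1, 3, 2, 1, 3, 4] [.sub [25, 20, 19, 29, 18, 27, 29, 30, 24, 30, 29] [.out 2674]],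
  .sub [4, 3, 1, 2, 4, 3, 1, 3, 2, 1, 3, 4] [.sub [29, 30, 20, 19, 18, 25, 24, 20, 20, 27, 29] [.out 3884]],
  .sub [2, 3, 1, 2, 4, 3, 1, 3, 2, 1, 3, 4] [.out 1959],
  .sub [3, 2, 3, 4, 1, 3, 1, 3, 2, 1, 3, 4] [.sub [24, 24, 19, 27, 18, 25, 20, 20, 20, 20, 30, 25, 29, 29] [.sub [18, 29, 19, 18, 19, 31, 30, 27, 24, 30, 25, 29] [.out 2868]]],
  .sub [4, 3, 2, 4, 1, 3, 1, 3, 2, 1, 3, 4] [.out 3238],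
  .sub [1, 3, 2, 4, 1, 3, 1, 3, 2, 1, 3, 4] [.sub [24, 31, 19, 18, 27, 31, 31, 20, 29, 25] [.out 129]],
  .sub [2, 3, 2, 4, 1, 3, 1, 3, 2, 1, 3, 4] [.out 3391],
  .sub [4, 1, 2, 4, 1, 3, 1, 3, 2, 1, 3, 4] [.out 3162],
  .sub [3, 1, 2, 4, 1, 3, 1, 3, 2, 1, 3, 4] [.sub [20, 19, 27, 19, 18, 20, 20, 27, 31, 29, 25, 29, 29] [.sub [18, 29, 19, 18, 18, 20, 24, 30, 27] [.out 1199]]],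
  .sub [1, 4, 3, 2, 1, 3, 1, 3, 2, 1, 3, 4] [.out 3862],
  .sub [2, 4, 3, 2, 1, 3, 1, 3, 2, 1, 3, 4] [.out 4022],
  .sub [4, 1, 3, 2, 1, 3, 1, 3, 2, 1, 3, 4] [.out 3566],
  .sub [3, 1, 3, 2, 1, 3, 1, 3, 2, 1, 3, 4] [.out 3270],
  .sub [2, 1, 3, 2, 1, 3, 1, 3, 2, 1, 3, 4] [.sub [19, 24, 19, 18, 30, 29, 31, 31, 27, 30] [.out 3739]],
  .sub [1, 2, 3, 2, 1, 3, 1, 3, 2, 1, 3, 4] [.sub [20, 29, 18, 24, 18, 20, 25, 20, 30, 20, 27, 30, 29] [.out 3978]],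
  .sub [3, 4, 1, 2, 1, 3, 1, 3, 2, 1, 3, 4] [.out 923],
  .sub [1, 4, 1, 2, 1, 3, 1, 3, 2, 1, 3, 4] [.out 2939],
  .sub [4, 3, 1, 2, 1, 3, 1, 3, 2, 1, 3, 4] [.sub [30, 31, 20, 19, 25, 20, 20, 27, 29] [.out 621]],
  .sub [3, 2, 4, 3, 2, 3, 1, 3, 2, 1, 3, 4] [.out 3653],
  .sub [1, 2, 4, 3, 2, 3, 1, 3, 2, 1, 3, 4] [.out 3031],
  .sub [4, 1, 2, 3, 2, 3, 1, 3, 2, 1, 3, 4] [.out 385],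
  .sub [3, 1, 2, 3, 2, 3, 1, 3, 2, 1, 3, 4] [.sub [25, 18, 31, 18, 18, 24, 27, 20, 20, 20, 29, 25] [.out 2148]],
  .sub [2, 4, 3, 1, 2, 3, 1, 3, 2, 1, 3, 4] [.out 2413],
  .sub [3, 2, 3, 1, 2, 3, 1, 3, 2, 1, 3, 4] [.out 3617],
  .sub [1, 2, 3, 1, 2, 3, 1, 3, 2, 1, 3, 4] [.sub [20, 25, 19, 24, 19, 25, 31, 25, 31, 25, 29] [.out 3215]],
  .sub [3, 4, 1, 4, 3, 2, 1, 3, 2, 1, 3, 4] [.out 2945],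
  .sub [2, 4, 1, 4, 3, 2, 1, 3, 2, 1, 3, 4] [.sub [25, 18, 19, 19, 18, 25, 24, 31, 24, 25, 29, 29] [.out 1708]],
  .sub [4, 3, 1, 4, 3, 2, 1, 3, 2, 1, 3, 4] [.out 3528],
  .sub [1, 3, 1, 4, 3, 2, 1, 3, 2, 1, 3, 4] [.out 1981],
  .sub [2, 3, 1, 4, 3, 2, 1, 3, 2, 1, 3, 4] [.out 2921],
  .sub [1, 2, 1, 4, 3, 2, 1, 3, 2, 1, 3, 4] [.out 1804],
  .sub [1, 3, 2, 4, 3, 2, 1, 3, 2, 1, 3, 4] [.sub [25, 18, 19, 18, 24, 27, 30] [.sub [18, 31, 31, 19, 19, 31, 31, 30, 20, 30, 29, 29] [.done 3]]],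
  .sub [2, 3, 2, 4, 3, 2, 1, 3, 2, 1, 3, 4] [.sub [20, 29, 18, 27, 24, 20, 20, 25] [.out 3652]],
  .sub [4, 1, 2, 4, 3, 2, 1, 3, 2, 1, 3, 4] [.out 3629],
  .sub [3, 1, 2, 4, 3, 2, 1, 3, 2, 1, 3, 4] [.out 3280],
  .sub [4, 3, 4, 1, 3, 2, 1, 3, 2, 1, 3, 4] [.out 2635],
  .sub [1, 3, 4, 1, 3, 2, 1, 3, 2, 1, 3, 4] [.sub [24, 20, 24, 18, 19, 31, 25, 20, 31, 24, 25, 29] [.sub [27, 19, 30, 25, 20, 18, 27, 27, 31, 31, 30, 29] [.out 2624]]],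
  .sub [2, 3, 4, 1, 3, 2, 1, 3, 2, 1, 3, 4] [.out 3810],
  .sub [2, 1, 4, 1, 3, 2, 1, 3, 2, 1, 3, 4] [.sub [19, 27, 19, 19, 19, 31, 29, 20, 20, 20, 27, 30, 29, 29] [.sub [24, 25, 19, 30, 27, 27, 31, 30, 27] [.out 1456]]],
  .sub [1, 4, 3, 1, 3, 2, 1, 3, 2, 1, 3, 4] [.sub [31, 25, 19, 24, 19, 29, 31, 31, 30, 27] [.sub [24, 19, 19, 24, 18, 31, 27, 30, 20, 20, 25] [.out 2613]]],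
  .sub [4, 1, 3, 1, 3, 2, 1, 3, 2, 1, 3, 4] [.sub [29, 31, 27, 18, 27, 20, 31, 30, 20, 30, 27, 29] [.out 3395]],
  .sub [2, 1, 3, 1, 3, 2, 1, 3, 2, 1, 3, 4] [.out 3707]]

/-- Branches. -/
def kidsXPart22 : List Branch := [
  .sub [4, 1, 2, 1, 3, 2, 1, 3, 2, 1, 3, 4] [.sub [20, 20, 27, 19, 29, 30, 20, 31, 27, 29] [.out 1842]],
  .sub [3, 4, 1, 2, 3, 2, 1, 3, 2, 1, 3, 4] [.sub [30, 24, 25, 19, 27, 27, 24, 27, 24, 27] [.out 3089]],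
  .sub [4, 3, 1, 2, 3, 2, 1, 3, 2, 1, 3, 4] [.sub [20, 31, 18, 18, 19, 25, 27, 25, 31] [.out 3579]],
  .sub [1, 3, 1, 2, 3, 2, 1, 3, 2, 1, 3, 4] [.sub [30, 24, 25, 19, 27, 27, 24, 27, 24, 27] [.out 2100]],
  .sub [1, 4, 3, 4, 1, 2, 1, 3, 2, 1, 3, 4] [.sub [27, 19, 25, 19, 18, 27, 31, 25, 31, 30, 27, 29, 29] [.sub [18, 19, 19, 29, 25, 20, 24] [.out 2168]]],
  .sub [4, 1, 3, 4, 1, 2, 1, 3, 2, 1, 3, 4] [.sub [31, 18, 27, 27, 24, 25] [.out 260]],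
  .sub [3, 1, 3, 4, 1, 2, 1, 3, 2, 1, 3, 4] [.sub [18, 24, 29, 20, 18, 18, 24, 30, 25, 20, 30, 27, 29, 29] [.out 216]],
  .sub [3, 1, 4, 3, 1, 2, 1, 3, 2, 1, 3, 4] [.out 3475],
  .sub [3, 2, 4, 3, 1, 2, 1, 3, 2, 1, 3, 4] [.out 2367],
  .sub [3, 4, 1, 3, 1, 2, 1, 3, 2, 1, 3, 4] [.sub [24, 18, 30, 18, 18, 27, 31, 20, 27, 30, 29] [.out 3453]],
  .sub [1, 4, 1, 3, 1, 2, 1, 3, 2, 1, 3, 4] [.out 1088],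
  .sub [2, 4, 1, 3, 1, 2, 1, 3, 2, 1, 3, 4] [.out 2224],
  .sub [3, 2, 1, 3, 1, 2, 1, 3, 2, 1, 3, 4] [.out 3370],
  .sub [1, 2, 1, 3, 1, 2, 1, 3, 2, 1, 3, 4] [.out 3832],
  .sub [4, 3, 2, 3, 1, 2, 1, 3, 2, 1, 3, 4] [.sub [18, 19, 18, 18, 18, 31, 27, 25, 31, 30, 27] [.sub [19, 25, 19, 24, 19, 30, 31, 24, 30, 27, 29, 29] [.out 2167]]],
  .sub [4, 1, 2, 3, 1, 2, 1, 3, 2, 1, 3, 4] [.sub [31, 20, 19, 24, 18, 24, 27, 31, 27, 30, 29] [.out 3514]],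
  .sub [3, 1, 2, 3, 1, 2, 1, 3, 2, 1, 3, 4] [.out 1228],
  .sub [2, 1, 4, 3, 4, 1, 2, 3, 2, 1, 3, 4] [.sub [30, 19, 30, 19, 18, 25, 27, 31, 30, 29] [.out 1697]],
  .sub [3, 2, 4, 3, 4, 1, 2, 3, 2, 1, 3, 4] [.sub [19, 20, 29, 18, 20, 31, 24, 20, 20, 30, 29, 29] [.out 3565]],
  .sub [1, 2, 4, 3, 4, 1, 2, 3, 2, 1, 3, 4] [.sub [31, 27, 19, 31, 18, 25, 31, 31, 20, 25] [.out 342]],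
  .sub [3, 4, 1, 3, 4, 1, 2, 3, 2, 1, 3, 4] [.sub [29, 25, 18, 20, 19, 18, 25, 27, 20, 31, 30, 25] [.out 3147]],
  .sub [1, 4, 1, 3, 4, 1, 2, 3, 2, 1, 3, 4] [.sub [20, 25, 20, 18, 27, 31, 25, 31, 20, 30, 25] [.out 4030]],
  .sub [4, 3, 1, 3, 4, 1, 2, 3, 2, 1, 3, 4] [.sub [31, 27, 19, 18, 24, 29, 24, 31, 20, 27, 30] [.out 44]],
  .sub [2, 3, 1, 3, 4, 1, 2, 3, 2, 1, 3, 4] [.out 1785],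
  .sub [4, 3, 2, 4, 3, 1, 2, 3, 2, 1, 3, 4] [.out 2382],
  .sub [1, 3, 2, 4, 3, 1, 2, 3, 2, 1, 3, 4] [.out 2872],
  .sub [2, 3, 2, 4, 3, 1, 2, 3, 2, 1, 3, 4] [.out 1898],
  .sub [3, 1, 2, 4, 3, 1, 2, 3, 2, 1, 3, 4] [.out 2732],
  .sub [1, 3, 4, 1, 3, 1, 2, 3, 2, 1, 3, 4] [.out 2732],
  .sub [2, 3, 4, 1, 3, 1, 2, 3, 2, 1, 3, 4] [.out 2000],
  .sub [1, 4, 3, 2, 3, 1, 2, 3, 2, 1, 3, 4] [.sub [24, 18, 31, 19, 25, 24, 30] [.sub [18, 29, 18, 24, 18, 27, 27, 24, 30, 25, 29, 29] [.done 26]]],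
  .sub [3, 1, 3, 2, 3, 1, 2, 3, 2, 1, 3, 4] [.sub [25, 24, 29, 18, 18, 25, 31, 20, 24, 30, 27, 29, 29] [.out 1565]],
  .sub [3, 4, 1, 2, 3, 1, 2, 3, 2, 1, 3, 4] [.sub [31, 27, 19, 18, 24, 29, 24, 31, 20, 27, 30] [.out 1951]],
  .sub [1, 4, 1, 2, 3, 1, 2, 3, 2, 1, 3, 4] [.out 2908],
  .sub [4, 3, 1, 2, 3, 1, 2, 3, 2, 1, 3, 4] [.out 3583],
  .sub [1, 3, 1, 2, 3, 1, 2, 3, 2, 1, 3, 4] [.sub [18, 30, 18, 18, 27, 18, 31, 24, 29, 24, 30, 25] [.out 3348]],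
  .sub [2, 3, 1, 2, 3, 1, 2, 3, 2, 1, 3, 4] [.out 4031],
  .sub [3, 2, 1, 4, 1, 4, 3, 1, 2, 1, 3, 4] [.sub [30, 20, 20, 18, 20, 24, 27, 24, 20, 27, 29] [.out 2289]],
  .sub [1, 2, 1, 4, 1, 4, 3, 1, 2, 1, 3, 4] [.sub [31, 27, 19, 18, 24, 29, 24, 31, 20, 27, 30] [.sub [19, 24, 25, 19, 18, 31, 31, 27, 20, 20, 27, 29, 29] [.out 538]]],
  .sub [4, 3, 2, 4, 1, 4, 3, 1, 2, 1, 3, 4] [.sub [25, 24, 27, 18, 19, 27, 27, 31, 30, 29, 29] [.out 3147]],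
  .sub [1, 3, 2, 4, 1, 4, 3, 1, 2, 1, 3, 4] [.sub [24, 27, 20, 19, 18, 31, 20, 31, 20, 25] [.out 2740]],
  .sub [2, 3, 2, 4, 1, 4, 3, 1, 2, 1, 3, 4] [.sub [20, 18, 31, 25, 18, 20, 30, 20, 24, 30, 27, 29] [.sub [18, 31, 18, 18, 20, 29, 24, 30, 29, 29] [.out 4005]]],
  .sub [4, 1, 2, 4, 1, 4, 3, 1, 2, 1, 3, 4] [.sub [27, 20, 19, 20, 18, 27, 29, 25, 24, 29, 25] [.sub [30, 20, 29, 19, 18, 25, 20, 30, 25, 31, 30, 29] [.out 2239]]],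
  .sub [3, 1, 2, 4, 1, 4, 3, 1, 2, 1, 3, 4] [.sub [31, 18, 25, 31, 19, 18, 24, 29, 25, 31, 24, 25, 29, 29] [.out 3745]],
  .sub [3, 2, 1, 3, 1, 4, 3, 1, 2, 1, 3, 4] [.sub [18, 18, 19, 20, 19, 29, 31, 30, 20, 24, 27] [.out 174]],
  .sub [4, 1, 2, 3, 1, 4, 3, 1, 2, 1, 3, 4] [.out 1095],
  .sub [1, 4, 3, 2, 1, 4, 3, 1, 2, 1, 3, 4] [.out 3163],
  .sub [2, 4, 3, 2, 1, 4, 3, 1, 2, 1, 3, 4] [.sub [24, 20, 24, 18, 30, 24, 30, 31, 30, 25] [.out 2872]],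
  .sub [4, 1, 3, 2, 1, 4, 3, 1, 2, 1, 3, 4] [.out 2930],
  .sub [2, 1, 3, 2, 1, 4, 3, 1, 2, 1, 3, 4] [.sub [18, 27, 20, 18, 29, 24, 20, 31, 27, 29] [.out 95]],
  .sub [1, 2, 3, 2, 1, 4, 3, 1, 2, 1, 3, 4] [.out 2973],
  .sub [1, 4, 1, 2, 1, 4, 3, 1, 2, 1, 3, 4] [.sub [24, 20, 20, 18, 18, 31, 30, 27, 31, 27, 30] [.out 2607]],
  .sub [4, 3, 1, 2, 1, 4, 3, 1, 2, 1, 3, 4] [.sub [27, 18, 31, 29, 18, 29, 31, 24, 20, 27, 30, 29] [.out 1954]],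
  .sub [2, 3, 1, 2, 1, 4, 3, 1, 2, 1, 3, 4] [.sub [29, 25, 18, 31, 19, 20, 31, 24, 31, 29, 25] [.out 2886]],
  .sub [4, 1, 4, 3, 2, 4, 3, 1, 2, 1, 3, 4] [.out 3766],
  .sub [3, 1, 4, 3, 2, 4, 3, 1, 2, 1, 3, 4] [.out 2274],
  .sub [3, 4, 1, 3, 2, 4, 3, 1, 2, 1, 3, 4] [.out 1320],
  .sub [1, 4, 1, 3, 2, 4, 3, 1, 2, 1, 3, 4] [.sub [30, 19, 18, 24, 18, 30, 31, 31] [.out 302]],
  .sub [2, 4, 1, 3, 2, 4, 3, 1, 2, 1, 3, 4] [.sub [30, 20, 18, 18, 19, 24, 29, 25, 24, 20, 27, 29, 29] [.out 787]],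
  .sub [4, 3, 1, 3, 2, 4, 3, 1, 2, 1, 3, 4] [.out 3727],
  .sub [1, 3, 1, 3, 2, 4, 3, 1, 2, 1, 3, 4] [.out 596],
  .sub [2, 3, 1, 3, 2, 4, 3, 1, 2, 1, 3, 4] [.sub [31, 18, 18, 20, 25, 27, 24, 27, 30, 29, 29] [.out 3685]],
  .sub [3, 2, 1, 3, 2, 4, 3, 1, 2, 1, 3, 4] [.sub [31, 18, 29, 18, 18, 29, 25, 24, 27, 24, 27, 30] [.out 707]],
  .sub [1, 2, 1, 3, 2, 4, 3, 1, 2, 1, 3, 4] [.out 3492]]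

/-- Branches. -/
def kidsXPart23 : List Branch := [
  .sub [3, 1, 4, 1, 2, 4, 3, 1, 2, 1, 3, 4] [.sub [19, 31, 25, 18, 18, 24, 27, 20, 20, 20, 30, 25] [.out 3200]],
  .sub [2, 1, 4, 1, 2, 4, 3, 1, 2, 1, 3, 4] [.sub [30, 18, 19, 18, 20, 30, 25, 20, 30, 25, 29, 29] [.sub [20, 24, 18, 24, 29, 24, 31, 25, 29] [.bad [31, 27, 19, 18, 18, 18, 31, 20, 30, 24, 27, 30] 1]]],
  .sub [4, 1, 3, 1, 2, 4, 3, 1, 2, 1, 3, 4] [.out 3880],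
  .sub [2, 1, 3, 1, 2, 4, 3, 1, 2, 1, 3, 4] [.sub [19, 18, 19, 18, 18, 29, 24, 30, 31, 20, 30, 27] [.sub [20, 30, 18, 18, 19, 31, 31, 31] [.out 1163]]],
  .sub [3, 2, 3, 1, 2, 4, 3, 1, 2, 1, 3, 4] [.out 3256],
  .sub [4, 3, 2, 3, 4, 1, 3, 1, 2, 1, 3, 4] [.out 3387],
  .sub [1, 3, 2, 3, 4, 1, 3, 1, 2, 1, 3, 4] [.out 3225],
  .sub [2, 3, 2, 3, 4, 1, 3, 1, 2, 1, 3, 4] [.sub [25, 18, 30, 20, 18, 27, 20, 24, 27, 30, 29, 29] [.out 2307]],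
  .sub [3, 2, 3, 1, 4, 1, 3, 1, 2, 1, 3, 4] [.out 2801],
  .sub [4, 3, 2, 1, 4, 1, 3, 1, 2, 1, 3, 4] [.out 3804],
  .sub [1, 3, 2, 1, 4, 1, 3, 1, 2, 1, 3, 4] [.sub [20, 31, 20, 19, 20, 31, 20, 25, 20, 30, 27] [.out 1110]],
  .sub [2, 3, 2, 1, 4, 1, 3, 1, 2, 1, 3, 4] [.sub [18, 19, 19, 19, 29, 24, 30] [.sub [27, 25, 19, 19, 19, 31, 29, 20, 20, 20, 29, 29] [.out 538]]],
  .sub [4, 1, 2, 1, 4, 1, 3, 1, 2, 1, 3, 4] [.sub [30, 19, 18, 18, 19, 24, 31, 20, 20, 27, 30, 29, 29] [.out 3876]],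
  .sub [3, 1, 2, 1, 4, 1, 3, 1, 2, 1, 3, 4] [.sub [20, 25, 19, 18, 27, 30, 20, 20, 27] [.out 408]],
  .sub [1, 4, 3, 2, 4, 1, 3, 1, 2, 1, 3, 4] [.sub [31, 20, 27, 18, 30, 20, 30, 24, 27] [.out 3712]],
  .sub [2, 4, 3, 2, 4, 1, 3, 1, 2, 1, 3, 4] [.out 2747],
  .sub [1, 2, 3, 2, 4, 1, 3, 1, 2, 1, 3, 4] [.sub [31, 20, 24, 19, 24, 20, 27, 24, 27, 29, 29] [.out 357]],
  .sub [3, 4, 1, 2, 4, 1, 3, 1, 2, 1, 3, 4] [.out 2386],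
  .sub [1, 4, 1, 2, 4, 1, 3, 1, 2, 1, 3, 4] [.sub [29, 19, 19, 18, 31, 29, 20, 24, 20, 30, 27, 29] [.out 671]],
  .sub [4, 3, 1, 2, 4, 1, 3, 1, 2, 1, 3, 4] [.sub [18, 18, 31, 24, 18, 18, 30, 27, 20, 31, 30, 29, 29] [.out 2303]],
  .sub [2, 3, 1, 2, 4, 1, 3, 1, 2, 1, 3, 4] [.out 3644],
  .sub [4, 1, 4, 3, 2, 1, 3, 1, 2, 1, 3, 4] [.out 2905],
  .sub [3, 1, 4, 3, 2, 1, 3, 1, 2, 1, 3, 4] [.out 3413],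
  .sub [2, 1, 4, 3, 2, 1, 3, 1, 2, 1, 3, 4] [.out 3269],
  .sub [3, 2, 4, 3, 2, 1, 3, 1, 2, 1, 3, 4] [.out 3748],
  .sub [1, 2, 4, 3, 2, 1, 3, 1, 2, 1, 3, 4] [.sub [24, 29, 18, 18, 19, 31, 25, 20, 24, 20, 30, 29] [.sub [19, 18, 25, 19, 31, 20, 31, 31, 25] [.out 1797]]],
  .sub [3, 4, 1, 3, 2, 1, 3, 1, 2, 1, 3, 4] [.sub [24, 29, 18, 24, 18, 27, 30, 27, 24, 30, 25, 29, 29] [.out 1255]],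
  .sub [1, 4, 1, 3, 2, 1, 3, 1, 2, 1, 3, 4] [.sub [18, 29, 18, 18, 29, 25, 31, 24, 27, 29, 29] [.out 2719]],
  .sub [2, 4, 1, 3, 2, 1, 3, 1, 2, 1, 3, 4] [.sub [25, 18, 19, 19, 18, 25, 24, 31, 24, 25, 29, 29] [.out 2982]],
  .sub [4, 3, 1, 3, 2, 1, 3, 1, 2, 1, 3, 4] [.sub [25, 18, 18, 18, 20, 30, 20, 20, 30, 27] [.out 1293]],
  .sub [1, 3, 1, 3, 2, 1, 3, 1, 2, 1, 3, 4] [.out 2756],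
  .sub [3, 2, 1, 3, 2, 1, 3, 1, 2, 1, 3, 4] [.out 1245],
  .sub [4, 1, 2, 3, 2, 1, 3, 1, 2, 1, 3, 4] [.sub [31, 31, 30, 19, 18, 30, 29, 24] [.sub [27, 20, 31, 18, 31, 25, 20, 24, 20, 30, 27] [.out 1999]]],
  .sub [3, 1, 2, 3, 2, 1, 3, 1, 2, 1, 3, 4] [.out 3562],
  .sub [4, 3, 4, 1, 2, 1, 3, 1, 2, 1, 3, 4] [.sub [18, 29, 19, 31, 18, 20, 25, 20, 31, 29, 25] [.out 414]],
  .sub [1, 3, 4, 1, 2, 1, 3, 1, 2, 1, 3, 4] [.sub [20, 18, 30, 31, 19, 20, 30, 31, 20, 29, 29] [.out 3163]],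
  .sub [3, 1, 4, 1, 2, 1, 3, 1, 2, 1, 3, 4] [.sub [29, 19, 29, 18, 18, 27, 29, 31, 20, 27, 29, 29] [.out 1833]],
  .sub [2, 1, 4, 1, 2, 1, 3, 1, 2, 1, 3, 4] [.sub [31, 27, 19, 18, 24, 29, 24, 31, 20, 27, 30] [.out 159]],
  .sub [1, 4, 3, 1, 2, 1, 3, 1, 2, 1, 3, 4] [.sub [24, 20, 20, 19, 30, 31, 27, 20, 20, 27, 30, 29] [.out 3830]],
  .sub [2, 4, 3, 1, 2, 1, 3, 1, 2, 1, 3, 4] [.out 2352],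
  .sub [4, 1, 3, 1, 2, 1, 3, 1, 2, 1, 3, 4] [.out 1992],
  .sub [2, 1, 3, 1, 2, 1, 3, 1, 2, 1, 3, 4] [.out 1095],
  .sub [1, 2, 3, 1, 2, 1, 3, 1, 2, 1, 3, 4] [.sub [18, 25, 31, 29, 18, 25, 24, 20, 25] [.out 3040]],
  .sub [1, 4, 1, 4, 3, 2, 3, 1, 2, 1, 3, 4] [.sub [31, 25, 31, 18, 25, 24, 29, 20, 24, 30, 29] [.sub [31, 31, 27, 18, 18, 29, 31, 30, 24, 30] [.out 1509]]],
  .sub [2, 3, 1, 4, 3, 2, 3, 1, 2, 1, 3, 4] [.sub [18, 29, 24, 27, 18, 20, 20, 20, 20, 29, 25] [.sub [24, 19, 25, 19, 24, 24, 27, 20, 24] [.out 3669]]],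
  .sub [3, 2, 1, 4, 3, 2, 3, 1, 2, 1, 3, 4] [.out 3524],
  .sub [4, 3, 4, 1, 3, 2, 3, 1, 2, 1, 3, 4] [.out 3644],
  .sub [1, 3, 4, 1, 3, 2, 3, 1, 2, 1, 3, 4] [.out 1759],
  .sub [3, 1, 4, 1, 3, 2, 3, 1, 2, 1, 3, 4] [.sub [31, 24, 25, 19, 18, 24, 20, 24, 20, 29, 25, 29] [.sub [] [.out 2261]]],
  .sub [3, 2, 4, 1, 3, 2, 3, 1, 2, 1, 3, 4] [.out 936],
  .sub [1, 4, 3, 1, 3, 2, 3, 1, 2, 1, 3, 4] [.sub [25, 18, 18, 19, 18, 25, 31, 29, 30, 24, 27, 29, 29] [.out 3818]],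
  .sub [4, 1, 3, 1, 3, 2, 3, 1, 2, 1, 3, 4] [.out 4004],
  .sub [2, 1, 3, 1, 3, 2, 3, 1, 2, 1, 3, 4] [.sub [19, 24, 20, 31, 18, 30, 31, 31, 20, 24, 29, 25, 29, 29] [.sub [25, 18, 19, 31, 18, 25, 24, 24, 20, 20, 27, 29] [.out 2131]]],
  .sub [1, 4, 3, 4, 1, 2, 3, 1, 2, 1, 3, 4] [.out 2749],
  .sub [2, 4, 3, 4, 1, 2, 3, 1, 2, 1, 3, 4] [.sub [29, 24, 27, 19, 18, 30, 27, 24, 20, 20, 30, 29] [.out 2368]],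
  .sub [4, 1, 3, 4, 1, 2, 3, 1, 2, 1, 3, 4] [.sub [27, 18, 27, 19, 18, 29, 25, 20, 20, 30, 25] [.sub [18, 24, 29, 18, 19, 30, 24, 25, 24, 20, 30, 25, 29] [.out 1754]]],
  .sub [2, 1, 3, 4, 1, 2, 3, 1, 2, 1, 3, 4] [.sub [25, 19, 18, 20, 18, 18, 27, 31, 31, 20, 27] [.out 2900]],
  .sub [1, 2, 3, 4, 1, 2, 3, 1, 2, 1, 3, 4] [.sub [24, 31, 24, 18, 19, 27, 25, 24, 31, 20, 25] [.out 1898]],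
  .sub [4, 3, 1, 4, 1, 2, 3, 1, 2, 1, 3, 4] [.sub [18, 18, 20, 31, 18, 18, 24, 29, 20, 31, 29, 25, 29] [.sub [19, 29, 19, 29, 18, 30, 27, 31, 27, 29, 29] [.out 2868]]],
  .sub [1, 3, 1, 4, 1, 2, 3, 1, 2, 1, 3, 4] [.out 3774],
  .sub [2, 3, 1, 4, 1, 2, 3, 1, 2, 1, 3, 4] [.out 3046],
  .sub [3, 2, 1, 4, 1, 2, 3, 1, 2, 1, 3, 4] [.sub [27, 27, 18, 18, 19, 30, 24, 31, 31, 20, 30, 25] [.out 2101]],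
  .sub [4, 1, 4, 3, 1, 2, 3, 1, 2, 1, 3, 4] [.sub [19, 19, 20, 31, 19, 30, 24, 20, 30, 25] [.sub [19, 20, 18, 25, 19, 31, 27, 25, 31, 20, 27, 29] [.out 532]]],
  .sub [3, 1, 4, 3, 1, 2, 3, 1, 2, 1, 3, 4] [.out 2496]]

/-- Branches. -/
def kidsXPart24 : List Branch := [
  .sub [2, 1, 4, 3, 1, 2, 3, 1, 2, 1, 3, 4] [.sub [24, 19, 24, 31, 18, 24, 27, 24, 29, 25, 29, 29] [.out 3191]],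
  .sub [3, 2, 4, 3, 1, 2, 3, 1, 2, 1, 3, 4] [.out 2872],
  .sub [3, 4, 1, 3, 1, 2, 3, 1, 2, 1, 3, 4] [.out 3631],
  .sub [1, 4, 1, 3, 1, 2, 3, 1, 2, 1, 3, 4] [.sub [25, 20, 19, 19, 25, 24, 31, 31, 27, 29] [.out 2034]],
  .sub [2, 4, 1, 3, 1, 2, 3, 1, 2, 1, 3, 4] [.out 2867],
  .sub [3, 2, 1, 3, 1, 2, 3, 1, 2, 1, 3, 4] [.out 1330],
  .sub [4, 3, 2, 3, 1, 2, 3, 1, 2, 1, 3, 4] [.sub [31, 20, 19, 30, 25, 31, 25, 24] [.out 1844]],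
  .sub [4, 1, 2, 3, 1, 2, 3, 1, 2, 1, 3, 4] [.sub [29, 25, 19, 18, 18, 18, 24, 20, 25, 20, 20, 30, 27] [.out 1483]],
  .sub [3, 1, 2, 3, 1, 2, 3, 1, 2, 1, 3, 4] [.sub [27, 18, 30, 31, 19, 20, 31, 31, 20, 25, 29] [.out 2927]],
  .sub [4, 3, 2, 1, 3, 4, 1, 4, 3, 2, 3, 4] [.sub [18, 20, 19, 18, 20, 18, 24, 25, 24, 20, 20, 30, 27, 29, 29] [.out 2154]],
  .sub [1, 3, 2, 1, 3, 4, 1, 4, 3, 2, 3, 4] [.out 3603],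
  .sub [2, 3, 2, 1, 3, 4, 1, 4, 3, 2, 3, 4] [.sub [20, 31, 19, 24, 18, 24, 27, 24, 20, 30, 25, 29] [.out 3963]],
  .sub [3, 1, 3, 2, 4, 3, 1, 4, 3, 2, 3, 4] [.sub [18, 31, 18, 27, 20, 20, 24] [.out 905]],
  .sub [3, 4, 1, 2, 4, 3, 1, 4, 3, 2, 3, 4] [.sub [20, 18, 25, 20, 19, 29, 24, 20, 27, 29] [.out 1370]],
  .sub [1, 4, 1, 2, 4, 3, 1, 4, 3, 2, 3, 4] [.out 3349],
  .sub [4, 3, 1, 2, 4, 3, 1, 4, 3, 2, 3, 4] [.out 1605],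
  .sub [1, 3, 1, 2, 4, 3, 1, 4, 3, 2, 3, 4] [.sub [18, 24, 19, 25, 19, 29, 30, 24, 20, 30, 29, 29] [.out 1895]],
  .sub [2, 3, 1, 2, 4, 3, 1, 4, 3, 2, 3, 4] [.out 3419],
  .sub [3, 2, 3, 4, 1, 3, 1, 4, 3, 2, 3, 4] [.out 936],
  .sub [1, 2, 3, 4, 1, 3, 1, 4, 3, 2, 3, 4] [.out 1353],
  .sub [4, 3, 2, 4, 1, 3, 1, 4, 3, 2, 3, 4] [.sub [24, 31, 30, 19, 18, 31, 27, 25, 20, 20, 27] [.sub [31, 31, 27, 18, 25, 24, 27, 25, 31, 30, 29, 29] [.out 733]]],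
  .sub [1, 3, 2, 4, 1, 3, 1, 4, 3, 2, 3, 4] [.sub [30, 20, 24, 18, 19, 31, 20, 20, 30, 27, 29, 29] [.out 88]],
  .sub [2, 3, 2, 4, 1, 3, 1, 4, 3, 2, 3, 4] [.out 3794],
  .sub [4, 1, 2, 4, 1, 3, 1, 4, 3, 2, 3, 4] [.sub [30, 31, 19, 19, 19, 20, 31, 20, 20, 27, 29, 29] [.out 3667]],
  .sub [3, 1, 2, 4, 1, 3, 1, 4, 3, 2, 3, 4] [.out 2543],
  .sub [1, 4, 3, 2, 1, 3, 1, 4, 3, 2, 3, 4] [.sub [24, 20, 18, 18, 31, 31, 31, 30, 27, 29] [.out 2283]],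
  .sub [2, 4, 3, 2, 1, 3, 1, 4, 3, 2, 3, 4] [.sub [19, 29, 18, 18, 19, 20, 30, 25, 24, 30, 25, 29, 29] [.out 3955]],
  .sub [4, 1, 3, 2, 1, 3, 1, 4, 3, 2, 3, 4] [.out 2078],
  .sub [3, 1, 3, 2, 1, 3, 1, 4, 3, 2, 3, 4] [.out 3098],
  .sub [2, 1, 3, 2, 1, 3, 1, 4, 3, 2, 3, 4] [.out 2729],
  .sub [1, 2, 3, 2, 1, 3, 1, 4, 3, 2, 3, 4] [.sub [27, 18, 30, 20, 18, 31, 24, 20, 30, 25, 29] [.out 3073]],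
  .sub [4, 3, 1, 2, 1, 3, 1, 4, 3, 2, 3, 4] [.sub [25, 19, 19, 20, 19, 24, 31, 24, 20, 20, 30, 25, 29, 29] [.sub [31, 25, 18, 24, 18, 24, 20, 25, 20, 20, 29, 25, 29] [.out 1230]]],
  .sub [1, 3, 1, 2, 1, 3, 1, 4, 3, 2, 3, 4] [.out 3204],
  .sub [3, 4, 1, 3, 2, 3, 1, 4, 3, 2, 3, 4] [.sub [30, 18, 24, 18, 30, 27, 27, 24, 27, 29] [.sub [30, 24, 18, 24, 18, 29, 24, 27, 24] [.out 4025]]],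
  .sub [2, 4, 1, 3, 2, 3, 1, 4, 3, 2, 3, 4] [.sub [29, 18, 29, 18, 19, 18, 20, 24, 31, 25, 20, 30, 25, 29, 29] [.out 2726]],
  .sub [4, 3, 1, 3, 2, 3, 1, 4, 3, 2, 3, 4] [.sub [29, 18, 29, 18, 30, 24, 20, 27, 24, 27, 30, 29, 29] [.out 3708]],
  .sub [1, 3, 1, 3, 2, 3, 1, 4, 3, 2, 3, 4] [.sub [27, 19, 25, 19, 18, 27, 31, 25, 31, 30, 27, 29, 29] [.out 3494]],
  .sub [2, 3, 1, 3, 2, 3, 1, 4, 3, 2, 3, 4] [.out 3763],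
  .sub [4, 3, 4, 1, 2, 3, 1, 4, 3, 2, 3, 4] [.sub [18, 24, 30, 18, 19, 20, 20, 20, 20] [.out 3735]],
  .sub [1, 3, 4, 1, 2, 3, 1, 4, 3, 2, 3, 4] [.sub [20, 30, 18, 18, 19, 24, 27, 31, 25, 20, 30] [.out 3478]],
  .sub [2, 3, 4, 1, 2, 3, 1, 4, 3, 2, 3, 4] [.sub [18, 24, 31, 18, 20, 20, 29, 24, 27, 30, 29, 29] [.out 1944]],
  .sub [3, 1, 4, 1, 2, 3, 1, 4, 3, 2, 3, 4] [.sub [24, 20, 25, 19, 18, 31, 31, 20, 20, 27, 30, 29, 29] [.sub [19, 18, 19, 29, 18, 30, 20, 24, 20, 30, 29, 29] [.out 2016]]],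
  .sub [2, 1, 4, 1, 2, 3, 1, 4, 3, 2, 3, 4] [.sub [20, 24, 29, 18, 20, 31, 24, 20, 30, 27] [.out 1665]],
  .sub [1, 4, 3, 1, 2, 3, 1, 4, 3, 2, 3, 4] [.sub [24, 31, 31, 19, 18, 24, 30, 31, 24, 20, 25, 29, 29] [.out 1783]],
  .sub [2, 4, 3, 1, 2, 3, 1, 4, 3, 2, 3, 4] [.out 3016],
  .sub [4, 1, 3, 1, 2, 3, 1, 4, 3, 2, 3, 4] [.sub [29, 24, 18, 19, 18, 30, 31, 30, 20, 30, 29] [.out 2776]],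
  .sub [2, 1, 3, 1, 2, 3, 1, 4, 3, 2, 3, 4] [.sub [18, 31, 18, 20, 18, 18, 24, 20, 20, 29, 25, 29, 29] [.sub [30, 31, 19, 18, 30, 25, 20, 29, 25, 29] [.out 2875]]],
  .sub [1, 2, 3, 1, 2, 3, 1, 4, 3, 2, 3, 4] [.out 1075],
  .sub [2, 4, 1, 4, 3, 2, 1, 4, 3, 2, 3, 4] [.out 2905],
  .sub [1, 3, 1, 4, 3, 2, 1, 4, 3, 2, 3, 4] [.sub [20, 25, 18, 19, 20, 24, 25, 29, 29] [.sub [31, 19, 18, 20, 18, 30, 31, 24, 25, 20, 29, 25] [.bad [19, 25, 27, 18, 25, 31, 25, 31, 30, 25, 29, 29] 1]]],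
  .sub [3, 2, 1, 4, 3, 2, 1, 4, 3, 2, 3, 4] [.sub [27, 18, 25, 18, 18, 29, 31, 30, 24, 27, 30, 29, 29] [.out 2199]],
  .sub [1, 2, 1, 4, 3, 2, 1, 4, 3, 2, 3, 4] [.out 3742],
  .sub [1, 3, 2, 4, 3, 2, 1, 4, 3, 2, 3, 4] [.sub [25, 31, 30, 19, 18, 24, 29, 25, 24, 20, 25] [.sub [27, 31, 19, 19, 25, 24, 20, 29, 25] [.out 2659]]],
  .sub [4, 1, 2, 4, 3, 2, 1, 4, 3, 2, 3, 4] [.sub [29, 31, 24, 18, 19, 25, 20, 30, 20, 29, 29] [.sub [29, 20, 19, 18, 19, 24, 31, 20, 27, 30] [.out 503]]],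
  .sub [3, 1, 2, 4, 3, 2, 1, 4, 3, 2, 3, 4] [.sub [24, 20, 18, 18, 18, 20, 29, 24, 31, 20, 30, 29, 29] [.out 1184]],
  .sub [3, 4, 1, 2, 3, 2, 1, 4, 3, 2, 3, 4] [.sub [20, 29, 18, 27, 24, 20, 20, 25] [.sub [24, 19, 18, 19, 18, 27, 27, 31, 31, 27, 29] [.out 2180]]],
  .sub [1, 4, 1, 2, 3, 2, 1, 4, 3, 2, 3, 4] [.sub [19, 20, 19, 19, 18, 20, 27, 31, 25, 20, 25, 29] [.out 900]],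
  .sub [4, 3, 1, 2, 3, 2, 1, 4, 3, 2, 3, 4] [.sub [19, 29, 25, 20, 18, 20, 30, 24, 25, 29, 29] [.out 3040]],
  .sub [2, 3, 1, 2, 3, 2, 1, 4, 3, 2, 3, 4] [.out 3905],
  .sub [2, 4, 3, 2, 4, 3, 4, 1, 3, 2, 3, 4] [.out 1823],
  .sub [3, 4, 1, 2, 4, 3, 4, 1, 3, 2, 3, 4] [.sub [29, 25, 18, 29, 18, 24, 31, 29, 29] [.sub [19, 18, 19, 29, 18, 30, 20, 24, 20, 30, 29, 29] [.out 1145]]],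
  .sub [1, 4, 1, 2, 4, 3, 4, 1, 3, 2, 3, 4] [.out 3430],
  .sub [3, 2, 3, 4, 1, 3, 4, 1, 3, 2, 3, 4] [.sub [29, 18, 27, 27, 18, 31, 24, 27, 25, 20, 30, 27, 29] [.sub [31, 25, 18, 18, 30, 20, 31, 29, 25, 29, 29] [.out 1532]]],
  .sub [1, 2, 3, 4, 1, 3, 4, 1, 3, 2, 3, 4] [.sub [24, 18, 20, 18, 18, 30, 31, 27, 20, 20, 25] [.sub [20, 24, 18, 19, 27, 24, 31, 31, 20, 30, 29] [.out 3532]]]]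

/-- Branches. -/
def kidsXPart25 : List Branch := [
  .sub [4, 3, 2, 4, 1, 3, 4, 1, 3, 2, 3, 4] [.sub [29, 19, 20, 18, 18, 29, 25, 31, 24, 30] [.out 1832]],
  .sub [2, 3, 2, 4, 1, 3, 4, 1, 3, 2, 3, 4] [.out 4004],
  .sub [4, 1, 2, 4, 1, 3, 4, 1, 3, 2, 3, 4] [.sub [18, 19, 25, 20, 18, 30, 20, 31, 29] [.sub [18, 29, 24, 18, 31, 20, 24, 31, 30, 25, 29, 29] [.out 3017]]],
  .sub [3, 4, 1, 2, 1, 3, 4, 1, 3, 2, 3, 4] [.out 1268],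
  .sub [1, 4, 1, 2, 1, 3, 4, 1, 3, 2, 3, 4] [.out 2964],
  .sub [4, 3, 1, 2, 1, 3, 4, 1, 3, 2, 3, 4] [.out 2285],
  .sub [2, 3, 1, 2, 1, 3, 4, 1, 3, 2, 3, 4] [.out 3021],
  .sub [4, 1, 4, 3, 2, 3, 4, 1, 3, 2, 3, 4] [.out 3356],
  .sub [3, 1, 4, 3, 2, 3, 4, 1, 3, 2, 3, 4] [.sub [19, 31, 29, 18, 19, 25, 20, 31, 24, 29] [.out 2928]],
  .sub [3, 2, 4, 3, 2, 3, 4, 1, 3, 2, 3, 4] [.out 3992],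
  .sub [3, 4, 1, 3, 2, 3, 4, 1, 3, 2, 3, 4] [.sub [24, 19, 27, 18, 31, 29, 30, 24, 29, 29] [.out 1540]],
  .sub [4, 3, 1, 3, 2, 3, 4, 1, 3, 2, 3, 4] [.out 3156],
  .sub [1, 3, 1, 3, 2, 3, 4, 1, 3, 2, 3, 4] [.out 3628],
  .sub [2, 3, 1, 3, 2, 3, 4, 1, 3, 2, 3, 4] [.out 1628],
  .sub [3, 2, 1, 3, 2, 3, 4, 1, 3, 2, 3, 4] [.out 1919],
  .sub [3, 1, 2, 3, 2, 3, 4, 1, 3, 2, 3, 4] [.out 1003],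
  .sub [1, 3, 4, 1, 2, 3, 4, 1, 3, 2, 3, 4] [.sub [18, 27, 29, 20, 18, 31, 24, 27, 25, 20, 30, 27, 29, 29] [.out 3073]],
  .sub [2, 1, 4, 1, 2, 3, 4, 1, 3, 2, 3, 4] [.sub [20, 19, 24, 24, 18, 25, 31, 30, 24, 25, 29, 29] [.out 3474]],
  .sub [1, 4, 3, 1, 2, 3, 4, 1, 3, 2, 3, 4] [.sub [18, 19, 29, 20, 18, 20, 30, 20, 31, 29, 25, 29, 29] [.out 2121]],
  .sub [4, 1, 3, 1, 2, 3, 4, 1, 3, 2, 3, 4] [.out 1237],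
  .sub [2, 1, 3, 1, 2, 3, 4, 1, 3, 2, 3, 4] [.sub [20, 29, 18, 25, 18, 18, 20, 20, 24, 25, 29, 29] [.out 345]],
  .sub [1, 2, 3, 1, 2, 3, 4, 1, 3, 2, 3, 4] [.sub [18, 30, 19, 25, 19, 31, 30, 29, 31, 20, 30, 27, 29, 29] [.sub [27, 24, 20, 18, 19, 24, 20, 30, 29, 24, 27] [.out 1854]]],
  .sub [1, 3, 1, 4, 3, 2, 4, 1, 3, 2, 3, 4] [.out 3138],
  .sub [1, 3, 2, 4, 3, 2, 4, 1, 3, 2, 3, 4] [.sub [29, 31, 18, 18, 27, 30, 31, 24, 20, 29, 29] [.out 1221]],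
  .sub [2, 3, 2, 4, 3, 2, 4, 1, 3, 2, 3, 4] [.out 3987],
  .sub [4, 1, 2, 4, 3, 2, 4, 1, 3, 2, 3, 4] [.sub [20, 24, 31, 19, 18, 27, 24, 30, 20, 29, 25, 29] [.out 1709]],
  .sub [3, 1, 2, 4, 3, 2, 4, 1, 3, 2, 3, 4] [.out 3478],
  .sub [3, 1, 4, 1, 3, 2, 4, 1, 3, 2, 3, 4] [.sub [25, 20, 20, 19, 18, 24, 24, 27, 24] [.out 2003]],
  .sub [2, 1, 4, 1, 3, 2, 4, 1, 3, 2, 3, 4] [.out 1814],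
  .sub [3, 2, 4, 1, 3, 2, 4, 1, 3, 2, 3, 4] [.out 3956],
  .sub [1, 2, 4, 1, 3, 2, 4, 1, 3, 2, 3, 4] [.sub [29, 19, 19, 20, 18, 18, 25, 27, 24, 27, 30, 29, 29] [.out 3589]],
  .sub [3, 2, 3, 1, 3, 2, 4, 1, 3, 2, 3, 4] [.sub [27, 18, 25, 31, 19, 18, 31, 24, 20, 20, 27, 30, 29] [.out 2296]],
  .sub [1, 2, 3, 1, 3, 2, 4, 1, 3, 2, 3, 4] [.out 2398],
  .sub [1, 3, 2, 1, 3, 2, 4, 1, 3, 2, 3, 4] [.sub [30, 31, 19, 19, 19, 20, 31, 20, 20, 27, 29, 29] [.sub [30, 31, 19, 18, 30, 25, 20, 29, 25, 29] [.out 3759]]],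
  .sub [2, 3, 2, 1, 3, 2, 4, 1, 3, 2, 3, 4] [.sub [30, 31, 19, 20, 18, 27, 25, 20, 29] [.out 2731]],
  .sub [4, 1, 2, 1, 3, 2, 4, 1, 3, 2, 3, 4] [.out 3967],
  .sub [3, 1, 2, 1, 3, 2, 4, 1, 3, 2, 3, 4] [.out 1460],
  .sub [3, 4, 1, 2, 3, 2, 4, 1, 3, 2, 3, 4] [.out 3325],
  .sub [1, 4, 1, 2, 3, 2, 4, 1, 3, 2, 3, 4] [.out 3871],
  .sub [4, 3, 1, 2, 3, 2, 4, 1, 3, 2, 3, 4] [.out 3818],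
  .sub [2, 3, 1, 2, 3, 2, 4, 1, 3, 2, 3, 4] [.sub [19, 20, 27, 19, 18, 30, 25, 24, 31, 20, 27, 30, 29] [.out 1607]],
  .sub [2, 1, 4, 3, 2, 4, 3, 1, 3, 2, 3, 4] [.out 3507],
  .sub [3, 2, 4, 3, 2, 4, 3, 1, 3, 2, 3, 4] [.out 4049],
  .sub [3, 4, 1, 3, 2, 4, 3, 1, 3, 2, 3, 4] [.sub [20, 19, 18, 19, 18, 29, 24, 31, 25, 29] [.out 2725]],
  .sub [1, 4, 1, 3, 2, 4, 3, 1, 3, 2, 3, 4] [.out 2592],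
  .sub [2, 4, 1, 3, 2, 4, 3, 1, 3, 2, 3, 4] [.sub [18, 19, 20, 31, 18, 18, 31, 24, 20, 20, 29] [.out 3394]],
  .sub [4, 3, 1, 3, 2, 4, 3, 1, 3, 2, 3, 4] [.out 2062],
  .sub [1, 3, 1, 3, 2, 4, 3, 1, 3, 2, 3, 4] [.out 2838],
  .sub [2, 3, 1, 3, 2, 4, 3, 1, 3, 2, 3, 4] [.sub [24, 24, 18, 31, 24, 18, 20, 24, 27, 24, 20, 25, 29] [.out 1897]],
  .sub [3, 2, 1, 3, 2, 4, 3, 1, 3, 2, 3, 4] [.sub [24, 24, 19, 27, 19, 24, 31, 20, 31, 20, 30, 27, 29, 29] [.out 1714]],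
  .sub [4, 1, 2, 3, 2, 4, 3, 1, 3, 2, 3, 4] [.out 2878],
  .sub [4, 3, 4, 1, 2, 4, 3, 1, 3, 2, 3, 4] [.sub [31, 30, 31, 18, 19, 25, 24, 24, 20, 20, 25, 29, 29] [.out 3053]],
  .sub [1, 3, 4, 1, 2, 4, 3, 1, 3, 2, 3, 4] [.sub [27, 31, 18, 18, 30, 24, 25, 24, 20, 25, 29, 29] [.out 714]],
  .sub [1, 4, 3, 1, 2, 4, 3, 1, 3, 2, 3, 4] [.out 3416],
  .sub [2, 4, 3, 1, 2, 4, 3, 1, 3, 2, 3, 4] [.sub [27, 19, 19, 19, 18, 20, 31, 25, 29] [.sub [18, 20, 18, 18, 19, 18, 31, 20, 30, 20, 29] [.out 575]]],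
  .sub [4, 1, 3, 1, 2, 4, 3, 1, 3, 2, 3, 4] [.sub [29, 20, 20, 18, 24, 29, 25, 31, 24, 30, 25] [.out 3554]],
  .sub [2, 1, 3, 1, 2, 4, 3, 1, 3, 2, 3, 4] [.sub [30, 20, 30, 18, 19, 20, 24, 31, 24, 27, 29, 29] [.out 1979]],
  .sub [1, 2, 3, 1, 2, 4, 3, 1, 3, 2, 3, 4] [.sub [25, 18, 19, 25, 18, 31, 24, 30, 20, 29, 25] [.out 2617]],
  .sub [4, 3, 2, 3, 4, 1, 3, 1, 3, 2, 3, 4] [.sub [20, 20, 18, 19, 18, 30, 25, 31, 31, 30, 29, 29] [.out 2384]],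
  .sub [2, 3, 2, 3, 4, 1, 3, 1, 3, 2, 3, 4] [.out 3132],
  .sub [1, 4, 3, 2, 4, 1, 3, 1, 3, 2, 3, 4] [.out 2413],
  .sub [2, 4, 3, 2, 4, 1, 3, 1, 3, 2, 3, 4] [.out 3349],
  .sub [4, 1, 3, 2, 4, 1, 3, 1, 3, 2, 3, 4] [.sub [31, 19, 19, 27, 18, 29, 20, 24, 29, 25, 29] [.sub [29, 31, 18, 20, 30, 25, 20, 27, 29] [.out 862]]],
  .sub [2, 1, 3, 2, 4, 1, 3, 1, 3, 2, 3, 4] [.sub [19, 30, 31, 20, 18, 25, 20, 24] [.out 1222]]]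

/-- Branches. -/
def kidsXPart26 : List Branch := [
  .sub [1, 2, 3, 2, 4, 1, 3, 1, 3, 2, 3, 4] [.out 3837],
  .sub [3, 4, 1, 2, 4, 1, 3, 1, 3, 2, 3, 4] [.sub [25, 20, 25, 19, 24, 30, 31, 24, 20, 30] [.out 3670]],
  .sub [4, 3, 1, 2, 4, 1, 3, 1, 3, 2, 3, 4] [.sub [27, 29, 19, 31, 18, 27, 29, 25, 24, 27, 30, 29] [.sub [24, 19, 25, 20, 18, 30, 25, 31, 20, 27, 30] [.out 3343]]],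
  .sub [1, 3, 1, 2, 4, 1, 3, 1, 3, 2, 3, 4] [.out 3542],
  .sub [2, 3, 1, 2, 4, 1, 3, 1, 3, 2, 3, 4] [.sub [18, 18, 29, 18, 30, 31, 27, 20, 20, 30, 27, 29] [.out 3026]],
  .sub [4, 1, 4, 3, 2, 1, 3, 1, 3, 2, 3, 4] [.sub [29, 20, 18, 24, 24, 20, 20, 30, 25, 29] [.out 3855]],
  .sub [2, 1, 4, 3, 2, 1, 3, 1, 3, 2, 3, 4] [.out 3641],
  .sub [1, 2, 4, 3, 2, 1, 3, 1, 3, 2, 3, 4] [.sub [27, 19, 24, 25, 18, 20, 30, 25, 27, 24, 30, 29, 29] [.out 3413]],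
  .sub [3, 4, 1, 3, 2, 1, 3, 1, 3, 2, 3, 4] [.sub [19, 24, 18, 19, 19, 20, 25, 31, 30, 25, 29, 29] [.sub [19, 19, 20, 25, 18, 30, 20, 31, 20, 29, 25, 29, 29] [.out 1283]]],
  .sub [1, 4, 1, 3, 2, 1, 3, 1, 3, 2, 3, 4] [.out 3156],
  .sub [2, 4, 1, 3, 2, 1, 3, 1, 3, 2, 3, 4] [.sub [25, 18, 29, 18, 25, 24, 27, 24, 20, 30, 29, 29] [.out 202]],
  .sub [4, 3, 1, 3, 2, 1, 3, 1, 3, 2, 3, 4] [.out 3962],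
  .sub [1, 3, 1, 3, 2, 1, 3, 1, 3, 2, 3, 4] [.out 569],
  .sub [3, 2, 1, 3, 2, 1, 3, 1, 3, 2, 3, 4] [.sub [20, 31, 31, 18, 19, 18, 30, 24, 20, 20, 25] [.out 2814]],
  .sub [1, 2, 1, 3, 2, 1, 3, 1, 3, 2, 3, 4] [.out 2058],
  .sub [4, 1, 2, 3, 2, 1, 3, 1, 3, 2, 3, 4] [.sub [29, 18, 30, 19, 18, 20, 30, 20, 20, 24, 29, 25, 29] [.sub [29, 19, 20, 19, 29, 20, 31, 20, 24, 25, 29, 29] [.out 1221]]],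
  .sub [3, 1, 2, 3, 2, 1, 3, 1, 3, 2, 3, 4] [.out 4002],
  .sub [4, 1, 3, 1, 2, 1, 3, 1, 3, 2, 3, 4] [.out 778],
  .sub [2, 1, 3, 1, 2, 1, 3, 1, 3, 2, 3, 4] [.out 3507],
  .sub [3, 4, 1, 4, 3, 2, 3, 1, 3, 2, 3, 4] [.sub [24, 25, 31, 18, 19, 25, 31, 25, 20, 20, 30, 29] [.out 2710]],
  .sub [1, 4, 1, 4, 3, 2, 3, 1, 3, 2, 3, 4] [.sub [27, 20, 18, 25, 18, 18, 31, 20, 20, 24, 27, 29, 29] [.sub [29, 20, 19, 20, 18, 29, 25, 24, 27, 24, 30, 27] [.done 23]]],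
  .sub [2, 4, 1, 4, 3, 2, 3, 1, 3, 2, 3, 4] [.sub [25, 31, 19, 30, 24, 24, 31, 27, 30, 29] [.out 2426]],
  .sub [4, 3, 1, 4, 3, 2, 3, 1, 3, 2, 3, 4] [.out 3081],
  .sub [1, 3, 1, 4, 3, 2, 3, 1, 3, 2, 3, 4] [.sub [29, 24, 25, 20, 18, 20, 29, 31, 30, 27, 29, 29] [.out 3759]],
  .sub [2, 3, 1, 4, 3, 2, 3, 1, 3, 2, 3, 4] [.out 3579],
  .sub [3, 2, 1, 4, 3, 2, 3, 1, 3, 2, 3, 4] [.sub [20, 25, 24, 20, 19, 18, 27, 31, 25, 31, 25, 29] [.out 3834]],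
  .sub [1, 2, 1, 4, 3, 2, 3, 1, 3, 2, 3, 4] [.out 1932],
  .sub [1, 3, 2, 4, 3, 2, 3, 1, 3, 2, 3, 4] [.sub [20, 27, 24, 18, 18, 20, 31, 24, 20, 27] [.out 2249]],
  .sub [2, 3, 2, 4, 3, 2, 3, 1, 3, 2, 3, 4] [.out 2978],
  .sub [3, 1, 2, 4, 3, 2, 3, 1, 3, 2, 3, 4] [.out 3394],
  .sub [4, 3, 4, 1, 3, 2, 3, 1, 3, 2, 3, 4] [.sub [18, 24, 24, 19, 18, 20, 31, 29, 31, 27, 30, 29] [.out 3746]],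
  .sub [1, 3, 4, 1, 3, 2, 3, 1, 3, 2, 3, 4] [.out 3959],
  .sub [2, 3, 4, 1, 3, 2, 3, 1, 3, 2, 3, 4] [.sub [19, 27, 18, 18, 19, 20, 25, 24, 20, 20, 29] [.out 3050]],
  .sub [3, 1, 4, 1, 3, 2, 3, 1, 3, 2, 3, 4] [.sub [18, 19, 18, 18, 20, 27, 24, 20, 20, 25, 29] [.out 696]],
  .sub [3, 2, 4, 1, 3, 2, 3, 1, 3, 2, 3, 4] [.out 3475],
  .sub [1, 4, 3, 1, 3, 2, 3, 1, 3, 2, 3, 4] [.sub [24, 29, 18, 24, 18, 27, 27, 24, 30, 27, 29, 29] [.out 3215]],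
  .sub [4, 1, 3, 1, 3, 2, 3, 1, 3, 2, 3, 4] [.out 2897],
  .sub [2, 1, 3, 1, 3, 2, 3, 1, 3, 2, 3, 4] [.out 3267],
  .sub [1, 2, 3, 1, 3, 2, 3, 1, 3, 2, 3, 4] [.out 3419],
  .sub [1, 3, 2, 1, 3, 2, 3, 1, 3, 2, 3, 4] [.out 3069],
  .sub [4, 1, 2, 1, 3, 2, 3, 1, 3, 2, 3, 4] [.sub [31, 19, 18, 18, 19, 24, 20, 27, 24, 27, 29, 29] [.out 1977]],
  .sub [3, 1, 2, 1, 3, 2, 3, 1, 3, 2, 3, 4] [.out 3727],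
  .sub [3, 4, 1, 2, 3, 2, 3, 1, 3, 2, 3, 4] [.out 3954],
  .sub [1, 4, 1, 2, 3, 2, 3, 1, 3, 2, 3, 4] [.sub [18, 19, 27, 31, 18, 24, 24, 20, 20, 29, 25, 29, 29] [.out 250]],
  .sub [3, 4, 1, 3, 1, 2, 3, 1, 3, 2, 3, 4] [.sub [18, 30, 18, 19, 25, 31, 25, 31, 30, 27, 29] [.sub [19, 18, 25, 18, 31, 24, 31, 31, 29, 29] [.out 263]]],
  .sub [1, 4, 1, 3, 1, 2, 3, 1, 3, 2, 3, 4] [.sub [27, 24, 20, 19, 18, 25, 27, 25, 20, 27, 29] [.out 2872]],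
  .sub [3, 2, 1, 3, 1, 2, 3, 1, 3, 2, 3, 4] [.sub [29, 19, 24, 31, 18, 27, 31, 30, 20, 29, 25, 29] [.out 724]],
  .sub [2, 1, 4, 1, 4, 3, 2, 1, 3, 2, 3, 4] [.out 3712],
  .sub [3, 2, 4, 1, 4, 3, 2, 1, 3, 2, 3, 4] [.sub [24, 31, 31, 19, 18, 20, 30, 25, 31, 31, 27] [.out 1922]],
  .sub [1, 2, 4, 1, 4, 3, 2, 1, 3, 2, 3, 4] [.sub [25, 31, 18, 18, 31, 30, 24, 27] [.out 3932]],
  .sub [4, 1, 3, 1, 4, 3, 2, 1, 3, 2, 3, 4] [.sub [18, 19, 20, 31, 18, 18, 31, 24, 20, 20, 29] [.out 682]],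
  .sub [2, 1, 3, 1, 4, 3, 2, 1, 3, 2, 3, 4] [.sub [29, 19, 19, 19, 29, 31, 25, 20, 20, 30, 27] [.out 2516]],
  .sub [4, 3, 2, 1, 4, 3, 2, 1, 3, 2, 3, 4] [.out 2848],
  .sub [1, 3, 2, 1, 4, 3, 2, 1, 3, 2, 3, 4] [.sub [24, 18, 18, 18, 25, 31, 29, 30, 24, 30, 27, 29] [.sub [29, 24, 25, 20, 18, 30, 25, 31, 27, 30, 29, 29] [.out 215]]],
  .sub [4, 1, 2, 1, 4, 3, 2, 1, 3, 2, 3, 4] [.out 3667],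
  .sub [3, 1, 2, 1, 4, 3, 2, 1, 3, 2, 3, 4] [.out 2995],
  .sub [4, 1, 3, 2, 4, 3, 2, 1, 3, 2, 3, 4] [.sub [30, 18, 19, 25, 18, 30, 24, 29, 20, 20, 30, 29] [.sub [25, 19, 24, 24, 19, 20, 30, 29, 24, 20, 30, 27, 29, 29] [.out 3720]]],
  .sub [3, 1, 3, 2, 4, 3, 2, 1, 3, 2, 3, 4] [.out 1625],
  .sub [2, 1, 3, 2, 4, 3, 2, 1, 3, 2, 3, 4] [.sub [20, 20, 24, 18, 18, 29, 25, 24, 30, 20, 27, 29] [.sub [27, 30, 19, 25, 18, 18, 29, 31, 29, 30, 24, 30] [.out 2063]]],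
  .sub [1, 2, 3, 2, 4, 3, 2, 1, 3, 2, 3, 4] [.sub [31, 19, 19, 27, 18, 29, 20, 24, 29, 25, 29] [.out 573]],
  .sub [1, 4, 1, 2, 4, 3, 2, 1, 3, 2, 3, 4] [.sub [20, 30, 18, 18, 25, 27, 20, 31, 30, 29] [.sub [31, 29, 19, 18, 29, 24, 27, 24, 25] [.out 3404]]],
  .sub [4, 3, 1, 2, 4, 3, 2, 1, 3, 2, 3, 4] [.sub [20, 27, 24, 18, 18, 20, 31, 24, 20, 27] [.out 1535]],
  .sub [1, 3, 1, 2, 4, 3, 2, 1, 3, 2, 3, 4] [.out 2454],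
  .sub [2, 3, 1, 2, 4, 3, 2, 1, 3, 2, 3, 4] [.sub [18, 27, 30, 31, 18, 20, 25, 20, 30, 20, 27, 30, 29] [.out 1308]]]

/-- Branches. -/
def kidsXPart27 : List Branch := [
  .sub [1, 3, 1, 4, 1, 3, 2, 1, 3, 2, 3, 4] [.sub [29, 18, 31, 18, 18, 24, 27, 31, 20, 30, 27, 29] [.out 1285]],
  .sub [2, 3, 1, 4, 1, 3, 2, 1, 3, 2, 3, 4] [.sub [20, 24, 20, 24, 18, 27, 24, 31, 31, 27, 29, 29] [.sub [24, 25, 18, 18, 24, 24, 27, 24, 30, 27, 29] [.out 1483]]],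
  .sub [3, 2, 1, 4, 1, 3, 2, 1, 3, 2, 3, 4] [.sub [19, 20, 31, 19, 29, 24, 31, 27, 30, 29] [.out 209]],
  .sub [1, 2, 1, 4, 1, 3, 2, 1, 3, 2, 3, 4] [.out 935],
  .sub [4, 3, 2, 4, 1, 3, 2, 1, 3, 2, 3, 4] [.out 3071],
  .sub [2, 3, 2, 4, 1, 3, 2, 1, 3, 2, 3, 4] [.sub [19, 18, 31, 20, 19, 27, 24, 30, 24, 20, 27, 30] [.sub [20, 19, 19, 24, 18, 18, 24, 31, 31, 31, 24, 29, 25, 29] [.out 1163]]],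
  .sub [4, 1, 2, 4, 1, 3, 2, 1, 3, 2, 3, 4] [.out 3190],
  .sub [3, 1, 2, 4, 1, 3, 2, 1, 3, 2, 3, 4] [.out 1811],
  .sub [1, 4, 3, 2, 1, 3, 2, 1, 3, 2, 3, 4] [.out 3095],
  .sub [2, 4, 3, 2, 1, 3, 2, 1, 3, 2, 3, 4] [.sub [30, 20, 31, 18, 18, 30, 25, 31, 25, 24, 27] [.out 2123]],
  .sub [4, 1, 3, 2, 1, 3, 2, 1, 3, 2, 3, 4] [.sub [25, 27, 18, 18, 31, 29, 20, 20, 25] [.out 2067]],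
  .sub [3, 1, 3, 2, 1, 3, 2, 1, 3, 2, 3, 4] [.sub [27, 19, 30, 19, 18, 20, 20, 20, 20, 30, 27] [.out 3786]],
  .sub [2, 1, 3, 2, 1, 3, 2, 1, 3, 2, 3, 4] [.sub [18, 18, 24, 18, 18, 29, 31, 24, 29, 25] [.out 3683]],
  .sub [1, 2, 3, 2, 1, 3, 2, 1, 3, 2, 3, 4] [.sub [29, 30, 20, 18, 20, 20, 29, 31, 27, 30, 29, 29] [.sub [30, 20, 19, 31, 18, 30, 31, 29, 30, 24, 30, 25, 29, 29] [.out 2840]]],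
  .sub [3, 4, 1, 2, 1, 3, 2, 1, 3, 2, 3, 4] [.sub [25, 19, 18, 20, 18, 18, 30, 31, 24, 31, 25] [.out 979]],
  .sub [1, 4, 1, 2, 1, 3, 2, 1, 3, 2, 3, 4] [.out 1909],
  .sub [4, 3, 1, 2, 1, 3, 2, 1, 3, 2, 3, 4] [.out 3368],
  .sub [1, 3, 1, 2, 1, 3, 2, 1, 3, 2, 3, 4] [.sub [18, 19, 24, 19, 20, 20, 31, 24, 27, 29, 29] [.sub [30, 31, 25, 18, 24, 24, 31, 24, 29, 25, 29, 29] [.out 2624]]],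
  .sub [2, 3, 1, 2, 1, 3, 2, 1, 3, 2, 3, 4] [.sub [31, 19, 29, 24, 18, 24, 24, 20, 20, 27, 29] [.sub [19, 20, 27, 18, 18, 25, 27, 24, 31, 30, 27] [.out 1846]]],
  .sub [4, 3, 4, 1, 2, 3, 2, 1, 3, 2, 3, 4] [.out 2792],
  .sub [1, 3, 4, 1, 2, 3, 2, 1, 3, 2, 3, 4] [.out 2353],
  .sub [2, 3, 4, 1, 2, 3, 2, 1, 3, 2, 3, 4] [.sub [19, 18, 24, 25, 18, 29, 20, 24, 27] [.out 614]],
  .sub [2, 1, 4, 1, 2, 3, 2, 1, 3, 2, 3, 4] [.out 2706],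
  .sub [1, 4, 3, 1, 2, 3, 2, 1, 3, 2, 3, 4] [.sub [31, 31, 18, 18, 20, 24, 20, 20, 30, 27] [.out 4024]],
  .sub [2, 4, 3, 1, 2, 3, 2, 1, 3, 2, 3, 4] [.sub [30, 18, 24, 18, 30, 27, 27, 24, 27, 29] [.out 1261]],
  .sub [4, 1, 3, 1, 2, 3, 2, 1, 3, 2, 3, 4] [.sub [18, 27, 31, 19, 19, 18, 27, 25, 20, 31, 27] [.sub [25, 31, 20, 20, 18, 30, 24, 25, 20, 27, 29] [.out 3564]]],
  .sub [2, 1, 3, 1, 2, 3, 2, 1, 3, 2, 3, 4] [.sub [20, 25, 20, 19, 18, 30, 25, 31, 25, 29, 29] [.out 1187]],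
  .sub [3, 2, 3, 1, 2, 3, 2, 1, 3, 2, 3, 4] [.out 1266],
  .sub [1, 2, 3, 1, 2, 3, 2, 1, 3, 2, 3, 4] [.out 2441],
  .sub [1, 3, 1, 4, 3, 2, 4, 3, 1, 2, 3, 4] [.sub [29, 18, 27, 19, 29, 31, 30, 24, 30, 25] [.out 3774]],
  .sub [2, 3, 1, 4, 3, 2, 4, 3, 1, 2, 3, 4] [.out 1869],
  .sub [1, 3, 2, 4, 3, 2, 4, 3, 1, 2, 3, 4] [.sub [27, 29, 19, 18, 27, 29, 30, 31, 30, 29] [.sub [25, 27, 25, 18, 18, 27, 20, 20, 25] [.out 3787]]],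
  .sub [3, 4, 1, 2, 3, 2, 4, 3, 1, 2, 3, 4] [.sub [19, 25, 31, 18, 18, 24, 30, 20, 29, 25, 29, 29] [.out 2619]],
  .sub [4, 3, 1, 2, 3, 2, 4, 3, 1, 2, 3, 4] [.out 3830],
  .sub [1, 3, 1, 2, 3, 2, 4, 3, 1, 2, 3, 4] [.sub [18, 20, 27, 19, 27, 24, 29, 24, 30, 25, 29, 29] [.out 2906]],
  .sub [2, 3, 1, 2, 3, 2, 4, 3, 1, 2, 3, 4] [.sub [25, 19, 19, 20, 19, 24, 31, 24, 20, 20, 30, 25, 29, 29] [.out 2113]],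
  .sub [4, 3, 2, 1, 3, 4, 1, 3, 1, 2, 3, 4] [.out 3452],
  .sub [2, 3, 2, 1, 3, 4, 1, 3, 1, 2, 3, 4] [.sub [29, 31, 19, 20, 19, 31, 24, 25, 20, 27, 30, 29] [.out 2708]],
  .sub [1, 4, 3, 2, 3, 4, 1, 3, 1, 2, 3, 4] [.sub [19, 24, 24, 19, 18, 24, 25, 31, 20, 20, 30] [.out 3855]],
  .sub [2, 4, 3, 2, 3, 4, 1, 3, 1, 2, 3, 4] [.sub [19, 24, 20, 31, 18, 30, 31, 31, 20, 24, 29, 25, 29, 29] [.sub [27, 19, 30, 25, 20, 18, 27, 27, 31, 31, 30, 29] [.out 608]]],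
  .sub [4, 1, 3, 2, 3, 4, 1, 3, 1, 2, 3, 4] [.out 3239],
  .sub [3, 1, 3, 2, 3, 4, 1, 3, 1, 2, 3, 4] [.sub [25, 19, 30, 19, 18, 24, 27, 31, 27, 30, 29] [.out 405]],
  .sub [2, 1, 3, 2, 3, 4, 1, 3, 1, 2, 3, 4] [.sub [31, 31, 19, 20, 19, 30, 24, 30, 31, 29, 25, 29, 29] [.sub [30, 19, 25, 18, 18, 30, 29, 31, 25, 29] [.out 594]]],
  .sub [1, 2, 3, 2, 3, 4, 1, 3, 1, 2, 3, 4] [.out 954],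
  .sub [4, 3, 1, 2, 3, 4, 1, 3, 1, 2, 3, 4] [.sub [25, 18, 29, 25, 24, 20, 27, 29, 29] [.sub [19, 19, 27, 20, 18, 18, 25, 31, 31, 27, 30] [.out 733]]],
  .sub [1, 3, 1, 2, 3, 4, 1, 3, 1, 2, 3, 4] [.out 3375],
  .sub [2, 3, 1, 2, 3, 4, 1, 3, 1, 2, 3, 4] [.sub [24, 20, 25, 20, 18, 30, 31, 20, 30, 20, 27, 30] [.out 3839]],
  .sub [4, 3, 2, 3, 1, 4, 1, 3, 1, 2, 3, 4] [.sub [31, 18, 19, 30, 27, 24, 31, 30, 25] [.out 3505]],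
  .sub [1, 3, 2, 3, 1, 4, 1, 3, 1, 2, 3, 4] [.out 1801],
  .sub [2, 3, 2, 3, 1, 4, 1, 3, 1, 2, 3, 4] [.sub [24, 18, 24, 24, 19, 27, 20, 31, 31, 30, 27, 29] [.out 2557]],
  .sub [3, 1, 2, 3, 1, 4, 1, 3, 1, 2, 3, 4] [.sub [29, 18, 19, 18, 19, 31, 31, 24, 25, 24, 29, 25, 29] [.out 3806]],
  .sub [1, 4, 3, 2, 1, 4, 1, 3, 1, 2, 3, 4] [.sub [20, 19, 24, 18, 25, 24, 29, 20, 24, 25, 29] [.out 3043]],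
  .sub [3, 1, 3, 2, 1, 4, 1, 3, 1, 2, 3, 4] [.sub [31, 27, 18, 18, 19, 27, 31, 25, 31, 20, 27, 30] [.out 3661]],
  .sub [3, 4, 1, 2, 1, 4, 1, 3, 1, 2, 3, 4] [.sub [29, 19, 18, 20, 27, 24, 30] [.out 4029]],
  .sub [4, 3, 1, 2, 1, 4, 1, 3, 1, 2, 3, 4] [.sub [29, 20, 18, 29, 20, 31, 29, 25, 29, 29] [.out 121]],
  .sub [1, 3, 1, 2, 1, 4, 1, 3, 1, 2, 3, 4] [.sub [29, 18, 30, 19, 18, 30, 20, 24, 20, 20, 30, 29] [.out 1314]],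
  .sub [2, 3, 1, 2, 1, 4, 1, 3, 1, 2, 3, 4] [.out 2024],
  .sub [4, 1, 4, 3, 2, 4, 1, 3, 1, 2, 3, 4] [.sub [24, 20, 24, 18, 24, 31, 27, 24, 20, 29] [.out 2334]],
  .sub [2, 1, 4, 3, 2, 4, 1, 3, 1, 2, 3, 4] [.sub [27, 24, 20, 19, 18, 29, 24, 30, 31, 25, 29, 29] [.out 3414]],
  .sub [3, 2, 4, 3, 2, 4, 1, 3, 1, 2, 3, 4] [.out 3176],
  .sub [3, 4, 1, 3, 2, 4, 1, 3, 1, 2, 3, 4] [.sub [18, 29, 25, 20, 18, 24, 25, 27, 31, 27, 29, 29] [.out 2176]],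
  .sub [1, 4, 1, 3, 2, 4, 1, 3, 1, 2, 3, 4] [.out 3344],
  .sub [2, 4, 1, 3, 2, 4, 1, 3, 1, 2, 3, 4] [.sub [31, 19, 31, 20, 19, 25, 31, 31, 24, 20, 30, 27, 29] [.sub [18, 19, 27, 19, 20, 27, 30, 20, 30, 27, 29, 29] [.out 562]]],
  .sub [1, 3, 1, 3, 2, 4, 1, 3, 1, 2, 3, 4] [.sub [18, 25, 19, 25, 18, 29, 31, 20, 29] [.out 3630]]]

/-- Branches. -/
def kidsXPart28 : List Branch := [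
  .sub [4, 1, 2, 3, 2, 4, 1, 3, 1, 2, 3, 4] [.out 3549],
  .sub [3, 1, 2, 3, 2, 4, 1, 3, 1, 2, 3, 4] [.out 2096],
  .sub [4, 3, 4, 1, 2, 4, 1, 3, 1, 2, 3, 4] [.sub [27, 18, 27, 19, 31, 20, 31, 20, 30, 25, 29] [.out 638]],
  .sub [1, 4, 3, 1, 2, 4, 1, 3, 1, 2, 3, 4] [.sub [27, 20, 31, 20, 18, 25, 27, 25, 31, 30, 27] [.sub [29, 19, 31, 18, 18, 30, 24, 20, 20, 30] [.out 274]]],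
  .sub [2, 4, 3, 1, 2, 4, 1, 3, 1, 2, 3, 4] [.out 2722],
  .sub [2, 1, 3, 1, 2, 4, 1, 3, 1, 2, 3, 4] [.out 3316],
  .sub [3, 2, 3, 1, 2, 4, 1, 3, 1, 2, 3, 4] [.sub [19, 31, 27, 18, 18, 24, 29, 31, 20, 30, 29] [.out 3934]],
  .sub [1, 2, 3, 1, 2, 4, 1, 3, 1, 2, 3, 4] [.out 2758],
  .sub [1, 4, 1, 4, 3, 2, 1, 3, 1, 2, 3, 4] [.sub [29, 24, 24, 19, 24, 20, 30, 20, 30, 29] [.sub [27, 18, 19, 19, 18, 30, 20, 20, 25, 29, 29] [.out 1200]]],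
  .sub [2, 4, 1, 4, 3, 2, 1, 3, 1, 2, 3, 4] [.out 3350],
  .sub [3, 2, 1, 4, 3, 2, 1, 3, 1, 2, 3, 4] [.out 2736],
  .sub [1, 2, 1, 4, 3, 2, 1, 3, 1, 2, 3, 4] [.sub [24, 27, 31, 18, 19, 24, 20, 27, 31, 25] [.out 3505]],
  .sub [4, 1, 2, 4, 3, 2, 1, 3, 1, 2, 3, 4] [.sub [24, 29, 18, 24, 18, 27, 30, 27, 24, 30, 25, 29, 29] [.out 223]],
  .sub [3, 1, 2, 4, 3, 2, 1, 3, 1, 2, 3, 4] [.sub [29, 31, 19, 20, 24, 30, 31, 24, 30, 27, 29] [.sub [20, 31, 27, 19, 20, 27, 30, 31, 30, 25, 29, 29] [.out 1230]]],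
  .sub [4, 3, 4, 1, 3, 2, 1, 3, 1, 2, 3, 4] [.sub [29, 20, 19, 25, 18, 18, 31, 30, 29, 24, 20, 29, 29] [.sub [27, 24, 25, 18, 31, 20, 24, 30, 25, 29] [.out 28]]],
  .sub [2, 3, 4, 1, 3, 2, 1, 3, 1, 2, 3, 4] [.out 2980],
  .sub [3, 1, 4, 1, 3, 2, 1, 3, 1, 2, 3, 4] [.out 3626],
  .sub [2, 1, 4, 1, 3, 2, 1, 3, 1, 2, 3, 4] [.sub [31, 30, 31, 18, 19, 25, 24, 24, 20, 20, 25, 29, 29] [.out 3260]],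
  .sub [3, 2, 4, 1, 3, 2, 1, 3, 1, 2, 3, 4] [.sub [18, 19, 18, 18, 18, 31, 25, 20, 31, 20] [.out 3550]],
  .sub [1, 2, 4, 1, 3, 2, 1, 3, 1, 2, 3, 4] [.out 2464],
  .sub [1, 4, 3, 1, 3, 2, 1, 3, 1, 2, 3, 4] [.out 1908],
  .sub [2, 4, 3, 1, 3, 2, 1, 3, 1, 2, 3, 4] [.sub [24, 20, 31, 20, 19, 31, 20, 20, 31, 27] [.out 1418]],
  .sub [4, 1, 3, 1, 3, 2, 1, 3, 1, 2, 3, 4] [.sub [31, 29, 18, 19, 18, 20, 31, 30, 20, 29, 25, 29, 29] [.out 1967]],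
  .sub [4, 1, 2, 1, 3, 2, 1, 3, 1, 2, 3, 4] [.out 2854],
  .sub [1, 4, 1, 2, 3, 2, 1, 3, 1, 2, 3, 4] [.out 3567],
  .sub [1, 3, 1, 2, 3, 2, 1, 3, 1, 2, 3, 4] [.out 1785],
  .sub [4, 3, 1, 4, 1, 2, 1, 3, 1, 2, 3, 4] [.out 3206],
  .sub [2, 3, 1, 4, 1, 2, 1, 3, 1, 2, 3, 4] [.sub [18, 27, 19, 31, 19, 20, 24, 25, 24, 27, 29] [.out 3599]],
  .sub [3, 1, 4, 3, 1, 2, 1, 3, 1, 2, 3, 4] [.sub [27, 19, 27, 19, 29, 20, 30, 20, 20, 27, 30, 29] [.sub [24, 19, 25, 19, 18, 24, 30, 31, 30, 27] [.out 2101]]],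
  .sub [1, 2, 4, 3, 1, 2, 1, 3, 1, 2, 3, 4] [.sub [29, 18, 27, 20, 18, 20, 27, 24, 25, 29] [.sub [18, 18, 19, 20, 18, 24, 27, 20, 20, 20, 29] [.out 2499]]],
  .sub [1, 2, 1, 3, 1, 2, 1, 3, 1, 2, 3, 4] [.out 3363],
  .sub [4, 3, 2, 3, 1, 2, 1, 3, 1, 2, 3, 4] [.sub [25, 18, 18, 24, 18, 24, 20, 24, 30, 20, 29] [.out 3421]],
  .sub [1, 3, 2, 3, 1, 2, 1, 3, 1, 2, 3, 4] [.out 1030],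
  .sub [4, 1, 2, 3, 1, 2, 1, 3, 1, 2, 3, 4] [.sub [20, 27, 18, 19, 27, 31, 27, 20, 20, 30, 25] [.out 3213]],
  .sub [3, 1, 2, 3, 1, 2, 1, 3, 1, 2, 3, 4] [.out 2674],
  .sub [3, 2, 4, 1, 4, 3, 2, 3, 1, 2, 3, 4] [.out 3819],
  .sub [3, 2, 3, 1, 4, 3, 2, 3, 1, 2, 3, 4] [.out 2899],
  .sub [1, 2, 3, 1, 4, 3, 2, 3, 1, 2, 3, 4] [.out 2080],
  .sub [4, 3, 2, 1, 4, 3, 2, 3, 1, 2, 3, 4] [.sub [31, 20, 18, 25, 18, 18, 30, 25, 31, 25, 24, 27, 29] [.out 3922]],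
  .sub [2, 3, 2, 1, 4, 3, 2, 3, 1, 2, 3, 4] [.sub [24, 29, 19, 18, 20, 31, 29, 31, 30, 25, 29] [.out 624]],
  .sub [3, 1, 3, 4, 1, 3, 2, 3, 1, 2, 3, 4] [.sub [29, 18, 18, 18, 31, 24, 20, 31, 29] [.sub [25, 19, 24, 24, 19, 20, 25, 27, 20, 31, 25, 29] [.out 1960]]],
  .sub [4, 3, 1, 4, 1, 3, 2, 3, 1, 2, 3, 4] [.sub [31, 19, 19, 27, 18, 29, 20, 24, 29, 25, 29] [.out 2629]],
  .sub [2, 3, 1, 4, 1, 3, 2, 3, 1, 2, 3, 4] [.out 3790],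
  .sub [3, 2, 1, 4, 1, 3, 2, 3, 1, 2, 3, 4] [.out 2726],
  .sub [1, 2, 1, 4, 1, 3, 2, 3, 1, 2, 3, 4] [.sub [25, 24, 27, 18, 18, 24, 31, 29, 24, 27, 29] [.out 666]],
  .sub [4, 3, 2, 4, 1, 3, 2, 3, 1, 2, 3, 4] [.out 4033],
  .sub [4, 1, 2, 4, 1, 3, 2, 3, 1, 2, 3, 4] [.sub [31, 20, 18, 25, 18, 18, 30, 25, 31, 25, 24, 27, 29] [.sub [27, 31, 27, 27, 18, 20, 31, 30] [.out 1221]]],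
  .sub [3, 1, 2, 4, 1, 3, 2, 3, 1, 2, 3, 4] [.sub [25, 27, 19, 31, 18, 31, 20, 31, 27] [.out 1993]],
  .sub [3, 2, 4, 3, 1, 3, 2, 3, 1, 2, 3, 4] [.out 2740],
  .sub [4, 3, 2, 3, 1, 3, 2, 3, 1, 2, 3, 4] [.out 3844],
  .sub [2, 3, 2, 3, 1, 3, 2, 3, 1, 2, 3, 4] [.out 2740],
  .sub [3, 1, 2, 3, 1, 3, 2, 3, 1, 2, 3, 4] [.out 3510],
  .sub [1, 4, 3, 2, 1, 3, 2, 3, 1, 2, 3, 4] [.sub [29, 25, 18, 18, 30, 24, 31, 20, 20, 29] [.out 1127]],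
  .sub [2, 4, 3, 2, 1, 3, 2, 3, 1, 2, 3, 4] [.out 3112],
  .sub [1, 3, 1, 4, 3, 1, 2, 3, 1, 2, 3, 4] [.sub [31, 19, 18, 18, 19, 30, 25, 31, 20, 27, 29, 29] [.out 2916]],
  .sub [4, 3, 2, 4, 3, 1, 2, 3, 1, 2, 3, 4] [.sub [30, 19, 31, 27, 18, 24, 31, 24, 20, 20, 29, 29] [.sub [31, 18, 27, 18, 18, 29, 24, 31, 20, 20, 27, 29, 29] [.out 1145]]],
  .sub [1, 3, 2, 4, 3, 1, 2, 3, 1, 2, 3, 4] [.sub [20, 30, 31, 18, 20, 31, 31, 30, 27, 29, 29] [.out 3820]],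
  .sub [2, 3, 2, 4, 3, 1, 2, 3, 1, 2, 3, 4] [.out 2984],
  .sub [3, 1, 2, 4, 3, 1, 2, 3, 1, 2, 3, 4] [.sub [18, 18, 27, 18, 31, 20, 25, 20, 27, 29] [.out 1468]],
  .sub [2, 1, 4, 1, 3, 1, 2, 3, 1, 2, 3, 4] [.sub [19, 29, 18, 18, 19, 20, 30, 25, 24, 30, 25, 29, 29] [.sub [25, 19, 24, 20, 18, 24, 20, 30, 29, 24, 29, 25] [.out 1532]]],
  .sub [3, 2, 4, 1, 3, 1, 2, 3, 1, 2, 3, 4] [.sub [20, 20, 18, 19, 18, 30, 25, 31, 31, 30, 29, 29] [.out 3825]],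
  .sub [1, 2, 4, 1, 3, 1, 2, 3, 1, 2, 3, 4] [.sub [19, 24, 18, 20, 20, 31, 30, 20, 30, 29, 29] [.out 1842]],
  .sub [4, 3, 2, 1, 3, 1, 2, 3, 1, 2, 3, 4] [.out 3230],
  .sub [2, 3, 2, 1, 3, 1, 2, 3, 1, 2, 3, 4] [.sub [24, 19, 18, 20, 18, 30, 24, 25, 20, 30, 27] [.sub [25, 31, 25, 19, 24, 31, 25, 20, 30, 29] [.out 3861]]]]

/-- Branches. -/
def kidsXPart29 : List Branch := [
  .sub [4, 1, 2, 1, 3, 1, 2, 3, 1, 2, 3, 4] [.sub [19, 20, 29, 18, 25, 31, 31, 27, 29] [.out 2450]],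
  .sub [3, 1, 2, 1, 3, 1, 2, 3, 1, 2, 3, 4] [.out 2383],
  .sub [1, 4, 3, 2, 3, 1, 2, 3, 1, 2, 3, 4] [.sub [30, 18, 19, 29, 18, 24, 30, 20, 30, 20, 29, 25, 29] [.out 2981]],
  .sub [3, 1, 3, 2, 3, 1, 2, 3, 1, 2, 3, 4] [.out 2987],
  .sub [2, 1, 3, 2, 3, 1, 2, 3, 1, 2, 3, 4] [.sub [19, 31, 19, 20, 18, 29, 31, 25, 31, 30, 27] [.out 808]],
  .sub [3, 4, 1, 2, 3, 1, 2, 3, 1, 2, 3, 4] [.out 2392],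
  .sub [4, 3, 1, 2, 3, 1, 2, 3, 1, 2, 3, 4] [.sub [25, 18, 18, 18, 20, 30, 20, 20, 30, 27] [.sub [19, 27, 19, 20, 18, 27, 24, 27, 31, 30, 25, 29] [.out 532]]],
  .sub [2, 3, 1, 2, 3, 1, 2, 3, 1, 2, 3, 4] [.out 2284],
  .sub [2, 4, 3, 2, 4, 3, 1, 2, 1, 4, 1, 3, 4] [.sub [18, 24, 31, 19, 19, 24, 24, 27, 31, 30, 29] [.out 1716]],
  .sub [4, 1, 3, 2, 4, 3, 1, 2, 1, 4, 1, 3, 4] [.sub [18, 19, 24, 18, 24, 30, 24, 20, 30, 27, 29, 29] [.sub [19, 19, 24, 31, 18, 20, 30, 29, 31, 20, 27, 30] [.out 1369]]],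
  .sub [3, 1, 3, 2, 4, 3, 1, 2, 1, 4, 1, 3, 4] [.sub [19, 29, 25, 18, 24, 20, 25, 20, 20, 30, 27, 29] [.sub [31, 25, 18, 18, 20, 25, 27, 20, 31, 30, 25] [.out 1437]]],
  .sub [2, 1, 3, 2, 4, 3, 1, 2, 1, 4, 1, 3, 4] [.sub [27, 29, 19, 18, 18, 25, 24, 31, 24, 27, 29, 29] [.out 4049]],
  .sub [1, 2, 3, 2, 4, 3, 1, 2, 1, 4, 1, 3, 4] [.sub [29, 24, 25, 18, 24, 29, 31, 20, 30, 25, 29] [.sub [27, 20, 18, 25, 18, 18, 25, 31, 27, 20, 20, 25] [.out 637]]],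
  .sub [3, 4, 1, 2, 4, 3, 1, 2, 1, 4, 1, 3, 4] [.out 1925],
  .sub [1, 4, 1, 2, 4, 3, 1, 2, 1, 4, 1, 3, 4] [.out 1523],
  .sub [4, 3, 1, 2, 4, 3, 1, 2, 1, 4, 1, 3, 4] [.out 4016],
  .sub [1, 3, 1, 2, 4, 3, 1, 2, 1, 4, 1, 3, 4] [.out 3523],
  .sub [2, 3, 1, 2, 4, 3, 1, 2, 1, 4, 1, 3, 4] [.sub [27, 25, 24, 19, 18, 27, 29, 30, 24, 27, 29] [.out 3685]],
  .sub [4, 3, 2, 4, 1, 3, 1, 2, 1, 4, 1, 3, 4] [.sub [24, 19, 18, 27, 19, 29, 31, 29, 30, 24, 30, 29, 29] [.out 3955]],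
  .sub [1, 3, 2, 4, 1, 3, 1, 2, 1, 4, 1, 3, 4] [.out 407],
  .sub [2, 3, 2, 4, 1, 3, 1, 2, 1, 4, 1, 3, 4] [.sub [31, 29, 20, 18, 27, 30, 31, 31, 30, 27, 29] [.sub [31, 19, 24, 18, 18, 18, 29, 31, 31, 25, 20, 30, 25, 29, 29] [.out 2750]]],
  .sub [3, 1, 2, 4, 1, 3, 1, 2, 1, 4, 1, 3, 4] [.out 3742],
  .sub [1, 4, 3, 2, 1, 3, 1, 2, 1, 4, 1, 3, 4] [.sub [30, 31, 19, 20, 18, 27, 25, 20, 29] [.out 3424]],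
  .sub [2, 4, 3, 2, 1, 3, 1, 2, 1, 4, 1, 3, 4] [.sub [27, 25, 18, 25, 18, 18, 30, 29, 24, 31, 27, 29, 29] [.sub [27, 20, 18, 25, 18, 18, 25, 31, 27, 20, 20, 25] [.out 3680]]],
  .sub [2, 1, 3, 2, 1, 3, 1, 2, 1, 4, 1, 3, 4] [.sub [25, 20, 19, 24, 19, 25, 20, 25, 29] [.sub [19, 20, 31, 18, 19, 27, 20, 20, 24, 25, 29] [.out 3527]]],
  .sub [1, 2, 3, 2, 1, 3, 1, 2, 1, 4, 1, 3, 4] [.sub [29, 24, 27, 19, 25, 24, 30, 31, 30, 25, 29] [.out 410]],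
  .sub [3, 4, 1, 2, 1, 3, 1, 2, 1, 4, 1, 3, 4] [.sub [18, 18, 30, 18, 18, 24, 31, 20, 20, 27, 29, 29] [.out 718]],
  .sub [4, 3, 1, 2, 1, 3, 1, 2, 1, 4, 1, 3, 4] [.sub [20, 20, 18, 19, 18, 29, 31, 30, 20, 20, 30, 27, 29] [.out 3785]],
  .sub [1, 3, 1, 2, 1, 3, 1, 2, 1, 4, 1, 3, 4] [.sub [19, 25, 31, 18, 18, 24, 30, 20, 29, 25, 29, 29] [.out 203]],
  .sub [2, 3, 1, 2, 1, 3, 1, 2, 1, 4, 1, 3, 4] [.sub [20, 24, 19, 29, 18, 25, 31, 20, 24, 20, 27, 30] [.out 104]],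
  .sub [4, 1, 4, 3, 2, 3, 1, 2, 1, 4, 1, 3, 4] [.sub [24, 19, 24, 31, 24, 20, 20, 29, 25, 29, 29] [.out 2190]],
  .sub [3, 1, 4, 3, 2, 3, 1, 2, 1, 4, 1, 3, 4] [.sub [19, 29, 18, 19, 18, 27, 24, 29, 31, 30, 25] [.sub [25, 31, 19, 20, 20, 29, 31, 30, 25] [.out 1709]]],
  .sub [2, 1, 4, 3, 2, 3, 1, 2, 1, 4, 1, 3, 4] [.out 3321],
  .sub [3, 4, 1, 3, 2, 3, 1, 2, 1, 4, 1, 3, 4] [.sub [19, 29, 30, 18, 18, 31, 29, 25] [.sub [19, 31, 30, 31, 19, 27, 25, 20, 24, 30, 25] [.out 2249]]],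
  .sub [1, 4, 1, 3, 2, 3, 1, 2, 1, 4, 1, 3, 4] [.sub [25, 31, 19, 31, 18, 24, 20, 27, 31, 30] [.sub [29, 18, 25, 18, 18, 24, 24, 27, 20, 24, 25, 29] [.out 426]]],
  .sub [2, 4, 1, 3, 2, 3, 1, 2, 1, 4, 1, 3, 4] [.out 2104],
  .sub [3, 2, 1, 3, 2, 3, 1, 2, 1, 4, 1, 3, 4] [.out 2838],
  .sub [3, 1, 4, 1, 2, 3, 1, 2, 1, 4, 1, 3, 4] [.out 1063],
  .sub [2, 4, 3, 1, 2, 3, 1, 2, 1, 4, 1, 3, 4] [.sub [30, 20, 18, 19, 19, 30, 20, 31, 29, 24, 30] [.out 1536]],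
  .sub [2, 1, 3, 1, 2, 3, 1, 2, 1, 4, 1, 3, 4] [.out 4018],
  .sub [3, 2, 3, 1, 2, 3, 1, 2, 1, 4, 1, 3, 4] [.out 3144],
  .sub [1, 2, 3, 1, 2, 3, 1, 2, 1, 4, 1, 3, 4] [.sub [31, 27, 24, 19, 18, 20, 20, 31, 24, 30, 29, 29] [.sub [30, 24, 29, 18, 27, 31, 20, 20, 31, 29, 25] [.done 2]]],
  .sub [3, 1, 2, 1, 4, 1, 4, 3, 2, 4, 1, 3, 4] [.sub [20, 19, 27, 31, 18, 29, 25, 24, 31, 20, 27] [.out 3587]],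
  .sub [1, 4, 3, 2, 4, 1, 4, 3, 2, 4, 1, 3, 4] [.out 2080],
  .sub [2, 4, 3, 2, 4, 1, 4, 3, 2, 4, 1, 3, 4] [.sub [20, 19, 19, 27, 18, 27, 20, 20, 25, 29, 29] [.out 2311]],
  .sub [4, 1, 3, 2, 4, 1, 4, 3, 2, 4, 1, 3, 4] [.out 3077],
  .sub [3, 1, 3, 2, 4, 1, 4, 3, 2, 4, 1, 3, 4] [.sub [24, 18, 18, 24, 18, 24, 27, 30, 31, 30, 29, 29] [.sub [25, 20, 19, 18, 27, 30, 27, 24, 30, 25, 29, 29] [.out 2613]]],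
  .sub [2, 1, 3, 2, 4, 1, 4, 3, 2, 4, 1, 3, 4] [.sub [19, 25, 20, 18, 20, 20, 31, 24, 27, 30, 29] [.sub [18, 18, 30, 18, 18, 30, 25, 31, 20, 27] [.out 2409]]],
  .sub [1, 2, 3, 2, 4, 1, 4, 3, 2, 4, 1, 3, 4] [.sub [29, 18, 24, 31, 19, 25, 24, 30, 20, 29, 29] [.out 1685]],
  .sub [1, 3, 1, 2, 4, 1, 4, 3, 2, 4, 1, 3, 4] [.sub [31, 19, 20, 27, 19, 29, 24, 20, 31, 27] [.out 3886]],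
  .sub [4, 3, 2, 1, 3, 1, 4, 3, 2, 4, 1, 3, 4] [.sub [19, 25, 18, 19, 18, 31, 25, 24, 31, 27, 30] [.out 3842]],
  .sub [1, 3, 2, 1, 3, 1, 4, 3, 2, 4, 1, 3, 4] [.out 1605],
  .sub [2, 3, 2, 1, 3, 1, 4, 3, 2, 4, 1, 3, 4] [.out 3567],
  .sub [3, 1, 2, 1, 3, 1, 4, 3, 2, 4, 1, 3, 4] [.sub [20, 19, 18, 19, 30, 25, 31, 20, 29, 25, 29] [.out 1079]],
  .sub [4, 1, 3, 2, 3, 1, 4, 3, 2, 4, 1, 3, 4] [.out 3965],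
  .sub [3, 1, 3, 2, 3, 1, 4, 3, 2, 4, 1, 3, 4] [.out 3223],
  .sub [1, 4, 1, 2, 3, 1, 4, 3, 2, 4, 1, 3, 4] [.out 3577],
  .sub [1, 3, 1, 2, 3, 1, 4, 3, 2, 4, 1, 3, 4] [.sub [19, 18, 19, 29, 18, 24, 25, 31, 31, 29] [.out 1518]],
  .sub [3, 2, 4, 3, 2, 1, 4, 3, 2, 4, 1, 3, 4] [.sub [27, 24, 19, 24, 19, 31, 31, 30, 24] [.out 1248]],
  .sub [3, 4, 1, 3, 2, 1, 4, 3, 2, 4, 1, 3, 4] [.sub [27, 19, 27, 31, 18, 31, 30, 31, 31, 27] [.out 1044]],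
  .sub [4, 3, 1, 3, 2, 1, 4, 3, 2, 4, 1, 3, 4] [.sub [19, 19, 20, 30, 18, 18, 27, 31, 20, 20, 27, 29, 29] [.out 3234]],
  .sub [1, 3, 1, 3, 2, 1, 4, 3, 2, 4, 1, 3, 4] [.sub [30, 24, 20, 18, 29, 31, 24, 20, 29, 25, 29] [.out 3808]],
  .sub [2, 3, 1, 3, 2, 1, 4, 3, 2, 4, 1, 3, 4] [.out 2947],
  .sub [2, 4, 3, 1, 2, 1, 4, 3, 2, 4, 1, 3, 4] [.sub [18, 31, 24, 18, 31, 20, 20, 20, 29] [.sub [25, 24, 25, 20, 18, 27, 31, 29, 20, 20, 30, 25] [.out 472]]]]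

/-- Branches. -/
def kidsXPart30 : List Branch := [
  .sub [2, 1, 3, 1, 2, 1, 4, 3, 2, 4, 1, 3, 4] [.sub [27, 18, 19, 18, 19, 27, 31, 30, 20, 27] [.out 2464]],
  .sub [3, 2, 3, 1, 2, 1, 4, 3, 2, 4, 1, 3, 4] [.out 3568],
  .sub [2, 3, 4, 1, 3, 2, 4, 3, 2, 4, 1, 3, 4] [.out 3039],
  .sub [2, 4, 3, 1, 3, 2, 4, 3, 2, 4, 1, 3, 4] [.out 2368],
  .sub [4, 1, 3, 1, 3, 2, 4, 3, 2, 4, 1, 3, 4] [.out 3453],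
  .sub [2, 1, 3, 1, 3, 2, 4, 3, 2, 4, 1, 3, 4] [.sub [18, 31, 18, 18, 27, 29, 31, 31, 27, 30, 29] [.out 3046]],
  .sub [1, 2, 3, 1, 3, 2, 4, 3, 2, 4, 1, 3, 4] [.out 3685],
  .sub [2, 1, 4, 3, 1, 2, 4, 3, 2, 4, 1, 3, 4] [.sub [27, 19, 27, 19, 30, 25, 24, 31, 20, 29, 25, 29] [.out 1245]],
  .sub [3, 2, 4, 3, 1, 2, 4, 3, 2, 4, 1, 3, 4] [.sub [18, 31, 24, 19, 18, 27, 31, 29, 20, 20, 30, 25] [.out 650]],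
  .sub [1, 2, 4, 3, 1, 2, 4, 3, 2, 4, 1, 3, 4] [.out 3778],
  .sub [3, 4, 1, 3, 1, 2, 4, 3, 2, 4, 1, 3, 4] [.out 585],
  .sub [1, 4, 1, 3, 1, 2, 4, 3, 2, 4, 1, 3, 4] [.sub [19, 31, 31, 27, 18, 27, 20, 20, 29, 25] [.sub [25, 19, 24, 24, 19, 20, 30, 29, 24, 20, 30, 27, 29, 29] [.bad [30, 20, 25, 18, 24, 30, 24, 20, 29, 25, 29, 29] 1]]],
  .sub [2, 4, 1, 3, 1, 2, 4, 3, 2, 4, 1, 3, 4] [.sub [31, 24, 29, 18, 18, 25, 20, 31, 25] [.out 2190]],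
  .sub [4, 3, 2, 3, 1, 2, 4, 3, 2, 4, 1, 3, 4] [.sub [31, 18, 19, 19, 18, 27, 20, 24, 30, 25, 29, 29] [.out 1996]],
  .sub [4, 1, 2, 3, 1, 2, 4, 3, 2, 4, 1, 3, 4] [.out 3964],
  .sub [3, 1, 2, 3, 1, 2, 4, 3, 2, 4, 1, 3, 4] [.sub [20, 20, 25, 18, 27, 24, 20, 24, 20, 25, 29, 29] [.out 2555]],
  .sub [4, 1, 2, 4, 3, 4, 1, 3, 2, 4, 1, 3, 4] [.sub [29, 18, 19, 18, 19, 31, 31, 24, 25, 24, 29, 25, 29] [.sub [25, 27, 25, 18, 18, 27, 30, 27, 24, 29, 29] [.out 1437]]],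
  .sub [3, 1, 2, 4, 3, 4, 1, 3, 2, 4, 1, 3, 4] [.sub [25, 31, 18, 19, 29, 31, 31, 30, 27, 29] [.out 1131]],
  .sub [2, 3, 4, 1, 3, 4, 1, 3, 2, 4, 1, 3, 4] [.out 3323],
  .sub [3, 2, 4, 1, 3, 4, 1, 3, 2, 4, 1, 3, 4] [.out 2981],
  .sub [1, 2, 4, 1, 3, 4, 1, 3, 2, 4, 1, 3, 4] [.out 2143],
  .sub [4, 3, 2, 1, 3, 4, 1, 3, 2, 4, 1, 3, 4] [.sub [29, 30, 18, 18, 24, 25, 24, 20, 27] [.sub [31, 31, 18, 18, 20, 24, 20, 24, 30, 29, 29] [.out 215]]],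
  .sub [1, 3, 2, 1, 3, 4, 1, 3, 2, 4, 1, 3, 4] [.out 3749],
  .sub [2, 3, 2, 1, 3, 4, 1, 3, 2, 4, 1, 3, 4] [.sub [19, 29, 31, 29, 18, 25, 24, 27, 25, 31, 27, 30] [.out 2292]],
  .sub [4, 1, 2, 1, 3, 4, 1, 3, 2, 4, 1, 3, 4] [.sub [31, 27, 18, 24, 18, 24, 20, 30, 31, 20, 27] [.out 657]],
  .sub [3, 1, 2, 1, 3, 4, 1, 3, 2, 4, 1, 3, 4] [.out 1773],
  .sub [1, 4, 3, 2, 3, 4, 1, 3, 2, 4, 1, 3, 4] [.sub [30, 20, 29, 31, 18, 31, 27, 25, 31, 25, 29] [.out 74]],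
  .sub [2, 4, 3, 2, 3, 4, 1, 3, 2, 4, 1, 3, 4] [.sub [30, 19, 19, 18, 24, 27, 30, 31, 20, 25] [.out 2292]],
  .sub [4, 1, 3, 2, 3, 4, 1, 3, 2, 4, 1, 3, 4] [.out 2958],
  .sub [3, 1, 3, 2, 3, 4, 1, 3, 2, 4, 1, 3, 4] [.sub [30, 18, 20, 19, 18, 30, 24, 30, 31, 30, 27] [.out 3568]],
  .sub [2, 1, 3, 2, 3, 4, 1, 3, 2, 4, 1, 3, 4] [.sub [31, 20, 18, 31, 24, 30, 31, 27, 30] [.out 1518]],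
  .sub [1, 2, 3, 2, 3, 4, 1, 3, 2, 4, 1, 3, 4] [.sub [29, 18, 31, 18, 18, 25, 31, 31, 29] [.sub [19, 29, 18, 18, 29, 25, 24, 31, 20, 30, 25, 29] [.out 274]]],
  .sub [1, 4, 1, 2, 3, 4, 1, 3, 2, 4, 1, 3, 4] [.out 3138],
  .sub [1, 3, 1, 2, 3, 4, 1, 3, 2, 4, 1, 3, 4] [.out 3604],
  .sub [2, 3, 1, 2, 3, 4, 1, 3, 2, 4, 1, 3, 4] [.sub [24, 25, 31, 18, 19, 25, 31, 25, 20, 20, 30, 29] [.out 3981]],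
  .sub [4, 3, 1, 2, 1, 4, 1, 3, 2, 4, 1, 3, 4] [.sub [18, 18, 31, 25, 18, 24, 27, 31, 25, 20, 30, 25, 29] [.out 3519]],
  .sub [1, 3, 1, 2, 1, 4, 1, 3, 2, 4, 1, 3, 4] [.out 957],
  .sub [2, 3, 1, 2, 1, 4, 1, 3, 2, 4, 1, 3, 4] [.out 3108],
  .sub [3, 2, 4, 3, 2, 4, 1, 3, 2, 4, 1, 3, 4] [.sub [27, 19, 18, 20, 25, 24, 20, 20, 30, 29, 29] [.sub [19, 24, 20, 18, 18, 30, 29, 20, 20, 30, 25] [.out 3680]]],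
  .sub [3, 4, 1, 3, 2, 4, 1, 3, 2, 4, 1, 3, 4] [.sub [24, 18, 24, 25, 18, 31, 31, 30, 20, 30, 27] [.out 1624]],
  .sub [4, 3, 1, 3, 2, 4, 1, 3, 2, 4, 1, 3, 4] [.out 4025],
  .sub [2, 3, 1, 3, 2, 4, 1, 3, 2, 4, 1, 3, 4] [.out 385],
  .sub [1, 4, 3, 1, 2, 4, 1, 3, 2, 4, 1, 3, 4] [.sub [19, 19, 27, 18, 27, 20, 24, 20, 29, 29] [.out 1915]],
  .sub [2, 4, 3, 1, 2, 4, 1, 3, 2, 4, 1, 3, 4] [.sub [25, 27, 25, 18, 31, 31, 20, 24, 29, 29] [.out 2340]],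
  .sub [3, 2, 3, 1, 2, 4, 1, 3, 2, 4, 1, 3, 4] [.out 2285],
  .sub [2, 4, 3, 2, 4, 3, 1, 3, 2, 4, 1, 3, 4] [.out 4047],
  .sub [3, 4, 1, 2, 4, 3, 1, 3, 2, 4, 1, 3, 4] [.sub [18, 18, 20, 19, 18, 29, 25, 20, 24, 29, 25] [.sub [19, 20, 20, 19, 29, 31, 30, 20, 20, 30, 27, 29] [.out 1840]]],
  .sub [1, 4, 1, 2, 4, 3, 1, 3, 2, 4, 1, 3, 4] [.out 1615],
  .sub [4, 3, 2, 4, 1, 3, 1, 3, 2, 4, 1, 3, 4] [.out 773],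
  .sub [4, 1, 2, 4, 1, 3, 1, 3, 2, 4, 1, 3, 4] [.sub [24, 18, 24, 25, 18, 29, 20, 20, 24, 27, 30, 29, 29] [.out 2905]],
  .sub [1, 2, 3, 2, 1, 3, 1, 3, 2, 4, 1, 3, 4] [.out 1950],
  .sub [1, 4, 1, 2, 1, 3, 1, 3, 2, 4, 1, 3, 4] [.sub [20, 29, 30, 18, 19, 18, 27, 29, 31, 24, 27] [.sub [20, 19, 18, 19, 29, 25, 20, 24] [.out 25]]],
  .sub [4, 1, 4, 3, 2, 3, 1, 3, 2, 4, 1, 3, 4] [.sub [19, 24, 18, 24, 18, 24, 27, 24, 20, 20, 29, 25, 29, 29] [.sub [31, 18, 30, 18, 18, 30, 24, 31, 25, 29, 29] [.out 733]]],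
  .sub [3, 1, 4, 3, 2, 3, 1, 3, 2, 4, 1, 3, 4] [.sub [30, 20, 20, 20, 18, 18, 30, 20, 30, 29, 29] [.out 57]],
  .sub [2, 1, 4, 3, 2, 3, 1, 3, 2, 4, 1, 3, 4] [.out 2276],
  .sub [3, 4, 1, 3, 2, 3, 1, 3, 2, 4, 1, 3, 4] [.sub [20, 29, 18, 27, 24, 20, 20, 25] [.out 2013]],
  .sub [1, 4, 1, 3, 2, 3, 1, 3, 2, 4, 1, 3, 4] [.sub [29, 18, 24, 31, 19, 27, 25, 31, 20, 25, 29] [.sub [24, 20, 19, 20, 18, 24, 20, 25, 20, 20, 25, 29, 29] [.out 215]]],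
  .sub [2, 4, 1, 3, 2, 3, 1, 3, 2, 4, 1, 3, 4] [.sub [24, 20, 18, 18, 18, 20, 29, 24, 31, 20, 30, 29, 29] [.sub [27, 20, 31, 18, 27, 24, 31, 31, 27, 30, 29] [.out 1700]]],
  .sub [4, 3, 1, 3, 2, 3, 1, 3, 2, 4, 1, 3, 4] [.out 1280],
  .sub [1, 3, 1, 3, 2, 3, 1, 3, 2, 4, 1, 3, 4] [.sub [19, 27, 18, 19, 25, 31, 20, 24, 20, 30, 29, 29] [.out 2710]],
  .sub [2, 3, 1, 3, 2, 3, 1, 3, 2, 4, 1, 3, 4] [.sub [19, 24, 19, 25, 18, 18, 29, 31, 31, 27, 29, 29] [.out 950]],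
  .sub [3, 2, 1, 3, 2, 3, 1, 3, 2, 4, 1, 3, 4] [.sub [24, 29, 18, 18, 18, 29, 24, 25, 24, 30] [.out 3866]],
  .sub [3, 1, 4, 1, 2, 3, 1, 3, 2, 4, 1, 3, 4] [.sub [19, 31, 20, 19, 18, 25, 27, 24, 20] [.sub [30, 19, 18, 19, 30, 27, 24, 20, 20, 27, 30, 29, 29] [.out 582]]],
  .sub [2, 1, 4, 1, 2, 3, 1, 3, 2, 4, 1, 3, 4] [.sub [19, 25, 24, 24, 19, 18, 25, 24, 25, 29] [.sub [29, 31, 18, 30, 25, 31, 31, 29, 25, 29, 29] [.out 1996]]]]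

/-- Branches. -/
def kidsXPart31 : List Branch := [
  .sub [1, 4, 3, 1, 2, 3, 1, 3, 2, 4, 1, 3, 4] [.sub [18, 19, 25, 20, 18, 30, 20, 31, 29] [.out 3368]],
  .sub [2, 4, 3, 1, 2, 3, 1, 3, 2, 4, 1, 3, 4] [.sub [19, 19, 25, 20, 18, 18, 29, 25, 31] [.sub [19, 18, 18, 19, 31, 27, 29, 20, 24, 27, 30, 29, 29] [.out 2600]]],
  .sub [4, 1, 3, 1, 2, 3, 1, 3, 2, 4, 1, 3, 4] [.sub [20, 29, 20, 18, 29, 30, 31, 20] [.out 3803]],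
  .sub [1, 2, 3, 1, 2, 3, 1, 3, 2, 4, 1, 3, 4] [.sub [18, 31, 24, 20, 19, 30, 24, 25, 20, 29, 25] [.out 1977]],
  .sub [1, 4, 1, 4, 3, 2, 1, 3, 2, 4, 1, 3, 4] [.out 2302],
  .sub [2, 4, 1, 4, 3, 2, 1, 3, 2, 4, 1, 3, 4] [.out 3789],
  .sub [3, 2, 1, 4, 3, 2, 1, 3, 2, 4, 1, 3, 4] [.out 2882],
  .sub [1, 2, 1, 4, 3, 2, 1, 3, 2, 4, 1, 3, 4] [.sub [24, 29, 18, 18, 18, 31, 20, 25] [.out 46]],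
  .sub [1, 3, 2, 4, 3, 2, 1, 3, 2, 4, 1, 3, 4] [.out 2321],
  .sub [2, 3, 2, 4, 3, 2, 1, 3, 2, 4, 1, 3, 4] [.sub [24, 24, 19, 18, 27, 31, 24, 30, 29, 29] [.sub [25, 18, 29, 18, 24, 20, 24, 20, 30, 27, 29, 29] [.out 870]]],
  .sub [3, 1, 2, 4, 3, 2, 1, 3, 2, 4, 1, 3, 4] [.sub [25, 19, 24, 19, 30, 24, 31, 20, 20, 29] [.out 2108]],
  .sub [2, 3, 4, 1, 3, 2, 1, 3, 2, 4, 1, 3, 4] [.sub [27, 31, 31, 18, 24, 25, 24, 31, 27, 29, 29] [.sub [27, 19, 18, 20, 18, 18, 20, 27, 31, 25, 20, 30, 27, 29] [.out 1483]]],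
  .sub [3, 1, 4, 1, 3, 2, 1, 3, 2, 4, 1, 3, 4] [.sub [30, 31, 20, 18, 31, 25, 31, 29] [.sub [24, 18, 18, 27, 20, 31, 20, 30, 29, 29] [.done 17]]],
  .sub [2, 1, 4, 3, 1, 2, 1, 3, 2, 4, 1, 3, 4] [.out 2028],
  .sub [3, 2, 4, 3, 1, 2, 1, 3, 2, 4, 1, 3, 4] [.out 2393],
  .sub [1, 2, 4, 3, 1, 2, 1, 3, 2, 4, 1, 3, 4] [.out 2610],
  .sub [4, 3, 2, 3, 1, 2, 1, 3, 2, 4, 1, 3, 4] [.out 3326],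
  .sub [1, 3, 2, 3, 1, 2, 1, 3, 2, 4, 1, 3, 4] [.sub [20, 30, 19, 19, 18, 24, 31, 29] [.out 721]],
  .sub [4, 1, 2, 3, 1, 2, 1, 3, 2, 4, 1, 3, 4] [.out 3991],
  .sub [3, 1, 2, 3, 1, 2, 1, 3, 2, 4, 1, 3, 4] [.out 2720],
  .sub [4, 3, 2, 4, 3, 1, 2, 3, 2, 4, 1, 3, 4] [.out 3079],
  .sub [1, 3, 2, 4, 3, 1, 2, 3, 2, 4, 1, 3, 4] [.sub [29, 18, 27, 20, 18, 20, 27, 24, 25, 29] [.out 332]],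
  .sub [2, 3, 2, 4, 3, 1, 2, 3, 2, 4, 1, 3, 4] [.out 924],
  .sub [4, 1, 2, 4, 3, 1, 2, 3, 2, 4, 1, 3, 4] [.sub [20, 18, 29, 24, 18, 30, 20, 31, 30, 25, 29] [.out 3491]],
  .sub [3, 1, 2, 4, 3, 1, 2, 3, 2, 4, 1, 3, 4] [.out 4030],
  .sub [1, 3, 4, 1, 3, 1, 2, 3, 2, 4, 1, 3, 4] [.sub [31, 19, 27, 31, 18, 30, 20, 31, 29, 24, 25, 29] [.out 3869]],
  .sub [3, 2, 4, 1, 3, 1, 2, 3, 2, 4, 1, 3, 4] [.sub [19, 20, 19, 30, 18, 18, 24, 31, 31, 31, 24, 29, 29] [.out 3781]],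
  .sub [1, 2, 4, 1, 3, 1, 2, 3, 2, 4, 1, 3, 4] [.out 3004],
  .sub [4, 1, 2, 1, 3, 1, 2, 3, 2, 4, 1, 3, 4] [.out 2209],
  .sub [3, 1, 3, 2, 3, 1, 2, 3, 2, 4, 1, 3, 4] [.out 758],
  .sub [2, 1, 3, 2, 3, 1, 2, 3, 2, 4, 1, 3, 4] [.out 2456],
  .sub [1, 4, 1, 2, 3, 1, 2, 3, 2, 4, 1, 3, 4] [.sub [25, 20, 31, 19, 30, 31, 29, 30, 24, 25, 29, 29] [.sub [31, 24, 18, 24, 18, 20, 20, 31, 20, 30] [.out 2896]]],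
  .sub [1, 4, 3, 2, 1, 4, 3, 1, 2, 4, 1, 3, 4] [.out 1825],
  .sub [3, 1, 3, 2, 1, 4, 3, 1, 2, 4, 1, 3, 4] [.sub [19, 19, 31, 18, 31, 30, 29, 20, 20, 27, 30, 29, 29] [.out 2862]],
  .sub [4, 3, 1, 2, 1, 4, 3, 1, 2, 4, 1, 3, 4] [.out 3158],
  .sub [1, 3, 1, 2, 1, 4, 3, 1, 2, 4, 1, 3, 4] [.out 3037],
  .sub [4, 1, 4, 3, 2, 4, 3, 1, 2, 4, 1, 3, 4] [.out 3620],
  .sub [2, 1, 4, 3, 2, 4, 3, 1, 2, 4, 1, 3, 4] [.sub [20, 27, 18, 18, 29, 24, 27, 24, 27, 29] [.out 3832]],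
  .sub [3, 2, 4, 3, 2, 4, 3, 1, 2, 4, 1, 3, 4] [.sub [20, 24, 19, 24, 19, 29, 31, 29, 30, 24, 29, 25, 29] [.out 1101]],
  .sub [1, 2, 4, 3, 2, 4, 3, 1, 2, 4, 1, 3, 4] [.sub [27, 27, 19, 20, 18, 31, 24, 27, 24, 29, 25] [.out 2944]],
  .sub [1, 4, 1, 3, 2, 4, 3, 1, 2, 4, 1, 3, 4] [.out 1622],
  .sub [2, 4, 1, 3, 2, 4, 3, 1, 2, 4, 1, 3, 4] [.out 3793],
  .sub [3, 2, 1, 3, 2, 4, 3, 1, 2, 4, 1, 3, 4] [.sub [31, 27, 24, 19, 18, 29, 31, 20, 30, 27, 29] [.sub [29, 20, 19, 20, 18, 29, 25, 24, 27, 24, 30, 27] [.out 2611]]],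
  .sub [1, 2, 1, 3, 2, 4, 3, 1, 2, 4, 1, 3, 4] [.out 3519],
  .sub [4, 1, 2, 3, 2, 4, 3, 1, 2, 4, 1, 3, 4] [.sub [30, 19, 18, 24, 18, 30, 31, 31] [.out 650]],
  .sub [3, 1, 2, 3, 2, 4, 3, 1, 2, 4, 1, 3, 4] [.sub [25, 20, 18, 24, 18, 24, 20, 30, 20] [.out 2097]],
  .sub [4, 3, 4, 1, 2, 4, 3, 1, 2, 4, 1, 3, 4] [.sub [24, 18, 30, 29, 18, 18, 27, 27, 31, 30, 27] [.sub [24, 18, 29, 19, 18, 31, 29, 31, 30] [.out 810]]],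
  .sub [2, 3, 4, 1, 2, 4, 3, 1, 2, 4, 1, 3, 4] [.out 3541],
  .sub [3, 1, 4, 1, 2, 4, 3, 1, 2, 4, 1, 3, 4] [.sub [24, 24, 18, 31, 24, 18, 24, 25, 24, 31, 25, 29] [.sub [18, 27, 25, 20, 18, 31, 25, 20, 24, 20, 29, 25, 29] [.out 3135]]],
  .sub [1, 4, 3, 1, 2, 4, 3, 1, 2, 4, 1, 3, 4] [.sub [20, 18, 31, 24, 18, 30, 29, 20, 20, 30, 27, 29] [.out 316]],
  .sub [2, 4, 3, 1, 2, 4, 3, 1, 2, 4, 1, 3, 4] [.sub [29, 31, 27, 19, 18, 27, 31, 25, 31, 20, 25, 29, 29] [.sub [31, 19, 18, 20, 18, 30, 31, 24, 25, 20, 29, 25] [.out 358]]],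
  .sub [3, 2, 3, 1, 2, 4, 3, 1, 2, 4, 1, 3, 4] [.out 3077],
  .sub [3, 2, 1, 3, 4, 1, 3, 1, 2, 4, 1, 3, 4] [.out 3943],
  .sub [3, 2, 3, 1, 4, 1, 3, 1, 2, 4, 1, 3, 4] [.sub [19, 27, 27, 31, 18, 18, 29, 25, 31, 24, 20, 30, 27, 29] [.out 2437]],
  .sub [4, 3, 2, 1, 4, 1, 3, 1, 2, 4, 1, 3, 4] [.out 2960],
  .sub [1, 3, 2, 1, 4, 1, 3, 1, 2, 4, 1, 3, 4] [.out 2056],
  .sub [2, 3, 2, 1, 4, 1, 3, 1, 2, 4, 1, 3, 4] [.sub [31, 24, 19, 24, 18, 18, 24, 30, 24, 31, 27, 30] [.sub [24, 25, 18, 18, 24, 31, 25, 20, 30, 25] [.out 150]]],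
  .sub [3, 1, 2, 1, 4, 1, 3, 1, 2, 4, 1, 3, 4] [.out 3589],
  .sub [1, 4, 3, 2, 4, 1, 3, 1, 2, 4, 1, 3, 4] [.sub [20, 24, 30, 19, 18, 27, 31, 25, 31, 20, 25, 29, 29] [.out 875]],
  .sub [2, 1, 3, 2, 4, 1, 3, 1, 2, 4, 1, 3, 4] [.out 3556],
  .sub [3, 4, 1, 2, 4, 1, 3, 1, 2, 4, 1, 3, 4] [.sub [18, 18, 20, 31, 18, 18, 30, 27, 24, 27] [.out 2097]],
  .sub [1, 4, 1, 2, 4, 1, 3, 1, 2, 4, 1, 3, 4] [.out 952],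
  .sub [4, 3, 1, 2, 4, 1, 3, 1, 2, 4, 1, 3, 4] [.out 3949],
  .sub [1, 3, 1, 2, 4, 1, 3, 1, 2, 4, 1, 3, 4] [.sub [31, 25, 31, 18, 25, 24, 29, 20, 24, 30, 29] [.out 825]]]

/-- Branches. -/
def kidsXPart32 : List Branch := [
  .sub [4, 1, 4, 3, 2, 1, 3, 1, 2, 4, 1, 3, 4] [.out 3747],
  .sub [3, 1, 4, 3, 2, 1, 3, 1, 2, 4, 1, 3, 4] [.out 3837],
  .sub [2, 1, 4, 3, 2, 1, 3, 1, 2, 4, 1, 3, 4] [.sub [30, 19, 27, 18, 24, 29, 31, 20, 20, 30, 25, 29] [.out 1666]],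
  .sub [3, 2, 4, 3, 2, 1, 3, 1, 2, 4, 1, 3, 4] [.out 2031],
  .sub [1, 2, 4, 3, 2, 1, 3, 1, 2, 4, 1, 3, 4] [.sub [24, 18, 31, 24, 18, 25, 27, 24, 20, 30, 27, 29] [.out 3669]],
  .sub [3, 4, 1, 3, 2, 1, 3, 1, 2, 4, 1, 3, 4] [.out 2641],
  .sub [1, 4, 1, 3, 2, 1, 3, 1, 2, 4, 1, 3, 4] [.sub [20, 25, 18, 18, 19, 18, 29, 24, 31, 20, 25] [.out 3537]],
  .sub [2, 4, 1, 3, 2, 1, 3, 1, 2, 4, 1, 3, 4] [.sub [18, 18, 24, 18, 19, 20, 24, 29, 31, 25] [.out 3350]],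
  .sub [4, 3, 1, 3, 2, 1, 3, 1, 2, 4, 1, 3, 4] [.out 3478],
  .sub [1, 3, 1, 3, 2, 1, 3, 1, 2, 4, 1, 3, 4] [.sub [24, 31, 19, 18, 19, 25, 27, 24, 29, 24, 27, 30, 29] [.sub [19, 30, 24, 25, 19, 18, 27, 31, 25, 31, 30, 25, 29, 29] [.out 70]]],
  .sub [2, 3, 1, 3, 2, 1, 3, 1, 2, 4, 1, 3, 4] [.out 1237],
  .sub [3, 2, 1, 3, 2, 1, 3, 1, 2, 4, 1, 3, 4] [.sub [24, 29, 18, 18, 18, 20, 25, 24, 20, 30, 25, 29, 29] [.out 2076]],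
  .sub [1, 2, 1, 3, 2, 1, 3, 1, 2, 4, 1, 3, 4] [.out 3934],
  .sub [4, 1, 2, 3, 2, 1, 3, 1, 2, 4, 1, 3, 4] [.out 3920],
  .sub [4, 3, 4, 1, 2, 1, 3, 1, 2, 4, 1, 3, 4] [.out 2544],
  .sub [2, 3, 4, 1, 2, 1, 3, 1, 2, 4, 1, 3, 4] [.out 3886],
  .sub [2, 1, 4, 1, 2, 1, 3, 1, 2, 4, 1, 3, 4] [.sub [20, 20, 19, 19, 27, 24, 31, 20, 20, 27] [.out 3759]],
  .sub [1, 4, 3, 1, 2, 1, 3, 1, 2, 4, 1, 3, 4] [.sub [30, 20, 29, 31, 18, 27, 24, 20, 30, 27, 29, 29] [.out 2238]],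
  .sub [4, 1, 3, 1, 2, 1, 3, 1, 2, 4, 1, 3, 4] [.out 778],
  .sub [2, 1, 3, 1, 2, 1, 3, 1, 2, 4, 1, 3, 4] [.sub [18, 30, 24, 29, 18, 24, 30, 20, 27] [.out 434]],
  .sub [1, 3, 4, 1, 3, 2, 3, 1, 2, 4, 1, 3, 4] [.sub [19, 20, 29, 31, 18, 20, 20, 30, 20, 30, 25] [.out 1917]],
  .sub [3, 1, 4, 1, 3, 2, 3, 1, 2, 4, 1, 3, 4] [.sub [29, 19, 18, 31, 29, 25, 24, 29, 29] [.sub [30, 31, 19, 29, 18, 24, 27, 25, 20, 30, 29] [.out 4047]]],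
  .sub [2, 1, 4, 1, 3, 2, 3, 1, 2, 4, 1, 3, 4] [.sub [29, 25, 19, 29, 31, 31, 30, 29, 29] [.out 3834]],
  .sub [1, 2, 4, 1, 3, 2, 3, 1, 2, 4, 1, 3, 4] [.sub [19, 20, 29, 18, 20, 31, 24, 20, 20, 30, 29, 29] [.sub [30, 24, 18, 24, 18, 20, 20, 20, 31, 20, 30, 25, 29] [.out 694]]],
  .sub [1, 3, 2, 1, 3, 2, 3, 1, 2, 4, 1, 3, 4] [.sub [18, 18, 24, 18, 25, 24, 27, 24, 30, 25, 29] [.out 3016]],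
  .sub [2, 3, 2, 1, 3, 2, 3, 1, 2, 4, 1, 3, 4] [.sub [24, 31, 18, 20, 18, 31, 29, 31, 24, 27, 30, 29, 29] [.sub [29, 24, 27, 18, 20, 29, 31] [.out 1029]]],
  .sub [2, 1, 3, 4, 1, 2, 3, 1, 2, 4, 1, 3, 4] [.sub [18, 29, 20, 20, 18, 20, 24, 31, 24, 27, 29] [.out 2763]],
  .sub [4, 3, 1, 4, 1, 2, 3, 1, 2, 4, 1, 3, 4] [.sub [29, 18, 29, 18, 24, 31, 20, 24, 20, 29, 25, 29, 29] [.sub [18, 20, 18, 18, 19, 18, 31, 20, 30, 20, 29] [.out 1364]]],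
  .sub [1, 3, 1, 4, 1, 2, 3, 1, 2, 4, 1, 3, 4] [.out 3202],
  .sub [2, 3, 1, 4, 1, 2, 3, 1, 2, 4, 1, 3, 4] [.out 3961],
  .sub [4, 1, 4, 3, 2, 1, 4, 3, 2, 3, 1, 3, 4] [.sub [20, 19, 27, 31, 18, 29, 25, 24, 31, 20, 27] [.out 2272]],
  .sub [3, 1, 4, 3, 2, 1, 4, 3, 2, 3, 1, 3, 4] [.sub [20, 24, 19, 18, 19, 24, 20, 25, 20, 20, 29, 25] [.out 1979]],
  .sub [2, 1, 4, 3, 2, 1, 4, 3, 2, 3, 1, 3, 4] [.sub [19, 24, 20, 20, 19, 27, 24, 20, 24, 30, 25, 29, 29] [.out 1970]],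
  .sub [3, 2, 4, 3, 2, 1, 4, 3, 2, 3, 1, 3, 4] [.sub [27, 19, 18, 25, 18, 31, 24, 31, 31, 27, 30, 29, 29] [.sub [20, 27, 18, 31, 19, 31, 25, 27, 31, 27, 30, 29] [.out 1488]]],
  .sub [3, 4, 1, 3, 2, 1, 4, 3, 2, 3, 1, 3, 4] [.sub [31, 25, 20, 19, 24, 25, 24, 31, 30, 25, 29, 29] [.sub [20, 31, 18, 19, 18, 31, 31, 25, 29] [.out 3727]]],
  .sub [2, 4, 1, 3, 2, 1, 4, 3, 2, 3, 1, 3, 4] [.sub [27, 18, 30, 31, 19, 20, 31, 31, 20, 25, 29] [.out 2058]],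
  .sub [4, 3, 1, 3, 2, 1, 4, 3, 2, 3, 1, 3, 4] [.sub [31, 19, 19, 27, 18, 25, 31, 25, 24, 29, 25, 29, 29] [.out 3386]],
  .sub [3, 2, 1, 3, 2, 1, 4, 3, 2, 3, 1, 3, 4] [.sub [27, 20, 31, 19, 29, 20, 31, 20, 24, 27, 29, 29] [.sub [20, 20, 24, 19, 18, 20, 30, 20, 20, 27, 29] [.out 429]]],
  .sub [1, 3, 4, 1, 3, 2, 4, 3, 2, 3, 1, 3, 4] [.sub [27, 30, 31, 19, 25, 24, 27, 31, 30, 29] [.out 3257]],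
  .sub [2, 3, 4, 1, 3, 2, 4, 3, 2, 3, 1, 3, 4] [.sub [24, 20, 24, 19, 30, 29, 20, 20, 27, 29] [.out 3775]],
  .sub [2, 4, 3, 1, 3, 2, 4, 3, 2, 3, 1, 3, 4] [.sub [31, 18, 31, 19, 18, 24, 29, 31, 31, 27, 29] [.sub [24, 31, 19, 18, 19, 27, 24, 27, 31, 30, 29] [.done 24]]],
  .sub [3, 2, 3, 1, 3, 2, 4, 3, 2, 3, 1, 3, 4] [.sub [18, 29, 18, 18, 27, 31, 27, 29] [.out 3401]],
  .sub [2, 3, 2, 1, 3, 2, 4, 3, 2, 3, 1, 3, 4] [.out 2306],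
  .sub [3, 1, 2, 1, 3, 2, 4, 3, 2, 3, 1, 3, 4] [.out 3647],
  .sub [4, 3, 1, 2, 3, 2, 4, 3, 2, 3, 1, 3, 4] [.sub [29, 18, 24, 31, 19, 25, 24, 30, 20, 29, 29] [.sub [18, 20, 27, 19, 18, 25, 24, 27, 24, 20, 25] [.out 392]]],
  .sub [4, 3, 2, 4, 3, 4, 1, 3, 2, 3, 1, 3, 4] [.sub [27, 18, 18, 19, 18, 31, 24, 25, 24, 29, 25, 29, 29] [.sub [24, 29, 31, 18, 20, 20, 20, 20, 27] [.out 215]]],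
  .sub [1, 3, 2, 4, 3, 4, 1, 3, 2, 3, 1, 3, 4] [.sub [19, 29, 19, 29, 18, 27, 20, 31, 20, 30, 25, 29, 29] [.out 2049]],
  .sub [2, 3, 2, 4, 3, 4, 1, 3, 2, 3, 1, 3, 4] [.sub [20, 18, 30, 18, 19, 18, 27, 30, 31, 20, 25, 29, 29] [.out 3955]],
  .sub [4, 1, 2, 4, 3, 4, 1, 3, 2, 3, 1, 3, 4] [.out 3913],
  .sub [3, 1, 2, 4, 3, 4, 1, 3, 2, 3, 1, 3, 4] [.sub [30, 31, 19, 20, 18, 24, 20, 30, 24, 20, 30, 25] [.out 1455]],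
  .sub [2, 4, 3, 2, 3, 4, 1, 3, 2, 3, 1, 3, 4] [.sub [29, 19, 27, 18, 25, 24, 20, 20, 29, 25] [.out 1079]],
  .sub [4, 1, 3, 2, 3, 4, 1, 3, 2, 3, 1, 3, 4] [.sub [24, 24, 18, 31, 24, 18, 20, 24, 27, 24, 20, 25, 29] [.out 2381]],
  .sub [2, 1, 3, 2, 3, 4, 1, 3, 2, 3, 1, 3, 4] [.out 2425],
  .sub [1, 2, 3, 2, 3, 4, 1, 3, 2, 3, 1, 3, 4] [.out 3590],
  .sub [3, 4, 1, 2, 3, 4, 1, 3, 2, 3, 1, 3, 4] [.sub [25, 27, 18, 19, 18, 24, 20, 30, 29, 24, 27, 29, 29] [.sub [18, 24, 19, 25, 18, 31, 24, 29, 24, 27, 30] [.out 2016]]],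
  .sub [1, 4, 1, 2, 3, 4, 1, 3, 2, 3, 1, 3, 4] [.out 2195],
  .sub [4, 3, 1, 2, 3, 4, 1, 3, 2, 3, 1, 3, 4] [.sub [24, 19, 19, 24, 18, 25, 27, 25, 20, 30, 25] [.out 3573]],
  .sub [1, 3, 1, 2, 3, 4, 1, 3, 2, 3, 1, 3, 4] [.sub [25, 31, 29, 18, 19, 18, 27, 31, 30, 20, 20, 25, 29] [.out 1769]],
  .sub [2, 3, 1, 2, 3, 4, 1, 3, 2, 3, 1, 3, 4] [.sub [24, 24, 19, 24, 20, 29, 31, 20, 30, 27, 29, 29] [.out 260]],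
  .sub [4, 3, 1, 2, 1, 4, 1, 3, 2, 3, 1, 3, 4] [.sub [20, 18, 27, 18, 19, 24, 24, 31, 24, 29, 25, 29] [.out 104]],
  .sub [1, 3, 1, 2, 1, 4, 1, 3, 2, 3, 1, 3, 4] [.sub [29, 20, 19, 20, 18, 29, 25, 31, 20, 30, 25, 29, 29] [.sub [25, 31, 20, 20, 18, 30, 24, 25, 20, 27, 29] [.out 532]]],
  .sub [1, 4, 3, 1, 2, 4, 1, 3, 2, 3, 1, 3, 4] [.sub [19, 18, 19, 18, 18, 20, 29, 31, 30, 27, 29, 29] [.out 2786]],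
  .sub [2, 1, 3, 1, 2, 4, 1, 3, 2, 3, 1, 3, 4] [.out 2980],
  .sub [1, 4, 3, 2, 4, 3, 1, 3, 2, 3, 1, 3, 4] [.sub [31, 24, 18, 18, 30, 31, 29, 30, 24, 30, 27, 29] [.out 171]]]

/-- Branches. -/
def kidsXPart33 : List Branch := [
  .sub [2, 4, 3, 2, 4, 3, 1, 3, 2, 3, 1, 3, 4] [.out 3908],
  .sub [4, 1, 3, 2, 4, 3, 1, 3, 2, 3, 1, 3, 4] [.out 3679],
  .sub [3, 1, 3, 2, 4, 3, 1, 3, 2, 3, 1, 3, 4] [.sub [25, 18, 27, 27, 18, 31, 29, 20, 24, 20, 27, 30] [.out 1434]],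
  .sub [2, 1, 3, 2, 4, 3, 1, 3, 2, 3, 1, 3, 4] [.sub [29, 19, 20, 18, 18, 24, 24, 27, 25, 20, 29, 25, 29] [.out 2207]],
  .sub [1, 2, 3, 2, 4, 3, 1, 3, 2, 3, 1, 3, 4] [.out 3845],
  .sub [4, 3, 1, 2, 4, 3, 1, 3, 2, 3, 1, 3, 4] [.sub [20, 19, 19, 24, 18, 31, 27, 29, 20, 24, 29, 25, 29, 29] [.sub [30, 27, 20, 18, 31, 29, 20, 24, 29, 25, 29, 29] [.out 263]]],
  .sub [1, 3, 1, 2, 4, 3, 1, 3, 2, 3, 1, 3, 4] [.out 3089],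
  .sub [2, 3, 1, 2, 4, 3, 1, 3, 2, 3, 1, 3, 4] [.out 3858],
  .sub [2, 3, 2, 4, 1, 3, 1, 3, 2, 3, 1, 3, 4] [.sub [30, 19, 29, 25, 18, 24, 30, 27, 27, 24, 30] [.out 398]],
  .sub [3, 1, 4, 3, 2, 3, 1, 3, 2, 3, 1, 3, 4] [.sub [31, 25, 19, 25, 24, 30, 29] [.out 874]],
  .sub [3, 2, 4, 3, 2, 3, 1, 3, 2, 3, 1, 3, 4] [.out 3120],
  .sub [1, 2, 4, 3, 2, 3, 1, 3, 2, 3, 1, 3, 4] [.out 1728],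
  .sub [4, 3, 1, 3, 2, 3, 1, 3, 2, 3, 1, 3, 4] [.sub [24, 25, 27, 18, 20, 29, 24, 31, 20, 30, 25, 29] [.out 2198]],
  .sub [2, 3, 1, 3, 2, 3, 1, 3, 2, 3, 1, 3, 4] [.sub [19, 27, 27, 31, 18, 18, 29, 25, 31, 24, 20, 30, 27, 29] [.sub [25, 31, 19, 18, 19, 27, 25, 20, 20, 25, 29] [.out 1960]]],
  .sub [3, 4, 1, 4, 3, 2, 1, 3, 2, 3, 1, 3, 4] [.sub [19, 19, 30, 18, 18, 18, 31, 30, 24, 27, 30] [.out 3712]],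
  .sub [2, 4, 1, 4, 3, 2, 1, 3, 2, 3, 1, 3, 4] [.out 3560],
  .sub [3, 2, 1, 4, 3, 2, 1, 3, 2, 3, 1, 3, 4] [.sub [31, 18, 25, 31, 19, 18, 24, 24, 27, 20, 24, 29] [.out 4028]],
  .sub [1, 2, 1, 4, 3, 2, 1, 3, 2, 3, 1, 3, 4] [.sub [19, 29, 20, 18, 18, 24, 25, 31, 20, 27, 29] [.sub [18, 24, 29, 18, 19, 30, 24, 25, 24, 20, 30, 25, 29] [.out 167]]],
  .sub [1, 3, 2, 4, 3, 2, 1, 3, 2, 3, 1, 3, 4] [.sub [20, 20, 24, 24, 18, 24, 30, 24, 31, 29, 25] [.out 1977]],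
  .sub [2, 3, 2, 4, 3, 2, 1, 3, 2, 3, 1, 3, 4] [.out 4030],
  .sub [3, 1, 2, 4, 3, 2, 1, 3, 2, 3, 1, 3, 4] [.sub [29, 18, 24, 18, 24, 29, 25, 31, 29, 29] [.out 2302]],
  .sub [4, 1, 4, 3, 1, 2, 1, 3, 2, 3, 1, 3, 4] [.sub [29, 24, 18, 18, 19, 31, 20, 30, 20, 27, 29, 29] [.out 1173]],
  .sub [3, 1, 4, 3, 1, 2, 1, 3, 2, 3, 1, 3, 4] [.out 2736],
  .sub [2, 1, 4, 3, 1, 2, 1, 3, 2, 3, 1, 3, 4] [.out 3458],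
  .sub [1, 3, 4, 1, 3, 1, 2, 3, 2, 3, 1, 3, 4] [.sub [24, 18, 24, 27, 19, 24, 20, 30, 25, 20, 30, 25, 29] [.sub [31, 19, 24, 18, 18, 18, 29, 31, 31, 25, 20, 30, 25, 29, 29] [.bad [31, 18, 18, 18, 29, 30, 31, 20, 30, 25] 1]]],
  .sub [2, 3, 4, 1, 3, 1, 2, 3, 2, 3, 1, 3, 4] [.sub [18, 19, 31, 18, 24, 29, 25, 24, 20, 27, 30, 29, 29] [.sub [29, 19, 18, 19, 20, 24, 31, 25, 29] [.out 1644]]],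
  .sub [1, 2, 3, 2, 1, 4, 3, 1, 2, 3, 1, 3, 4] [.sub [18, 18, 31, 24, 18, 18, 30, 25, 31, 25, 29] [.out 2264]],
  .sub [4, 1, 4, 3, 2, 4, 3, 1, 2, 3, 1, 3, 4] [.sub [24, 20, 25, 19, 18, 20, 24, 27, 30, 29, 29] [.sub [25, 18, 31, 20, 18, 18, 24, 24, 27, 20, 24, 25, 29, 29] [.out 2140]]],
  .sub [2, 1, 4, 3, 2, 4, 3, 1, 2, 3, 1, 3, 4] [.sub [27, 24, 31, 25, 18, 30, 31, 27, 20, 20, 27] [.sub [18, 19, 31, 20, 18, 20, 30, 20, 31, 25, 29] [.out 1999]]],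
  .sub [3, 2, 4, 3, 2, 4, 3, 1, 2, 3, 1, 3, 4] [.sub [20, 18, 20, 20, 18, 24, 31, 29, 24, 27, 29] [.out 2590]],
  .sub [1, 2, 4, 3, 2, 4, 3, 1, 2, 3, 1, 3, 4] [.sub [20, 19, 20, 18, 18, 20, 30, 31, 24, 20, 30, 25, 29, 29] [.out 1255]],
  .sub [1, 4, 1, 3, 2, 4, 3, 1, 2, 3, 1, 3, 4] [.sub [20, 27, 19, 27, 29, 24, 30, 25, 29] [.out 1611]],
  .sub [2, 4, 1, 3, 2, 4, 3, 1, 2, 3, 1, 3, 4] [.out 546],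
  .sub [4, 3, 1, 3, 2, 4, 3, 1, 2, 3, 1, 3, 4] [.sub [18, 31, 18, 18, 18, 29, 31, 20, 20, 24, 25, 29] [.out 3790]],
  .sub [1, 2, 1, 3, 2, 4, 3, 1, 2, 3, 1, 3, 4] [.out 3736],
  .sub [4, 3, 4, 1, 2, 4, 3, 1, 2, 3, 1, 3, 4] [.out 3646],
  .sub [1, 3, 4, 1, 2, 4, 3, 1, 2, 3, 1, 3, 4] [.sub [18, 27, 19, 29, 18, 25, 20, 30, 24, 29, 25] [.sub [24, 19, 24, 18, 18, 31, 24, 31, 24, 25, 29] [.out 1443]]],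
  .sub [2, 3, 4, 1, 2, 4, 3, 1, 2, 3, 1, 3, 4] [.out 3028],
  .sub [3, 1, 4, 1, 2, 4, 3, 1, 2, 3, 1, 3, 4] [.sub [18, 20, 19, 19, 30, 31, 25, 24, 25, 29, 29] [.out 1617]],
  .sub [2, 1, 4, 1, 2, 4, 3, 1, 2, 3, 1, 3, 4] [.sub [19, 25, 20, 18, 18, 20, 31, 30, 29] [.out 905]],
  .sub [1, 4, 3, 1, 2, 4, 3, 1, 2, 3, 1, 3, 4] [.sub [31, 19, 19, 31, 18, 24, 20, 20, 31, 25, 29] [.sub [19, 29, 18, 30, 20, 31, 29, 24, 30, 27, 29, 29] [.out 2087]]],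
  .sub [2, 4, 3, 1, 2, 4, 3, 1, 2, 3, 1, 3, 4] [.sub [24, 24, 24, 24, 18, 30, 20, 30, 24, 20, 30, 27, 29, 29] [.out 3066]],
  .sub [4, 1, 3, 1, 2, 4, 3, 1, 2, 3, 1, 3, 4] [.sub [24, 24, 19, 20, 19, 20, 30, 24, 27] [.out 3819]],
  .sub [2, 1, 3, 1, 2, 4, 3, 1, 2, 3, 1, 3, 4] [.out 2432],
  .sub [1, 2, 3, 1, 2, 4, 3, 1, 2, 3, 1, 3, 4] [.sub [27, 25, 18, 25, 18, 18, 30, 29, 24, 31, 27, 29, 29] [.out 2732]],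
  .sub [2, 1, 4, 1, 2, 1, 3, 1, 2, 3, 1, 3, 4] [.sub [19, 19, 31, 18, 31, 30, 29, 20, 20, 27, 30, 29, 29] [.out 1222]],
  .sub [1, 3, 4, 1, 3, 2, 3, 1, 2, 3, 1, 3, 4] [.sub [18, 18, 24, 18, 25, 24, 27, 24, 30, 25, 29] [.sub [27, 19, 18, 20, 18, 18, 20, 27, 31, 25, 20, 30, 27, 29] [.out 2896]]],
  .sub [3, 1, 4, 1, 3, 2, 3, 1, 2, 3, 1, 3, 4] [.out 2566],
  .sub [2, 1, 4, 1, 3, 2, 3, 1, 2, 3, 1, 3, 4] [.sub [18, 24, 20, 24, 18, 30, 31, 20, 25, 20, 30, 27, 29] [.out 1492]],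
  .sub [1, 2, 4, 1, 3, 2, 3, 1, 2, 3, 1, 3, 4] [.sub [18, 31, 18, 18, 27, 29, 31, 31, 27, 30, 29] [.out 2334]],
  .sub [4, 1, 3, 1, 3, 2, 3, 1, 2, 3, 1, 3, 4] [.sub [18, 20, 18, 18, 19, 18, 31, 24, 30, 25, 29] [.sub [25, 18, 31, 19, 18, 27, 24, 25, 24, 20, 25] [.out 601]]],
  .sub [1, 3, 2, 1, 3, 2, 3, 1, 2, 3, 1, 3, 4] [.out 3096],
  .sub [1, 4, 3, 4, 1, 2, 3, 1, 2, 3, 1, 3, 4] [.out 2345],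
  .sub [2, 4, 3, 4, 1, 2, 3, 1, 2, 3, 1, 3, 4] [.out 3984],
  .sub [4, 1, 3, 4, 1, 2, 3, 1, 2, 3, 1, 3, 4] [.out 3362],
  .sub [2, 1, 3, 4, 1, 2, 3, 1, 2, 3, 1, 3, 4] [.out 3902],
  .sub [4, 3, 1, 4, 1, 2, 3, 1, 2, 3, 1, 3, 4] [.sub [20, 27, 19, 27, 29, 24, 30, 25, 29] [.sub [24, 18, 18, 25, 31, 24, 30] [.out 1754]]],
  .sub [1, 3, 1, 4, 1, 2, 3, 1, 2, 3, 1, 3, 4] [.sub [20, 19, 20, 18, 29, 31, 20, 20, 24, 30, 25, 29, 29] [.sub [20, 18, 31, 24, 18, 25, 31, 24, 30, 27, 29, 29] [.bad [19, 25, 27, 18, 25, 31, 25, 31, 30, 25, 29, 29] 1]]],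
  .sub [3, 2, 1, 4, 1, 2, 3, 1, 2, 3, 1, 3, 4] [.out 3825],
  .sub [4, 1, 4, 3, 1, 2, 3, 1, 2, 3, 1, 3, 4] [.out 3747],
  .sub [3, 1, 4, 3, 1, 2, 3, 1, 2, 3, 1, 3, 4] [.out 3954],
  .sub [2, 1, 4, 3, 1, 2, 3, 1, 2, 3, 1, 3, 4] [.sub [27, 19, 18, 18, 18, 20, 25, 20, 31, 30, 25, 29] [.out 195]],
  .sub [3, 4, 1, 3, 1, 2, 3, 1, 2, 3, 1, 3, 4] [.out 3170],
  .sub [1, 4, 1, 3, 1, 2, 3, 1, 2, 3, 1, 3, 4] [.out 3949]]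

/-- Branches. -/
def kidsXPart34 : List Branch := [
  .sub [2, 4, 1, 3, 1, 2, 3, 1, 2, 3, 1, 3, 4] [.sub [27, 19, 19, 20, 18, 25, 24, 30, 25, 29] [.out 1838]],
  .sub [3, 2, 1, 3, 1, 2, 3, 1, 2, 3, 1, 3, 4] [.sub [19, 27, 19, 18, 27, 20, 20, 30] [.out 3040]],
  .sub [1, 2, 1, 3, 1, 2, 3, 1, 2, 3, 1, 3, 4] [.out 1594],
  .sub [4, 3, 2, 1, 3, 4, 1, 4, 3, 2, 1, 3, 4] [.sub [29, 24, 25, 18, 30, 31, 20, 30, 20, 29, 25, 29, 29] [.out 3478]],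
  .sub [1, 4, 3, 2, 3, 4, 1, 4, 3, 2, 1, 3, 4] [.out 2720],
  .sub [2, 1, 3, 2, 3, 4, 1, 4, 3, 2, 1, 3, 4] [.sub [20, 24, 18, 31, 19, 30, 24, 31, 31, 20, 30] [.out 1922]],
  .sub [1, 2, 3, 2, 3, 4, 1, 4, 3, 2, 1, 3, 4] [.sub [19, 31, 18, 20, 18, 18, 27, 29, 20, 20, 30, 27] [.sub [19, 24, 25, 19, 18, 31, 31, 27, 20, 20, 27, 29, 29] [.out 80]]],
  .sub [4, 3, 1, 2, 3, 4, 1, 4, 3, 2, 1, 3, 4] [.sub [19, 19, 27, 20, 18, 18, 31, 24, 20, 30] [.out 2025]],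
  .sub [1, 3, 1, 2, 3, 4, 1, 4, 3, 2, 1, 3, 4] [.out 2439],
  .sub [4, 3, 1, 2, 1, 4, 1, 4, 3, 2, 1, 3, 4] [.out 1892],
  .sub [1, 3, 1, 2, 1, 4, 1, 4, 3, 2, 1, 3, 4] [.out 2942],
  .sub [2, 3, 1, 2, 1, 4, 1, 4, 3, 2, 1, 3, 4] [.sub [24, 18, 30, 18, 18, 27, 31, 20, 27, 30, 29] [.sub [25, 19, 25, 18, 19, 31, 20, 20, 29, 25, 29] [.out 1221]]],
  .sub [4, 1, 4, 3, 2, 4, 1, 4, 3, 2, 1, 3, 4] [.sub [27, 31, 19, 19, 18, 27, 29, 20, 24, 27] [.sub [30, 24, 18, 24, 18, 20, 20, 20, 31, 20, 30, 25, 29] [.out 967]]],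
  .sub [2, 1, 4, 3, 2, 4, 1, 4, 3, 2, 1, 3, 4] [.sub [19, 18, 18, 18, 18, 31, 27, 25, 31, 20, 25, 29] [.sub [25, 19, 27, 31, 18, 30, 25, 27, 24, 29, 25, 29] [.out 1533]]],
  .sub [1, 2, 4, 3, 2, 4, 1, 4, 3, 2, 1, 3, 4] [.sub [19, 19, 20, 31, 19, 30, 24, 20, 30, 25] [.out 4001]],
  .sub [3, 2, 4, 1, 4, 3, 1, 4, 3, 2, 1, 3, 4] [.sub [19, 25, 24, 19, 18, 31, 20, 27, 24] [.out 3260]],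
  .sub [4, 3, 2, 1, 4, 3, 1, 4, 3, 2, 1, 3, 4] [.out 895],
  .sub [1, 3, 2, 1, 4, 3, 1, 4, 3, 2, 1, 3, 4] [.sub [31, 20, 18, 18, 19, 27, 25, 24, 31, 20, 27, 30, 29, 29] [.out 105]],
  .sub [2, 3, 2, 1, 4, 3, 1, 4, 3, 2, 1, 3, 4] [.out 3309],
  .sub [4, 1, 2, 1, 4, 3, 1, 4, 3, 2, 1, 3, 4] [.sub [18, 25, 27, 24, 18, 18, 25, 20, 30, 29, 29] [.out 1336]],
  .sub [3, 1, 2, 1, 4, 3, 1, 4, 3, 2, 1, 3, 4] [.sub [31, 25, 19, 25, 24, 30, 29] [.out 2973]],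
  .sub [3, 4, 1, 2, 4, 3, 1, 4, 3, 2, 1, 3, 4] [.sub [20, 24, 18, 30, 31, 30, 20, 30, 29] [.sub [25, 19, 19, 24, 18, 27, 31, 31, 20, 30, 27, 29, 29] [.out 688]]],
  .sub [1, 4, 1, 2, 4, 3, 1, 4, 3, 2, 1, 3, 4] [.sub [25, 19, 18, 19, 18, 18, 20, 31, 20, 29] [.sub [31, 19, 18, 30, 29, 24, 31, 29, 25, 29] [.out 3220]]],
  .sub [4, 3, 1, 2, 4, 3, 1, 4, 3, 2, 1, 3, 4] [.sub [27, 18, 19, 31, 31, 24, 25, 24, 30, 25, 29] [.out 3431]],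
  .sub [1, 3, 1, 2, 4, 3, 1, 4, 3, 2, 1, 3, 4] [.sub [29, 25, 18, 20, 19, 18, 25, 27, 20, 31, 30, 25] [.sub [19, 30, 24, 25, 19, 18, 27, 24, 29, 20, 20, 27, 30, 29, 29] [.out 1328]]],
  .sub [2, 3, 1, 2, 4, 3, 1, 4, 3, 2, 1, 3, 4] [.out 2049],
  .sub [1, 2, 1, 4, 1, 3, 1, 4, 3, 2, 1, 3, 4] [.sub [27, 24, 20, 19, 18, 25, 27, 25, 20, 27, 29] [.out 2126]],
  .sub [4, 3, 2, 4, 1, 3, 1, 4, 3, 2, 1, 3, 4] [.sub [18, 19, 18, 25, 18, 27, 29, 31, 24, 30, 25] [.sub [20, 29, 18, 24, 18, 27, 24, 30, 20, 30, 29] [.out 2167]]],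
  .sub [1, 3, 2, 4, 1, 3, 1, 4, 3, 2, 1, 3, 4] [.sub [25, 20, 19, 19, 20, 31, 29, 24, 30, 25, 29, 29] [.out 2472]],
  .sub [4, 1, 2, 4, 1, 3, 1, 4, 3, 2, 1, 3, 4] [.sub [20, 18, 20, 20, 18, 25, 24, 31, 30, 27, 29, 29] [.sub [31, 31, 18, 18, 20, 24, 20, 24, 30, 29, 29] [.out 3720]]],
  .sub [3, 1, 2, 4, 1, 3, 1, 4, 3, 2, 1, 3, 4] [.sub [20, 19, 20, 18, 18, 29, 31, 27, 25, 31, 27, 29] [.out 1177]],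
  .sub [1, 4, 3, 2, 1, 3, 1, 4, 3, 2, 1, 3, 4] [.out 3258],
  .sub [1, 2, 3, 2, 1, 3, 1, 4, 3, 2, 1, 3, 4] [.out 3685],
  .sub [3, 1, 4, 3, 2, 3, 1, 4, 3, 2, 1, 3, 4] [.out 2359],
  .sub [3, 2, 4, 3, 2, 3, 1, 4, 3, 2, 1, 3, 4] [.sub [19, 18, 27, 18, 18, 20, 31, 25, 20, 30, 25, 29, 29] [.out 3626]],
  .sub [1, 2, 4, 3, 2, 3, 1, 4, 3, 2, 1, 3, 4] [.out 1338],
  .sub [3, 4, 1, 3, 2, 3, 1, 4, 3, 2, 1, 3, 4] [.out 3230],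
  .sub [4, 3, 1, 3, 2, 3, 1, 4, 3, 2, 1, 3, 4] [.out 3553],
  .sub [2, 3, 1, 3, 2, 3, 1, 4, 3, 2, 1, 3, 4] [.sub [31, 25, 19, 25, 24, 30, 29] [.out 126]],
  .sub [1, 2, 1, 3, 2, 3, 1, 4, 3, 2, 1, 3, 4] [.out 2107],
  .sub [1, 3, 4, 1, 2, 3, 1, 4, 3, 2, 1, 3, 4] [.out 2631],
  .sub [3, 1, 4, 1, 2, 3, 1, 4, 3, 2, 1, 3, 4] [.sub [18, 19, 25, 27, 18, 30, 25, 31, 31, 29, 25] [.sub [25, 19, 25, 18, 19, 31, 20, 20, 29, 25, 29] [.out 689]]],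
  .sub [2, 1, 4, 1, 2, 3, 1, 4, 3, 2, 1, 3, 4] [.sub [20, 24, 24, 18, 31, 24, 29, 29] [.out 1540]],
  .sub [4, 1, 3, 1, 2, 3, 1, 4, 3, 2, 1, 3, 4] [.out 3626],
  .sub [2, 1, 3, 1, 2, 3, 1, 4, 3, 2, 1, 3, 4] [.sub [27, 19, 19, 20, 18, 29, 24, 31, 20, 29, 29] [.out 2357]],
  .sub [3, 4, 1, 4, 3, 2, 1, 4, 3, 2, 1, 3, 4] [.sub [30, 31, 18, 18, 18, 18, 25, 20, 20, 31, 27, 30] [.out 1731]],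
  .sub [2, 4, 1, 4, 3, 2, 1, 4, 3, 2, 1, 3, 4] [.sub [18, 18, 19, 20, 19, 29, 31, 30, 20, 24, 27] [.out 2883]],
  .sub [4, 3, 1, 4, 3, 2, 1, 4, 3, 2, 1, 3, 4] [.sub [20, 25, 18, 18, 18, 24, 25, 20, 30, 27, 29, 29] [.out 2164]],
  .sub [2, 3, 1, 4, 3, 2, 1, 4, 3, 2, 1, 3, 4] [.sub [20, 18, 30, 18, 19, 18, 27, 30, 31, 20, 25, 29, 29] [.out 2439]],
  .sub [3, 2, 1, 4, 3, 2, 1, 4, 3, 2, 1, 3, 4] [.out 1630],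
  .sub [1, 2, 1, 4, 3, 2, 1, 4, 3, 2, 1, 3, 4] [.out 3153],
  .sub [1, 3, 2, 4, 3, 2, 1, 4, 3, 2, 1, 3, 4] [.out 3790],
  .sub [2, 3, 2, 4, 3, 2, 1, 4, 3, 2, 1, 3, 4] [.out 3778],
  .sub [4, 1, 2, 4, 3, 2, 1, 4, 3, 2, 1, 3, 4] [.out 3685],
  .sub [3, 1, 2, 4, 3, 2, 1, 4, 3, 2, 1, 3, 4] [.sub [18, 20, 27, 19, 25, 20, 30, 20, 29, 29] [.out 1953]],
  .sub [1, 3, 4, 1, 3, 2, 1, 4, 3, 2, 1, 3, 4] [.out 3360],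
  .sub [2, 3, 4, 1, 3, 2, 1, 4, 3, 2, 1, 3, 4] [.out 3538],
  .sub [3, 2, 4, 1, 3, 2, 1, 4, 3, 2, 1, 3, 4] [.sub [19, 24, 31, 19, 20, 20, 30, 24, 20, 27, 30, 29, 29] [.sub [29, 19, 30, 19, 18, 30, 31, 20, 30, 20, 30] [.out 766]]],
  .sub [1, 2, 3, 1, 3, 2, 1, 4, 3, 2, 1, 3, 4] [.out 3438],
  .sub [4, 1, 2, 1, 3, 2, 1, 4, 3, 2, 1, 3, 4] [.out 2902],
  .sub [3, 4, 1, 2, 3, 2, 1, 4, 3, 2, 1, 3, 4] [.out 2133],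
  .sub [1, 4, 1, 2, 3, 2, 1, 4, 3, 2, 1, 3, 4] [.out 3357],
  .sub [4, 3, 1, 2, 3, 2, 1, 4, 3, 2, 1, 3, 4] [.out 3900],
  .sub [1, 3, 1, 2, 3, 2, 1, 4, 3, 2, 1, 3, 4] [.sub [27, 31, 19, 19, 19, 29, 31, 25, 31, 20, 27, 30, 29, 29] [.out 3027]]]

/-- Branches. -/
def kidsXPart35 : List Branch := [
  .sub [2, 3, 1, 2, 3, 2, 1, 4, 3, 2, 1, 3, 4] [.sub [27, 19, 20, 31, 19, 18, 29, 30, 20, 30, 20, 25] [.out 3380]],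
  .sub [4, 1, 4, 3, 1, 2, 1, 4, 3, 2, 1, 3, 4] [.sub [31, 19, 31, 20, 19, 25, 31, 31, 24, 20, 30, 27, 29] [.out 300]],
  .sub [2, 1, 4, 3, 1, 2, 1, 4, 3, 2, 1, 3, 4] [.sub [19, 29, 20, 18, 18, 24, 25, 31, 20, 27, 29] [.out 2295]],
  .sub [4, 3, 2, 4, 1, 3, 2, 4, 3, 2, 1, 3, 4] [.sub [24, 18, 18, 19, 18, 24, 27, 24, 20, 30, 29] [.out 3034]],
  .sub [3, 2, 4, 3, 1, 3, 2, 4, 3, 2, 1, 3, 4] [.sub [31, 19, 29, 18, 31, 25, 20, 20, 29, 29] [.sub [27, 24, 20, 18, 29, 31, 24, 30] [.bad [] 1]]],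
  .sub [4, 3, 2, 3, 1, 3, 2, 4, 3, 2, 1, 3, 4] [.out 3750],
  .sub [2, 3, 2, 3, 1, 3, 2, 4, 3, 2, 1, 3, 4] [.sub [20, 31, 18, 19, 18, 27, 27, 30, 20, 24, 30, 25, 29, 29] [.sub [25, 20, 19, 19, 30, 29, 31, 27, 29] [.out 1145]]],
  .sub [2, 4, 3, 2, 1, 3, 2, 4, 3, 2, 1, 3, 4] [.out 4054],
  .sub [4, 1, 3, 2, 1, 3, 2, 4, 3, 2, 1, 3, 4] [.sub [20, 18, 18, 19, 27, 31, 30, 20, 20, 29, 29] [.out 2116]],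
  .sub [3, 1, 3, 2, 1, 3, 2, 4, 3, 2, 1, 3, 4] [.out 4012],
  .sub [1, 2, 3, 2, 1, 3, 2, 4, 3, 2, 1, 3, 4] [.sub [24, 20, 18, 27, 19, 18, 30, 25, 27, 24, 27, 29] [.sub [31, 31, 27, 18, 18, 20, 29, 25, 29, 29] [.out 4005]]],
  .sub [3, 4, 1, 2, 1, 3, 2, 4, 3, 2, 1, 3, 4] [.sub [31, 19, 29, 24, 18, 24, 24, 20, 20, 27, 29] [.sub [20, 19, 27, 31, 18, 24, 30, 31, 20, 27, 29, 29] [.out 1675]]],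
  .sub [4, 3, 1, 2, 1, 3, 2, 4, 3, 2, 1, 3, 4] [.out 4059],
  .sub [1, 3, 1, 2, 1, 3, 2, 4, 3, 2, 1, 3, 4] [.out 3481],
  .sub [4, 3, 4, 1, 2, 3, 2, 4, 3, 2, 1, 3, 4] [.sub [31, 30, 31, 19, 31, 29, 20, 24, 20, 27, 29, 29] [.out 379]],
  .sub [1, 3, 4, 1, 2, 3, 2, 4, 3, 2, 1, 3, 4] [.sub [27, 18, 18, 19, 24, 27, 31, 20, 20, 25] [.out 1462]],
  .sub [2, 3, 4, 1, 2, 3, 2, 4, 3, 2, 1, 3, 4] [.out 2084],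
  .sub [4, 1, 3, 1, 2, 3, 2, 4, 3, 2, 1, 3, 4] [.sub [19, 18, 18, 18, 18, 31, 27, 25, 31, 20, 25, 29] [.out 721]],
  .sub [2, 1, 3, 1, 2, 3, 2, 4, 3, 2, 1, 3, 4] [.sub [24, 24, 24, 24, 18, 30, 20, 29, 25, 29, 29] [.sub [18, 19, 31, 20, 18, 20, 30, 20, 31, 25, 29] [.out 167]]],
  .sub [3, 4, 1, 2, 4, 3, 4, 1, 3, 2, 1, 3, 4] [.out 3868],
  .sub [4, 3, 2, 4, 1, 3, 4, 1, 3, 2, 1, 3, 4] [.out 2960],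
  .sub [1, 3, 2, 4, 1, 3, 4, 1, 3, 2, 1, 3, 4] [.out 2335],
  .sub [2, 3, 2, 4, 1, 3, 4, 1, 3, 2, 1, 3, 4] [.sub [25, 19, 19, 20, 19, 24, 31, 24, 20, 20, 30, 25, 29, 29] [.out 3326]],
  .sub [3, 1, 2, 4, 1, 3, 4, 1, 3, 2, 1, 3, 4] [.sub [29, 25, 24, 18, 18, 27, 24, 20, 27, 29] [.sub [31, 30, 19, 20, 18, 25, 24, 31, 27, 30, 29, 29] [.out 2594]]],
  .sub [1, 3, 2, 3, 1, 3, 4, 1, 3, 2, 1, 3, 4] [.sub [25, 24, 27, 18, 18, 24, 31, 29, 24, 27, 29] [.out 1285]],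
  .sub [2, 3, 2, 3, 1, 3, 4, 1, 3, 2, 1, 3, 4] [.out 3454],
  .sub [4, 1, 2, 3, 1, 3, 4, 1, 3, 2, 1, 3, 4] [.out 2285],
  .sub [3, 1, 2, 3, 1, 3, 4, 1, 3, 2, 1, 3, 4] [.sub [27, 29, 19, 30, 18, 18, 31, 29, 20, 24, 20, 27, 29] [.sub [19, 31, 24, 18, 25, 24, 20, 24, 30, 27, 29, 29] [.out 2731]]],
  .sub [1, 4, 3, 2, 1, 3, 4, 1, 3, 2, 1, 3, 4] [.sub [25, 20, 19, 29, 18, 27, 29, 30, 24, 30, 29] [.out 265]],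
  .sub [2, 4, 3, 2, 1, 3, 4, 1, 3, 2, 1, 3, 4] [.sub [24, 30, 18, 18, 19, 18, 25, 31, 29, 25, 29] [.out 3019]],
  .sub [3, 4, 1, 2, 1, 3, 4, 1, 3, 2, 1, 3, 4] [.out 3683],
  .sub [4, 3, 1, 2, 1, 3, 4, 1, 3, 2, 1, 3, 4] [.sub [24, 19, 30, 20, 24, 20, 27, 29] [.out 2491]],
  .sub [1, 3, 1, 2, 1, 3, 4, 1, 3, 2, 1, 3, 4] [.sub [20, 31, 30, 18, 19, 20, 30, 20, 29, 29] [.out 552]],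
  .sub [2, 3, 1, 2, 1, 3, 4, 1, 3, 2, 1, 3, 4] [.sub [24, 20, 25, 18, 27, 31, 25, 20, 20] [.out 3532]],
  .sub [3, 1, 4, 3, 2, 3, 4, 1, 3, 2, 1, 3, 4] [.sub [20, 24, 19, 29, 18, 27, 31, 20, 29, 24, 27, 30, 29, 29] [.out 2017]],
  .sub [3, 2, 4, 3, 2, 3, 4, 1, 3, 2, 1, 3, 4] [.out 3914],
  .sub [1, 2, 4, 3, 2, 3, 4, 1, 3, 2, 1, 3, 4] [.sub [18, 19, 24, 19, 20, 20, 31, 24, 27, 29, 29] [.out 2034]],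
  .sub [4, 3, 1, 3, 2, 3, 4, 1, 3, 2, 1, 3, 4] [.out 3940],
  .sub [1, 3, 1, 3, 2, 3, 4, 1, 3, 2, 1, 3, 4] [.out 778],
  .sub [1, 3, 4, 1, 2, 3, 4, 1, 3, 2, 1, 3, 4] [.out 3761],
  .sub [2, 3, 4, 1, 2, 3, 4, 1, 3, 2, 1, 3, 4] [.sub [24, 20, 25, 18, 27, 31, 25, 20, 20] [.out 2296]],
  .sub [1, 4, 3, 1, 2, 3, 4, 1, 3, 2, 1, 3, 4] [.sub [20, 31, 20, 18, 19, 24, 31, 20, 24, 20, 25] [.out 3443]],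
  .sub [2, 4, 3, 1, 2, 3, 4, 1, 3, 2, 1, 3, 4] [.out 2926],
  .sub [3, 2, 3, 1, 2, 3, 4, 1, 3, 2, 1, 3, 4] [.sub [18, 18, 30, 19, 18, 24, 30, 25, 31, 29, 25] [.out 4012]],
  .sub [1, 2, 3, 1, 2, 3, 4, 1, 3, 2, 1, 3, 4] [.out 3407],
  .sub [4, 3, 1, 3, 2, 1, 4, 1, 3, 2, 1, 3, 4] [.sub [24, 19, 25, 19, 20, 31, 20, 24, 30, 29, 29] [.sub [19, 29, 31, 29, 19, 18, 24, 25, 27, 31, 25] [.out 1465]]],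
  .sub [1, 3, 1, 3, 2, 1, 4, 1, 3, 2, 1, 3, 4] [.sub [31, 27, 24, 18, 18, 29, 31, 20, 20, 29, 25, 29, 29] [.out 932]],
  .sub [2, 3, 1, 3, 2, 1, 4, 1, 3, 2, 1, 3, 4] [.sub [29, 24, 31, 18, 19, 24, 30, 24, 20, 30, 25] [.out 2723]],
  .sub [3, 2, 1, 3, 2, 1, 4, 1, 3, 2, 1, 3, 4] [.out 3175],
  .sub [4, 3, 4, 1, 2, 1, 4, 1, 3, 2, 1, 3, 4] [.sub [18, 18, 18, 24, 18, 30, 25, 20, 31, 25, 29] [.out 2912]],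
  .sub [2, 3, 4, 1, 2, 1, 4, 1, 3, 2, 1, 3, 4] [.out 3795],
  .sub [4, 1, 3, 1, 2, 1, 4, 1, 3, 2, 1, 3, 4] [.sub [20, 24, 20, 24, 18, 27, 24, 31, 31, 27, 29, 29] [.out 1935]],
  .sub [2, 1, 3, 1, 2, 1, 4, 1, 3, 2, 1, 3, 4] [.sub [25, 27, 24, 18, 18, 30, 31, 27, 20, 20, 29] [.out 976]],
  .sub [1, 2, 3, 1, 2, 1, 4, 1, 3, 2, 1, 3, 4] [.out 3973],
  .sub [3, 4, 1, 4, 3, 2, 4, 1, 3, 2, 1, 3, 4] [.sub [31, 31, 27, 18, 18, 30, 24, 27, 24, 20, 27, 29, 29] [.out 30]],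
  .sub [4, 3, 1, 4, 3, 2, 4, 1, 3, 2, 1, 3, 4] [.sub [24, 18, 24, 18, 31, 29, 20, 24, 20, 30, 29, 29] [.sub [20, 31, 18, 19, 30, 25, 20, 20, 30, 29, 29] [.out 3672]]],
  .sub [1, 3, 1, 4, 3, 2, 4, 1, 3, 2, 1, 3, 4] [.sub [29, 18, 31, 18, 18, 24, 27, 31, 20, 30, 27, 29] [.out 3712]],
  .sub [2, 3, 1, 4, 3, 2, 4, 1, 3, 2, 1, 3, 4] [.out 2939],
  .sub [3, 2, 1, 4, 3, 2, 4, 1, 3, 2, 1, 3, 4] [.sub [18, 25, 20, 24, 19, 29, 31, 25, 31, 29, 25, 29] [.sub [20, 27, 18, 31, 19, 27, 29, 30, 24, 29, 25] [.out 3661]]],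
  .sub [1, 2, 1, 4, 3, 2, 4, 1, 3, 2, 1, 3, 4] [.sub [27, 20, 18, 30, 20, 20, 24] [.sub [30, 31, 20, 25, 18, 30, 20, 30, 24, 27] [.out 317]]],
  .sub [1, 3, 2, 4, 3, 2, 4, 1, 3, 2, 1, 3, 4] [.sub [20, 20, 25, 19, 20, 31, 24, 27, 29] [.sub [24, 30, 18, 24, 18, 30, 25, 31, 25, 29, 29] [.out 3680]]],
  .sub [2, 3, 2, 4, 3, 2, 4, 1, 3, 2, 1, 3, 4] [.out 2362],
  .sub [4, 1, 2, 4, 3, 2, 4, 1, 3, 2, 1, 3, 4] [.out 3466],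
  .sub [3, 1, 2, 4, 3, 2, 4, 1, 3, 2, 1, 3, 4] [.out 3589]]

/-- Branches. -/
def kidsXPart36 : List Branch := [
  .sub [1, 3, 4, 1, 3, 2, 4, 1, 3, 2, 1, 3, 4] [.sub [31, 24, 27, 18, 19, 24, 25, 24, 31, 27, 30, 29] [.out 669]],
  .sub [3, 2, 4, 1, 3, 2, 4, 1, 3, 2, 1, 3, 4] [.out 3160],
  .sub [1, 2, 4, 1, 3, 2, 4, 1, 3, 2, 1, 3, 4] [.out 1269],
  .sub [4, 1, 2, 1, 3, 2, 4, 1, 3, 2, 1, 3, 4] [.sub [31, 19, 24, 27, 18, 25, 24, 20, 25] [.out 1251]],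
  .sub [3, 1, 2, 1, 3, 2, 4, 1, 3, 2, 1, 3, 4] [.sub [18, 25, 20, 20, 18, 24, 27, 27, 31, 30] [.out 3347]],
  .sub [3, 4, 1, 2, 3, 2, 4, 1, 3, 2, 1, 3, 4] [.sub [24, 27, 18, 24, 18, 27, 30, 20, 24, 30, 29, 29] [.out 1709]],
  .sub [4, 3, 1, 2, 3, 2, 4, 1, 3, 2, 1, 3, 4] [.sub [29, 31, 31, 19, 18, 27, 31, 25, 31, 27, 30, 29, 29] [.out 2479]],
  .sub [1, 3, 1, 2, 3, 2, 4, 1, 3, 2, 1, 3, 4] [.sub [20, 25, 27, 18, 18, 24, 31, 25, 20, 25] [.out 2763]],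
  .sub [1, 4, 3, 4, 1, 2, 4, 1, 3, 2, 1, 3, 4] [.out 2671],
  .sub [3, 2, 3, 4, 1, 2, 4, 1, 3, 2, 1, 3, 4] [.out 2908],
  .sub [4, 1, 4, 3, 1, 2, 4, 1, 3, 2, 1, 3, 4] [.out 3966],
  .sub [3, 1, 4, 3, 1, 2, 4, 1, 3, 2, 1, 3, 4] [.out 2671],
  .sub [2, 1, 4, 3, 1, 2, 4, 1, 3, 2, 1, 3, 4] [.sub [30, 20, 29, 31, 18, 27, 29, 30, 31, 30, 27] [.sub [20, 30, 29, 18, 19, 18, 25, 20, 30, 24, 20, 30, 25, 29] [.out 594]]],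
  .sub [2, 1, 4, 3, 2, 4, 3, 1, 3, 2, 1, 3, 4] [.sub [25, 20, 19, 19, 18, 27, 25, 20, 24, 25, 29, 29] [.out 3951]],
  .sub [3, 2, 4, 3, 2, 4, 3, 1, 3, 2, 1, 3, 4] [.out 3609],
  .sub [1, 2, 4, 3, 2, 4, 3, 1, 3, 2, 1, 3, 4] [.sub [18, 18, 24, 18, 25, 27, 24, 29, 24, 27, 30] [.sub [19, 18, 31, 19, 30, 31, 25, 31, 25] [.out 1205]]],
  .sub [2, 4, 3, 1, 2, 4, 3, 1, 3, 2, 1, 3, 4] [.out 1324],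
  .sub [1, 2, 3, 1, 2, 4, 3, 1, 3, 2, 1, 3, 4] [.out 3576],
  .sub [4, 3, 2, 3, 4, 1, 3, 1, 3, 2, 1, 3, 4] [.out 3504],
  .sub [1, 3, 2, 3, 4, 1, 3, 1, 3, 2, 1, 3, 4] [.sub [30, 27, 24, 18, 18, 24, 27, 31, 20, 20, 27] [.out 3253]],
  .sub [1, 4, 3, 2, 4, 1, 3, 1, 3, 2, 1, 3, 4] [.sub [29, 20, 18, 18, 27, 24, 20, 20, 30, 25] [.out 369]],
  .sub [2, 4, 3, 2, 4, 1, 3, 1, 3, 2, 1, 3, 4] [.out 3944],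
  .sub [4, 1, 3, 2, 4, 1, 3, 1, 3, 2, 1, 3, 4] [.out 3270],
  .sub [3, 1, 3, 2, 4, 1, 3, 1, 3, 2, 1, 3, 4] [.sub [30, 19, 27, 18, 24, 29, 31, 20, 20, 30, 25, 29] [.out 3013]],
  .sub [2, 1, 3, 2, 4, 1, 3, 1, 3, 2, 1, 3, 4] [.out 3038],
  .sub [3, 4, 1, 2, 4, 1, 3, 1, 3, 2, 1, 3, 4] [.sub [19, 18, 25, 19, 18, 24, 27, 31, 25, 20, 30, 25, 29, 29] [.out 2684]],
  .sub [1, 3, 1, 2, 4, 1, 3, 1, 3, 2, 1, 3, 4] [.sub [31, 24, 18, 19, 18, 24, 27, 30, 31, 30, 27] [.sub [19, 19, 18, 20, 18, 18, 29, 24, 20, 30, 29] [.out 2745]]],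
  .sub [3, 1, 4, 3, 2, 1, 3, 1, 3, 2, 1, 3, 4] [.sub [25, 24, 25, 19, 27, 25, 20, 31, 25, 29, 29] [.out 2964]],
  .sub [3, 2, 4, 3, 2, 1, 3, 1, 3, 2, 1, 3, 4] [.sub [19, 18, 24, 24, 18, 24, 30, 20, 31, 30, 27, 29] [.out 2862]],
  .sub [3, 4, 1, 3, 2, 1, 3, 1, 3, 2, 1, 3, 4] [.sub [30, 25, 18, 31, 18, 25, 31, 29, 30, 24, 30, 25, 29, 29] [.out 825]],
  .sub [2, 4, 1, 3, 2, 1, 3, 1, 3, 2, 1, 3, 4] [.out 3649],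
  .sub [4, 3, 1, 3, 2, 1, 3, 1, 3, 2, 1, 3, 4] [.out 1333],
  .sub [2, 3, 1, 3, 2, 1, 3, 1, 3, 2, 1, 3, 4] [.sub [19, 24, 18, 18, 18, 24, 20, 24, 27, 24, 30, 27, 29] [.sub [31, 31, 18, 18, 20, 30, 20, 30, 29] [.out 2180]]],
  .sub [3, 2, 1, 3, 2, 1, 3, 1, 3, 2, 1, 3, 4] [.out 2306],
  .sub [1, 2, 1, 3, 2, 1, 3, 1, 3, 2, 1, 3, 4] [.sub [18, 18, 31, 25, 18, 31, 31, 25, 20, 27, 29, 29] [.out 3996]],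
  .sub [4, 1, 2, 3, 2, 1, 3, 1, 3, 2, 1, 3, 4] [.out 3543],
  .sub [3, 1, 2, 3, 2, 1, 3, 1, 3, 2, 1, 3, 4] [.sub [18, 30, 18, 18, 18, 18, 27, 20, 20, 31, 30, 25, 29] [.sub [18, 30, 25, 18, 18, 30, 27, 27, 24, 30, 25, 29] [.done 10]]],
  .sub [1, 3, 4, 1, 2, 1, 3, 1, 3, 2, 1, 3, 4] [.sub [31, 20, 31, 19, 18, 30, 25, 31, 20, 29] [.out 1144]],
  .sub [2, 3, 2, 4, 3, 2, 3, 1, 3, 2, 1, 3, 4] [.out 1507],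
  .sub [4, 1, 2, 4, 3, 2, 3, 1, 3, 2, 1, 3, 4] [.sub [18, 29, 19, 20, 19, 20, 29, 31, 30, 27, 29, 29] [.out 1228]],
  .sub [3, 4, 1, 2, 3, 2, 3, 1, 3, 2, 1, 3, 4] [.out 3431],
  .sub [1, 4, 1, 2, 3, 2, 3, 1, 3, 2, 1, 3, 4] [.out 3417],
  .sub [4, 3, 1, 2, 3, 2, 3, 1, 3, 2, 1, 3, 4] [.out 3129],
  .sub [1, 3, 1, 2, 3, 2, 3, 1, 3, 2, 1, 3, 4] [.out 2760],
  .sub [1, 2, 4, 3, 1, 2, 3, 1, 3, 2, 1, 3, 4] [.sub [24, 29, 20, 24, 18, 27, 31, 30, 20, 27, 30] [.out 2199]],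
  .sub [1, 3, 2, 3, 1, 2, 3, 1, 3, 2, 1, 3, 4] [.sub [18, 31, 19, 25, 27, 31, 31, 27, 30, 29, 29] [.out 1856]],
  .sub [4, 1, 2, 3, 1, 2, 3, 1, 3, 2, 1, 3, 4] [.sub [18, 31, 18, 20, 18, 18, 24, 20, 20, 29, 25, 29, 29] [.sub [18, 29, 18, 31, 18, 18, 25, 24, 30, 24, 20, 25] [.out 739]]],
  .sub [3, 1, 2, 3, 1, 2, 3, 1, 3, 2, 1, 3, 4] [.out 2281],
  .sub [2, 3, 4, 1, 4, 3, 2, 1, 3, 2, 1, 3, 4] [.out 4044],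
  .sub [3, 2, 4, 1, 4, 3, 2, 1, 3, 2, 1, 3, 4] [.sub [30, 20, 20, 20, 18, 18, 30, 20, 30, 29, 29] [.out 3613]],
  .sub [1, 4, 3, 1, 4, 3, 2, 1, 3, 2, 1, 3, 4] [.sub [25, 31, 18, 18, 19, 30, 20, 31, 29, 24, 29, 25] [.out 1861]],
  .sub [2, 4, 3, 1, 4, 3, 2, 1, 3, 2, 1, 3, 4] [.out 2704],
  .sub [4, 1, 3, 1, 4, 3, 2, 1, 3, 2, 1, 3, 4] [.sub [27, 18, 18, 29, 18, 18, 30, 31, 31, 27] [.out 207]],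
  .sub [2, 1, 3, 1, 4, 3, 2, 1, 3, 2, 1, 3, 4] [.out 3297],
  .sub [3, 2, 3, 1, 4, 3, 2, 1, 3, 2, 1, 3, 4] [.out 2235],
  .sub [1, 2, 3, 1, 4, 3, 2, 1, 3, 2, 1, 3, 4] [.out 2731],
  .sub [4, 1, 2, 1, 4, 3, 2, 1, 3, 2, 1, 3, 4] [.sub [25, 19, 18, 20, 18, 18, 30, 31, 24, 31, 25] [.out 667]],
  .sub [3, 1, 2, 1, 4, 3, 2, 1, 3, 2, 1, 3, 4] [.sub [31, 18, 18, 18, 24, 31, 31, 31, 24, 27] [.out 3495]],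
  .sub [3, 1, 3, 2, 4, 3, 2, 1, 3, 2, 1, 3, 4] [.sub [19, 18, 27, 20, 18, 18, 20, 25, 29] [.sub [30, 20, 27, 18, 18, 24, 31, 30, 20, 29] [.out 2164]]],
  .sub [1, 2, 3, 2, 4, 3, 2, 1, 3, 2, 1, 3, 4] [.out 3290],
  .sub [2, 3, 1, 2, 4, 3, 2, 1, 3, 2, 1, 3, 4] [.sub [19, 18, 24, 24, 18, 24, 30, 20, 31, 30, 27, 29] [.sub [18, 27, 24, 31, 19, 18, 27, 24, 27, 31, 20, 30, 27, 29] [.out 2131]]],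
  .sub [2, 4, 3, 4, 1, 3, 2, 1, 3, 2, 1, 3, 4] [.out 1854],
  .sub [4, 1, 3, 4, 1, 3, 2, 1, 3, 2, 1, 3, 4] [.sub [25, 20, 25, 19, 18, 27, 31, 24, 29, 24, 30, 27, 29, 29] [.out 977]],
  .sub [3, 1, 3, 4, 1, 3, 2, 1, 3, 2, 1, 3, 4] [.sub [24, 19, 24, 18, 19, 31, 30, 20, 30] [.out 3824]]]

/-- Branches. -/
def kidsXPart37 : List Branch := [
  .sub [3, 2, 1, 4, 1, 3, 2, 1, 3, 2, 1, 3, 4] [.sub [25, 24, 19, 29, 18, 29, 24, 31, 30] [.sub [30, 27, 20, 18, 31, 29, 20, 24, 29, 25, 29, 29] [.out 1145]]],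
  .sub [2, 1, 4, 3, 1, 3, 2, 1, 3, 2, 1, 3, 4] [.sub [19, 20, 29, 31, 18, 31, 20, 24, 31, 29, 25] [.out 1418]],
  .sub [1, 4, 1, 3, 1, 3, 2, 1, 3, 2, 1, 3, 4] [.sub [19, 19, 24, 24, 18, 27, 31, 29, 20, 20, 30] [.out 2367]],
  .sub [3, 2, 1, 3, 1, 3, 2, 1, 3, 2, 1, 3, 4] [.out 1075],
  .sub [3, 4, 1, 2, 1, 3, 2, 1, 3, 2, 1, 3, 4] [.sub [30, 24, 27, 18, 19, 30, 24, 30, 29, 29] [.out 718]],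
  .sub [4, 3, 4, 1, 2, 3, 2, 1, 3, 2, 1, 3, 4] [.out 3304],
  .sub [1, 3, 4, 1, 2, 3, 2, 1, 3, 2, 1, 3, 4] [.sub [24, 25, 27, 18, 20, 29, 24, 31, 20, 30, 25, 29] [.out 96]],
  .sub [2, 3, 4, 1, 2, 3, 2, 1, 3, 2, 1, 3, 4] [.sub [31, 25, 31, 19, 18, 27, 20, 31, 20, 30, 25, 29, 29] [.out 3378]],
  .sub [1, 4, 3, 1, 2, 3, 2, 1, 3, 2, 1, 3, 4] [.sub [29, 18, 27, 20, 18, 20, 27, 24, 25, 29] [.out 2338]],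
  .sub [4, 1, 3, 1, 2, 3, 2, 1, 3, 2, 1, 3, 4] [.out 3509],
  .sub [3, 4, 1, 3, 4, 1, 2, 1, 3, 2, 1, 3, 4] [.out 2030],
  .sub [1, 4, 1, 3, 4, 1, 2, 1, 3, 2, 1, 3, 4] [.sub [24, 19, 24, 31, 18, 24, 27, 24, 29, 25, 29, 29] [.out 1698]],
  .sub [1, 3, 1, 4, 3, 1, 2, 1, 3, 2, 1, 3, 4] [.out 1882],
  .sub [2, 3, 1, 4, 3, 1, 2, 1, 3, 2, 1, 3, 4] [.sub [18, 20, 24, 19, 18, 20, 24, 30, 31, 24, 30, 27, 29] [.sub [19, 20, 20, 19, 18, 25, 31, 31, 20, 20, 30, 25, 29] [.out 2004]]],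
  .sub [4, 3, 2, 4, 3, 1, 2, 1, 3, 2, 1, 3, 4] [.out 3496],
  .sub [2, 3, 2, 4, 3, 1, 2, 1, 3, 2, 1, 3, 4] [.out 3129],
  .sub [1, 3, 4, 1, 3, 1, 2, 1, 3, 2, 1, 3, 4] [.sub [18, 24, 19, 29, 18, 20, 20, 30, 24, 29] [.sub [29, 24, 27, 18, 20, 29, 31] [.out 371]]],
  .sub [3, 1, 4, 1, 3, 1, 2, 1, 3, 2, 1, 3, 4] [.out 945],
  .sub [3, 2, 4, 1, 3, 1, 2, 1, 3, 2, 1, 3, 4] [.out 2760],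
  .sub [1, 2, 4, 1, 3, 1, 2, 1, 3, 2, 1, 3, 4] [.out 3990],
  .sub [4, 3, 2, 1, 3, 1, 2, 1, 3, 2, 1, 3, 4] [.out 2676],
  .sub [1, 3, 2, 1, 3, 1, 2, 1, 3, 2, 1, 3, 4] [.out 2140],
  .sub [4, 1, 2, 1, 3, 1, 2, 1, 3, 2, 1, 3, 4] [.sub [18, 29, 18, 19, 18, 31, 24, 31, 25, 29] [.out 2458]],
  .sub [1, 4, 3, 2, 3, 1, 2, 1, 3, 2, 1, 3, 4] [.sub [31, 25, 18, 31, 30, 24, 30, 27] [.out 207]],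
  .sub [3, 4, 1, 2, 3, 1, 2, 1, 3, 2, 1, 3, 4] [.sub [18, 20, 24, 18, 20, 31, 20, 25, 29] [.out 3714]],
  .sub [4, 3, 1, 2, 3, 1, 2, 1, 3, 2, 1, 3, 4] [.sub [29, 31, 19, 19, 18, 31, 20, 20, 25, 20, 27, 30] [.out 3050]],
  .sub [1, 3, 1, 2, 3, 1, 2, 1, 3, 2, 1, 3, 4] [.sub [25, 19, 24, 19, 30, 24, 31, 20, 20, 29] [.sub [18, 31, 18, 18, 20, 29, 24, 30, 29, 29] [.out 1911]]],
  .sub [2, 3, 1, 2, 3, 1, 2, 1, 3, 2, 1, 3, 4] [.sub [29, 20, 20, 18, 31, 25, 20, 24] [.out 2335]],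
  .sub [1, 2, 1, 4, 3, 4, 1, 2, 3, 2, 1, 3, 4] [.sub [29, 25, 18, 18, 25, 20, 31, 20, 30, 27, 29, 29] [.sub [19, 24, 19, 19, 19, 30, 27, 24, 27, 24, 29, 25, 29] [.out 3824]]],
  .sub [1, 3, 2, 4, 3, 4, 1, 2, 3, 2, 1, 3, 4] [.sub [30, 31, 20, 19, 18, 24, 20, 25, 20, 20, 30, 25] [.out 2786]],
  .sub [2, 3, 2, 4, 3, 4, 1, 2, 3, 2, 1, 3, 4] [.out 3823],
  .sub [3, 1, 2, 4, 3, 4, 1, 2, 3, 2, 1, 3, 4] [.out 1622],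
  .sub [2, 3, 4, 1, 3, 4, 1, 2, 3, 2, 1, 3, 4] [.sub [24, 29, 18, 18, 18, 20, 25, 24, 20, 30, 25, 29, 29] [.sub [31, 20, 24, 18, 19, 31, 27, 20, 31, 20, 30, 29] [.out 2868]]],
  .sub [2, 4, 3, 1, 3, 4, 1, 2, 3, 2, 1, 3, 4] [.sub [29, 19, 29, 20, 18, 24, 25, 31, 25, 20, 29, 25, 29, 29] [.out 2769]],
  .sub [3, 2, 3, 1, 3, 4, 1, 2, 3, 2, 1, 3, 4] [.sub [31, 27, 19, 31, 18, 25, 31, 31, 20, 25] [.out 1044]],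
  .sub [1, 2, 3, 1, 3, 4, 1, 2, 3, 2, 1, 3, 4] [.sub [24, 20, 20, 18, 18, 31, 30, 27, 31, 27, 30] [.out 2328]],
  .sub [1, 4, 3, 2, 4, 3, 1, 2, 3, 2, 1, 3, 4] [.out 3565],
  .sub [2, 4, 3, 2, 4, 3, 1, 2, 3, 2, 1, 3, 4] [.out 1801],
  .sub [4, 1, 3, 2, 4, 3, 1, 2, 3, 2, 1, 3, 4] [.out 3822],
  .sub [3, 1, 3, 2, 4, 3, 1, 2, 3, 2, 1, 3, 4] [.out 1920],
  .sub [2, 1, 3, 2, 4, 3, 1, 2, 3, 2, 1, 3, 4] [.out 920],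
  .sub [1, 2, 3, 2, 4, 3, 1, 2, 3, 2, 1, 3, 4] [.sub [18, 20, 24, 19, 18, 30, 31, 20, 20, 20, 27, 30, 29] [.sub [19, 30, 25, 20, 18, 31, 31, 31, 30, 25, 29] [.out 2745]]],
  .sub [1, 3, 1, 2, 4, 3, 1, 2, 3, 2, 1, 3, 4] [.sub [31, 29, 18, 19, 18, 20, 31, 30, 20, 29, 25, 29, 29] [.out 1468]],
  .sub [2, 3, 1, 2, 4, 3, 1, 2, 3, 2, 1, 3, 4] [.sub [29, 19, 31, 27, 18, 20, 20, 20, 31, 20, 29, 25, 29] [.sub [24, 31, 31, 18, 18, 31, 25, 20, 24, 30, 25, 29, 29] [.out 263]]],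
  .sub [2, 1, 3, 4, 1, 3, 1, 2, 3, 2, 1, 3, 4] [.sub [31, 20, 18, 29, 24, 25, 24, 20, 25] [.out 2103]],
  .sub [1, 2, 3, 4, 1, 3, 1, 2, 3, 2, 1, 3, 4] [.sub [19, 18, 18, 19, 18, 30, 27, 27, 24, 29, 25, 29] [.out 635]],
  .sub [3, 1, 4, 3, 2, 3, 1, 2, 3, 2, 1, 3, 4] [.out 2451],
  .sub [4, 3, 1, 3, 2, 3, 1, 2, 3, 2, 1, 3, 4] [.out 3859],
  .sub [4, 3, 4, 1, 2, 3, 1, 2, 3, 2, 1, 3, 4] [.out 2468],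
  .sub [1, 4, 3, 1, 2, 3, 1, 2, 3, 2, 1, 3, 4] [.out 3667],
  .sub [2, 4, 3, 1, 2, 3, 1, 2, 3, 2, 1, 3, 4] [.sub [18, 19, 20, 19, 20, 29, 20, 31, 29, 25] [.sub [18, 31, 31, 20, 18, 18, 30, 27, 31, 20, 25, 29] [.out 3496]]],
  .sub [3, 2, 3, 1, 2, 3, 1, 2, 3, 2, 1, 3, 4] [.sub [25, 19, 27, 19, 27, 31, 20, 29, 29] [.sub [31, 31, 18, 30, 31, 31, 30, 24, 30, 25] [.out 2998]]],
  .sub [4, 3, 2, 1, 4, 1, 4, 3, 1, 2, 1, 3, 4] [.out 3701],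
  .sub [1, 4, 3, 2, 4, 1, 4, 3, 1, 2, 1, 3, 4] [.out 1523],
  .sub [2, 4, 3, 2, 4, 1, 4, 3, 1, 2, 1, 3, 4] [.sub [24, 24, 19, 19, 20, 18, 31, 24, 30, 31, 27, 30, 29] [.out 2129]],
  .sub [3, 1, 3, 2, 4, 1, 4, 3, 1, 2, 1, 3, 4] [.sub [31, 19, 24, 18, 18, 20, 20, 25, 20, 27, 30] [.out 174]],
  .sub [2, 1, 3, 2, 4, 1, 4, 3, 1, 2, 1, 3, 4] [.out 2957],
  .sub [1, 2, 3, 2, 4, 1, 4, 3, 1, 2, 1, 3, 4] [.sub [30, 24, 20, 19, 25, 31, 24, 27] [.out 3401]],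
  .sub [3, 4, 1, 2, 4, 1, 4, 3, 1, 2, 1, 3, 4] [.out 3901],
  .sub [1, 4, 1, 2, 4, 1, 4, 3, 1, 2, 1, 3, 4] [.out 3079],
  .sub [4, 3, 1, 2, 4, 1, 4, 3, 1, 2, 1, 3, 4] [.out 3791],
  .sub [1, 3, 1, 2, 4, 1, 4, 3, 1, 2, 1, 3, 4] [.out 3812],
  .sub [2, 3, 1, 2, 4, 1, 4, 3, 1, 2, 1, 3, 4] [.sub [30, 18, 18, 18, 31, 25, 24, 25, 29, 29] [.out 740]],
  .sub [4, 3, 2, 1, 3, 1, 4, 3, 1, 2, 1, 3, 4] [.sub [25, 18, 19, 19, 18, 25, 24, 31, 24, 25, 29, 29] [.sub [18, 30, 31, 20, 18, 20, 31, 30, 20, 27, 29, 29] [.out 2613]]]]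

/-- Branches. -/
def kidsXPart38 : List Branch := [
  .sub [2, 3, 2, 1, 3, 1, 4, 3, 1, 2, 1, 3, 4] [.sub [20, 30, 19, 25, 19, 24, 31, 31, 31, 24, 30, 25] [.out 3129]],
  .sub [3, 4, 1, 2, 3, 1, 4, 3, 1, 2, 1, 3, 4] [.sub [20, 19, 20, 18, 27, 20, 31, 30, 20, 30, 27, 29, 29] [.sub [29, 20, 20, 20, 18, 30, 27, 20, 20, 30, 29] [.out 638]]],
  .sub [4, 1, 4, 3, 2, 1, 4, 3, 1, 2, 1, 3, 4] [.out 1206],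
  .sub [3, 1, 4, 3, 2, 1, 4, 3, 1, 2, 1, 3, 4] [.sub [24, 25, 18, 31, 20, 31, 25, 20, 25, 29] [.out 2302]],
  .sub [2, 1, 4, 3, 2, 1, 4, 3, 1, 2, 1, 3, 4] [.sub [18, 27, 19, 29, 18, 20, 30, 29, 20, 20, 27, 30, 29, 29] [.out 1380]],
  .sub [1, 2, 4, 3, 2, 1, 4, 3, 1, 2, 1, 3, 4] [.out 3964],
  .sub [1, 4, 1, 3, 2, 1, 4, 3, 1, 2, 1, 3, 4] [.sub [29, 18, 24, 31, 19, 29, 24, 27, 31, 20, 30, 25] [.out 739]],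
  .sub [2, 4, 1, 3, 2, 1, 4, 3, 1, 2, 1, 3, 4] [.sub [19, 29, 20, 18, 18, 24, 25, 31, 20, 27, 29] [.out 1297]],
  .sub [3, 2, 1, 3, 2, 1, 4, 3, 1, 2, 1, 3, 4] [.sub [31, 27, 18, 27, 19, 20, 20, 29, 24, 25] [.out 1431]],
  .sub [1, 2, 1, 3, 2, 1, 4, 3, 1, 2, 1, 3, 4] [.out 3499],
  .sub [1, 4, 3, 1, 2, 1, 4, 3, 1, 2, 1, 3, 4] [.out 1296],
  .sub [3, 2, 3, 1, 2, 1, 4, 3, 1, 2, 1, 3, 4] [.out 3482],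
  .sub [1, 2, 3, 1, 2, 1, 4, 3, 1, 2, 1, 3, 4] [.sub [19, 25, 24, 19, 18, 25, 31, 20, 24, 30, 25] [.out 2042]],
  .sub [3, 4, 1, 4, 3, 2, 4, 3, 1, 2, 1, 3, 4] [.sub [30, 20, 20, 19, 20, 27, 31, 30, 25] [.out 3943]],
  .sub [4, 3, 1, 4, 3, 2, 4, 3, 1, 2, 1, 3, 4] [.sub [18, 18, 18, 18, 25, 27, 20, 20, 29, 29] [.out 3675]],
  .sub [4, 3, 4, 1, 3, 2, 4, 3, 1, 2, 1, 3, 4] [.out 3728],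
  .sub [1, 3, 4, 1, 3, 2, 4, 3, 1, 2, 1, 3, 4] [.out 1939],
  .sub [2, 3, 4, 1, 3, 2, 4, 3, 1, 2, 1, 3, 4] [.out 3593],
  .sub [3, 1, 4, 1, 3, 2, 4, 3, 1, 2, 1, 3, 4] [.out 3981],
  .sub [3, 2, 4, 1, 3, 2, 4, 3, 1, 2, 1, 3, 4] [.sub [31, 19, 20, 27, 19, 29, 31, 31, 20, 24, 29] [.sub [24, 18, 30, 29, 18, 18, 27, 31, 27, 20, 20, 30, 25, 29] [.out 2013]]],
  .sub [1, 2, 4, 1, 3, 2, 4, 3, 1, 2, 1, 3, 4] [.sub [31, 24, 19, 24, 19, 20, 24, 29, 25, 29] [.sub [18, 18, 18, 27, 18, 24, 30, 27, 27, 24, 27, 29, 29] [.out 2409]]],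
  .sub [2, 4, 3, 1, 3, 2, 4, 3, 1, 2, 1, 3, 4] [.out 3162],
  .sub [3, 2, 3, 1, 3, 2, 4, 3, 1, 2, 1, 3, 4] [.out 1881],
  .sub [1, 3, 2, 1, 3, 2, 4, 3, 1, 2, 1, 3, 4] [.sub [19, 29, 31, 18, 30, 29, 20, 20, 29, 29] [.sub [31, 31, 18, 30, 31, 31, 30, 24, 30, 25] [.done 1]]],
  .sub [1, 3, 1, 4, 1, 2, 4, 3, 1, 2, 1, 3, 4] [.out 3312],
  .sub [3, 4, 1, 3, 1, 2, 4, 3, 1, 2, 1, 3, 4] [.out 2898],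
  .sub [2, 4, 1, 3, 1, 2, 4, 3, 1, 2, 1, 3, 4] [.out 2671],
  .sub [3, 2, 1, 3, 1, 2, 4, 3, 1, 2, 1, 3, 4] [.sub [30, 31, 20, 19, 25, 20, 20, 27, 29] [.out 2013]],
  .sub [2, 4, 3, 2, 3, 4, 1, 3, 1, 2, 1, 3, 4] [.out 2836],
  .sub [4, 1, 3, 2, 3, 4, 1, 3, 1, 2, 1, 3, 4] [.out 4037],
  .sub [1, 3, 2, 3, 1, 4, 1, 3, 1, 2, 1, 3, 4] [.sub [19, 31, 24, 18, 19, 30, 31, 20, 31, 27, 29, 29] [.sub [18, 24, 18, 19, 31, 25, 31, 20, 27, 30, 29] [.out 639]]],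
  .sub [2, 3, 2, 3, 1, 4, 1, 3, 1, 2, 1, 3, 4] [.sub [30, 31, 18, 19, 30, 27, 20, 20, 27, 29] [.sub [29, 31, 31, 25, 18, 25, 24, 31, 20, 30] [.out 28]]],
  .sub [2, 4, 3, 2, 1, 4, 1, 3, 1, 2, 1, 3, 4] [.out 3717],
  .sub [4, 1, 3, 2, 1, 4, 1, 3, 1, 2, 1, 3, 4] [.sub [31, 18, 20, 27, 18, 24, 24, 31, 24, 25] [.out 875]],
  .sub [3, 1, 3, 2, 1, 4, 1, 3, 1, 2, 1, 3, 4] [.sub [19, 19, 18, 20, 18, 18, 30, 20, 20, 30, 27] [.out 773]],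
  .sub [1, 2, 3, 2, 1, 4, 1, 3, 1, 2, 1, 3, 4] [.sub [31, 29, 24, 18, 31, 30, 29, 24, 20, 27, 29, 29] [.out 2309]],
  .sub [3, 4, 1, 2, 1, 4, 1, 3, 1, 2, 1, 3, 4] [.out 2594],
  .sub [4, 3, 1, 2, 1, 4, 1, 3, 1, 2, 1, 3, 4] [.sub [18, 18, 30, 19, 18, 24, 30, 25, 31, 29, 25] [.sub [18, 30, 18, 18, 18, 31, 24, 25] [.out 1483]]],
  .sub [1, 3, 1, 2, 1, 4, 1, 3, 1, 2, 1, 3, 4] [.sub [30, 20, 18, 18, 19, 24, 29, 20, 20, 27, 30, 29] [.sub [19, 19, 24, 25, 18, 30, 31, 27, 20, 20, 30] [.out 1188]]],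
  .sub [2, 3, 1, 2, 1, 4, 1, 3, 1, 2, 1, 3, 4] [.out 2941],
  .sub [4, 1, 4, 3, 2, 4, 1, 3, 1, 2, 1, 3, 4] [.out 950],
  .sub [2, 1, 4, 3, 2, 4, 1, 3, 1, 2, 1, 3, 4] [.sub [19, 24, 19, 20, 18, 18, 25, 24, 31, 27] [.sub [18, 27, 18, 19, 18, 25, 20, 30, 25, 31, 27, 30] [.out 3017]]],
  .sub [3, 2, 4, 3, 2, 4, 1, 3, 1, 2, 1, 3, 4] [.sub [29, 25, 18, 18, 20, 27, 30, 20, 29, 29] [.out 2343]],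
  .sub [1, 2, 4, 3, 2, 4, 1, 3, 1, 2, 1, 3, 4] [.out 3759],
  .sub [3, 1, 2, 3, 2, 4, 1, 3, 1, 2, 1, 3, 4] [.out 2968],
  .sub [4, 3, 4, 1, 2, 4, 1, 3, 1, 2, 1, 3, 4] [.out 2225],
  .sub [3, 1, 4, 1, 2, 4, 1, 3, 1, 2, 1, 3, 4] [.out 4026],
  .sub [2, 1, 4, 1, 2, 4, 1, 3, 1, 2, 1, 3, 4] [.out 1935],
  .sub [2, 4, 3, 1, 2, 4, 1, 3, 1, 2, 1, 3, 4] [.out 1926],
  .sub [3, 2, 3, 1, 2, 4, 1, 3, 1, 2, 1, 3, 4] [.sub [19, 27, 19, 18, 27, 24, 27, 31, 30, 29] [.out 1860]],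
  .sub [1, 2, 3, 1, 2, 4, 1, 3, 1, 2, 1, 3, 4] [.sub [29, 18, 31, 18, 18, 25, 31, 31, 29] [.out 3082]],
  .sub [3, 4, 1, 4, 3, 2, 1, 3, 1, 2, 1, 3, 4] [.sub [27, 20, 24, 19, 18, 30, 25, 31, 31, 30, 25, 29] [.out 18]],
  .sub [4, 3, 1, 4, 3, 2, 1, 3, 1, 2, 1, 3, 4] [.sub [20, 19, 20, 24, 18, 18, 27, 29, 31, 27, 29] [.out 3488]],
  .sub [1, 3, 1, 4, 3, 2, 1, 3, 1, 2, 1, 3, 4] [.sub [20, 19, 20, 19, 29, 31, 24, 30, 27] [.sub [19, 19, 31, 19, 18, 27, 31, 25, 31, 20, 30, 25] [.out 2599]]],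
  .sub [2, 3, 1, 4, 3, 2, 1, 3, 1, 2, 1, 3, 4] [.sub [18, 31, 24, 19, 18, 30, 27, 20, 31, 27, 30, 29] [.sub [30, 19, 25, 18, 18, 30, 29, 31, 25, 29] [.out 358]]],
  .sub [3, 2, 1, 4, 3, 2, 1, 3, 1, 2, 1, 3, 4] [.sub [30, 29, 18, 18, 20, 29, 24, 31, 20, 30, 27] [.sub [27, 19, 30, 25, 20, 18, 31, 30, 27, 31, 27, 29] [.out 392]]],
  .sub [1, 3, 2, 4, 3, 2, 1, 3, 1, 2, 1, 3, 4] [.sub [20, 18, 19, 27, 18, 25, 31, 31, 24, 20, 30, 27] [.out 3409]],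
  .sub [2, 3, 2, 4, 3, 2, 1, 3, 1, 2, 1, 3, 4] [.sub [19, 24, 31, 19, 20, 20, 30, 24, 20, 27, 30, 29, 29] [.out 1055]],
  .sub [3, 1, 2, 4, 3, 2, 1, 3, 1, 2, 1, 3, 4] [.sub [19, 27, 20, 18, 18, 24, 27, 30, 31, 20, 30, 29] [.out 778]],
  .sub [4, 3, 4, 1, 3, 2, 1, 3, 1, 2, 1, 3, 4] [.out 2752],
  .sub [2, 3, 4, 1, 3, 2, 1, 3, 1, 2, 1, 3, 4] [.sub [25, 27, 18, 20, 19, 18, 30, 24, 25, 24, 20, 29, 25, 29] [.out 2472]],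
  .sub [3, 2, 4, 1, 3, 2, 1, 3, 1, 2, 1, 3, 4] [.out 3920],
  .sub [4, 1, 3, 1, 3, 2, 1, 3, 1, 2, 1, 3, 4] [.sub [25, 24, 20, 19, 20, 24, 30, 31, 24, 30, 27, 29, 29] [.out 642]],
  .sub [2, 1, 3, 1, 3, 2, 1, 3, 1, 2, 1, 3, 4] [.out 990]]

/-- Branches. -/
def kidsXPart39 : List Branch := [
  .sub [4, 3, 2, 1, 3, 2, 1, 3, 1, 2, 1, 3, 4] [.out 3999],
  .sub [2, 3, 2, 1, 3, 2, 1, 3, 1, 2, 1, 3, 4] [.sub [25, 27, 18, 19, 31, 31, 31, 27, 29] [.out 3064]],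
  .sub [1, 4, 1, 2, 3, 2, 1, 3, 1, 2, 1, 3, 4] [.sub [30, 24, 27, 20, 18, 20, 29, 24, 30, 27, 29, 29] [.sub [19, 19, 24, 25, 18, 30, 31, 27, 20, 20, 30] [.bad [30, 20, 25, 18, 24, 30, 24, 20, 29, 25, 29, 29] 1]]],
  .sub [4, 3, 1, 2, 3, 2, 1, 3, 1, 2, 1, 3, 4] [.sub [18, 30, 31, 24, 19, 27, 24, 30, 20, 30, 29, 29] [.sub [20, 18, 31, 24, 18, 24, 31, 24, 29, 29] [.out 688]]],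
  .sub [1, 3, 1, 2, 3, 2, 1, 3, 1, 2, 1, 3, 4] [.out 3550],
  .sub [4, 1, 3, 4, 1, 2, 1, 3, 1, 2, 1, 3, 4] [.out 2999],
  .sub [4, 3, 1, 4, 1, 2, 1, 3, 1, 2, 1, 3, 4] [.sub [20, 19, 19, 24, 18, 18, 25, 20, 24, 20, 25, 29] [.out 1893]],
  .sub [2, 3, 1, 4, 1, 2, 1, 3, 1, 2, 1, 3, 4] [.out 2345],
  .sub [3, 2, 1, 4, 1, 2, 1, 3, 1, 2, 1, 3, 4] [.sub [29, 18, 18, 18, 30, 24, 30, 25] [.out 4017]],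
  .sub [2, 1, 4, 3, 1, 2, 1, 3, 1, 2, 1, 3, 4] [.out 3567],
  .sub [1, 2, 4, 3, 1, 2, 1, 3, 1, 2, 1, 3, 4] [.sub [24, 31, 19, 20, 18, 25, 24, 20, 29, 25, 29, 29] [.out 2224]],
  .sub [3, 2, 1, 3, 1, 2, 1, 3, 1, 2, 1, 3, 4] [.out 2637],
  .sub [4, 1, 2, 3, 1, 2, 1, 3, 1, 2, 1, 3, 4] [.out 2108],
  .sub [3, 1, 2, 3, 1, 2, 1, 3, 1, 2, 1, 3, 4] [.sub [20, 19, 20, 18, 29, 31, 20, 20, 24, 30, 25, 29, 29] [.out 3658]],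
  .sub [3, 1, 4, 1, 4, 3, 2, 3, 1, 2, 1, 3, 4] [.sub [31, 24, 19, 18, 25, 27, 20, 24, 29, 25, 29] [.out 2456]],
  .sub [1, 3, 2, 1, 4, 3, 2, 3, 1, 2, 1, 3, 4] [.sub [18, 19, 24, 18, 18, 18, 27, 31, 27] [.out 3824]],
  .sub [2, 3, 2, 1, 4, 3, 2, 3, 1, 2, 1, 3, 4] [.sub [19, 31, 27, 18, 24, 27, 25, 20, 30, 25] [.out 2557]],
  .sub [4, 1, 3, 4, 1, 3, 2, 3, 1, 2, 1, 3, 4] [.sub [20, 20, 31, 20, 18, 29, 20, 31, 30, 25, 29, 29] [.out 392]],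
  .sub [3, 1, 3, 4, 1, 3, 2, 3, 1, 2, 1, 3, 4] [.out 950],
  .sub [4, 3, 1, 4, 1, 3, 2, 3, 1, 2, 1, 3, 4] [.out 3972],
  .sub [1, 3, 1, 4, 1, 3, 2, 3, 1, 2, 1, 3, 4] [.sub [29, 18, 29, 18, 19, 18, 31, 25, 20, 31, 30, 27, 29, 29] [.out 1079]],
  .sub [2, 3, 1, 4, 1, 3, 2, 3, 1, 2, 1, 3, 4] [.sub [18, 18, 24, 18, 25, 24, 27, 24, 30, 25, 29] [.out 474]],
  .sub [3, 1, 4, 3, 1, 3, 2, 3, 1, 2, 1, 3, 4] [.sub [20, 31, 18, 19, 18, 27, 27, 30, 20, 24, 30, 25, 29, 29] [.out 2459]],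
  .sub [3, 4, 1, 3, 1, 3, 2, 3, 1, 2, 1, 3, 4] [.out 3599],
  .sub [2, 4, 1, 3, 1, 3, 2, 3, 1, 2, 1, 3, 4] [.out 2334],
  .sub [3, 2, 1, 3, 1, 3, 2, 3, 1, 2, 1, 3, 4] [.out 2921],
  .sub [2, 1, 4, 3, 4, 1, 2, 3, 1, 2, 1, 3, 4] [.sub [19, 29, 18, 24, 18, 31, 24, 27, 25, 20, 30, 27, 29, 29] [.out 2678]],
  .sub [1, 2, 4, 3, 4, 1, 2, 3, 1, 2, 1, 3, 4] [.out 3833],
  .sub [3, 4, 1, 3, 4, 1, 2, 3, 1, 2, 1, 3, 4] [.sub [27, 30, 18, 19, 19, 18, 29, 25, 31, 27, 30] [.out 207]],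
  .sub [1, 4, 1, 3, 4, 1, 2, 3, 1, 2, 1, 3, 4] [.sub [27, 20, 18, 24, 31, 20, 31, 20, 30, 27] [.out 1434]],
  .sub [2, 4, 1, 3, 4, 1, 2, 3, 1, 2, 1, 3, 4] [.out 2390],
  .sub [4, 1, 2, 3, 4, 1, 2, 3, 1, 2, 1, 3, 4] [.sub [24, 31, 31, 19, 18, 24, 30, 31, 24, 20, 25, 29, 29] [.out 3333]],
  .sub [3, 1, 2, 3, 4, 1, 2, 3, 1, 2, 1, 3, 4] [.sub [27, 19, 31, 20, 19, 31, 24, 20, 25, 29] [.out 3036]],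
  .sub [1, 4, 3, 1, 4, 1, 2, 3, 1, 2, 1, 3, 4] [.sub [29, 25, 31, 20, 18, 30, 24, 31, 24, 25, 29] [.out 2697]],
  .sub [2, 4, 3, 1, 4, 1, 2, 3, 1, 2, 1, 3, 4] [.out 3345],
  .sub [4, 1, 3, 1, 4, 1, 2, 3, 1, 2, 1, 3, 4] [.out 3411],
  .sub [2, 1, 3, 1, 4, 1, 2, 3, 1, 2, 1, 3, 4] [.sub [19, 31, 27, 18, 20, 25, 20, 20, 30, 25, 29] [.out 3160]],
  .sub [3, 2, 3, 1, 4, 1, 2, 3, 1, 2, 1, 3, 4] [.sub [27, 18, 24, 29, 24, 31, 20, 30, 27, 29] [.out 1769]],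
  .sub [1, 2, 3, 1, 4, 1, 2, 3, 1, 2, 1, 3, 4] [.sub [19, 20, 27, 19, 27, 30, 20, 30, 27, 29, 29] [.out 3165]],
  .sub [4, 3, 2, 1, 4, 1, 2, 3, 1, 2, 1, 3, 4] [.sub [24, 20, 31, 20, 19, 31, 20, 25, 20, 27, 29, 29] [.out 1441]],
  .sub [1, 3, 2, 1, 4, 1, 2, 3, 1, 2, 1, 3, 4] [.sub [19, 18, 19, 31, 27, 30, 20, 20, 27, 30, 29, 29] [.sub [31, 19, 24, 19, 18, 27, 24, 29, 24, 27, 29] [.out 3001]]],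
  .sub [2, 3, 2, 1, 4, 1, 2, 3, 1, 2, 1, 3, 4] [.out 3351],
  .sub [3, 4, 1, 4, 3, 1, 2, 3, 1, 2, 1, 3, 4] [.sub [29, 18, 27, 27, 18, 24, 30, 31, 30, 27, 29] [.sub [18, 27, 30, 31, 18, 29, 20, 24, 20, 30, 29] [.out 1483]]],
  .sub [1, 4, 1, 4, 3, 1, 2, 3, 1, 2, 1, 3, 4] [.out 2475],
  .sub [4, 3, 1, 4, 3, 1, 2, 3, 1, 2, 1, 3, 4] [.sub [20, 30, 24, 27, 18, 31, 29, 31, 20, 20] [.sub [20, 19, 24, 19, 30, 31, 30, 31, 29, 25, 29, 29] [.out 2161]]],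
  .sub [1, 3, 1, 4, 3, 1, 2, 3, 1, 2, 1, 3, 4] [.sub [25, 19, 29, 18, 31, 27, 29, 20, 24, 29, 25, 29, 29] [.sub [31, 19, 25, 18, 27, 31, 25, 29, 29] [.out 256]]],
  .sub [4, 3, 2, 4, 3, 1, 2, 3, 1, 2, 1, 3, 4] [.out 3458],
  .sub [1, 3, 4, 1, 3, 1, 2, 3, 1, 2, 1, 3, 4] [.sub [31, 18, 18, 18, 19, 18, 20, 31, 20, 25, 20, 30, 27, 29] [.out 1607]],
  .sub [2, 3, 4, 1, 3, 1, 2, 3, 1, 2, 1, 3, 4] [.sub [20, 25, 19, 18, 27, 30, 20, 20, 27] [.sub [24, 30, 31, 29, 18, 20, 30, 25, 20, 25] [.out 865]]],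
  .sub [3, 1, 4, 1, 3, 1, 2, 3, 1, 2, 1, 3, 4] [.sub [20, 27, 18, 18, 25, 27, 31, 20, 25] [.out 3550]],
  .sub [2, 1, 4, 1, 3, 1, 2, 3, 1, 2, 1, 3, 4] [.out 2706],
  .sub [3, 2, 4, 1, 3, 1, 2, 3, 1, 2, 1, 3, 4] [.sub [20, 18, 18, 19, 20, 27, 20, 20, 27] [.out 2921]],
  .sub [1, 2, 4, 1, 3, 1, 2, 3, 1, 2, 1, 3, 4] [.out 2665],
  .sub [4, 3, 2, 1, 3, 1, 2, 3, 1, 2, 1, 3, 4] [.out 1628],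
  .sub [2, 3, 2, 1, 3, 1, 2, 3, 1, 2, 1, 3, 4] [.sub [29, 18, 19, 31, 18, 24, 30, 20, 24, 20, 20, 27, 30, 29, 29] [.out 2039]],
  .sub [1, 4, 1, 2, 3, 1, 2, 3, 1, 2, 1, 3, 4] [.out 3870],
  .sub [4, 3, 1, 2, 3, 1, 2, 3, 1, 2, 1, 3, 4] [.sub [19, 20, 24, 18, 24, 20, 30, 31, 20, 27, 29] [.sub [25, 31, 19, 20, 20, 29, 31, 30, 25] [.out 441]]],
  .sub [1, 4, 3, 2, 1, 3, 4, 1, 4, 3, 2, 3, 4] [.sub [18, 31, 24, 18, 18, 25, 24, 30, 31, 30, 25] [.sub [18, 19, 27, 19, 20, 27, 30, 20, 30, 27, 29, 29] [.out 3745]]],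
  .sub [2, 4, 3, 2, 1, 3, 4, 1, 4, 3, 2, 3, 4] [.sub [29, 19, 20, 18, 18, 24, 24, 31, 31] [.sub [27, 19, 30, 25, 20, 18, 31, 30, 27, 31, 27, 29] [.out 3625]]],
  .sub [4, 1, 3, 2, 1, 3, 4, 1, 4, 3, 2, 3, 4] [.sub [30, 20, 27, 18, 18, 27, 31, 29, 20, 20, 27, 30, 29, 29] [.out 1733]],
  .sub [3, 1, 3, 2, 1, 3, 4, 1, 4, 3, 2, 3, 4] [.sub [20, 24, 19, 29, 18, 25, 31, 20, 24, 20, 27, 30] [.out 192]],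
  .sub [2, 1, 3, 2, 1, 3, 4, 1, 4, 3, 2, 3, 4] [.sub [24, 27, 18, 19, 30, 27, 31, 20] [.out 1360]],
  .sub [1, 2, 3, 2, 1, 3, 4, 1, 4, 3, 2, 3, 4] [.sub [20, 18, 18, 18, 18, 27, 31, 29, 31, 29, 25, 29, 29] [.out 64]],
  .sub [1, 3, 1, 3, 2, 4, 3, 1, 4, 3, 2, 3, 4] [.sub [18, 25, 19, 31, 18, 31, 20, 24, 20, 27] [.out 2691]]]

/-- Branches. -/
def kidsXPart40 : List Branch := [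
  .sub [2, 3, 1, 3, 2, 4, 3, 1, 4, 3, 2, 3, 4] [.out 3637],
  .sub [3, 1, 4, 1, 2, 4, 3, 1, 4, 3, 2, 3, 4] [.sub [18, 25, 27, 20, 18, 27, 24, 25, 31, 29, 25] [.sub [27, 19, 24, 25, 18, 24, 30, 24, 31, 27, 30] [.done 7]]],
  .sub [2, 1, 4, 1, 2, 4, 3, 1, 4, 3, 2, 3, 4] [.sub [19, 31, 19, 20, 18, 29, 31, 25, 31, 30, 27] [.sub [27, 31, 31, 19, 18, 25, 31, 31, 20, 25, 29] [.out 1458]]],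
  .sub [1, 4, 3, 1, 2, 4, 3, 1, 4, 3, 2, 3, 4] [.out 2610],
  .sub [1, 3, 2, 3, 4, 1, 3, 1, 4, 3, 2, 3, 4] [.sub [24, 27, 19, 19, 19, 27, 27, 24, 27, 24, 30] [.out 143]],
  .sub [2, 3, 2, 3, 4, 1, 3, 1, 4, 3, 2, 3, 4] [.out 2892],
  .sub [2, 4, 3, 2, 4, 1, 3, 1, 4, 3, 2, 3, 4] [.out 3057],
  .sub [2, 1, 3, 2, 4, 1, 3, 1, 4, 3, 2, 3, 4] [.out 2700],
  .sub [1, 2, 3, 2, 4, 1, 3, 1, 4, 3, 2, 3, 4] [.out 3491],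
  .sub [4, 3, 1, 2, 4, 1, 3, 1, 4, 3, 2, 3, 4] [.out 2959],
  .sub [4, 1, 4, 3, 2, 1, 3, 1, 4, 3, 2, 3, 4] [.sub [20, 25, 18, 18, 19, 18, 30, 20, 31, 30, 27] [.out 1882]],
  .sub [2, 1, 4, 3, 2, 1, 3, 1, 4, 3, 2, 3, 4] [.sub [31, 20, 19, 19, 20, 31, 29, 31, 24, 30, 29] [.out 2664]],
  .sub [3, 2, 4, 3, 2, 1, 3, 1, 4, 3, 2, 3, 4] [.sub [27, 19, 25, 19, 18, 27, 31, 25, 31, 30, 27, 29, 29] [.out 4001]],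
  .sub [1, 4, 1, 3, 2, 1, 3, 1, 4, 3, 2, 3, 4] [.sub [31, 19, 18, 19, 18, 31, 30, 29, 20, 20, 27, 29, 29] [.sub [25, 18, 19, 31, 25, 20, 24, 20, 27] [.out 696]]],
  .sub [4, 3, 1, 3, 2, 1, 3, 1, 4, 3, 2, 3, 4] [.sub [20, 27, 18, 20, 30, 25, 24, 27, 30] [.out 761]],
  .sub [2, 3, 1, 3, 2, 1, 3, 1, 4, 3, 2, 3, 4] [.sub [20, 19, 20, 18, 18, 29, 31, 27, 25, 31, 27, 29] [.out 316]],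
  .sub [3, 1, 2, 3, 2, 1, 3, 1, 4, 3, 2, 3, 4] [.sub [18, 20, 18, 18, 18, 24, 20, 24, 25, 29] [.sub [19, 31, 18, 20, 18, 18, 20, 20, 20, 31, 20, 29, 25, 29] [.out 1437]]],
  .sub [1, 4, 3, 1, 2, 1, 3, 1, 4, 3, 2, 3, 4] [.out 3203],
  .sub [4, 1, 3, 1, 2, 1, 3, 1, 4, 3, 2, 3, 4] [.sub [18, 25, 18, 24, 18, 27, 24, 20, 30, 29, 29] [.sub [18, 19, 29, 18, 31, 31, 20, 27, 29] [.out 3561]]],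
  .sub [2, 3, 4, 1, 3, 2, 3, 1, 4, 3, 2, 3, 4] [.out 1611],
  .sub [3, 2, 4, 1, 3, 2, 3, 1, 4, 3, 2, 3, 4] [.sub [29, 31, 30, 18, 19, 29, 31, 20, 20, 27, 30, 29, 29] [.out 3342]],
  .sub [4, 1, 3, 1, 3, 2, 3, 1, 4, 3, 2, 3, 4] [.sub [30, 24, 20, 18, 29, 31, 24, 20, 29, 25, 29] [.out 2456]],
  .sub [2, 1, 3, 1, 3, 2, 3, 1, 4, 3, 2, 3, 4] [.out 4034],
  .sub [1, 2, 3, 1, 3, 2, 3, 1, 4, 3, 2, 3, 4] [.sub [30, 25, 18, 18, 18, 29, 31, 30, 20, 29, 29] [.out 1505]],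
  .sub [1, 4, 3, 4, 1, 2, 3, 1, 4, 3, 2, 3, 4] [.sub [30, 24, 27, 20, 18, 20, 29, 24, 30, 27, 29, 29] [.out 2331]],
  .sub [2, 4, 3, 4, 1, 2, 3, 1, 4, 3, 2, 3, 4] [.sub [31, 27, 18, 24, 18, 31, 20, 31, 25, 29] [.sub [27, 19, 24, 18, 18, 30, 27, 20, 31, 30, 27, 29] [.out 3727]]],
  .sub [2, 1, 3, 4, 1, 2, 3, 1, 4, 3, 2, 3, 4] [.sub [18, 20, 19, 19, 24, 27, 30, 31, 20, 29] [.out 3713]],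
  .sub [4, 3, 1, 4, 1, 2, 3, 1, 4, 3, 2, 3, 4] [.sub [20, 31, 31, 18, 19, 18, 30, 24, 20, 20, 25] [.out 2182]],
  .sub [2, 3, 1, 4, 1, 2, 3, 1, 4, 3, 2, 3, 4] [.out 2882],
  .sub [3, 1, 4, 3, 1, 2, 3, 1, 4, 3, 2, 3, 4] [.out 2761],
  .sub [3, 2, 4, 3, 1, 2, 3, 1, 4, 3, 2, 3, 4] [.sub [18, 31, 19, 19, 19, 27, 24, 27, 24, 29, 25] [.sub [19, 31, 27, 19, 27, 31, 25, 20, 20, 29, 25, 29] [.out 3766]]],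
  .sub [3, 2, 1, 3, 1, 2, 3, 1, 4, 3, 2, 3, 4] [.sub [19, 31, 18, 20, 30, 29, 31, 20, 30, 25, 29, 29] [.out 3303]],
  .sub [3, 2, 4, 1, 4, 3, 2, 1, 4, 3, 2, 3, 4] [.sub [20, 18, 20, 18, 31, 31, 30, 25, 29, 29] [.out 1254]],
  .sub [4, 1, 3, 1, 4, 3, 2, 1, 4, 3, 2, 3, 4] [.out 2014],
  .sub [2, 1, 3, 1, 4, 3, 2, 1, 4, 3, 2, 3, 4] [.sub [27, 19, 30, 18, 18, 31, 29, 25, 20, 20] [.out 3102]],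
  .sub [4, 3, 2, 1, 4, 3, 2, 1, 4, 3, 2, 3, 4] [.sub [19, 31, 18, 18, 18, 20, 25, 20, 30, 20, 29] [.out 1479]],
  .sub [4, 1, 2, 1, 4, 3, 2, 1, 4, 3, 2, 3, 4] [.out 3495],
  .sub [3, 1, 2, 1, 4, 3, 2, 1, 4, 3, 2, 3, 4] [.sub [30, 18, 18, 24, 18, 29, 24, 30, 31, 20, 27, 30, 29] [.out 3884]],
  .sub [3, 1, 3, 2, 4, 3, 2, 1, 4, 3, 2, 3, 4] [.out 3529],
  .sub [3, 4, 1, 2, 4, 3, 2, 1, 4, 3, 2, 3, 4] [.sub [27, 24, 19, 24, 19, 25, 20, 20, 27, 30, 29, 29] [.sub [27, 18, 27, 27, 18, 30, 25, 24, 20, 30] [.out 3672]]],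
  .sub [1, 4, 1, 2, 4, 3, 2, 1, 4, 3, 2, 3, 4] [.sub [24, 31, 31, 19, 18, 20, 27, 24, 20, 20, 30, 25, 29, 29] [.sub [30, 20, 25, 18, 20, 31, 31, 20, 30, 29, 29] [.out 1960]]],
  .sub [4, 3, 1, 2, 4, 3, 2, 1, 4, 3, 2, 3, 4] [.out 3982],
  .sub [2, 3, 1, 2, 4, 3, 2, 1, 4, 3, 2, 3, 4] [.sub [19, 24, 24, 18, 25, 27, 31, 31, 30, 27] [.out 229]],
  .sub [4, 3, 4, 1, 2, 3, 2, 1, 4, 3, 2, 3, 4] [.out 3648],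
  .sub [2, 3, 4, 1, 2, 3, 2, 1, 4, 3, 2, 3, 4] [.sub [27, 19, 20, 20, 18, 27, 24, 31, 20, 27, 30, 29, 29] [.out 98]],
  .sub [3, 1, 4, 1, 2, 3, 2, 1, 4, 3, 2, 3, 4] [.sub [18, 24, 19, 25, 19, 29, 30, 24, 20, 30, 29, 29] [.out 714]],
  .sub [2, 4, 3, 1, 2, 3, 2, 1, 4, 3, 2, 3, 4] [.out 678],
  .sub [1, 2, 3, 1, 2, 3, 2, 1, 4, 3, 2, 3, 4] [.sub [27, 19, 25, 19, 18, 30, 31, 20, 30, 20] [.sub [24, 20, 27, 19, 25, 27, 25, 24, 27, 30, 29, 29] [.out 3030]]],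
  .sub [3, 2, 4, 3, 2, 4, 3, 4, 1, 3, 2, 3, 4] [.sub [20, 18, 20, 19, 18, 31, 25, 20, 20, 30, 25] [.sub [24, 18, 29, 19, 18, 24, 31, 29, 24, 27, 30] [.out 317]]],
  .sub [4, 3, 2, 3, 4, 1, 3, 4, 1, 3, 2, 3, 4] [.out 2330],
  .sub [3, 1, 2, 3, 4, 1, 3, 4, 1, 3, 2, 3, 4] [.out 2372],
  .sub [2, 4, 3, 2, 4, 1, 3, 4, 1, 3, 2, 3, 4] [.out 3200],
  .sub [1, 4, 1, 2, 4, 1, 3, 4, 1, 3, 2, 3, 4] [.out 2964],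
  .sub [1, 3, 4, 1, 2, 1, 3, 4, 1, 3, 2, 3, 4] [.out 3310],
  .sub [2, 1, 4, 1, 2, 1, 3, 4, 1, 3, 2, 3, 4] [.sub [24, 29, 25, 19, 29, 31, 31, 25, 20, 29] [.out 3294]],
  .sub [1, 4, 3, 1, 2, 1, 3, 4, 1, 3, 2, 3, 4] [.sub [30, 20, 19, 31, 18, 18, 31, 24, 27, 24, 27, 30] [.sub [30, 20, 25, 18, 31, 24, 29, 20, 20, 30, 27] [.out 2858]]],
  .sub [2, 4, 3, 1, 2, 1, 3, 4, 1, 3, 2, 3, 4] [.sub [18, 18, 20, 31, 18, 18, 30, 27, 24, 27] [.out 3838]],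
  .sub [1, 2, 3, 1, 2, 1, 3, 4, 1, 3, 2, 3, 4] [.sub [19, 29, 31, 25, 18, 30, 20, 31, 20, 30, 29] [.out 1974]],
  .sub [3, 4, 1, 4, 3, 2, 3, 4, 1, 3, 2, 3, 4] [.out 924],
  .sub [1, 3, 1, 4, 3, 2, 3, 4, 1, 3, 2, 3, 4] [.out 3282],
  .sub [4, 3, 4, 1, 3, 2, 3, 4, 1, 3, 2, 3, 4] [.out 3829],
  .sub [1, 3, 4, 1, 3, 2, 3, 4, 1, 3, 2, 3, 4] [.sub [19, 29, 24, 18, 25, 31, 24, 20, 27] [.out 1044]],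
  .sub [2, 3, 4, 1, 3, 2, 3, 4, 1, 3, 2, 3, 4] [.out 2882],
  .sub [2, 1, 3, 1, 3, 2, 3, 4, 1, 3, 2, 3, 4] [.sub [31, 27, 27, 18, 31, 31] [.out 2086]]]

/-- Branches. -/
def kidsXPart41 : List Branch := [
  .sub [1, 2, 3, 1, 3, 2, 3, 4, 1, 3, 2, 3, 4] [.out 3999],
  .sub [1, 3, 2, 1, 3, 2, 3, 4, 1, 3, 2, 3, 4] [.out 2029],
  .sub [2, 1, 3, 4, 1, 2, 3, 4, 1, 3, 2, 3, 4] [.out 3827],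
  .sub [4, 1, 4, 3, 1, 2, 3, 4, 1, 3, 2, 3, 4] [.out 3189],
  .sub [3, 4, 1, 3, 1, 2, 3, 4, 1, 3, 2, 3, 4] [.out 3472],
  .sub [1, 4, 1, 3, 1, 2, 3, 4, 1, 3, 2, 3, 4] [.out 990],
  .sub [2, 4, 1, 3, 1, 2, 3, 4, 1, 3, 2, 3, 4] [.out 3633],
  .sub [1, 2, 1, 3, 1, 2, 3, 4, 1, 3, 2, 3, 4] [.out 3821],
  .sub [3, 1, 2, 3, 1, 2, 3, 4, 1, 3, 2, 3, 4] [.sub [19, 27, 18, 19, 25, 31, 20, 30, 25, 29] [.sub [20, 19, 19, 27, 18, 24, 30, 24, 31, 27, 29] [.out 696]]],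
  .sub [2, 1, 3, 1, 4, 3, 2, 4, 1, 3, 2, 3, 4] [.out 1961],
  .sub [4, 1, 3, 2, 4, 3, 2, 4, 1, 3, 2, 3, 4] [.out 2822],
  .sub [3, 1, 3, 2, 4, 3, 2, 4, 1, 3, 2, 3, 4] [.sub [18, 25, 20, 19, 24, 20, 30, 31, 20] [.out 2665]],
  .sub [4, 3, 1, 2, 4, 3, 2, 4, 1, 3, 2, 3, 4] [.out 3622],
  .sub [1, 3, 1, 2, 4, 3, 2, 4, 1, 3, 2, 3, 4] [.out 4042],
  .sub [2, 3, 1, 2, 4, 3, 2, 4, 1, 3, 2, 3, 4] [.out 3069],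
  .sub [1, 3, 1, 4, 1, 3, 2, 4, 1, 3, 2, 3, 4] [.sub [24, 20, 24, 18, 19, 31, 25, 20, 31, 24, 25, 29] [.out 1977]],
  .sub [2, 3, 1, 4, 1, 3, 2, 4, 1, 3, 2, 3, 4] [.out 1567],
  .sub [1, 2, 1, 4, 1, 3, 2, 4, 1, 3, 2, 3, 4] [.out 878],
  .sub [2, 3, 2, 4, 1, 3, 2, 4, 1, 3, 2, 3, 4] [.out 4000],
  .sub [4, 3, 2, 3, 1, 3, 2, 4, 1, 3, 2, 3, 4] [.sub [30, 31, 19, 19, 19, 24, 20, 30, 31, 20, 29, 25] [.out 1027]],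
  .sub [1, 3, 2, 3, 1, 3, 2, 4, 1, 3, 2, 3, 4] [.sub [20, 24, 18, 31, 19, 24, 27, 25, 20, 30, 29, 29] [.out 2378]],
  .sub [2, 3, 2, 3, 1, 3, 2, 4, 1, 3, 2, 3, 4] [.out 2751],
  .sub [3, 1, 2, 3, 1, 3, 2, 4, 1, 3, 2, 3, 4] [.out 2980],
  .sub [3, 1, 3, 2, 1, 3, 2, 4, 1, 3, 2, 3, 4] [.out 2292],
  .sub [3, 4, 1, 2, 1, 3, 2, 4, 1, 3, 2, 3, 4] [.sub [18, 18, 20, 19, 18, 29, 30, 31, 20, 27, 30, 29] [.sub [18, 18, 19, 18, 19, 20, 29, 20, 31, 30, 27, 29, 29] [.out 1221]]],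
  .sub [4, 3, 1, 2, 1, 3, 2, 4, 1, 3, 2, 3, 4] [.out 2957],
  .sub [2, 3, 1, 2, 1, 3, 2, 4, 1, 3, 2, 3, 4] [.sub [20, 25, 18, 18, 24, 31, 31, 27] [.sub [24, 31, 31, 18, 18, 25, 20, 30, 25, 31, 30, 25] [.out 582]]],
  .sub [4, 3, 4, 1, 2, 3, 2, 4, 1, 3, 2, 3, 4] [.out 1836],
  .sub [1, 3, 4, 1, 2, 3, 2, 4, 1, 3, 2, 3, 4] [.out 3131],
  .sub [2, 3, 4, 1, 2, 3, 2, 4, 1, 3, 2, 3, 4] [.sub [18, 29, 24, 27, 18, 30, 24, 29, 20, 20, 25, 29, 29] [.out 877]],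
  .sub [3, 1, 4, 1, 2, 3, 2, 4, 1, 3, 2, 3, 4] [.out 911],
  .sub [1, 3, 2, 4, 3, 2, 4, 3, 1, 3, 2, 3, 4] [.sub [19, 18, 19, 27, 19, 29, 31, 25, 31, 25] [.out 4007]],
  .sub [2, 3, 2, 4, 3, 2, 4, 3, 1, 3, 2, 3, 4] [.sub [27, 25, 24, 19, 18, 25, 24, 20, 24, 30, 29] [.out 3737]],
  .sub [4, 3, 4, 1, 3, 2, 4, 3, 1, 3, 2, 3, 4] [.out 3559],
  .sub [1, 3, 4, 1, 3, 2, 4, 3, 1, 3, 2, 3, 4] [.out 3224],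
  .sub [2, 3, 4, 1, 3, 2, 4, 3, 1, 3, 2, 3, 4] [.sub [18, 30, 18, 18, 27, 18, 31, 24, 29, 24, 30, 25] [.sub [19, 31, 24, 18, 29, 31, 30, 25] [.out 639]]],
  .sub [1, 2, 4, 1, 3, 2, 4, 3, 1, 3, 2, 3, 4] [.sub [25, 20, 19, 20, 20, 24, 30, 25, 29] [.out 3343]],
  .sub [3, 2, 3, 1, 3, 2, 4, 3, 1, 3, 2, 3, 4] [.out 2236],
  .sub [4, 3, 2, 1, 3, 2, 4, 3, 1, 3, 2, 3, 4] [.sub [20, 20, 20, 20, 18, 27, 31, 24, 29, 25, 29, 29] [.out 129]],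
  .sub [2, 3, 2, 1, 3, 2, 4, 3, 1, 3, 2, 3, 4] [.sub [27, 31, 20, 18, 30, 31, 24, 20, 30, 25, 29, 29] [.out 1842]],
  .sub [1, 4, 3, 4, 1, 2, 4, 3, 1, 3, 2, 3, 4] [.sub [24, 24, 19, 20, 19, 31, 31, 20, 20, 30, 27] [.out 3764]],
  .sub [2, 1, 3, 4, 1, 2, 4, 3, 1, 3, 2, 3, 4] [.out 1751],
  .sub [3, 4, 1, 3, 1, 2, 4, 3, 1, 3, 2, 3, 4] [.out 1353],
  .sub [1, 4, 1, 3, 1, 2, 4, 3, 1, 3, 2, 3, 4] [.sub [27, 19, 27, 19, 29, 20, 30, 20, 20, 27, 30, 29] [.out 3763]],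
  .sub [3, 2, 1, 3, 1, 2, 4, 3, 1, 3, 2, 3, 4] [.sub [25, 31, 18, 27, 19, 31, 27, 20, 31, 20, 29] [.sub [30, 31, 20, 25, 18, 29, 25, 20, 24, 30] [.out 2659]]],
  .sub [4, 1, 2, 3, 1, 2, 4, 3, 1, 3, 2, 3, 4] [.sub [30, 19, 18, 19, 18, 30, 31, 24, 31, 29, 25, 29] [.out 2250]],
  .sub [2, 4, 3, 2, 3, 4, 1, 3, 1, 3, 2, 3, 4] [.out 3043],
  .sub [1, 2, 3, 2, 3, 4, 1, 3, 1, 3, 2, 3, 4] [.out 3337],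
  .sub [2, 1, 4, 3, 2, 4, 1, 3, 1, 3, 2, 3, 4] [.sub [25, 18, 18, 18, 20, 30, 20, 20, 30, 27] [.sub [30, 20, 29, 19, 18, 25, 20, 30, 25, 31, 30, 29] [.out 1200]]],
  .sub [3, 2, 4, 3, 2, 4, 1, 3, 1, 3, 2, 3, 4] [.out 3719],
  .sub [3, 4, 1, 3, 2, 4, 1, 3, 1, 3, 2, 3, 4] [.out 3709],
  .sub [1, 4, 1, 3, 2, 4, 1, 3, 1, 3, 2, 3, 4] [.out 2260],
  .sub [1, 2, 1, 3, 2, 4, 1, 3, 1, 3, 2, 3, 4] [.sub [18, 24, 31, 19, 30, 24, 25, 24, 20, 30, 29, 29] [.out 1624]],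
  .sub [4, 3, 4, 1, 2, 4, 1, 3, 1, 3, 2, 3, 4] [.sub [30, 31, 19, 19, 31, 24, 20, 31, 27, 29, 29] [.out 30]],
  .sub [2, 3, 4, 1, 2, 4, 1, 3, 1, 3, 2, 3, 4] [.out 2889],
  .sub [2, 4, 3, 1, 2, 4, 1, 3, 1, 3, 2, 3, 4] [.sub [20, 30, 24, 27, 18, 31, 29, 31, 20, 20] [.out 2650]],
  .sub [4, 1, 3, 1, 2, 4, 1, 3, 1, 3, 2, 3, 4] [.sub [20, 18, 24, 18, 31, 27, 30, 20, 30, 29, 29] [.sub [19, 31, 24, 18, 29, 31, 30, 25] [.out 2710]]],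
  .sub [2, 1, 3, 1, 2, 4, 1, 3, 1, 3, 2, 3, 4] [.sub [20, 25, 18, 18, 27, 31, 20, 30, 29] [.sub [19, 30, 25, 20, 18, 31, 31, 31, 30, 25, 29] [.out 2604]]],
  .sub [1, 2, 3, 1, 2, 4, 1, 3, 1, 3, 2, 3, 4] [.out 3387],
  .sub [1, 4, 1, 4, 3, 2, 1, 3, 1, 3, 2, 3, 4] [.sub [20, 20, 20, 19, 18, 31, 30, 29, 31, 20, 27] [.sub [19, 19, 24, 25, 18, 30, 31, 27, 20, 20, 30] [.done 21]]],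
  .sub [2, 4, 1, 4, 3, 2, 1, 3, 1, 3, 2, 3, 4] [.sub [30, 31, 18, 18, 18, 18, 25, 20, 20, 31, 27, 30] [.out 1929]],
  .sub [3, 2, 1, 4, 3, 2, 1, 3, 1, 3, 2, 3, 4] [.out 1863],
  .sub [1, 2, 1, 4, 3, 2, 1, 3, 1, 3, 2, 3, 4] [.out 3963],
  .sub [3, 1, 2, 4, 3, 2, 1, 3, 1, 3, 2, 3, 4] [.sub [19, 27, 20, 31, 18, 20, 25, 20, 20, 29, 25] [.sub [18, 24, 18, 19, 24, 31, 24, 20, 25] [.out 76]]]]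

/-- Branches. -/
def kidsXPart42 : List Branch := [
  .sub [4, 3, 4, 1, 3, 2, 1, 3, 1, 3, 2, 3, 4] [.out 2594],
  .sub [1, 3, 4, 1, 3, 2, 1, 3, 1, 3, 2, 3, 4] [.out 1787],
  .sub [2, 3, 4, 1, 3, 2, 1, 3, 1, 3, 2, 3, 4] [.sub [18, 30, 20, 19, 18, 25, 24, 31, 24, 30, 29, 29] [.out 2778]],
  .sub [3, 1, 4, 1, 3, 2, 1, 3, 1, 3, 2, 3, 4] [.sub [27, 25, 18, 25, 18, 18, 25, 31, 20, 20, 30] [.sub [18, 20, 29, 20, 18, 30, 20, 29, 20, 31, 30, 25, 29, 29] [.out 643]]],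
  .sub [2, 1, 4, 1, 3, 2, 1, 3, 1, 3, 2, 3, 4] [.sub [18, 30, 20, 19, 18, 25, 24, 31, 24, 30, 29, 29] [.out 3233]],
  .sub [3, 2, 4, 1, 3, 2, 1, 3, 1, 3, 2, 3, 4] [.sub [27, 27, 31, 18, 18, 25, 27, 25, 24, 30, 29, 29] [.out 3414]],
  .sub [1, 2, 4, 1, 3, 2, 1, 3, 1, 3, 2, 3, 4] [.out 2919],
  .sub [2, 1, 3, 1, 3, 2, 1, 3, 1, 3, 2, 3, 4] [.out 3852],
  .sub [4, 3, 2, 1, 3, 2, 1, 3, 1, 3, 2, 3, 4] [.out 2681],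
  .sub [1, 3, 2, 1, 3, 2, 1, 3, 1, 3, 2, 3, 4] [.sub [18, 31, 25, 20, 19, 27, 24, 27, 31, 27, 30, 29, 29] [.out 3455]],
  .sub [4, 1, 2, 1, 3, 2, 1, 3, 1, 3, 2, 3, 4] [.out 3324],
  .sub [3, 1, 2, 1, 3, 2, 1, 3, 1, 3, 2, 3, 4] [.sub [29, 30, 20, 18, 25, 20, 20, 25, 29] [.out 3469]],
  .sub [1, 4, 1, 2, 3, 2, 1, 3, 1, 3, 2, 3, 4] [.out 3275],
  .sub [4, 3, 1, 2, 3, 2, 1, 3, 1, 3, 2, 3, 4] [.sub [30, 25, 20, 18, 29, 24, 30, 25, 20, 27, 30, 29, 29] [.sub [18, 30, 31, 19, 27, 27, 30, 20, 24, 27] [.out 2613]]],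
  .sub [1, 3, 1, 2, 3, 2, 1, 3, 1, 3, 2, 3, 4] [.out 1239],
  .sub [2, 3, 1, 2, 3, 2, 1, 3, 1, 3, 2, 3, 4] [.sub [20, 19, 20, 19, 18, 25, 20, 31, 25, 20, 27, 29] [.out 46]],
  .sub [3, 4, 1, 3, 1, 2, 1, 3, 1, 3, 2, 3, 4] [.out 3256],
  .sub [1, 4, 1, 3, 1, 2, 1, 3, 1, 3, 2, 3, 4] [.out 3300],
  .sub [2, 4, 1, 3, 1, 2, 1, 3, 1, 3, 2, 3, 4] [.sub [31, 30, 18, 24, 18, 27, 27, 30, 20, 24] [.out 3754]],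
  .sub [3, 2, 1, 3, 1, 2, 1, 3, 1, 3, 2, 3, 4] [.sub [19, 31, 25, 18, 18, 24, 27, 20, 20, 20, 30, 25] [.out 2499]],
  .sub [1, 3, 4, 1, 4, 3, 2, 3, 1, 3, 2, 3, 4] [.sub [20, 24, 19, 29, 18, 27, 31, 20, 29, 24, 27, 30, 29, 29] [.out 428]],
  .sub [3, 2, 4, 1, 4, 3, 2, 3, 1, 3, 2, 3, 4] [.out 3360],
  .sub [4, 1, 3, 1, 4, 3, 2, 3, 1, 3, 2, 3, 4] [.sub [24, 29, 20, 24, 18, 31, 30, 20, 24, 27, 30, 29, 29] [.out 2459]],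
  .sub [2, 1, 3, 1, 4, 3, 2, 3, 1, 3, 2, 3, 4] [.sub [27, 19, 31, 20, 19, 31, 25, 20, 31, 24, 27, 29] [.out 577]],
  .sub [1, 3, 2, 1, 4, 3, 2, 3, 1, 3, 2, 3, 4] [.sub [29, 18, 19, 18, 30, 20, 31, 27, 30] [.out 2160]],
  .sub [2, 3, 2, 1, 4, 3, 2, 3, 1, 3, 2, 3, 4] [.out 3437],
  .sub [3, 1, 2, 1, 4, 3, 2, 3, 1, 3, 2, 3, 4] [.sub [19, 27, 18, 20, 27, 24, 20, 20, 30] [.sub [19, 29, 24, 31, 19, 31, 27, 24, 20, 30, 25] [.out 1999]]],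
  .sub [4, 1, 3, 2, 4, 3, 2, 3, 1, 3, 2, 3, 4] [.sub [24, 18, 24, 18, 31, 29, 20, 24, 20, 30, 29, 29] [.out 1882]],
  .sub [1, 2, 3, 2, 4, 3, 2, 3, 1, 3, 2, 3, 4] [.out 2393],
  .sub [1, 3, 1, 2, 4, 3, 2, 3, 1, 3, 2, 3, 4] [.sub [31, 24, 24, 19, 20, 20, 20, 31, 20, 29, 25, 29, 29] [.out 660]],
  .sub [2, 3, 1, 2, 4, 3, 2, 3, 1, 3, 2, 3, 4] [.sub [19, 18, 25, 20, 19, 30, 24, 27, 20, 24, 30, 27] [.out 4022]],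
  .sub [2, 4, 3, 4, 1, 3, 2, 3, 1, 3, 2, 3, 4] [.sub [25, 18, 31, 24, 19, 25, 20, 31, 31, 27, 29] [.out 2635]],
  .sub [4, 1, 3, 4, 1, 3, 2, 3, 1, 3, 2, 3, 4] [.out 3584],
  .sub [2, 1, 3, 4, 1, 3, 2, 3, 1, 3, 2, 3, 4] [.out 1594],
  .sub [3, 2, 3, 4, 1, 3, 2, 3, 1, 3, 2, 3, 4] [.sub [20, 24, 18, 30, 31, 30, 20, 30, 29] [.out 4003]],
  .sub [1, 2, 3, 4, 1, 3, 2, 3, 1, 3, 2, 3, 4] [.sub [30, 25, 31, 18, 19, 27, 31, 30, 20, 20, 29] [.out 1727]],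
  .sub [1, 3, 1, 4, 1, 3, 2, 3, 1, 3, 2, 3, 4] [.sub [18, 24, 29, 20, 18, 18, 30, 27, 24, 27, 24, 30, 25, 29, 29] [.out 680]],
  .sub [2, 3, 1, 4, 1, 3, 2, 3, 1, 3, 2, 3, 4] [.out 2182],
  .sub [1, 3, 2, 4, 1, 3, 2, 3, 1, 3, 2, 3, 4] [.sub [25, 19, 29, 18, 18, 29, 30, 20, 30, 20, 30, 29, 29] [.out 2164]],
  .sub [2, 3, 2, 4, 1, 3, 2, 3, 1, 3, 2, 3, 4] [.out 3141],
  .sub [2, 4, 1, 3, 1, 3, 2, 3, 1, 3, 2, 3, 4] [.out 2806],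
  .sub [1, 2, 1, 3, 1, 3, 2, 3, 1, 3, 2, 3, 4] [.out 3712],
  .sub [4, 1, 3, 2, 1, 3, 2, 3, 1, 3, 2, 3, 4] [.sub [25, 18, 27, 27, 18, 31, 29, 20, 24, 20, 27, 30] [.out 3782]],
  .sub [3, 1, 3, 2, 1, 3, 2, 3, 1, 3, 2, 3, 4] [.sub [19, 25, 24, 19, 18, 25, 31, 20, 24, 30, 25] [.sub [20, 19, 18, 18, 19, 25, 24, 27, 31, 29, 25] [.out 2778]]],
  .sub [2, 1, 3, 2, 1, 3, 2, 3, 1, 3, 2, 3, 4] [.out 1915],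
  .sub [3, 4, 1, 2, 1, 3, 2, 3, 1, 3, 2, 3, 4] [.out 3677],
  .sub [4, 3, 1, 2, 1, 3, 2, 3, 1, 3, 2, 3, 4] [.sub [20, 25, 19, 24, 19, 25, 31, 25, 31, 25, 29] [.out 2181]],
  .sub [1, 3, 1, 2, 1, 3, 2, 3, 1, 3, 2, 3, 4] [.sub [24, 31, 31, 19, 18, 24, 30, 31, 24, 20, 25, 29, 29] [.out 830]],
  .sub [2, 3, 1, 2, 1, 3, 2, 3, 1, 3, 2, 3, 4] [.sub [18, 18, 20, 31, 18, 18, 30, 27, 24, 27] [.out 1481]],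
  .sub [1, 3, 4, 1, 2, 3, 2, 3, 1, 3, 2, 3, 4] [.out 3312],
  .sub [2, 3, 4, 1, 2, 3, 2, 3, 1, 3, 2, 3, 4] [.sub [19, 18, 24, 18, 20, 30, 20, 20, 24, 30, 25] [.out 1596]],
  .sub [3, 1, 4, 1, 2, 3, 2, 3, 1, 3, 2, 3, 4] [.sub [29, 24, 25, 18, 31, 29, 31, 24, 29, 25, 29, 29] [.sub [24, 18, 29, 19, 18, 27, 31, 29, 24, 29, 25, 29, 29] [.out 3404]]],
  .sub [1, 3, 4, 1, 3, 1, 2, 3, 1, 3, 2, 3, 4] [.sub [24, 31, 19, 29, 18, 31, 27, 25, 24, 27] [.sub [18, 19, 30, 20, 27, 31, 27, 30] [.done 28]]],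
  .sub [2, 3, 4, 1, 3, 1, 2, 3, 1, 3, 2, 3, 4] [.sub [19, 18, 18, 25, 18, 25, 24, 20, 20, 30, 27, 29] [.sub [20, 18, 18, 19, 19, 25, 31, 25, 20, 30, 25, 29, 29] [.out 3302]]],
  .sub [3, 1, 4, 1, 3, 1, 2, 3, 1, 3, 2, 3, 4] [.out 1292],
  .sub [2, 3, 2, 1, 3, 1, 2, 3, 1, 3, 2, 3, 4] [.sub [27, 18, 30, 31, 19, 20, 31, 31, 20, 25, 29] [.sub [19, 30, 24, 25, 19, 18, 25, 24, 31, 31, 30, 27] [.out 3001]]],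
  .sub [1, 2, 1, 4, 1, 4, 3, 2, 1, 3, 2, 3, 4] [.sub [20, 19, 20, 25, 18, 20, 31, 25, 20, 29] [.out 3248]],
  .sub [4, 3, 2, 4, 1, 4, 3, 2, 1, 3, 2, 3, 4] [.sub [19, 19, 19, 19, 29, 20, 30, 20, 20, 25, 29] [.out 1900]],
  .sub [1, 3, 2, 4, 1, 4, 3, 2, 1, 3, 2, 3, 4] [.sub [31, 30, 24, 19, 18, 29, 24, 25, 24, 20, 30, 25] [.out 3963]],
  .sub [4, 1, 2, 4, 1, 4, 3, 2, 1, 3, 2, 3, 4] [.out 2885],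
  .sub [3, 1, 2, 4, 1, 4, 3, 2, 1, 3, 2, 3, 4] [.sub [20, 19, 20, 25, 18, 20, 31, 25, 20, 29] [.out 582]],
  .sub [3, 4, 1, 3, 1, 4, 3, 2, 1, 3, 2, 3, 4] [.out 3174],
  .sub [2, 4, 1, 3, 1, 4, 3, 2, 1, 3, 2, 3, 4] [.sub [19, 24, 24, 31, 18, 31, 20, 27, 24, 30] [.sub [31, 19, 29, 24, 18, 25, 20, 31, 29, 24, 27, 30, 29, 29] [.out 1369]]],
  .sub [3, 2, 1, 3, 1, 4, 3, 2, 1, 3, 2, 3, 4] [.sub [29, 25, 31, 18, 24, 20, 30, 24, 20, 30] [.sub [25, 19, 19, 24, 18, 27, 31, 31, 20, 30, 27, 29, 29] [.out 3680]]]]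

/-- Branches. -/
def kidsXPart43 : List Branch := [
  .sub [1, 4, 3, 2, 1, 4, 3, 2, 1, 3, 2, 3, 4] [.sub [20, 18, 25, 20, 19, 29, 24, 20, 27, 29] [.out 3692]],
  .sub [4, 1, 3, 2, 1, 4, 3, 2, 1, 3, 2, 3, 4] [.sub [30, 29, 18, 18, 25, 20, 30, 20, 30, 29] [.out 2973]],
  .sub [2, 1, 3, 2, 1, 4, 3, 2, 1, 3, 2, 3, 4] [.out 1803],
  .sub [3, 4, 1, 2, 1, 4, 3, 2, 1, 3, 2, 3, 4] [.out 3538],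
  .sub [1, 4, 1, 2, 1, 4, 3, 2, 1, 3, 2, 3, 4] [.sub [18, 18, 31, 24, 18, 18, 29, 24, 25, 24, 30, 27, 29] [.out 2855]],
  .sub [4, 3, 1, 2, 1, 4, 3, 2, 1, 3, 2, 3, 4] [.out 2771],
  .sub [1, 3, 1, 2, 1, 4, 3, 2, 1, 3, 2, 3, 4] [.sub [29, 30, 18, 18, 24, 25, 24, 20, 27] [.out 2238]],
  .sub [2, 3, 1, 2, 1, 4, 3, 2, 1, 3, 2, 3, 4] [.out 3504],
  .sub [4, 3, 1, 3, 2, 4, 3, 2, 1, 3, 2, 3, 4] [.sub [29, 18, 20, 19, 18, 25, 31, 30, 24, 29, 25, 29] [.out 3839]],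
  .sub [2, 3, 1, 3, 2, 4, 3, 2, 1, 3, 2, 3, 4] [.out 2473],
  .sub [3, 2, 1, 3, 2, 4, 3, 2, 1, 3, 2, 3, 4] [.sub [19, 29, 18, 19, 18, 24, 27, 29, 24, 27, 29] [.out 2222]],
  .sub [1, 2, 1, 3, 2, 4, 3, 2, 1, 3, 2, 3, 4] [.sub [24, 29, 18, 18, 19, 25, 27, 25, 31, 29, 29] [.sub [24, 19, 24, 18, 19, 29, 31, 30, 20, 20, 29, 25] [.out 2443]]],
  .sub [4, 1, 2, 3, 2, 4, 3, 2, 1, 3, 2, 3, 4] [.out 3613],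
  .sub [3, 1, 2, 3, 2, 4, 3, 2, 1, 3, 2, 3, 4] [.out 2171],
  .sub [2, 1, 4, 1, 2, 4, 3, 2, 1, 3, 2, 3, 4] [.sub [24, 27, 18, 24, 18, 24, 30, 20, 24, 20, 20, 27, 29] [.sub [20, 20, 18, 18, 29, 31, 30, 20, 20, 29] [.out 2040]]],
  .sub [2, 4, 3, 1, 2, 4, 3, 2, 1, 3, 2, 3, 4] [.sub [20, 19, 20, 19, 18, 24, 27, 31, 20, 20, 27] [.out 3763]],
  .sub [3, 2, 3, 1, 2, 4, 3, 2, 1, 3, 2, 3, 4] [.out 3244],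
  .sub [1, 2, 3, 1, 2, 4, 3, 2, 1, 3, 2, 3, 4] [.sub [27, 25, 18, 25, 18, 18, 30, 29, 24, 31, 27, 29, 29] [.out 1119]],
  .sub [2, 1, 3, 1, 4, 1, 3, 2, 1, 3, 2, 3, 4] [.sub [31, 29, 20, 19, 18, 24, 20, 30, 24, 30, 25, 29, 29] [.out 3772]],
  .sub [1, 2, 3, 1, 4, 1, 3, 2, 1, 3, 2, 3, 4] [.out 3441],
  .sub [4, 3, 2, 1, 4, 1, 3, 2, 1, 3, 2, 3, 4] [.sub [31, 19, 19, 27, 18, 27, 24, 30, 24, 20, 25, 29, 29] [.out 731]],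
  .sub [4, 1, 2, 1, 4, 1, 3, 2, 1, 3, 2, 3, 4] [.out 3318],
  .sub [3, 1, 2, 1, 4, 1, 3, 2, 1, 3, 2, 3, 4] [.out 1933],
  .sub [1, 4, 3, 2, 4, 1, 3, 2, 1, 3, 2, 3, 4] [.out 3652],
  .sub [2, 4, 3, 2, 4, 1, 3, 2, 1, 3, 2, 3, 4] [.sub [29, 25, 19, 18, 18, 18, 24, 20, 25, 20, 20, 30, 27] [.sub [31, 18, 30, 18, 18, 30, 24, 31, 25, 29, 29] [.out 76]]],
  .sub [1, 4, 1, 2, 4, 1, 3, 2, 1, 3, 2, 3, 4] [.out 2107],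
  .sub [2, 3, 1, 2, 4, 1, 3, 2, 1, 3, 2, 3, 4] [.out 3916],
  .sub [2, 1, 4, 3, 2, 1, 3, 2, 1, 3, 2, 3, 4] [.out 2995],
  .sub [3, 2, 4, 3, 2, 1, 3, 2, 1, 3, 2, 3, 4] [.sub [24, 25, 19, 29, 18, 25, 31, 20, 29] [.out 3685]],
  .sub [4, 3, 4, 1, 2, 1, 3, 2, 1, 3, 2, 3, 4] [.sub [20, 27, 18, 19, 27, 31, 27, 20, 20, 30, 25] [.out 1196]],
  .sub [2, 3, 4, 1, 2, 1, 3, 2, 1, 3, 2, 3, 4] [.sub [] [.out 2704]],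
  .sub [2, 1, 4, 1, 2, 1, 3, 2, 1, 3, 2, 3, 4] [.out 1272],
  .sub [1, 4, 3, 1, 2, 1, 3, 2, 1, 3, 2, 3, 4] [.sub [29, 18, 19, 18, 18, 24, 24, 31, 24, 30, 27] [.out 3106]],
  .sub [2, 4, 3, 1, 2, 1, 3, 2, 1, 3, 2, 3, 4] [.out 3900],
  .sub [4, 1, 3, 1, 2, 1, 3, 2, 1, 3, 2, 3, 4] [.sub [29, 18, 24, 20, 18, 30, 24, 20, 30, 29, 29] [.out 1353]],
  .sub [2, 1, 3, 1, 2, 1, 3, 2, 1, 3, 2, 3, 4] [.out 3589],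
  .sub [3, 2, 3, 1, 2, 1, 3, 2, 1, 3, 2, 3, 4] [.out 2956],
  .sub [1, 2, 3, 1, 2, 1, 3, 2, 1, 3, 2, 3, 4] [.sub [24, 29, 19, 18, 18, 24, 27, 30, 31, 20, 25, 29] [.out 1528]],
  .sub [1, 4, 3, 4, 1, 2, 3, 2, 1, 3, 2, 3, 4] [.out 2953],
  .sub [2, 4, 3, 4, 1, 2, 3, 2, 1, 3, 2, 3, 4] [.sub [18, 19, 29, 18, 19, 18, 27, 20, 31, 31, 27, 29] [.sub [31, 31, 27, 18, 18, 29, 31, 30, 24, 30] [.out 582]]],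
  .sub [4, 1, 3, 4, 1, 2, 3, 2, 1, 3, 2, 3, 4] [.out 4006],
  .sub [2, 1, 3, 4, 1, 2, 3, 2, 1, 3, 2, 3, 4] [.sub [25, 27, 18, 20, 19, 18, 29, 20, 20, 31, 27, 29] [.out 3019]],
  .sub [3, 2, 3, 4, 1, 2, 3, 2, 1, 3, 2, 3, 4] [.out 1252],
  .sub [1, 2, 3, 4, 1, 2, 3, 2, 1, 3, 2, 3, 4] [.sub [19, 20, 29, 18, 25, 31, 25, 31, 25, 29] [.out 1704]],
  .sub [1, 2, 4, 3, 1, 2, 3, 2, 1, 3, 2, 3, 4] [.sub [24, 19, 29, 18, 27, 24, 20, 20] [.out 3165]],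
  .sub [2, 4, 1, 3, 1, 2, 3, 2, 1, 3, 2, 3, 4] [.sub [27, 25, 18, 25, 18, 18, 25, 31, 20, 20, 30] [.out 1762]],
  .sub [1, 2, 1, 3, 1, 2, 3, 2, 1, 3, 2, 3, 4] [.out 3428],
  .sub [4, 3, 2, 3, 1, 2, 3, 2, 1, 3, 2, 3, 4] [.out 3584],
  .sub [1, 3, 2, 3, 1, 2, 3, 2, 1, 3, 2, 3, 4] [.sub [27, 20, 31, 20, 18, 30, 24, 31, 31, 20, 29] [.out 60]],
  .sub [4, 1, 2, 3, 1, 2, 3, 2, 1, 3, 2, 3, 4] [.out 4039],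
  .sub [3, 1, 2, 3, 1, 2, 3, 2, 1, 3, 2, 3, 4] [.sub [20, 30, 25, 20, 18, 27, 25, 24, 20, 29, 25] [.out 3839]],
  .sub [2, 1, 3, 1, 4, 3, 2, 4, 3, 1, 2, 3, 4] [.out 3677],
  .sub [3, 2, 3, 1, 4, 3, 2, 4, 3, 1, 2, 3, 4] [.out 3333],
  .sub [1, 2, 3, 1, 4, 3, 2, 4, 3, 1, 2, 3, 4] [.sub [18, 25, 27, 20, 18, 27, 24, 25, 31, 29, 25] [.out 1235]],
  .sub [4, 1, 3, 2, 4, 3, 2, 4, 3, 1, 2, 3, 4] [.out 3431],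
  .sub [3, 1, 3, 2, 4, 3, 2, 4, 3, 1, 2, 3, 4] [.out 3993],
  .sub [2, 1, 3, 2, 4, 3, 2, 4, 3, 1, 2, 3, 4] [.sub [19, 24, 31, 19, 25, 20, 30, 24, 20, 27, 30, 29, 29] [.out 2747]],
  .sub [4, 3, 4, 1, 2, 3, 2, 4, 3, 1, 2, 3, 4] [.sub [30, 20, 19, 31, 18, 18, 31, 24, 27, 24, 27, 30] [.out 635]],
  .sub [1, 3, 4, 1, 2, 3, 2, 4, 3, 1, 2, 3, 4] [.sub [19, 18, 25, 20, 19, 18, 31, 27, 30, 31, 30, 29, 29] [.sub [19, 19, 31, 24, 18, 27, 25, 20, 24, 30, 27] [.out 902]]],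
  .sub [2, 3, 4, 1, 2, 3, 2, 4, 3, 1, 2, 3, 4] [.sub [24, 20, 18, 19, 27, 18, 31, 24, 20, 20, 30, 27, 29, 29] [.sub [29, 18, 25, 18, 18, 24, 24, 27, 20, 24, 25, 29] [.out 2249]]],
  .sub [1, 4, 3, 1, 2, 3, 2, 4, 3, 1, 2, 3, 4] [.sub [29, 18, 31, 18, 18, 25, 31, 31, 29] [.sub [18, 31, 31, 18, 18, 31, 29, 31, 25] [.out 399]]],
  .sub [2, 4, 3, 1, 2, 3, 2, 4, 3, 1, 2, 3, 4] [.out 2749],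
  .sub [1, 2, 3, 1, 2, 3, 2, 4, 3, 1, 2, 3, 4] [.out 3272],
  .sub [1, 4, 3, 2, 1, 3, 4, 1, 3, 1, 2, 3, 4] [.sub [27, 19, 30, 20, 18, 25, 24, 27, 25, 31, 27, 30, 29] [.out 3573]]]

/-- Branches. -/
def kidsXPart44 : List Branch := [
  .sub [3, 1, 4, 3, 2, 3, 4, 1, 3, 1, 2, 3, 4] [.sub [27, 18, 24, 27, 19, 30, 24, 30, 25, 20, 27, 29, 29] [.out 3013]],
  .sub [1, 2, 4, 3, 2, 3, 4, 1, 3, 1, 2, 3, 4] [.out 3781],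
  .sub [3, 4, 1, 3, 2, 3, 4, 1, 3, 1, 2, 3, 4] [.sub [30, 24, 27, 18, 27, 27, 24, 27] [.out 3603]],
  .sub [2, 4, 1, 3, 2, 3, 4, 1, 3, 1, 2, 3, 4] [.sub [18, 30, 19, 18, 30, 29, 20, 20, 25, 29] [.sub [25, 18, 20, 24, 18, 20, 20, 31, 30, 20, 30, 25, 29] [.out 3343]]],
  .sub [1, 2, 1, 3, 2, 3, 4, 1, 3, 1, 2, 3, 4] [.sub [31, 31, 27, 18, 20, 24, 30, 27, 29, 29] [.out 3347]],
  .sub [4, 1, 2, 3, 2, 3, 4, 1, 3, 1, 2, 3, 4] [.out 3925],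
  .sub [3, 1, 2, 3, 2, 3, 4, 1, 3, 1, 2, 3, 4] [.out 3821],
  .sub [1, 4, 3, 1, 2, 3, 4, 1, 3, 1, 2, 3, 4] [.sub [29, 18, 18, 18, 24, 25, 24, 31, 27, 30] [.out 624]],
  .sub [2, 1, 3, 1, 2, 3, 4, 1, 3, 1, 2, 3, 4] [.sub [19, 20, 19, 30, 18, 18, 24, 31, 31, 31, 24, 29, 29] [.out 2486]],
  .sub [1, 4, 3, 2, 3, 1, 4, 1, 3, 1, 2, 3, 4] [.out 3908],
  .sub [1, 2, 3, 2, 3, 1, 4, 1, 3, 1, 2, 3, 4] [.sub [20, 18, 18, 18, 31, 30, 27, 24, 27, 30, 29, 29] [.out 659]],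
  .sub [1, 3, 1, 2, 3, 1, 4, 1, 3, 1, 2, 3, 4] [.out 3764],
  .sub [2, 3, 1, 2, 3, 1, 4, 1, 3, 1, 2, 3, 4] [.out 1699],
  .sub [4, 1, 4, 3, 2, 1, 4, 1, 3, 1, 2, 3, 4] [.sub [19, 18, 25, 20, 19, 31, 30, 31, 27] [.sub [29, 31, 18, 24, 20, 24, 20, 27, 30] [.out 532]]],
  .sub [3, 1, 4, 3, 2, 1, 4, 1, 3, 1, 2, 3, 4] [.sub [31, 31, 30, 19, 18, 24, 20, 30, 24, 29, 25, 29] [.out 3327]],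
  .sub [4, 3, 1, 3, 2, 1, 4, 1, 3, 1, 2, 3, 4] [.sub [20, 29, 19, 19, 18, 30, 24, 20, 27, 30, 29, 29] [.out 3873]],
  .sub [2, 3, 1, 3, 2, 1, 4, 1, 3, 1, 2, 3, 4] [.out 3925],
  .sub [4, 3, 4, 1, 2, 1, 4, 1, 3, 1, 2, 3, 4] [.sub [20, 27, 18, 31, 19, 25, 24, 27, 24, 29, 25] [.out 2210]],
  .sub [1, 3, 4, 1, 2, 1, 4, 1, 3, 1, 2, 3, 4] [.out 3475],
  .sub [2, 3, 4, 1, 2, 1, 4, 1, 3, 1, 2, 3, 4] [.out 2872],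
  .sub [1, 4, 3, 1, 2, 1, 4, 1, 3, 1, 2, 3, 4] [.sub [31, 27, 18, 18, 19, 20, 25, 24, 20, 27, 30] [.out 145]],
  .sub [2, 4, 3, 1, 2, 1, 4, 1, 3, 1, 2, 3, 4] [.sub [18, 31, 18, 18, 18, 31, 30, 29, 24, 20, 25] [.out 3199]],
  .sub [4, 1, 3, 1, 2, 1, 4, 1, 3, 1, 2, 3, 4] [.out 3755],
  .sub [1, 2, 3, 1, 2, 1, 4, 1, 3, 1, 2, 3, 4] [.sub [18, 25, 27, 20, 18, 27, 24, 25, 31, 29, 25] [.out 717]],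
  .sub [1, 4, 1, 4, 3, 2, 4, 1, 3, 1, 2, 3, 4] [.sub [19, 20, 19, 19, 18, 30, 29] [.out 3322]],
  .sub [4, 3, 4, 1, 3, 2, 4, 1, 3, 1, 2, 3, 4] [.sub [30, 20, 24, 18, 19, 31, 20, 20, 30, 27, 29, 29] [.out 2364]],
  .sub [2, 3, 4, 1, 3, 2, 4, 1, 3, 1, 2, 3, 4] [.sub [27, 30, 18, 19, 19, 18, 29, 25, 31, 27, 30] [.out 3736]],
  .sub [3, 1, 4, 1, 3, 2, 4, 1, 3, 1, 2, 3, 4] [.out 3008],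
  .sub [2, 1, 4, 1, 3, 2, 4, 1, 3, 1, 2, 3, 4] [.out 3944],
  .sub [1, 2, 4, 1, 3, 2, 4, 1, 3, 1, 2, 3, 4] [.sub [31, 31, 19, 29, 24, 25, 24, 29] [.out 421]],
  .sub [4, 1, 3, 1, 3, 2, 4, 1, 3, 1, 2, 3, 4] [.sub [31, 29, 18, 19, 30, 24, 24, 20, 20, 30, 27] [.out 863]],
  .sub [1, 3, 1, 2, 3, 2, 4, 1, 3, 1, 2, 3, 4] [.out 2374],
  .sub [3, 1, 4, 3, 1, 2, 4, 1, 3, 1, 2, 3, 4] [.sub [18, 18, 18, 27, 18, 20, 29, 24, 31, 20, 30, 25, 29] [.sub [27, 18, 18, 19, 27, 27, 31, 31, 30, 25, 29] [.out 76]]],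
  .sub [2, 1, 4, 3, 1, 2, 4, 1, 3, 1, 2, 3, 4] [.sub [20, 25, 18, 18, 18, 24, 25, 20, 30, 27, 29, 29] [.sub [24, 29, 31, 18, 20, 20, 20, 20, 27] [.out 575]]],
  .sub [3, 2, 4, 3, 1, 2, 4, 1, 3, 1, 2, 3, 4] [.sub [27, 19, 30, 19, 18, 20, 20, 20, 20, 30, 27] [.out 1481]],
  .sub [3, 2, 1, 3, 1, 2, 4, 1, 3, 1, 2, 3, 4] [.out 1330],
  .sub [1, 2, 1, 3, 1, 2, 4, 1, 3, 1, 2, 3, 4] [.sub [19, 27, 27, 19, 18, 27, 31, 30, 20, 20, 29, 25, 29, 29] [.out 573]],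
  .sub [4, 1, 2, 3, 1, 2, 4, 1, 3, 1, 2, 3, 4] [.sub [18, 27, 27, 18, 18, 27, 27, 24, 29, 25, 29, 29] [.out 145]],
  .sub [3, 1, 4, 1, 4, 3, 2, 1, 3, 1, 2, 3, 4] [.out 1594],
  .sub [1, 3, 2, 1, 4, 3, 2, 1, 3, 1, 2, 3, 4] [.sub [29, 19, 19, 18, 31, 29, 20, 24, 20, 30, 27, 29] [.out 2546]],
  .sub [4, 1, 2, 1, 4, 3, 2, 1, 3, 1, 2, 3, 4] [.sub [19, 18, 27, 18, 18, 31, 24, 31, 31, 20, 27, 30, 29, 29] [.out 928]],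
  .sub [3, 4, 1, 2, 4, 3, 2, 1, 3, 1, 2, 3, 4] [.sub [19, 18, 19, 18, 18, 29, 24, 30, 31, 20, 30, 27] [.out 3999]],
  .sub [1, 4, 1, 2, 4, 3, 2, 1, 3, 1, 2, 3, 4] [.sub [18, 19, 20, 24, 18, 18, 20, 27, 24, 20, 20, 27, 30, 29, 29] [.out 170]],
  .sub [4, 3, 1, 2, 4, 3, 2, 1, 3, 1, 2, 3, 4] [.out 2749],
  .sub [3, 2, 3, 4, 1, 3, 2, 1, 3, 1, 2, 3, 4] [.out 3608],
  .sub [1, 2, 3, 4, 1, 3, 2, 1, 3, 1, 2, 3, 4] [.out 2625],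
  .sub [1, 3, 2, 4, 1, 3, 2, 1, 3, 1, 2, 3, 4] [.out 3124],
  .sub [3, 1, 2, 4, 1, 3, 2, 1, 3, 1, 2, 3, 4] [.out 2896],
  .sub [3, 1, 4, 3, 1, 3, 2, 1, 3, 1, 2, 3, 4] [.sub [29, 24, 24, 19, 24, 31, 29, 25, 29, 29] [.sub [31, 19, 19, 31, 18, 20, 30, 29, 29] [.bad [30, 20, 27, 18, 18, 25, 27, 24, 20, 30, 27, 29, 29] 1]]],
  .sub [2, 1, 4, 3, 1, 3, 2, 1, 3, 1, 2, 3, 4] [.sub [30, 19, 18, 18, 19, 18, 29, 31, 20, 29, 29] [.out 192]],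
  .sub [3, 4, 1, 2, 1, 3, 2, 1, 3, 1, 2, 3, 4] [.sub [27, 29, 19, 18, 18, 27, 25, 20, 30, 25, 29] [.sub [29, 31, 19, 18, 29, 25, 31, 20, 30, 29] [.out 3561]]],
  .sub [1, 4, 1, 2, 1, 3, 2, 1, 3, 1, 2, 3, 4] [.sub [18, 18, 31, 24, 18, 18, 29, 20, 24, 20] [.out 3477]],
  .sub [1, 4, 3, 1, 4, 1, 2, 1, 3, 1, 2, 3, 4] [.out 2459],
  .sub [2, 4, 3, 1, 4, 1, 2, 1, 3, 1, 2, 3, 4] [.out 2790],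
  .sub [3, 2, 3, 1, 4, 1, 2, 1, 3, 1, 2, 3, 4] [.sub [18, 19, 18, 24, 18, 31, 24, 20, 31, 27, 30] [.out 1451]],
  .sub [4, 1, 2, 1, 3, 1, 2, 1, 3, 1, 2, 3, 4] [.out 3127],
  .sub [1, 4, 3, 2, 3, 1, 2, 1, 3, 1, 2, 3, 4] [.out 4013],
  .sub [4, 1, 3, 2, 3, 1, 2, 1, 3, 1, 2, 3, 4] [.sub [18, 18, 24, 27, 18, 18, 25, 20, 30, 24, 20, 27, 30, 29] [.out 1741]],
  .sub [2, 1, 3, 2, 3, 1, 2, 1, 3, 1, 2, 3, 4] [.out 2640],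
  .sub [1, 4, 1, 2, 3, 1, 2, 1, 3, 1, 2, 3, 4] [.sub [31, 24, 24, 19, 29, 31, 20, 20, 24] [.sub [25, 19, 25, 18, 19, 31, 20, 20, 29, 25, 29] [.out 1488]]],
  .sub [4, 3, 1, 2, 3, 1, 2, 1, 3, 1, 2, 3, 4] [.sub [30, 31, 27, 18, 31, 30, 24, 20, 27, 30] [.sub [20, 31, 20, 18, 19, 27, 30, 31, 29, 25] [.out 1278]]],
  .sub [4, 3, 2, 4, 1, 4, 3, 2, 3, 1, 2, 3, 4] [.sub [18, 24, 31, 19, 30, 24, 25, 24, 20, 30, 29, 29] [.out 3940]],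
  .sub [4, 3, 2, 3, 1, 4, 3, 2, 3, 1, 2, 3, 4] [.sub [29, 19, 29, 19, 18, 25, 31, 20, 20, 27, 30, 29] [.out 2358]],
  .sub [1, 3, 2, 3, 1, 4, 3, 2, 3, 1, 2, 3, 4] [.out 3575]]

/-- Branches. -/
def kidsXPart45 : List Branch := [
  .sub [2, 3, 2, 3, 1, 4, 3, 2, 3, 1, 2, 3, 4] [.out 2530],
  .sub [4, 1, 2, 3, 1, 4, 3, 2, 3, 1, 2, 3, 4] [.sub [19, 19, 18, 19, 27, 25, 20, 27, 29, 29] [.out 1613]],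
  .sub [3, 1, 2, 3, 1, 4, 3, 2, 3, 1, 2, 3, 4] [.out 3403],
  .sub [2, 4, 3, 2, 1, 4, 3, 2, 3, 1, 2, 3, 4] [.sub [18, 24, 19, 18, 18, 31, 31, 25, 20] [.out 2652]],
  .sub [1, 2, 3, 2, 1, 4, 3, 2, 3, 1, 2, 3, 4] [.sub [27, 20, 31, 19, 29, 20, 31, 20, 24, 27, 29, 29] [.sub [19, 18, 19, 31, 18, 20, 31, 31, 25, 20, 30, 25] [.out 2132]]],
  .sub [2, 4, 3, 1, 4, 1, 3, 2, 3, 1, 2, 3, 4] [.out 3103],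
  .sub [3, 2, 3, 1, 4, 1, 3, 2, 3, 1, 2, 3, 4] [.out 1974],
  .sub [1, 2, 3, 1, 4, 1, 3, 2, 3, 1, 2, 3, 4] [.sub [29, 19, 20, 19, 29, 24, 30, 31, 20, 30, 29, 29] [.out 463]],
  .sub [4, 3, 2, 1, 4, 1, 3, 2, 3, 1, 2, 3, 4] [.sub [25, 18, 29, 18, 25, 24, 27, 24, 20, 30, 29, 29] [.sub [30, 24, 31, 18, 19, 24, 27, 25, 31, 25, 29, 29] [.out 2019]]],
  .sub [2, 3, 2, 1, 4, 1, 3, 2, 3, 1, 2, 3, 4] [.sub [25, 24, 24, 20, 18, 20, 29, 24, 30, 29] [.out 1369]],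
  .sub [4, 1, 2, 1, 4, 1, 3, 2, 3, 1, 2, 3, 4] [.out 2942],
  .sub [4, 3, 1, 2, 4, 1, 3, 2, 3, 1, 2, 3, 4] [.sub [19, 24, 31, 19, 20, 30, 20, 20, 24, 30, 27] [.out 1374]],
  .sub [2, 3, 1, 2, 4, 1, 3, 2, 3, 1, 2, 3, 4] [.out 3091],
  .sub [4, 3, 1, 2, 3, 1, 3, 2, 3, 1, 2, 3, 4] [.sub [20, 19, 19, 27, 18, 27, 24, 29, 24, 27, 29, 29] [.sub [24, 20, 24, 18, 27, 31, 27, 20, 20, 30, 27, 29, 29] [.out 1928]]],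
  .sub [3, 2, 4, 3, 2, 1, 3, 2, 3, 1, 2, 3, 4] [.out 1332],
  .sub [1, 2, 4, 3, 2, 1, 3, 2, 3, 1, 2, 3, 4] [.sub [31, 19, 20, 20, 19, 18, 27, 25, 20, 29] [.out 3716]],
  .sub [2, 1, 3, 1, 4, 3, 1, 2, 3, 1, 2, 3, 4] [.sub [25, 31, 18, 18, 29, 31, 31, 25, 20, 30, 27, 29] [.out 2831]],
  .sub [2, 4, 3, 2, 4, 3, 1, 2, 3, 1, 2, 3, 4] [.sub [19, 27, 19, 18, 27, 20, 20, 30] [.out 3340]],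
  .sub [4, 1, 3, 2, 4, 3, 1, 2, 3, 1, 2, 3, 4] [.sub [19, 18, 29, 18, 18, 29, 20, 31, 20, 24, 30, 27, 29, 29] [.out 1927]],
  .sub [3, 1, 3, 2, 4, 3, 1, 2, 3, 1, 2, 3, 4] [.out 3230],
  .sub [2, 1, 3, 2, 4, 3, 1, 2, 3, 1, 2, 3, 4] [.sub [18, 31, 18, 18, 18, 31, 30, 29, 24, 20, 25] [.sub [31, 20, 19, 29, 18, 27, 31, 25, 20, 20, 25, 29, 29] [.out 2207]]],
  .sub [1, 2, 3, 2, 4, 3, 1, 2, 3, 1, 2, 3, 4] [.out 1578],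
  .sub [4, 3, 1, 2, 4, 3, 1, 2, 3, 1, 2, 3, 4] [.sub [31, 19, 24, 27, 18, 29, 31, 30, 20, 20, 30] [.out 1451]],
  .sub [1, 3, 1, 2, 4, 3, 1, 2, 3, 1, 2, 3, 4] [.sub [19, 19, 20, 25, 18, 29, 31, 25, 31, 29, 25, 29, 29] [.out 1915]],
  .sub [1, 2, 1, 4, 1, 3, 1, 2, 3, 1, 2, 3, 4] [.sub [19, 31, 20, 19, 31, 29, 31, 20, 20, 27, 29] [.out 2731]],
  .sub [4, 3, 2, 4, 1, 3, 1, 2, 3, 1, 2, 3, 4] [.sub [18, 27, 29, 19, 18, 31, 30, 24, 30, 27] [.out 650]],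
  .sub [1, 3, 2, 4, 1, 3, 1, 2, 3, 1, 2, 3, 4] [.sub [19, 31, 20, 19, 27, 24, 31, 20, 30, 29, 29] [.out 2017]],
  .sub [2, 3, 2, 4, 1, 3, 1, 2, 3, 1, 2, 3, 4] [.out 3921],
  .sub [4, 1, 2, 4, 1, 3, 1, 2, 3, 1, 2, 3, 4] [.out 2601],
  .sub [3, 1, 2, 4, 1, 3, 1, 2, 3, 1, 2, 3, 4] [.sub [18, 31, 18, 25, 27, 20, 31] [.sub [19, 24, 19, 19, 19, 27, 27, 31, 30, 20, 29, 29] [.out 3527]]],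
  .sub [2, 4, 3, 2, 1, 3, 1, 2, 3, 1, 2, 3, 4] [.out 3474],
  .sub [1, 2, 3, 2, 1, 3, 1, 2, 3, 1, 2, 3, 4] [.out 2373],
  .sub [3, 4, 1, 2, 1, 3, 1, 2, 3, 1, 2, 3, 4] [.out 3822],
  .sub [4, 3, 1, 2, 1, 3, 1, 2, 3, 1, 2, 3, 4] [.sub [19, 19, 30, 18, 18, 18, 24, 30, 20, 30, 20, 27, 30, 29] [.out 1483]],
  .sub [2, 3, 1, 2, 1, 3, 1, 2, 3, 1, 2, 3, 4] [.sub [19, 18, 19, 25, 18, 25, 31, 31, 20, 20, 30, 27] [.sub [27, 31, 27, 27, 18, 20, 31, 30] [.out 1456]]],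
  .sub [3, 1, 4, 3, 2, 3, 1, 2, 3, 1, 2, 3, 4] [.out 1062],
  .sub [2, 1, 4, 3, 2, 3, 1, 2, 3, 1, 2, 3, 4] [.sub [25, 19, 31, 27, 18, 31, 25, 24, 29, 25] [.sub [25, 18, 19, 25, 18, 27, 24, 25, 24, 20, 29] [.out 575]]],
  .sub [4, 3, 1, 3, 2, 3, 1, 2, 3, 1, 2, 3, 4] [.sub [19, 18, 31, 25, 18, 31, 27, 25, 20, 20, 27, 30, 29] [.out 216]],
  .sub [2, 3, 1, 3, 2, 3, 1, 2, 3, 1, 2, 3, 4] [.sub [18, 24, 31, 19, 30, 24, 25, 24, 20, 30, 29, 29] [.sub [18, 29, 18, 24, 18, 24, 29, 31, 20, 20, 30, 25, 29, 29] [.out 635]]],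
  .sub [1, 3, 4, 1, 2, 3, 1, 2, 3, 1, 2, 3, 4] [.sub [18, 31, 18, 25, 27, 20, 31] [.out 3135]],
  .sub [3, 2, 4, 3, 2, 4, 3, 1, 2, 1, 4, 1, 3, 4] [.sub [27, 24, 19, 18, 18, 27, 24, 29, 31, 30, 27, 29] [.out 3491]],
  .sub [1, 2, 4, 3, 2, 4, 3, 1, 2, 1, 4, 1, 3, 4] [.out 1971],
  .sub [3, 4, 1, 3, 2, 4, 3, 1, 2, 1, 4, 1, 3, 4] [.out 3338],
  .sub [2, 4, 1, 3, 2, 4, 3, 1, 2, 1, 4, 1, 3, 4] [.sub [19, 18, 25, 19, 18, 24, 31, 24, 20, 27, 29, 29] [.out 200]],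
  .sub [1, 2, 1, 3, 2, 4, 3, 1, 2, 1, 4, 1, 3, 4] [.out 3175],
  .sub [4, 1, 2, 3, 2, 4, 3, 1, 2, 1, 4, 1, 3, 4] [.sub [31, 25, 19, 29, 18, 20, 31, 31, 29, 25] [.out 724]],
  .sub [3, 1, 2, 3, 2, 4, 3, 1, 2, 1, 4, 1, 3, 4] [.sub [31, 19, 24, 18, 18, 18, 24, 27, 20, 24, 27, 29] [.sub [30, 19, 24, 29, 18, 18, 31, 27, 25, 31, 20, 30, 25, 29] [.out 2630]]],
  .sub [3, 1, 4, 1, 2, 4, 3, 1, 2, 1, 4, 1, 3, 4] [.sub [19, 20, 24, 20, 19, 25, 31, 24, 27, 29] [.out 3725]],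
  .sub [1, 4, 3, 1, 2, 4, 3, 1, 2, 1, 4, 1, 3, 4] [.sub [27, 20, 24, 18, 18, 31, 27, 25, 31, 20, 27, 30, 29] [.out 3748]],
  .sub [4, 1, 3, 1, 2, 4, 3, 1, 2, 1, 4, 1, 3, 4] [.sub [19, 18, 25, 18, 18, 30, 27, 27, 31, 30, 29] [.out 594]],
  .sub [1, 2, 3, 1, 2, 4, 3, 1, 2, 1, 4, 1, 3, 4] [.out 3078],
  .sub [1, 4, 3, 2, 4, 1, 3, 1, 2, 1, 4, 1, 3, 4] [.out 3567],
  .sub [2, 4, 3, 2, 4, 1, 3, 1, 2, 1, 4, 1, 3, 4] [.out 3778],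
  .sub [3, 1, 3, 2, 4, 1, 3, 1, 2, 1, 4, 1, 3, 4] [.out 870],
  .sub [1, 2, 3, 2, 4, 1, 3, 1, 2, 1, 4, 1, 3, 4] [.sub [19, 31, 24, 18, 19, 30, 31, 20, 31, 27, 29, 29] [.sub [20, 19, 24, 19, 27, 24, 25, 31, 30] [.out 2140]]],
  .sub [4, 3, 1, 2, 4, 1, 3, 1, 2, 1, 4, 1, 3, 4] [.sub [30, 31, 19, 19, 31, 24, 20, 31, 27, 29, 29] [.out 3778]],
  .sub [1, 3, 1, 2, 4, 1, 3, 1, 2, 1, 4, 1, 3, 4] [.sub [29, 25, 31, 18, 24, 20, 30, 24, 20, 30] [.out 3413]],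
  .sub [2, 3, 1, 2, 4, 1, 3, 1, 2, 1, 4, 1, 3, 4] [.out 2961],
  .sub [3, 1, 4, 3, 2, 1, 3, 1, 2, 1, 4, 1, 3, 4] [.sub [31, 24, 19, 19, 19, 31, 29, 20, 24, 30, 27, 29, 29] [.out 2747]],
  .sub [1, 2, 4, 3, 2, 1, 3, 1, 2, 1, 4, 1, 3, 4] [.sub [27, 18, 18, 25, 20, 24, 25, 29] [.out 3832]],
  .sub [3, 2, 1, 3, 2, 1, 3, 1, 2, 1, 4, 1, 3, 4] [.sub [31, 29, 18, 18, 18, 18, 30, 27, 20, 31, 27, 29] [.out 4035]],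
  .sub [4, 3, 4, 1, 2, 1, 3, 1, 2, 1, 4, 1, 3, 4] [.sub [20, 20, 24, 24, 18, 24, 30, 24, 31, 29, 25] [.sub [24, 20, 27, 19, 25, 27, 25, 24, 27, 30, 29, 29] [.out 797]]],
  .sub [1, 3, 4, 1, 2, 1, 3, 1, 2, 1, 4, 1, 3, 4] [.sub [31, 24, 20, 19, 31, 20, 29, 24, 30, 25, 29, 29] [.out 3213]],
  .sub [1, 4, 3, 1, 2, 1, 3, 1, 2, 1, 4, 1, 3, 4] [.sub [25, 19, 24, 25, 18, 24, 25, 24, 27] [.out 65]]]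

/-- Branches. -/
def kidsXPart46 : List Branch := [
  .sub [2, 4, 3, 1, 2, 1, 3, 1, 2, 1, 4, 1, 3, 4] [.out 2926],
  .sub [4, 1, 3, 1, 2, 1, 3, 1, 2, 1, 4, 1, 3, 4] [.out 1763],
  .sub [2, 1, 3, 1, 2, 1, 3, 1, 2, 1, 4, 1, 3, 4] [.sub [19, 24, 31, 19, 25, 20, 30, 24, 20, 27, 30, 29, 29] [.sub [27, 19, 24, 18, 18, 30, 27, 20, 31, 30, 27, 29] [.out 3001]]],
  .sub [3, 2, 3, 1, 2, 1, 3, 1, 2, 1, 4, 1, 3, 4] [.out 3626],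
  .sub [1, 2, 3, 1, 2, 1, 3, 1, 2, 1, 4, 1, 3, 4] [.sub [20, 19, 27, 19, 18, 25, 31, 27, 20, 20, 27] [.sub [29, 25, 18, 31, 19, 30, 20, 20, 30, 25, 29] [.out 424]]],
  .sub [4, 3, 1, 4, 3, 2, 3, 1, 2, 1, 4, 1, 3, 4] [.out 2794],
  .sub [1, 3, 1, 4, 3, 2, 3, 1, 2, 1, 4, 1, 3, 4] [.out 3090],
  .sub [2, 3, 1, 4, 3, 2, 3, 1, 2, 1, 4, 1, 3, 4] [.out 2987],
  .sub [1, 3, 4, 1, 3, 2, 3, 1, 2, 1, 4, 1, 3, 4] [.out 2597],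
  .sub [3, 2, 4, 1, 3, 2, 3, 1, 2, 1, 4, 1, 3, 4] [.sub [20, 30, 19, 25, 18, 30, 24, 27, 24, 20, 29, 29] [.out 3946]],
  .sub [1, 2, 4, 1, 3, 2, 3, 1, 2, 1, 4, 1, 3, 4] [.out 3222],
  .sub [4, 3, 1, 4, 1, 2, 3, 1, 2, 1, 4, 1, 3, 4] [.out 2155],
  .sub [1, 2, 1, 3, 1, 2, 3, 1, 2, 1, 4, 1, 3, 4] [.sub [19, 18, 31, 25, 18, 31, 27, 25, 20, 20, 27, 30, 29] [.out 811]],
  .sub [4, 3, 2, 3, 1, 2, 3, 1, 2, 1, 4, 1, 3, 4] [.out 3409],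
  .sub [4, 1, 2, 3, 1, 2, 3, 1, 2, 1, 4, 1, 3, 4] [.out 3628],
  .sub [4, 3, 1, 2, 1, 4, 1, 4, 3, 2, 4, 1, 3, 4] [.sub [27, 25, 18, 18, 31, 25, 27, 31, 27, 30, 29, 29] [.sub [30, 24, 29, 18, 27, 31, 20, 20, 31, 29, 25] [.out 2613]]],
  .sub [4, 1, 4, 3, 2, 4, 1, 4, 3, 2, 4, 1, 3, 4] [.out 2321],
  .sub [1, 2, 4, 3, 2, 4, 1, 4, 3, 2, 4, 1, 3, 4] [.sub [18, 24, 18, 27, 18, 30, 20, 30, 20, 27, 30] [.sub [24, 25, 18, 18, 25, 24, 29, 20, 24, 27, 30, 29] [.out 1437]]],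
  .sub [3, 4, 1, 3, 2, 4, 1, 4, 3, 2, 4, 1, 3, 4] [.out 2755],
  .sub [1, 4, 1, 3, 2, 4, 1, 4, 3, 2, 4, 1, 3, 4] [.sub [30, 24, 31, 18, 18, 31, 25, 20, 20, 30, 25, 29, 29] [.out 1627]],
  .sub [2, 4, 1, 3, 2, 4, 1, 4, 3, 2, 4, 1, 3, 4] [.sub [18, 19, 18, 25, 18, 27, 29, 31, 24, 30, 25] [.out 2192]],
  .sub [3, 2, 1, 3, 2, 4, 1, 4, 3, 2, 4, 1, 3, 4] [.out 3952],
  .sub [1, 2, 1, 3, 2, 4, 1, 4, 3, 2, 4, 1, 3, 4] [.out 2814],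
  .sub [4, 1, 2, 3, 2, 4, 1, 4, 3, 2, 4, 1, 3, 4] [.sub [27, 18, 18, 27, 19, 29, 25, 20, 31, 20, 27, 30, 29, 29] [.sub [24, 25, 18, 18, 18, 18, 31, 29, 20, 20, 20, 30] [.out 485]]],
  .sub [3, 1, 2, 3, 2, 4, 1, 4, 3, 2, 4, 1, 3, 4] [.sub [19, 19, 30, 18, 18, 18, 24, 30, 20, 30, 20, 27, 30, 29] [.out 2209]],
  .sub [1, 4, 3, 2, 1, 3, 1, 4, 3, 2, 4, 1, 3, 4] [.out 3632],
  .sub [4, 3, 1, 3, 2, 3, 1, 4, 3, 2, 4, 1, 3, 4] [.sub [29, 20, 18, 27, 19, 25, 20, 30, 20, 30, 25, 29, 29] [.out 3170]],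
  .sub [2, 1, 3, 1, 2, 3, 1, 4, 3, 2, 4, 1, 3, 4] [.sub [18, 25, 19, 25, 18, 31, 30, 29, 20, 20, 30, 29] [.out 618]],
  .sub [1, 3, 2, 4, 3, 2, 1, 4, 3, 2, 4, 1, 3, 4] [.out 2321],
  .sub [4, 3, 4, 1, 3, 2, 1, 4, 3, 2, 4, 1, 3, 4] [.sub [29, 18, 19, 18, 19, 31, 20, 29, 24, 27, 30, 29] [.out 1973]],
  .sub [2, 3, 4, 1, 3, 2, 1, 4, 3, 2, 4, 1, 3, 4] [.sub [25, 19, 24, 27, 18, 20, 25, 24, 20, 29] [.out 3192]],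
  .sub [2, 4, 3, 1, 3, 2, 1, 4, 3, 2, 4, 1, 3, 4] [.out 3913],
  .sub [3, 2, 3, 1, 3, 2, 1, 4, 3, 2, 4, 1, 3, 4] [.sub [30, 27, 20, 19, 19, 18, 20, 27, 20, 31, 27, 29] [.sub [24, 19, 24, 18, 19, 29, 31, 30, 20, 20, 29, 25] [.out 1332]]],
  .sub [3, 2, 4, 3, 1, 2, 1, 4, 3, 2, 4, 1, 3, 4] [.sub [24, 20, 18, 18, 24, 29, 20, 31, 29, 29] [.out 1787]],
  .sub [4, 3, 2, 3, 1, 2, 1, 4, 3, 2, 4, 1, 3, 4] [.sub [31, 31, 19, 20, 31, 31, 20, 30, 27, 29, 29] [.out 1606]],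
  .sub [3, 2, 4, 3, 1, 3, 2, 4, 3, 2, 4, 1, 3, 4] [.out 3243],
  .sub [1, 2, 4, 3, 1, 3, 2, 4, 3, 2, 4, 1, 3, 4] [.out 3458],
  .sub [2, 4, 1, 3, 1, 3, 2, 4, 3, 2, 4, 1, 3, 4] [.out 2014],
  .sub [3, 2, 1, 3, 1, 3, 2, 4, 3, 2, 4, 1, 3, 4] [.out 3721],
  .sub [3, 2, 1, 4, 3, 1, 2, 4, 3, 2, 4, 1, 3, 4] [.sub [18, 25, 24, 25, 18, 31, 27, 20, 31, 20, 25] [.out 2439]],
  .sub [1, 2, 1, 4, 3, 1, 2, 4, 3, 2, 4, 1, 3, 4] [.sub [31, 24, 24, 19, 24, 27, 25, 31, 27] [.out 408]],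
  .sub [4, 3, 2, 4, 3, 1, 2, 4, 3, 2, 4, 1, 3, 4] [.out 3522],
  .sub [1, 3, 2, 4, 3, 1, 2, 4, 3, 2, 4, 1, 3, 4] [.sub [24, 24, 19, 20, 31, 31, 20, 27, 30, 29] [.out 1685]],
  .sub [2, 3, 2, 4, 3, 1, 2, 4, 3, 2, 4, 1, 3, 4] [.sub [24, 29, 20, 24, 18, 31, 30, 20, 24, 27, 30, 29, 29] [.out 3965]],
  .sub [1, 3, 4, 1, 3, 1, 2, 4, 3, 2, 4, 1, 3, 4] [.out 3839],
  .sub [3, 2, 4, 1, 3, 1, 2, 4, 3, 2, 4, 1, 3, 4] [.sub [19, 31, 19, 20, 18, 29, 31, 25, 31, 30, 27] [.out 209]],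
  .sub [1, 2, 4, 1, 3, 1, 2, 4, 3, 2, 4, 1, 3, 4] [.out 3027],
  .sub [1, 4, 3, 2, 3, 1, 2, 4, 3, 2, 4, 1, 3, 4] [.out 2889],
  .sub [3, 4, 1, 2, 3, 1, 2, 4, 3, 2, 4, 1, 3, 4] [.out 3519],
  .sub [4, 3, 1, 2, 3, 1, 2, 4, 3, 2, 4, 1, 3, 4] [.sub [19, 31, 19, 25, 18, 29, 24, 30, 31, 20, 25, 29] [.out 910]],
  .sub [2, 3, 1, 2, 3, 1, 2, 4, 3, 2, 4, 1, 3, 4] [.sub [31, 25, 31, 18, 25, 24, 29, 20, 24, 30, 29] [.out 2817]],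
  .sub [4, 3, 1, 2, 4, 3, 4, 1, 3, 2, 4, 1, 3, 4] [.sub [24, 18, 31, 19, 18, 24, 20, 27, 24, 30, 27, 29] [.out 2439]],
  .sub [3, 2, 3, 4, 1, 3, 4, 1, 3, 2, 4, 1, 3, 4] [.sub [31, 24, 29, 31, 18, 31, 31, 31, 25, 31, 29] [.sub [18, 19, 19, 29, 25, 20, 24] [.out 3725]]],
  .sub [3, 1, 2, 4, 1, 3, 4, 1, 3, 2, 4, 1, 3, 4] [.out 2848],
  .sub [1, 4, 3, 2, 1, 3, 4, 1, 3, 2, 4, 1, 3, 4] [.sub [27, 18, 20, 18, 18, 24, 31, 31, 31, 24, 30, 25, 29, 29] [.out 3491]],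
  .sub [4, 1, 3, 2, 1, 3, 4, 1, 3, 2, 4, 1, 3, 4] [.out 3645],
  .sub [3, 1, 3, 2, 1, 3, 4, 1, 3, 2, 4, 1, 3, 4] [.out 2480],
  .sub [2, 1, 3, 2, 1, 3, 4, 1, 3, 2, 4, 1, 3, 4] [.sub [30, 18, 19, 18, 18, 18, 31, 24, 29, 20, 20, 30, 29, 29] [.sub [31, 18, 25, 18, 18, 27, 31, 20, 20, 31, 30, 27, 29, 29] [.out 391]]],
  .sub [3, 4, 1, 2, 1, 3, 4, 1, 3, 2, 4, 1, 3, 4] [.sub [25, 31, 19, 18, 27, 24, 30, 20, 25, 29] [.out 3543]],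
  .sub [1, 4, 1, 2, 1, 3, 4, 1, 3, 2, 4, 1, 3, 4] [.sub [27, 25, 19, 25, 18, 24, 30, 27, 27, 24, 30, 29] [.out 3675]],
  .sub [4, 3, 1, 2, 1, 3, 4, 1, 3, 2, 4, 1, 3, 4] [.sub [31, 19, 19, 31, 18, 24, 20, 20, 31, 25, 29] [.out 1969]],
  .sub [1, 3, 1, 2, 1, 3, 4, 1, 3, 2, 4, 1, 3, 4] [.sub [24, 27, 31, 18, 19, 30, 20, 20, 24, 29, 25, 29] [.out 703]],
  .sub [2, 3, 1, 2, 1, 3, 4, 1, 3, 2, 4, 1, 3, 4] [.out 2069],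
  .sub [3, 1, 4, 3, 2, 3, 4, 1, 3, 2, 4, 1, 3, 4] [.sub [29, 20, 19, 25, 18, 18, 29, 24, 29, 24, 20, 27, 29] [.sub [31, 20, 18, 19, 27, 20, 20, 24, 30] [.out 2745]]]]

/-- Branches. -/
def kidsXPart47 : List Branch := [
  .sub [3, 2, 4, 3, 2, 3, 4, 1, 3, 2, 4, 1, 3, 4] [.out 1896],
  .sub [3, 4, 1, 3, 2, 3, 4, 1, 3, 2, 4, 1, 3, 4] [.sub [19, 24, 19, 18, 30, 29, 31, 31, 27, 30] [.out 1936]],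
  .sub [1, 4, 1, 3, 2, 3, 4, 1, 3, 2, 4, 1, 3, 4] [.sub [18, 18, 19, 19, 24, 27, 20, 24, 29, 25, 29, 29] [.out 1956]],
  .sub [4, 3, 1, 3, 2, 3, 4, 1, 3, 2, 4, 1, 3, 4] [.sub [19, 25, 27, 18, 27, 20, 20, 20, 30, 25, 29, 29] [.out 1128]],
  .sub [2, 3, 1, 3, 2, 3, 4, 1, 3, 2, 4, 1, 3, 4] [.sub [19, 29, 31, 29, 19, 18, 25, 27, 25, 20, 30, 27, 29, 29] [.out 3019]],
  .sub [3, 2, 1, 3, 2, 3, 4, 1, 3, 2, 4, 1, 3, 4] [.sub [27, 24, 19, 18, 18, 27, 20, 24, 27, 29, 29] [.out 2958]],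
  .sub [1, 2, 1, 3, 2, 3, 4, 1, 3, 2, 4, 1, 3, 4] [.sub [24, 29, 20, 24, 18, 27, 29, 20, 24, 30, 27, 29, 29] [.sub [18, 25, 20, 19, 18, 29, 25, 20, 31, 20, 29, 25] [.out 1754]]],
  .sub [4, 1, 3, 1, 2, 3, 4, 1, 3, 2, 4, 1, 3, 4] [.sub [19, 29, 30, 18, 18, 24, 31, 25, 24, 30, 29] [.sub [31, 24, 29, 18, 18, 27, 20, 31, 24, 27, 30, 29] [.out 2249]]],
  .sub [2, 1, 3, 1, 2, 3, 4, 1, 3, 2, 4, 1, 3, 4] [.sub [19, 27, 20, 19, 18, 31, 29, 20, 31, 29, 29] [.out 552]],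
  .sub [3, 2, 3, 1, 2, 3, 4, 1, 3, 2, 4, 1, 3, 4] [.out 2876],
  .sub [1, 2, 3, 1, 2, 3, 4, 1, 3, 2, 4, 1, 3, 4] [.out 3297],
  .sub [2, 4, 3, 1, 2, 1, 4, 1, 3, 2, 4, 1, 3, 4] [.sub [30, 31, 18, 18, 18, 18, 25, 20, 20, 31, 27, 30] [.out 3039]],
  .sub [4, 1, 3, 1, 2, 1, 4, 1, 3, 2, 4, 1, 3, 4] [.out 3760],
  .sub [1, 2, 3, 1, 2, 1, 4, 1, 3, 2, 4, 1, 3, 4] [.out 3888],
  .sub [1, 3, 2, 4, 3, 2, 4, 1, 3, 2, 4, 1, 3, 4] [.sub [31, 20, 27, 18, 27, 24, 27, 31, 20, 29, 25, 29, 29] [.sub [18, 18, 19, 18, 19, 20, 29, 20, 31, 30, 27, 29, 29] [.out 3864]]],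
  .sub [2, 3, 2, 4, 3, 2, 4, 1, 3, 2, 4, 1, 3, 4] [.out 2944],
  .sub [2, 3, 4, 1, 3, 2, 4, 1, 3, 2, 4, 1, 3, 4] [.out 3615],
  .sub [2, 1, 4, 3, 1, 2, 4, 1, 3, 2, 4, 1, 3, 4] [.sub [18, 27, 20, 19, 18, 27, 25, 31, 31, 30] [.sub [31, 24, 27, 18, 29, 24, 29, 24, 20, 27, 30, 29, 29] [.out 429]]],
  .sub [1, 2, 4, 3, 1, 2, 4, 1, 3, 2, 4, 1, 3, 4] [.sub [31, 19, 24, 18, 31, 30, 31, 29, 25, 29, 29] [.out 3385]],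
  .sub [1, 4, 1, 2, 4, 1, 3, 1, 3, 2, 4, 1, 3, 4] [.sub [24, 24, 24, 24, 18, 30, 20, 30, 24, 20, 30, 27, 29, 29] [.out 2835]],
  .sub [2, 1, 4, 1, 2, 1, 3, 1, 3, 2, 4, 1, 3, 4] [.out 3637],
  .sub [3, 4, 1, 4, 3, 2, 3, 1, 3, 2, 4, 1, 3, 4] [.out 3003],
  .sub [1, 4, 1, 4, 3, 2, 3, 1, 3, 2, 4, 1, 3, 4] [.sub [29, 31, 18, 18, 27, 30, 31, 24, 20, 29, 29] [.out 4035]],
  .sub [2, 4, 1, 4, 3, 2, 3, 1, 3, 2, 4, 1, 3, 4] [.sub [31, 27, 19, 18, 18, 18, 31, 30, 31, 31, 30] [.sub [27, 24, 20, 18, 19, 24, 20, 30, 29, 24, 27] [.out 2630]]],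
  .sub [1, 3, 1, 4, 3, 2, 3, 1, 3, 2, 4, 1, 3, 4] [.out 3003],
  .sub [3, 1, 4, 1, 3, 2, 3, 1, 3, 2, 4, 1, 3, 4] [.sub [24, 31, 24, 18, 19, 27, 25, 24, 31, 20, 25] [.out 3083]],
  .sub [2, 1, 4, 1, 3, 2, 3, 1, 3, 2, 4, 1, 3, 4] [.sub [31, 27, 24, 19, 18, 31, 27, 29, 24, 29] [.out 3477]],
  .sub [1, 4, 3, 1, 3, 2, 3, 1, 3, 2, 4, 1, 3, 4] [.sub [30, 31, 19, 20, 18, 24, 20, 30, 24, 20, 30, 25] [.out 1509]],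
  .sub [2, 4, 3, 1, 3, 2, 3, 1, 3, 2, 4, 1, 3, 4] [.out 2820],
  .sub [4, 1, 3, 1, 3, 2, 3, 1, 3, 2, 4, 1, 3, 4] [.sub [29, 19, 24, 19, 18, 27, 25, 24, 20, 30, 25] [.out 2295]],
  .sub [2, 1, 3, 1, 3, 2, 3, 1, 3, 2, 4, 1, 3, 4] [.out 2865],
  .sub [2, 3, 2, 1, 3, 2, 3, 1, 3, 2, 4, 1, 3, 4] [.out 3148],
  .sub [4, 3, 1, 4, 1, 2, 3, 1, 3, 2, 4, 1, 3, 4] [.sub [24, 29, 20, 24, 18, 27, 29, 20, 24, 30, 27, 29, 29] [.sub [20, 18, 31, 24, 18, 27, 27, 24, 27, 24, 27, 29, 29] [.out 1918]]],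
  .sub [3, 4, 1, 3, 1, 2, 3, 1, 3, 2, 4, 1, 3, 4] [.out 3498],
  .sub [1, 4, 1, 3, 1, 2, 3, 1, 3, 2, 4, 1, 3, 4] [.sub [20, 20, 20, 20, 18, 27, 30, 27, 31, 20, 29, 25, 29] [.out 3955]],
  .sub [1, 3, 2, 1, 4, 3, 2, 1, 3, 2, 4, 1, 3, 4] [.sub [19, 19, 27, 20, 18, 18, 31, 24, 20, 30] [.sub [24, 18, 29, 19, 18, 24, 31, 29, 24, 27, 30] [.out 1465]]],
  .sub [2, 3, 2, 1, 4, 3, 2, 1, 3, 2, 4, 1, 3, 4] [.sub [30, 19, 18, 24, 31, 20, 31, 20, 30, 25] [.out 4017]],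
  .sub [2, 1, 3, 2, 4, 3, 2, 1, 3, 2, 4, 1, 3, 4] [.sub [25, 18, 29, 18, 25, 24, 27, 24, 20, 30, 29, 29] [.out 2594]],
  .sub [1, 2, 3, 2, 4, 3, 2, 1, 3, 2, 4, 1, 3, 4] [.out 3575],
  .sub [2, 3, 1, 2, 4, 3, 2, 1, 3, 2, 4, 1, 3, 4] [.out 4038],
  .sub [3, 2, 3, 4, 1, 3, 2, 1, 3, 2, 4, 1, 3, 4] [.sub [31, 31, 30, 19, 18, 20, 31, 30, 20, 29, 25, 29] [.out 1113]],
  .sub [1, 2, 3, 4, 1, 3, 2, 1, 3, 2, 4, 1, 3, 4] [.out 2941],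
  .sub [4, 3, 1, 4, 1, 3, 2, 1, 3, 2, 4, 1, 3, 4] [.out 3413],
  .sub [3, 2, 1, 4, 3, 1, 2, 1, 3, 2, 4, 1, 3, 4] [.sub [20, 31, 19, 24, 27, 24, 20, 29, 29] [.out 1536]],
  .sub [1, 3, 2, 4, 3, 1, 2, 1, 3, 2, 4, 1, 3, 4] [.sub [24, 18, 25, 18, 31, 31, 31, 31, 24, 27, 29] [.out 2951]],
  .sub [4, 1, 2, 4, 3, 1, 2, 1, 3, 2, 4, 1, 3, 4] [.sub [24, 19, 20, 20, 18, 20, 27, 30, 31, 27, 29] [.sub [24, 31, 19, 18, 19, 30, 29, 24, 29] [.out 2630]]],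
  .sub [4, 1, 3, 2, 3, 1, 2, 1, 3, 2, 4, 1, 3, 4] [.sub [20, 24, 31, 19, 30, 25, 31, 25, 29, 29] [.out 3032]],
  .sub [2, 1, 3, 2, 3, 1, 2, 1, 3, 2, 4, 1, 3, 4] [.sub [25, 20, 19, 19, 18, 30, 31, 31, 30, 24, 30, 25, 29] [.sub [19, 19, 27, 20, 18, 18, 24, 20, 29, 31, 20] [.out 865]]],
  .sub [1, 4, 1, 2, 3, 1, 2, 1, 3, 2, 4, 1, 3, 4] [.out 1869],
  .sub [2, 3, 1, 2, 3, 1, 2, 1, 3, 2, 4, 1, 3, 4] [.out 2999],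
  .sub [2, 4, 3, 2, 4, 3, 1, 2, 3, 2, 4, 1, 3, 4] [.out 2000],
  .sub [4, 1, 3, 2, 4, 3, 1, 2, 3, 2, 4, 1, 3, 4] [.sub [18, 19, 30, 19, 18, 31, 31, 25, 31, 27, 30, 29, 29] [.out 323]],
  .sub [2, 1, 3, 2, 4, 3, 1, 2, 3, 2, 4, 1, 3, 4] [.out 3532],
  .sub [3, 4, 1, 2, 4, 3, 1, 2, 3, 2, 4, 1, 3, 4] [.out 2333],
  .sub [1, 4, 1, 2, 4, 3, 1, 2, 3, 2, 4, 1, 3, 4] [.out 1252],
  .sub [4, 3, 1, 2, 4, 3, 1, 2, 3, 2, 4, 1, 3, 4] [.out 3599],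
  .sub [3, 1, 2, 4, 1, 3, 1, 2, 3, 2, 4, 1, 3, 4] [.out 3854],
  .sub [3, 4, 1, 2, 1, 3, 1, 2, 3, 2, 4, 1, 3, 4] [.sub [31, 18, 31, 18, 24, 29, 24, 31, 27, 30] [.sub [25, 19, 24, 24, 19, 20, 25, 27, 20, 31, 25, 29] [.out 1912]]],
  .sub [4, 3, 1, 3, 2, 3, 1, 2, 3, 2, 4, 1, 3, 4] [.sub [18, 18, 18, 18, 18, 27, 25, 24, 30, 27] [.out 3843]],
  .sub [2, 1, 4, 1, 2, 3, 1, 2, 3, 2, 4, 1, 3, 4] [.sub [19, 20, 29, 18, 18, 25, 20, 20, 20, 20] [.sub [19, 20, 20, 18, 29, 25, 24, 29, 29] [.out 733]]],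
  .sub [3, 1, 4, 3, 2, 1, 4, 3, 1, 2, 4, 1, 3, 4] [.sub [24, 31, 19, 24, 31, 25, 20, 27, 30, 29, 29] [.out 1709]],
  .sub [1, 3, 1, 3, 2, 1, 4, 3, 1, 2, 4, 1, 3, 4] [.sub [19, 31, 25, 19, 18, 29, 25, 24, 31, 20, 30, 27, 29, 29] [.sub [18, 30, 31, 20, 18, 25, 24, 20, 24, 27] [.out 3564]]],
  .sub [2, 3, 1, 3, 2, 1, 4, 3, 1, 2, 4, 1, 3, 4] [.sub [24, 19, 27, 31, 18, 20, 24, 27, 24, 20, 30, 29, 29] [.out 3816]],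
  .sub [1, 4, 3, 1, 2, 1, 4, 3, 1, 2, 4, 1, 3, 4] [.out 3972]]

/-- Branches. -/
def kidsXPart48 : List Branch := [
  .sub [1, 4, 1, 4, 3, 2, 4, 3, 1, 2, 4, 1, 3, 4] [.sub [19, 30, 19, 20, 18, 30, 20, 31, 29, 24, 30] [.out 1006]],
  .sub [2, 4, 1, 4, 3, 2, 4, 3, 1, 2, 4, 1, 3, 4] [.out 1759],
  .sub [3, 2, 1, 4, 3, 2, 4, 3, 1, 2, 4, 1, 3, 4] [.out 3665],
  .sub [1, 2, 1, 4, 3, 2, 4, 3, 1, 2, 4, 1, 3, 4] [.out 3124],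
  .sub [2, 1, 4, 1, 3, 2, 4, 3, 1, 2, 4, 1, 3, 4] [.sub [20, 27, 19, 25, 18, 18, 27, 25, 24, 29, 25] [.sub [30, 19, 18, 19, 30, 27, 24, 20, 20, 27, 30, 29, 29] [.out 392]]],
  .sub [3, 2, 4, 1, 3, 2, 4, 3, 1, 2, 4, 1, 3, 4] [.out 1934],
  .sub [1, 2, 4, 1, 3, 2, 4, 3, 1, 2, 4, 1, 3, 4] [.sub [18, 31, 20, 20, 18, 20, 20, 31, 27, 30, 29, 29] [.out 2681]],
  .sub [4, 3, 2, 1, 3, 2, 4, 3, 1, 2, 4, 1, 3, 4] [.sub [18, 27, 18, 20, 18, 18, 30, 29, 31, 20, 30, 29, 29] [.sub [18, 29, 18, 24, 18, 29, 31, 31, 30, 25] [.bad [25, 31, 24, 18, 25, 24, 27, 31] 1]]],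
  .sub [2, 3, 2, 1, 3, 2, 4, 3, 1, 2, 4, 1, 3, 4] [.out 1507],
  .sub [4, 1, 2, 1, 3, 2, 4, 3, 1, 2, 4, 1, 3, 4] [.sub [30, 20, 19, 18, 27, 25, 24, 27] [.out 1861]],
  .sub [3, 1, 2, 1, 3, 2, 4, 3, 1, 2, 4, 1, 3, 4] [.sub [18, 30, 20, 19, 18, 25, 24, 31, 24, 30, 29, 29] [.sub [19, 29, 31, 29, 19, 18, 20, 24, 20, 29, 25, 29, 29] [.done 20]]],
  .sub [2, 4, 3, 4, 1, 2, 4, 3, 1, 2, 4, 1, 3, 4] [.sub [18, 25, 20, 24, 19, 31, 27, 20, 31, 20, 29, 25, 29] [.sub [19, 18, 31, 19, 30, 31, 25, 31, 25] [.out 3749]]],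
  .sub [3, 2, 3, 4, 1, 2, 4, 3, 1, 2, 4, 1, 3, 4] [.out 3610],
  .sub [1, 2, 3, 4, 1, 2, 4, 3, 1, 2, 4, 1, 3, 4] [.out 2468],
  .sub [4, 3, 1, 4, 1, 2, 4, 3, 1, 2, 4, 1, 3, 4] [.out 3038],
  .sub [1, 2, 4, 3, 1, 2, 4, 3, 1, 2, 4, 1, 3, 4] [.sub [19, 24, 20, 20, 19, 31, 30, 31, 31, 29, 29] [.sub [19, 29, 31, 29, 19, 18, 29, 24, 27, 24, 29, 25, 29, 29] [.out 3343]]],
  .sub [4, 3, 2, 3, 1, 4, 1, 3, 1, 2, 4, 1, 3, 4] [.sub [31, 18, 25, 18, 27, 24, 29, 31, 25] [.sub [25, 27, 24, 19, 18, 31, 29, 25, 20, 20, 30, 27, 29, 29] [.out 1904]]],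
  .sub [2, 3, 2, 3, 1, 4, 1, 3, 1, 2, 4, 1, 3, 4] [.out 2942],
  .sub [2, 4, 3, 2, 1, 4, 1, 3, 1, 2, 4, 1, 3, 4] [.sub [31, 30, 18, 19, 18, 31, 27, 20, 20, 20, 25] [.out 108]],
  .sub [4, 1, 3, 2, 1, 4, 1, 3, 1, 2, 4, 1, 3, 4] [.sub [31, 20, 18, 29, 24, 25, 24, 20, 25] [.out 2932]],
  .sub [3, 1, 3, 2, 1, 4, 1, 3, 1, 2, 4, 1, 3, 4] [.out 1925],
  .sub [2, 1, 3, 2, 1, 4, 1, 3, 1, 2, 4, 1, 3, 4] [.out 407],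
  .sub [1, 2, 3, 2, 1, 4, 1, 3, 1, 2, 4, 1, 3, 4] [.sub [25, 27, 20, 18, 24, 30, 31, 30, 29] [.out 3792]],
  .sub [1, 3, 1, 2, 1, 4, 1, 3, 1, 2, 4, 1, 3, 4] [.sub [29, 24, 18, 18, 19, 31, 20, 30, 20, 27, 29, 29] [.out 1973]],
  .sub [4, 1, 4, 3, 2, 4, 1, 3, 1, 2, 4, 1, 3, 4] [.sub [19, 24, 18, 19, 20, 31, 24, 31, 29, 25] [.out 1332]],
  .sub [2, 1, 4, 3, 2, 4, 1, 3, 1, 2, 4, 1, 3, 4] [.out 2291],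
  .sub [3, 2, 1, 3, 2, 4, 1, 3, 1, 2, 4, 1, 3, 4] [.out 2360],
  .sub [4, 3, 4, 1, 2, 4, 1, 3, 1, 2, 4, 1, 3, 4] [.sub [18, 31, 24, 19, 18, 29, 31, 31, 30, 25] [.out 3554]],
  .sub [1, 3, 4, 1, 2, 4, 1, 3, 1, 2, 4, 1, 3, 4] [.sub [30, 31, 19, 18, 19, 18, 25, 31, 25, 20, 20, 27, 29] [.out 2677]],
  .sub [3, 1, 4, 1, 2, 4, 1, 3, 1, 2, 4, 1, 3, 4] [.out 1804],
  .sub [2, 1, 4, 1, 2, 4, 1, 3, 1, 2, 4, 1, 3, 4] [.sub [20, 25, 27, 18, 18, 24, 31, 25, 20, 25] [.sub [18, 29, 18, 24, 18, 24, 29, 31, 20, 20, 30, 25, 29, 29] [.out 2896]]],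
  .sub [1, 4, 3, 1, 2, 4, 1, 3, 1, 2, 4, 1, 3, 4] [.sub [31, 31, 19, 19, 20, 20, 31, 30, 20, 30, 29, 29] [.out 2792]],
  .sub [2, 1, 3, 1, 2, 4, 1, 3, 1, 2, 4, 1, 3, 4] [.out 2755],
  .sub [3, 4, 1, 4, 3, 2, 1, 3, 1, 2, 4, 1, 3, 4] [.out 3095],
  .sub [2, 3, 1, 4, 3, 2, 1, 3, 1, 2, 4, 1, 3, 4] [.sub [25, 20, 18, 29, 18, 20, 31, 20, 24, 25, 29, 29] [.sub [18, 29, 18, 31, 18, 18, 31, 30, 24, 20, 27] [.out 53]]],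
  .sub [1, 2, 1, 4, 3, 2, 1, 3, 1, 2, 4, 1, 3, 4] [.sub [31, 25, 18, 24, 18, 31, 20, 20, 20, 29] [.out 1243]],
  .sub [3, 1, 4, 1, 3, 2, 1, 3, 1, 2, 4, 1, 3, 4] [.sub [30, 20, 19, 31, 18, 24, 29, 24, 31, 27, 29] [.out 1567]],
  .sub [2, 4, 3, 1, 3, 2, 1, 3, 1, 2, 4, 1, 3, 4] [.sub [30, 24, 31, 18, 20, 25, 27, 24, 27, 30, 29, 29] [.out 791]],
  .sub [4, 1, 3, 1, 3, 2, 1, 3, 1, 2, 4, 1, 3, 4] [.sub [18, 31, 18, 18, 19, 24, 20, 24, 30, 20, 25, 29, 29] [.out 2621]],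
  .sub [2, 1, 3, 1, 3, 2, 1, 3, 1, 2, 4, 1, 3, 4] [.out 3729],
  .sub [2, 3, 2, 1, 3, 2, 1, 3, 1, 2, 4, 1, 3, 4] [.out 2938],
  .sub [4, 1, 2, 1, 3, 2, 1, 3, 1, 2, 4, 1, 3, 4] [.sub [25, 19, 24, 19, 30, 24, 31, 20, 20, 29] [.sub [30, 24, 18, 18, 19, 29, 30, 24, 27, 30, 29, 29] [.out 2745]]],
  .sub [3, 1, 2, 1, 3, 2, 1, 3, 1, 2, 4, 1, 3, 4] [.out 3325],
  .sub [1, 2, 3, 4, 1, 2, 1, 3, 1, 2, 4, 1, 3, 4] [.sub [30, 20, 18, 18, 19, 24, 29, 25, 24, 20, 27, 29, 29] [.sub [25, 31, 30, 19, 18, 30, 20, 31, 30, 25] [.out 3861]]],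
  .sub [3, 2, 1, 4, 1, 2, 1, 3, 1, 2, 4, 1, 3, 4] [.out 4034],
  .sub [4, 1, 4, 3, 1, 2, 1, 3, 1, 2, 4, 1, 3, 4] [.out 3638],
  .sub [3, 1, 4, 3, 1, 2, 1, 3, 1, 2, 4, 1, 3, 4] [.sub [24, 19, 27, 31, 19, 30, 24, 30, 25, 20, 30, 25] [.out 3512]],
  .sub [1, 4, 1, 3, 1, 2, 1, 3, 1, 2, 4, 1, 3, 4] [.sub [29, 18, 19, 18, 19, 31, 31, 24, 25, 24, 29, 25, 29] [.out 3781]],
  .sub [2, 4, 1, 3, 1, 2, 1, 3, 1, 2, 4, 1, 3, 4] [.sub [24, 18, 27, 18, 18, 29, 20, 31, 20, 30, 27, 29, 29] [.out 1863]],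
  .sub [2, 1, 3, 4, 1, 3, 2, 3, 1, 2, 4, 1, 3, 4] [.sub [31, 25, 18, 19, 31, 27, 27, 31, 27, 30, 29, 29] [.out 1360]],
  .sub [4, 3, 1, 4, 1, 3, 2, 3, 1, 2, 4, 1, 3, 4] [.out 3976],
  .sub [1, 3, 1, 4, 1, 3, 2, 3, 1, 2, 4, 1, 3, 4] [.out 3650],
  .sub [2, 3, 1, 4, 1, 3, 2, 3, 1, 2, 4, 1, 3, 4] [.sub [31, 18, 18, 20, 25, 27, 24, 27, 30, 29, 29] [.out 105]],
  .sub [1, 2, 1, 4, 1, 3, 2, 3, 1, 2, 4, 1, 3, 4] [.out 2079],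
  .sub [3, 1, 3, 2, 1, 3, 2, 3, 1, 2, 4, 1, 3, 4] [.out 1508],
  .sub [3, 2, 1, 3, 4, 1, 2, 3, 1, 2, 4, 1, 3, 4] [.sub [25, 27, 18, 25, 31, 24, 20, 27, 30, 29, 29] [.out 32]],
  .sub [2, 4, 3, 1, 4, 1, 2, 3, 1, 2, 4, 1, 3, 4] [.sub [30, 18, 20, 20, 18, 18, 20, 27, 30, 31, 29, 25] [.out 2560]],
  .sub [4, 1, 3, 1, 4, 1, 2, 3, 1, 2, 4, 1, 3, 4] [.sub [19, 31, 27, 18, 20, 25, 20, 20, 30, 25, 29] [.out 3149]],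
  .sub [2, 1, 3, 1, 4, 1, 2, 3, 1, 2, 4, 1, 3, 4] [.sub [25, 19, 31, 18, 24, 31, 29, 24, 30, 25] [.out 105]],
  .sub [1, 2, 3, 1, 4, 1, 2, 3, 1, 2, 4, 1, 3, 4] [.sub [30, 19, 18, 18, 19, 24, 31, 20, 20, 27, 30, 29, 29] [.out 3074]],
  .sub [2, 4, 1, 4, 3, 2, 1, 4, 3, 2, 3, 1, 3, 4] [.sub [31, 24, 18, 19, 24, 30, 31, 24, 30, 25] [.out 3753]],
  .sub [1, 3, 1, 4, 3, 2, 1, 4, 3, 2, 3, 1, 3, 4] [.out 1886],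
  .sub [2, 3, 1, 4, 3, 2, 1, 4, 3, 2, 3, 1, 3, 4] [.sub [18, 27, 20, 19, 18, 27, 25, 31, 31, 30] [.out 1967]],
  .sub [3, 2, 1, 4, 3, 2, 1, 4, 3, 2, 3, 1, 3, 4] [.out 1873]]

/-- Branches. -/
def kidsXPart49 : List Branch := [
  .sub [1, 3, 4, 1, 3, 2, 1, 4, 3, 2, 3, 1, 3, 4] [.out 3190],
  .sub [2, 3, 4, 1, 3, 2, 1, 4, 3, 2, 3, 1, 3, 4] [.sub [20, 19, 20, 29, 18, 24, 31, 30, 20, 27, 30, 29, 29] [.sub [29, 19, 31, 18, 18, 31, 29, 20, 24, 30, 27, 29, 29] [.out 2688]]],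
  .sub [3, 2, 4, 1, 3, 2, 1, 4, 3, 2, 3, 1, 3, 4] [.out 3734],
  .sub [2, 3, 2, 1, 3, 2, 1, 4, 3, 2, 3, 1, 3, 4] [.out 3360],
  .sub [1, 2, 3, 2, 1, 3, 2, 4, 3, 2, 3, 1, 3, 4] [.out 2300],
  .sub [1, 3, 1, 2, 1, 3, 2, 4, 3, 2, 3, 1, 3, 4] [.out 1328],
  .sub [2, 3, 1, 2, 1, 3, 2, 4, 3, 2, 3, 1, 3, 4] [.sub [31, 20, 25, 19, 20, 31, 20, 29, 25] [.out 3681]],
  .sub [1, 4, 3, 2, 4, 3, 4, 1, 3, 2, 3, 1, 3, 4] [.out 3949],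
  .sub [2, 4, 3, 2, 4, 3, 4, 1, 3, 2, 3, 1, 3, 4] [.out 3208],
  .sub [1, 2, 3, 2, 4, 3, 4, 1, 3, 2, 3, 1, 3, 4] [.out 3347],
  .sub [3, 4, 1, 2, 4, 3, 4, 1, 3, 2, 3, 1, 3, 4] [.sub [24, 27, 31, 18, 19, 30, 20, 20, 24, 29, 25, 29] [.out 199]],
  .sub [4, 3, 1, 2, 4, 3, 4, 1, 3, 2, 3, 1, 3, 4] [.sub [29, 24, 27, 19, 25, 24, 30, 31, 30, 25, 29] [.sub [29, 24, 27, 18, 20, 29, 31] [.bad [] 1]]],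
  .sub [1, 3, 1, 2, 4, 3, 4, 1, 3, 2, 3, 1, 3, 4] [.out 3981],
  .sub [2, 3, 1, 2, 4, 3, 4, 1, 3, 2, 3, 1, 3, 4] [.sub [18, 29, 18, 19, 18, 31, 30, 25, 20, 30] [.out 3594]],
  .sub [3, 4, 1, 3, 2, 3, 4, 1, 3, 2, 3, 1, 3, 4] [.sub [31, 19, 19, 27, 19, 24, 30, 20, 31, 30, 25, 29, 29] [.out 3714]],
  .sub [1, 2, 1, 3, 2, 3, 4, 1, 3, 2, 3, 1, 3, 4] [.sub [29, 20, 18, 29, 20, 31, 29, 25, 29, 29] [.sub [25, 20, 19, 29, 18, 24, 30, 25, 20, 29] [.done 27]]],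
  .sub [4, 3, 4, 1, 2, 3, 4, 1, 3, 2, 3, 1, 3, 4] [.out 3653],
  .sub [1, 3, 4, 1, 2, 3, 4, 1, 3, 2, 3, 1, 3, 4] [.sub [27, 19, 25, 19, 18, 31, 29, 20, 20, 30, 27, 29, 29] [.out 3216]],
  .sub [2, 1, 4, 1, 2, 3, 4, 1, 3, 2, 3, 1, 3, 4] [.sub [25, 24, 19, 29, 18, 27, 31, 27, 20, 20, 27, 29, 29] [.sub [29, 31, 18, 31, 29, 20, 20, 30, 27, 29, 29] [.out 1912]]],
  .sub [2, 4, 3, 1, 2, 3, 4, 1, 3, 2, 3, 1, 3, 4] [.sub [29, 18, 30, 19, 18, 30, 20, 24, 20, 20, 30, 29] [.sub [18, 24, 19, 25, 18, 20, 31, 27, 20, 20, 29, 25, 29] [.out 41]]],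
  .sub [3, 2, 3, 1, 2, 3, 4, 1, 3, 2, 3, 1, 3, 4] [.sub [18, 18, 24, 18, 24, 29, 25, 31, 29, 25, 29] [.sub [24, 25, 18, 18, 24, 24, 27, 24, 30, 27, 29] [.out 3669]]],
  .sub [4, 1, 3, 1, 2, 1, 4, 1, 3, 2, 3, 1, 3, 4] [.sub [24, 18, 24, 25, 18, 29, 20, 20, 24, 27, 30, 29, 29] [.out 2033]],
  .sub [2, 1, 3, 1, 2, 1, 4, 1, 3, 2, 3, 1, 3, 4] [.out 2095],
  .sub [3, 2, 1, 3, 1, 2, 4, 1, 3, 2, 3, 1, 3, 4] [.out 3644],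
  .sub [2, 1, 4, 3, 2, 4, 3, 1, 3, 2, 3, 1, 3, 4] [.sub [20, 27, 18, 18, 29, 24, 27, 24, 27, 29] [.sub [30, 18, 18, 27, 25, 24, 31, 20, 30, 27, 29] [.out 2630]]],
  .sub [3, 2, 4, 3, 2, 4, 3, 1, 3, 2, 3, 1, 3, 4] [.sub [19, 27, 27, 18, 24, 27, 31, 25, 20, 27, 29, 29] [.out 1154]],
  .sub [1, 2, 4, 3, 2, 4, 3, 1, 3, 2, 3, 1, 3, 4] [.sub [29, 18, 24, 31, 19, 27, 25, 31, 20, 25, 29] [.out 3397]],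
  .sub [3, 4, 1, 3, 2, 4, 3, 1, 3, 2, 3, 1, 3, 4] [.sub [20, 25, 18, 19, 31, 24, 30, 27, 29, 29] [.out 4003]],
  .sub [2, 4, 1, 3, 2, 4, 3, 1, 3, 2, 3, 1, 3, 4] [.sub [20, 18, 18, 24, 18, 25, 31, 20, 24, 27, 29] [.sub [27, 24, 20, 19, 19, 18, 24, 20, 30, 31, 20, 29, 25, 29] [.out 635]]],
  .sub [4, 3, 1, 3, 2, 4, 3, 1, 3, 2, 3, 1, 3, 4] [.out 4017],
  .sub [1, 3, 1, 3, 2, 4, 3, 1, 3, 2, 3, 1, 3, 4] [.sub [20, 27, 18, 31, 19, 29, 31, 25, 31, 20, 29, 25, 29, 29] [.out 2675]],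
  .sub [2, 3, 1, 3, 2, 4, 3, 1, 3, 2, 3, 1, 3, 4] [.out 2307],
  .sub [1, 2, 1, 3, 2, 4, 3, 1, 3, 2, 3, 1, 3, 4] [.sub [18, 31, 18, 18, 18, 29, 31, 20, 20, 24, 25, 29] [.sub [31, 25, 18, 24, 18, 24, 30, 20, 30, 20, 29, 25, 29, 29] [.out 3839]]],
  .sub [4, 1, 2, 3, 2, 4, 3, 1, 3, 2, 3, 1, 3, 4] [.sub [27, 18, 27, 24, 18, 18, 24, 30, 24, 31, 29, 25] [.out 3912]],
  .sub [1, 4, 3, 1, 2, 4, 3, 1, 3, 2, 3, 1, 3, 4] [.sub [19, 19, 24, 24, 18, 24, 29, 31, 30, 27, 29, 29] [.out 2481]],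
  .sub [2, 4, 3, 1, 2, 4, 3, 1, 3, 2, 3, 1, 3, 4] [.sub [27, 18, 25, 18, 18, 29, 31, 30, 24, 27, 30, 29, 29] [.out 1369]],
  .sub [3, 2, 3, 1, 2, 4, 3, 1, 3, 2, 3, 1, 3, 4] [.out 3090],
  .sub [4, 3, 1, 4, 3, 2, 3, 1, 3, 2, 3, 1, 3, 4] [.sub [27, 18, 19, 18, 31, 20, 31, 31, 30] [.sub [24, 27, 19, 20, 18, 24, 25, 24] [.bad [19, 27, 19, 20, 18, 18, 27, 29, 25, 20, 24, 30, 27, 29, 29] 1]]],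
  .sub [1, 3, 1, 4, 3, 2, 3, 1, 3, 2, 3, 1, 3, 4] [.sub [31, 19, 24, 18, 18, 20, 20, 25, 20, 27, 30] [.out 2575]],
  .sub [4, 1, 2, 4, 3, 2, 3, 1, 3, 2, 3, 1, 3, 4] [.sub [20, 31, 24, 18, 20, 20, 31, 30, 20, 27, 30, 29, 29] [.sub [19, 30, 24, 25, 19, 18, 27, 31, 25, 31, 30, 25, 29, 29] [.out 25]]],
  .sub [3, 1, 2, 4, 3, 2, 3, 1, 3, 2, 3, 1, 3, 4] [.sub [30, 18, 27, 20, 18, 24, 31, 31, 30, 27, 29] [.out 1919]],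
  .sub [1, 4, 3, 1, 3, 2, 3, 1, 3, 2, 3, 1, 3, 4] [.sub [18, 30, 31, 19, 25, 24, 24, 20, 20, 30, 29] [.sub [29, 20, 19, 20, 18, 30, 20, 24, 29, 29] [.out 1998]]],
  .sub [2, 4, 3, 1, 3, 2, 3, 1, 3, 2, 3, 1, 3, 4] [.out 2483],
  .sub [3, 2, 3, 1, 3, 2, 3, 1, 3, 2, 3, 1, 3, 4] [.sub [31, 18, 19, 18, 18, 24, 31, 27, 24, 20, 30, 29, 29] [.sub [19, 27, 19, 20, 18, 30, 29, 24, 20, 30, 25, 29, 29] [.out 3661]]],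
  .sub [1, 2, 3, 1, 3, 2, 3, 1, 3, 2, 3, 1, 3, 4] [.out 1618],
  .sub [1, 2, 4, 1, 4, 3, 2, 1, 3, 2, 3, 1, 3, 4] [.sub [27, 20, 19, 20, 18, 27, 29, 25, 24, 29, 25] [.out 2835]],
  .sub [3, 1, 2, 1, 4, 3, 2, 1, 3, 2, 3, 1, 3, 4] [.sub [30, 20, 27, 19, 31, 31, 24, 25, 24] [.out 2446]],
  .sub [3, 1, 3, 2, 4, 3, 2, 1, 3, 2, 3, 1, 3, 4] [.sub [25, 31, 19, 25, 31, 24, 27] [.out 1320]],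
  .sub [1, 2, 3, 2, 4, 3, 2, 1, 3, 2, 3, 1, 3, 4] [.sub [18, 24, 30, 18, 19, 31, 20, 24, 30, 20, 30, 25] [.out 2283]],
  .sub [4, 3, 1, 2, 4, 3, 2, 1, 3, 2, 3, 1, 3, 4] [.sub [24, 20, 25, 19, 18, 31, 31, 20, 20, 27, 30, 29, 29] [.sub [25, 31, 20, 20, 18, 30, 24, 25, 20, 27, 29] [.out 1918]]],
  .sub [1, 3, 1, 2, 4, 3, 2, 1, 3, 2, 3, 1, 3, 4] [.sub [30, 24, 30, 19, 18, 25, 20, 30, 24, 25, 29] [.sub [18, 20, 20, 25, 19, 20, 20, 20, 27, 30] [.bad [31, 27, 19, 18, 18, 18, 31, 20, 30, 24, 27, 30] 1]]],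
  .sub [2, 4, 1, 4, 3, 1, 2, 1, 3, 2, 3, 1, 3, 4] [.out 1196],
  .sub [2, 3, 1, 4, 3, 1, 2, 1, 3, 2, 3, 1, 3, 4] [.sub [18, 20, 19, 19, 30, 31, 25, 24, 25, 29, 29] [.sub [27, 31, 27, 27, 18, 20, 31, 30] [.out 538]]],
  .sub [2, 1, 3, 4, 1, 3, 1, 2, 3, 2, 3, 1, 3, 4] [.out 3500],
  .sub [3, 2, 3, 4, 1, 3, 1, 2, 3, 2, 3, 1, 3, 4] [.sub [31, 31, 20, 19, 18, 25, 20, 20, 20, 20, 30] [.out 1707]],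
  .sub [1, 2, 3, 4, 1, 3, 1, 2, 3, 2, 3, 1, 3, 4] [.sub [25, 24, 31, 18, 20, 20, 31, 29, 25, 29] [.out 1251]],
  .sub [3, 4, 1, 4, 3, 2, 4, 3, 1, 2, 3, 1, 3, 4] [.out 3800],
  .sub [1, 4, 1, 4, 3, 2, 4, 3, 1, 2, 3, 1, 3, 4] [.out 2964],
  .sub [2, 4, 1, 4, 3, 2, 4, 3, 1, 2, 3, 1, 3, 4] [.out 2876],
  .sub [3, 2, 1, 4, 3, 2, 4, 3, 1, 2, 3, 1, 3, 4] [.sub [24, 18, 19, 25, 18, 31, 20, 20, 20, 29, 25, 29] [.out 2882]],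
  .sub [1, 2, 1, 4, 3, 2, 4, 3, 1, 2, 3, 1, 3, 4] [.out 3458],
  .sub [3, 1, 4, 1, 3, 2, 4, 3, 1, 2, 3, 1, 3, 4] [.sub [20, 19, 20, 19, 27, 31, 25, 20, 30, 25, 29] [.out 1331]],
  .sub [2, 1, 4, 1, 3, 2, 4, 3, 1, 2, 3, 1, 3, 4] [.sub [24, 31, 19, 29, 18, 31, 27, 25, 24, 27] [.out 104]],
  .sub [1, 2, 4, 1, 3, 2, 4, 3, 1, 2, 3, 1, 3, 4] [.sub [18, 27, 20, 19, 18, 27, 25, 31, 31, 30] [.out 2514]]]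

/-- Branches. -/
def kidsXPart50 : List Branch := [
  .sub [3, 1, 2, 1, 3, 2, 4, 3, 1, 2, 3, 1, 3, 4] [.out 2937],
  .sub [4, 3, 1, 4, 1, 2, 4, 3, 1, 2, 3, 1, 3, 4] [.out 1454],
  .sub [4, 1, 4, 3, 1, 2, 4, 3, 1, 2, 3, 1, 3, 4] [.sub [31, 20, 18, 18, 19, 27, 24, 30, 24, 20, 27] [.out 593]],
  .sub [3, 1, 4, 3, 1, 2, 4, 3, 1, 2, 3, 1, 3, 4] [.out 3176],
  .sub [1, 2, 4, 3, 1, 2, 4, 3, 1, 2, 3, 1, 3, 4] [.sub [20, 18, 25, 18, 18, 25, 27, 25, 31, 30, 25] [.out 3564]],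
  .sub [1, 4, 1, 3, 1, 2, 4, 3, 1, 2, 3, 1, 3, 4] [.sub [19, 24, 20, 31, 18, 24, 24, 20, 24, 20, 29, 25] [.out 3260]],
  .sub [2, 4, 1, 3, 1, 2, 4, 3, 1, 2, 3, 1, 3, 4] [.sub [24, 24, 19, 24, 20, 29, 31, 20, 30, 27, 29, 29] [.out 3829]],
  .sub [1, 2, 1, 3, 1, 2, 4, 3, 1, 2, 3, 1, 3, 4] [.out 2432],
  .sub [3, 2, 1, 4, 1, 2, 1, 3, 1, 2, 3, 1, 3, 4] [.sub [31, 30, 18, 19, 18, 31, 27, 20, 20, 20, 25] [.out 3215]],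
  .sub [4, 3, 1, 4, 1, 3, 2, 3, 1, 2, 3, 1, 3, 4] [.sub [27, 18, 27, 18, 18, 29, 31, 25, 31, 20] [.out 2127]],
  .sub [1, 2, 1, 4, 1, 3, 2, 3, 1, 2, 3, 1, 3, 4] [.sub [31, 20, 27, 18, 25, 31, 20, 25] [.out 1073]],
  .sub [4, 1, 2, 4, 1, 3, 2, 3, 1, 2, 3, 1, 3, 4] [.out 3776],
  .sub [3, 4, 1, 3, 1, 3, 2, 3, 1, 2, 3, 1, 3, 4] [.sub [29, 19, 29, 18, 18, 24, 20, 24, 30, 20, 27, 30, 29, 29] [.out 1503]],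
  .sub [4, 1, 3, 2, 1, 3, 2, 3, 1, 2, 3, 1, 3, 4] [.out 916],
  .sub [3, 1, 3, 2, 1, 3, 2, 3, 1, 2, 3, 1, 3, 4] [.sub [24, 20, 18, 18, 31, 31, 31, 30, 27, 29] [.out 1531]],
  .sub [2, 1, 3, 2, 1, 3, 2, 3, 1, 2, 3, 1, 3, 4] [.out 3017],
  .sub [3, 4, 1, 3, 4, 1, 2, 3, 1, 2, 3, 1, 3, 4] [.sub [29, 19, 24, 18, 19, 25, 27, 25, 31, 30, 27, 29] [.sub [18, 29, 18, 24, 18, 29, 31, 31, 30, 25] [.out 3164]]],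
  .sub [1, 4, 1, 3, 4, 1, 2, 3, 1, 2, 3, 1, 3, 4] [.out 3604],
  .sub [3, 2, 1, 3, 4, 1, 2, 3, 1, 2, 3, 1, 3, 4] [.out 3448],
  .sub [1, 4, 3, 1, 4, 1, 2, 3, 1, 2, 3, 1, 3, 4] [.out 2103],
  .sub [2, 1, 3, 1, 4, 1, 2, 3, 1, 2, 3, 1, 3, 4] [.sub [18, 29, 19, 18, 19, 24, 20, 30, 27] [.out 3435]],
  .sub [2, 1, 4, 1, 3, 1, 2, 3, 1, 2, 3, 1, 3, 4] [.sub [20, 18, 19, 27, 18, 25, 31, 31, 24, 20, 30, 27] [.out 780]],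
  .sub [1, 4, 3, 2, 1, 3, 4, 1, 4, 3, 2, 1, 3, 4] [.sub [27, 29, 18, 29, 18, 20, 20, 30, 24, 30, 25] [.sub [27, 19, 29, 18, 18, 27, 24, 29, 25, 29] [.out 402]]],
  .sub [4, 1, 4, 3, 2, 3, 4, 1, 4, 3, 2, 1, 3, 4] [.sub [19, 24, 27, 19, 18, 31, 24, 27, 25, 20, 30, 29] [.sub [18, 18, 25, 18, 18, 25, 31, 29, 30, 24, 27] [.out 3461]]],
  .sub [3, 1, 4, 3, 2, 3, 4, 1, 4, 3, 2, 1, 3, 4] [.sub [20, 25, 18, 18, 19, 18, 29, 24, 31, 20, 25] [.out 2113]],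
  .sub [3, 2, 1, 3, 2, 3, 4, 1, 4, 3, 2, 1, 3, 4] [.sub [20, 31, 20, 18, 19, 24, 31, 20, 24, 20, 25] [.out 112]],
  .sub [4, 1, 3, 1, 2, 1, 4, 1, 4, 3, 2, 1, 3, 4] [.sub [29, 18, 27, 27, 18, 31, 24, 27, 25, 20, 30, 27, 29] [.out 3786]],
  .sub [1, 3, 2, 4, 1, 4, 3, 1, 4, 3, 2, 1, 3, 4] [.out 3630],
  .sub [2, 4, 3, 2, 1, 4, 3, 1, 4, 3, 2, 1, 3, 4] [.sub [24, 29, 25, 19, 30, 25, 31, 25, 24, 30, 25, 29] [.out 2306]],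
  .sub [4, 1, 3, 2, 1, 4, 3, 1, 4, 3, 2, 1, 3, 4] [.sub [20, 27, 24, 19, 18, 27, 31, 30, 20, 30, 29, 29] [.out 3639]],
  .sub [2, 1, 3, 2, 1, 4, 3, 1, 4, 3, 2, 1, 3, 4] [.sub [25, 31, 19, 25, 24, 27, 31, 29, 25, 29] [.sub [18, 27, 19, 30, 18, 18, 31, 24, 25, 20, 29, 25, 29] [.done 13]]],
  .sub [1, 2, 3, 2, 1, 4, 3, 1, 4, 3, 2, 1, 3, 4] [.sub [19, 19, 19, 25, 18, 18, 31, 31, 20, 27, 29, 29] [.out 1140]],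
  .sub [3, 4, 1, 2, 1, 4, 3, 1, 4, 3, 2, 1, 3, 4] [.sub [18, 18, 29, 25, 19, 18, 27, 24, 27, 31, 30, 25, 29] [.out 2164]],
  .sub [2, 4, 3, 1, 2, 4, 3, 1, 4, 3, 2, 1, 3, 4] [.sub [30, 31, 19, 19, 19, 24, 27, 20, 20, 20, 29, 25, 29, 29] [.sub [31, 31, 18, 18, 25, 24, 27] [.done 25]]],
  .sub [3, 2, 3, 1, 2, 4, 3, 1, 4, 3, 2, 1, 3, 4] [.out 3077],
  .sub [1, 2, 3, 1, 2, 4, 3, 1, 4, 3, 2, 1, 3, 4] [.sub [27, 31, 19, 19, 19, 20, 25, 27, 20, 31, 30, 25, 29] [.sub [19, 20, 31, 18, 19, 27, 20, 20, 24, 25, 29] [.out 3953]]],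
  .sub [3, 1, 3, 2, 4, 1, 3, 1, 4, 3, 2, 1, 3, 4] [.out 3961],
  .sub [4, 3, 1, 2, 4, 1, 3, 1, 4, 3, 2, 1, 3, 4] [.out 3205],
  .sub [3, 1, 2, 3, 2, 1, 3, 1, 4, 3, 2, 1, 3, 4] [.sub [19, 27, 20, 18, 18, 24, 27, 30, 31, 20, 30, 29] [.out 200]],
  .sub [4, 3, 1, 4, 3, 2, 3, 1, 4, 3, 2, 1, 3, 4] [.sub [27, 19, 27, 31, 18, 24, 27, 31, 20, 20, 29] [.out 2153]],
  .sub [1, 3, 1, 4, 3, 2, 3, 1, 4, 3, 2, 1, 3, 4] [.out 3969],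
  .sub [2, 3, 1, 4, 3, 2, 3, 1, 4, 3, 2, 1, 3, 4] [.sub [29, 20, 19, 18, 19, 24, 30, 27, 27, 24, 30, 25, 29] [.sub [29, 18, 18, 27, 18, 31, 25, 20, 20, 27, 29, 29] [.out 1509]]],
  .sub [1, 3, 2, 4, 3, 2, 3, 1, 4, 3, 2, 1, 3, 4] [.out 3821],
  .sub [1, 3, 4, 1, 3, 2, 3, 1, 4, 3, 2, 1, 3, 4] [.sub [25, 19, 19, 19, 18, 31, 29, 20, 24, 30, 25] [.out 3589]],
  .sub [2, 4, 3, 1, 3, 2, 3, 1, 4, 3, 2, 1, 3, 4] [.out 4008],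
  .sub [3, 1, 3, 4, 1, 2, 3, 1, 4, 3, 2, 1, 3, 4] [.sub [27, 19, 19, 25, 18, 18, 27, 20, 31, 30, 20, 30, 29, 29] [.out 753]],
  .sub [2, 1, 3, 4, 1, 2, 3, 1, 4, 3, 2, 1, 3, 4] [.out 3578],
  .sub [2, 3, 1, 4, 1, 2, 3, 1, 4, 3, 2, 1, 3, 4] [.out 1037],
  .sub [3, 2, 1, 4, 1, 2, 3, 1, 4, 3, 2, 1, 3, 4] [.sub [18, 29, 25, 20, 18, 24, 25, 27, 31, 27, 29, 29] [.out 4010]],
  .sub [3, 4, 1, 3, 1, 2, 3, 1, 4, 3, 2, 1, 3, 4] [.sub [20, 31, 31, 19, 31, 24, 30, 31, 25, 29, 29] [.out 1032]],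
  .sub [2, 4, 3, 1, 4, 3, 2, 1, 4, 3, 2, 1, 3, 4] [.out 3807],
  .sub [4, 3, 2, 1, 4, 3, 2, 1, 4, 3, 2, 1, 3, 4] [.sub [19, 31, 20, 19, 27, 24, 31, 20, 30, 29, 29] [.sub [30, 18, 18, 24, 29, 30, 31, 30, 27, 29] [.out 3766]]],
  .sub [1, 3, 2, 1, 4, 3, 2, 1, 4, 3, 2, 1, 3, 4] [.out 3020],
  .sub [2, 3, 2, 1, 4, 3, 2, 1, 4, 3, 2, 1, 3, 4] [.out 3151],
  .sub [4, 1, 2, 1, 4, 3, 2, 1, 4, 3, 2, 1, 3, 4] [.sub [24, 24, 19, 20, 31, 31, 20, 27, 30, 29] [.out 3338]],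
  .sub [3, 1, 2, 1, 4, 3, 2, 1, 4, 3, 2, 1, 3, 4] [.sub [20, 30, 19, 25, 18, 30, 24, 27, 24, 20, 29, 29] [.sub [30, 27, 24, 19, 18, 27, 20, 20, 30, 25, 29] [.out 2630]]],
  .sub [2, 1, 3, 2, 4, 3, 2, 1, 4, 3, 2, 1, 3, 4] [.sub [31, 27, 24, 18, 18, 29, 31, 20, 20, 29, 25, 29, 29] [.out 2171]],
  .sub [3, 4, 1, 2, 4, 3, 2, 1, 4, 3, 2, 1, 3, 4] [.sub [19, 29, 20, 18, 18, 30, 31, 27, 20, 20, 27, 30, 29] [.sub [31, 31, 27, 18, 18, 20, 29, 25, 29, 29] [.out 582]]],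
  .sub [1, 4, 1, 2, 4, 3, 2, 1, 4, 3, 2, 1, 3, 4] [.out 2806],
  .sub [4, 3, 1, 2, 4, 3, 2, 1, 4, 3, 2, 1, 3, 4] [.sub [31, 20, 19, 24, 18, 24, 27, 31, 27, 30, 29] [.out 2613]],
  .sub [1, 3, 1, 2, 4, 3, 2, 1, 4, 3, 2, 1, 3, 4] [.sub [18, 25, 20, 24, 19, 29, 31, 25, 31, 29, 25, 29] [.out 3071]],
  .sub [3, 2, 3, 4, 1, 3, 2, 1, 4, 3, 2, 1, 3, 4] [.sub [27, 19, 25, 19, 18, 30, 31, 20, 30, 20] [.out 2973]],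
  .sub [2, 3, 2, 4, 1, 3, 2, 1, 4, 3, 2, 1, 3, 4] [.sub [19, 19, 20, 18, 18, 31, 20, 31, 31, 30] [.out 1808]],
  .sub [1, 4, 1, 2, 1, 3, 2, 1, 4, 3, 2, 1, 3, 4] [.out 3038]]

/-- Branches. -/
def kidsXPart51 : List Branch := [
  .sub [4, 3, 4, 1, 2, 3, 2, 1, 4, 3, 2, 1, 3, 4] [.out 3954],
  .sub [1, 3, 4, 1, 2, 3, 2, 1, 4, 3, 2, 1, 3, 4] [.sub [19, 19, 19, 25, 18, 18, 31, 31, 20, 27, 29, 29] [.out 332]],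
  .sub [3, 1, 4, 1, 2, 3, 2, 1, 4, 3, 2, 1, 3, 4] [.sub [27, 19, 18, 20, 25, 24, 20, 20, 30, 29, 29] [.sub [19, 20, 20, 19, 18, 25, 31, 31, 20, 20, 30, 25, 29] [.out 1291]]],
  .sub [2, 1, 4, 1, 2, 3, 2, 1, 4, 3, 2, 1, 3, 4] [.out 569],
  .sub [2, 4, 3, 1, 2, 3, 2, 1, 4, 3, 2, 1, 3, 4] [.sub [18, 19, 24, 18, 18, 18, 27, 31, 27] [.out 1163]],
  .sub [4, 1, 3, 1, 2, 3, 2, 1, 4, 3, 2, 1, 3, 4] [.out 2224],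
  .sub [2, 1, 3, 1, 2, 3, 2, 1, 4, 3, 2, 1, 3, 4] [.sub [27, 20, 18, 24, 31, 20, 31, 20, 30, 27] [.out 1033]],
  .sub [3, 2, 3, 1, 2, 3, 2, 1, 4, 3, 2, 1, 3, 4] [.sub [29, 18, 19, 18, 29, 24, 30, 29] [.sub [25, 31, 30, 19, 19, 18, 25, 27, 25, 20, 30, 27, 29, 29] [.out 358]]],
  .sub [3, 2, 1, 4, 3, 1, 2, 1, 4, 3, 2, 1, 3, 4] [.sub [25, 20, 31, 19, 27, 31, 30, 20, 27] [.sub [24, 20, 19, 31, 30, 24, 29, 25, 29, 29] [.out 3030]]],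
  .sub [1, 4, 3, 2, 4, 1, 3, 2, 4, 3, 2, 1, 3, 4] [.sub [18, 20, 25, 27, 18, 20, 30, 24, 20] [.out 2239]],
  .sub [1, 3, 2, 4, 3, 1, 3, 2, 4, 3, 2, 1, 3, 4] [.sub [19, 20, 29, 31, 18, 31, 20, 24, 31, 29, 25] [.out 2530]],
  .sub [1, 2, 4, 3, 2, 1, 3, 2, 4, 3, 2, 1, 3, 4] [.sub [24, 27, 19, 24, 19, 27, 24, 27, 31, 20, 30, 27, 29, 29] [.out 3713]],
  .sub [1, 3, 1, 3, 2, 1, 3, 2, 4, 3, 2, 1, 3, 4] [.sub [31, 27, 19, 19, 19, 18, 31, 31, 25, 31, 30, 29] [.out 2039]],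
  .sub [4, 3, 4, 1, 2, 1, 3, 2, 4, 3, 2, 1, 3, 4] [.out 2906],
  .sub [4, 1, 3, 4, 1, 2, 3, 2, 4, 3, 2, 1, 3, 4] [.sub [24, 29, 19, 18, 20, 31, 29, 31, 30, 25, 29] [.out 2906]],
  .sub [3, 2, 3, 4, 1, 2, 3, 2, 4, 3, 2, 1, 3, 4] [.out 2133],
  .sub [3, 4, 1, 3, 1, 2, 3, 2, 4, 3, 2, 1, 3, 4] [.out 3020],
  .sub [1, 3, 4, 1, 2, 4, 3, 4, 1, 3, 2, 1, 3, 4] [.sub [27, 18, 27, 18, 30, 25, 24, 31, 25, 29, 29] [.out 3097]],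
  .sub [2, 3, 4, 1, 2, 4, 3, 4, 1, 3, 2, 1, 3, 4] [.sub [18, 31, 20, 19, 27, 30, 20, 29, 25, 29, 29] [.sub [19, 18, 29, 18, 18, 27, 31, 20, 30, 20, 27, 30, 29] [.out 2731]]],
  .sub [1, 4, 3, 2, 4, 1, 3, 4, 1, 3, 2, 1, 3, 4] [.sub [20, 18, 30, 31, 19, 20, 30, 31, 20, 29, 29] [.out 1293]],
  .sub [4, 1, 3, 2, 4, 1, 3, 4, 1, 3, 2, 1, 3, 4] [.out 3547],
  .sub [3, 1, 3, 2, 4, 1, 3, 4, 1, 3, 2, 1, 3, 4] [.out 3831],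
  .sub [2, 1, 3, 2, 4, 1, 3, 4, 1, 3, 2, 1, 3, 4] [.out 3377],
  .sub [1, 3, 1, 2, 4, 1, 3, 4, 1, 3, 2, 1, 3, 4] [.sub [18, 19, 18, 19, 31, 20, 30, 29, 29] [.out 1445]],
  .sub [3, 4, 1, 2, 3, 1, 3, 4, 1, 3, 2, 1, 3, 4] [.out 3750],
  .sub [1, 3, 1, 2, 3, 1, 3, 4, 1, 3, 2, 1, 3, 4] [.out 3132],
  .sub [3, 1, 4, 3, 2, 1, 3, 4, 1, 3, 2, 1, 3, 4] [.out 3851],
  .sub [3, 2, 4, 3, 2, 1, 3, 4, 1, 3, 2, 1, 3, 4] [.sub [24, 19, 31, 25, 19, 20, 30, 29, 24, 30, 29, 29] [.out 2880]],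
  .sub [1, 2, 4, 3, 2, 1, 3, 4, 1, 3, 2, 1, 3, 4] [.out 3281],
  .sub [4, 3, 4, 1, 2, 1, 3, 4, 1, 3, 2, 1, 3, 4] [.sub [18, 29, 18, 18, 18, 20, 24, 27, 24, 20, 27, 30, 29] [.out 4022]],
  .sub [2, 3, 4, 1, 2, 1, 3, 4, 1, 3, 2, 1, 3, 4] [.sub [24, 20, 19, 19, 30, 24, 31, 20, 20, 30, 25, 29] [.out 2108]],
  .sub [1, 4, 3, 1, 2, 1, 3, 4, 1, 3, 2, 1, 3, 4] [.out 3164],
  .sub [2, 4, 3, 1, 2, 1, 3, 4, 1, 3, 2, 1, 3, 4] [.out 3920],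
  .sub [3, 2, 3, 1, 2, 1, 3, 4, 1, 3, 2, 1, 3, 4] [.sub [24, 24, 18, 31, 24, 18, 24, 25, 24, 31, 25, 29] [.sub [25, 19, 19, 25, 18, 27, 30, 27, 24, 29] [.out 402]]],
  .sub [1, 2, 3, 1, 2, 1, 3, 4, 1, 3, 2, 1, 3, 4] [.sub [27, 19, 30, 18, 18, 31, 29, 25, 20, 20] [.sub [25, 20, 24, 19, 24, 27, 27, 31, 27, 29] [.out 538]]],
  .sub [4, 3, 1, 4, 3, 2, 3, 4, 1, 3, 2, 1, 3, 4] [.sub [25, 20, 25, 19, 24, 27, 29, 31, 30, 29] [.out 1075]],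
  .sub [2, 3, 1, 4, 3, 2, 3, 4, 1, 3, 2, 1, 3, 4] [.out 3860],
  .sub [2, 3, 2, 4, 3, 2, 3, 4, 1, 3, 2, 1, 3, 4] [.sub [18, 19, 20, 19, 20, 29, 20, 31, 29, 25] [.out 2700]],
  .sub [3, 1, 2, 4, 3, 2, 3, 4, 1, 3, 2, 1, 3, 4] [.sub [24, 24, 18, 18, 18, 20, 20, 29, 31, 30] [.sub [30, 19, 24, 29, 18, 18, 31, 27, 25, 31, 20, 30, 25, 29] [.out 696]]],
  .sub [3, 2, 3, 4, 1, 2, 3, 4, 1, 3, 2, 1, 3, 4] [.sub [18, 19, 20, 31, 18, 18, 31, 24, 20, 20, 29] [.sub [24, 19, 27, 31, 19, 20, 20, 24, 20, 20, 27, 30, 29] [.out 2687]]],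
  .sub [1, 3, 2, 3, 1, 2, 3, 4, 1, 3, 2, 1, 3, 4] [.sub [18, 25, 24, 25, 18, 31, 27, 20, 31, 20, 25] [.out 2877]],
  .sub [3, 1, 2, 3, 1, 2, 3, 4, 1, 3, 2, 1, 3, 4] [.sub [25, 18, 18, 19, 18, 25, 31, 29, 30, 24, 27, 29, 29] [.out 1357]],
  .sub [4, 1, 3, 1, 3, 2, 1, 4, 1, 3, 2, 1, 3, 4] [.sub [30, 24, 18, 18, 31, 30, 27, 31, 27, 30] [.out 3374]],
  .sub [3, 4, 1, 3, 1, 2, 1, 4, 1, 3, 2, 1, 3, 4] [.out 4047],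
  .sub [2, 4, 1, 3, 1, 2, 1, 4, 1, 3, 2, 1, 3, 4] [.sub [20, 25, 18, 18, 19, 18, 30, 20, 31, 30, 27] [.out 1692]],
  .sub [3, 2, 1, 3, 1, 2, 1, 4, 1, 3, 2, 1, 3, 4] [.out 1909],
  .sub [4, 1, 3, 1, 4, 3, 2, 4, 1, 3, 2, 1, 3, 4] [.sub [19, 18, 18, 25, 18, 25, 31, 31, 30, 25, 29] [.out 3693]],
  .sub [2, 1, 3, 1, 4, 3, 2, 4, 1, 3, 2, 1, 3, 4] [.out 3876],
  .sub [2, 3, 2, 1, 4, 3, 2, 4, 1, 3, 2, 1, 3, 4] [.sub [31, 27, 19, 18, 20, 31, 31, 25, 20] [.sub [19, 18, 25, 19, 31, 20, 31, 25, 20, 27, 30, 29, 29] [.bad [24, 20, 24, 18, 29, 25, 24, 30, 27, 29, 29] 1]]],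
  .sub [4, 1, 2, 1, 4, 3, 2, 4, 1, 3, 2, 1, 3, 4] [.sub [27, 20, 19, 29, 18, 20, 24, 31, 20, 30, 27] [.out 3727]],
  .sub [3, 1, 2, 1, 4, 3, 2, 4, 1, 3, 2, 1, 3, 4] [.out 2243],
  .sub [2, 1, 3, 2, 4, 3, 2, 4, 1, 3, 2, 1, 3, 4] [.sub [24, 18, 30, 29, 18, 18, 25, 31, 20, 27, 29, 29] [.out 407]],
  .sub [1, 2, 3, 2, 4, 3, 2, 4, 1, 3, 2, 1, 3, 4] [.out 2298],
  .sub [1, 3, 1, 2, 4, 3, 2, 4, 1, 3, 2, 1, 3, 4] [.out 3884],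
  .sub [1, 3, 2, 4, 1, 3, 2, 4, 1, 3, 2, 1, 3, 4] [.sub [27, 30, 18, 19, 18, 30, 24, 29, 20, 20, 30, 25, 29, 29] [.out 1536]],
  .sub [4, 1, 2, 4, 1, 3, 2, 4, 1, 3, 2, 1, 3, 4] [.out 2464],
  .sub [1, 4, 1, 2, 1, 3, 2, 4, 1, 3, 2, 1, 3, 4] [.sub [25, 27, 19, 29, 18, 25, 31, 25, 24, 27, 30] [.out 3001]],
  .sub [1, 4, 3, 1, 2, 3, 2, 4, 1, 3, 2, 1, 3, 4] [.out 3759],
  .sub [2, 3, 1, 4, 3, 1, 2, 4, 1, 3, 2, 1, 3, 4] [.sub [30, 20, 29, 31, 18, 31, 30, 27, 31, 27, 30, 29, 29] [.sub [19, 20, 20, 18, 29, 25, 24, 29, 29] [.out 2630]]],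
  .sub [2, 3, 2, 4, 3, 2, 4, 3, 1, 3, 2, 1, 3, 4] [.sub [29, 25, 31, 18, 19, 27, 24, 31, 31, 20, 30, 27] [.out 2416]],
  .sub [4, 1, 3, 2, 3, 4, 1, 3, 1, 3, 2, 1, 3, 4] [.out 2610],
  .sub [4, 1, 4, 3, 2, 4, 1, 3, 1, 3, 2, 1, 3, 4] [.sub [18, 20, 29, 18, 18, 20, 30, 24, 31, 25, 29] [.sub [19, 20, 24, 20, 19, 30, 31, 24, 31, 29, 25, 29, 29] [.out 1518]]],
  .sub [3, 1, 4, 3, 2, 4, 1, 3, 1, 3, 2, 1, 3, 4] [.sub [18, 27, 20, 19, 18, 27, 25, 31, 31, 30] [.out 1138]],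
  .sub [2, 1, 4, 3, 2, 4, 1, 3, 1, 3, 2, 1, 3, 4] [.out 1233]]

/-- Branches. -/
def kidsXPart52 : List Branch := [
  .sub [1, 2, 4, 3, 2, 4, 1, 3, 1, 3, 2, 1, 3, 4] [.out 1292],
  .sub [3, 4, 1, 3, 2, 4, 1, 3, 1, 3, 2, 1, 3, 4] [.out 2742],
  .sub [1, 4, 1, 3, 2, 4, 1, 3, 1, 3, 2, 1, 3, 4] [.sub [20, 24, 19, 24, 19, 31, 30, 29, 24, 20, 27] [.out 1498]],
  .sub [4, 3, 1, 3, 2, 4, 1, 3, 1, 3, 2, 1, 3, 4] [.sub [25, 19, 27, 20, 18, 18, 29, 25, 24, 20, 30, 29] [.out 3613]],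
  .sub [2, 3, 1, 3, 2, 4, 1, 3, 1, 3, 2, 1, 3, 4] [.out 4016],
  .sub [4, 1, 3, 1, 2, 4, 1, 3, 1, 3, 2, 1, 3, 4] [.sub [30, 18, 24, 18, 30, 27, 27, 24, 27, 29] [.out 3320]],
  .sub [1, 3, 1, 4, 3, 2, 1, 3, 1, 3, 2, 1, 3, 4] [.out 777],
  .sub [2, 3, 2, 4, 3, 2, 1, 3, 1, 3, 2, 1, 3, 4] [.sub [18, 18, 24, 18, 24, 29, 20, 24, 25] [.out 924]],
  .sub [4, 3, 4, 1, 3, 2, 1, 3, 1, 3, 2, 1, 3, 4] [.out 4025],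
  .sub [3, 2, 4, 1, 3, 2, 1, 3, 1, 3, 2, 1, 3, 4] [.sub [25, 19, 31, 27, 18, 31, 29, 20, 24, 20, 27] [.out 2970]],
  .sub [2, 4, 3, 1, 3, 2, 1, 3, 1, 3, 2, 1, 3, 4] [.sub [30, 19, 30, 18, 18, 29, 30, 24, 30, 25, 29, 29] [.sub [18, 18, 29, 19, 18, 20, 20, 20, 30, 29] [.out 865]]],
  .sub [3, 2, 3, 1, 3, 2, 1, 3, 1, 3, 2, 1, 3, 4] [.sub [27, 19, 30, 18, 18, 31, 29, 25, 20, 20] [.out 3933]],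
  .sub [1, 3, 2, 1, 3, 2, 1, 3, 1, 3, 2, 1, 3, 4] [.out 2575],
  .sub [2, 3, 2, 1, 3, 2, 1, 3, 1, 3, 2, 1, 3, 4] [.out 3945],
  .sub [3, 1, 2, 1, 3, 2, 1, 3, 1, 3, 2, 1, 3, 4] [.sub [29, 20, 24, 24, 18, 31, 29, 25, 24, 29] [.out 3795]],
  .sub [1, 3, 1, 2, 3, 2, 1, 3, 1, 3, 2, 1, 3, 4] [.sub [30, 20, 20, 18, 20, 24, 27, 24, 20, 27, 29] [.out 2538]],
  .sub [4, 1, 3, 4, 1, 2, 1, 3, 1, 3, 2, 1, 3, 4] [.sub [31, 20, 19, 19, 24, 30, 29, 31, 30] [.out 1032]],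
  .sub [3, 1, 3, 4, 1, 2, 1, 3, 1, 3, 2, 1, 3, 4] [.sub [20, 25, 18, 18, 19, 18, 29, 24, 31, 20, 25] [.out 3064]],
  .sub [2, 3, 4, 1, 2, 3, 2, 3, 1, 3, 2, 1, 3, 4] [.sub [24, 19, 20, 20, 18, 20, 27, 30, 31, 27, 29] [.out 667]],
  .sub [4, 1, 3, 1, 2, 3, 2, 3, 1, 3, 2, 1, 3, 4] [.out 3098],
  .sub [2, 1, 3, 1, 2, 3, 2, 3, 1, 3, 2, 1, 3, 4] [.sub [31, 19, 18, 31, 20, 30, 20, 25, 29] [.sub [19, 19, 27, 20, 18, 18, 24, 20, 29, 31, 20] [.out 2113]]],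
  .sub [2, 3, 1, 2, 3, 1, 2, 3, 1, 3, 2, 1, 3, 4] [.sub [18, 18, 19, 27, 31, 30, 20, 20, 29, 25, 29] [.out 3135]],
  .sub [2, 1, 4, 3, 1, 4, 3, 2, 1, 3, 2, 1, 3, 4] [.out 3190],
  .sub [3, 2, 4, 3, 1, 4, 3, 2, 1, 3, 2, 1, 3, 4] [.out 1596],
  .sub [1, 2, 4, 3, 1, 4, 3, 2, 1, 3, 2, 1, 3, 4] [.out 3736],
  .sub [1, 2, 1, 3, 1, 4, 3, 2, 1, 3, 2, 1, 3, 4] [.out 3675],
  .sub [4, 3, 2, 3, 1, 4, 3, 2, 1, 3, 2, 1, 3, 4] [.sub [25, 31, 19, 25, 24, 27, 31, 29, 25, 29] [.out 1439]],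
  .sub [1, 3, 2, 3, 1, 4, 3, 2, 1, 3, 2, 1, 3, 4] [.sub [19, 25, 18, 19, 18, 31, 25, 24, 31, 27, 30] [.out 2182]],
  .sub [4, 1, 2, 3, 1, 4, 3, 2, 1, 3, 2, 1, 3, 4] [.sub [30, 18, 31, 18, 19, 25, 20, 24, 20, 30, 27] [.out 83]],
  .sub [3, 4, 1, 2, 1, 4, 3, 2, 1, 3, 2, 1, 3, 4] [.sub [25, 24, 24, 20, 18, 20, 29, 24, 30, 29] [.sub [30, 25, 31, 19, 31, 29, 24, 25, 20, 30] [.out 3347]]],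
  .sub [2, 3, 1, 3, 2, 4, 3, 2, 1, 3, 2, 1, 3, 4] [.sub [27, 29, 18, 29, 18, 20, 20, 30, 24, 30, 25] [.out 2676]],
  .sub [3, 4, 1, 3, 4, 1, 3, 2, 1, 3, 2, 1, 3, 4] [.sub [24, 25, 18, 31, 20, 31, 25, 20, 25, 29] [.out 3777]],
  .sub [1, 3, 2, 1, 4, 1, 3, 2, 1, 3, 2, 1, 3, 4] [.out 1821],
  .sub [2, 3, 2, 1, 4, 1, 3, 2, 1, 3, 2, 1, 3, 4] [.out 3243],
  .sub [3, 2, 1, 4, 3, 1, 3, 2, 1, 3, 2, 1, 3, 4] [.out 3601],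
  .sub [2, 3, 4, 1, 2, 1, 3, 2, 1, 3, 2, 1, 3, 4] [.sub [30, 18, 19, 27, 18, 18, 30, 20, 27, 30] [.out 1251]],
  .sub [4, 1, 3, 4, 1, 2, 3, 2, 1, 3, 2, 1, 3, 4] [.sub [18, 31, 24, 18, 31, 20, 20, 20, 29] [.out 1556]],
  .sub [2, 1, 4, 3, 1, 2, 3, 2, 1, 3, 2, 1, 3, 4] [.sub [31, 19, 24, 20, 18, 27, 30, 31, 24, 30, 27, 29] [.sub [27, 19, 24, 25, 18, 24, 30, 24, 31, 27, 30] [.out 2249]]],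
  .sub [1, 3, 4, 1, 3, 4, 1, 2, 1, 3, 2, 1, 3, 4] [.out 2291],
  .sub [1, 2, 3, 1, 4, 3, 1, 2, 1, 3, 2, 1, 3, 4] [.sub [19, 25, 20, 18, 18, 20, 31, 30, 29] [.sub [19, 19, 24, 31, 18, 20, 30, 29, 31, 20, 27, 30] [.out 256]]],
  .sub [2, 4, 3, 2, 4, 3, 1, 2, 1, 3, 2, 1, 3, 4] [.out 546],
  .sub [1, 3, 1, 4, 1, 3, 1, 2, 1, 3, 2, 1, 3, 4] [.sub [19, 29, 20, 18, 18, 31, 29, 24, 25, 20, 27, 29] [.out 1954]],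
  .sub [2, 3, 1, 4, 1, 3, 1, 2, 1, 3, 2, 1, 3, 4] [.sub [20, 19, 31, 27, 18, 18, 29, 31, 31, 30, 24, 30, 25] [.sub [18, 29, 25, 19, 18, 29, 31, 29, 31, 29, 25, 29, 29] [.out 689]]],
  .sub [3, 1, 2, 4, 1, 3, 1, 2, 1, 3, 2, 1, 3, 4] [.out 3454],
  .sub [3, 4, 1, 2, 1, 3, 1, 2, 1, 3, 2, 1, 3, 4] [.sub [20, 27, 19, 18, 24, 27, 20, 20, 20, 29, 25] [.sub [31, 24, 27, 18, 29, 24, 29, 24, 20, 27, 30, 29, 29] [.out 1278]]],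
  .sub [3, 1, 4, 3, 2, 3, 1, 2, 1, 3, 2, 1, 3, 4] [.out 2710],
  .sub [1, 4, 3, 1, 2, 3, 1, 2, 1, 3, 2, 1, 3, 4] [.out 3153],
  .sub [4, 1, 3, 1, 2, 3, 1, 2, 1, 3, 2, 1, 3, 4] [.out 3593],
  .sub [1, 2, 3, 1, 2, 3, 1, 2, 1, 3, 2, 1, 3, 4] [.out 1328],
  .sub [2, 1, 3, 2, 4, 3, 4, 1, 2, 3, 2, 1, 3, 4] [.out 2749],
  .sub [1, 2, 3, 2, 4, 3, 4, 1, 2, 3, 2, 1, 3, 4] [.sub [24, 19, 27, 31, 18, 20, 24, 27, 24, 20, 30, 29, 29] [.out 1121]],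
  .sub [2, 3, 1, 2, 4, 3, 4, 1, 2, 3, 2, 1, 3, 4] [.sub [31, 19, 29, 18, 18, 31, 29, 25, 20, 20, 30, 27] [.out 3589]],
  .sub [1, 2, 3, 4, 1, 3, 4, 1, 2, 3, 2, 1, 3, 4] [.out 2877],
  .sub [1, 3, 2, 3, 1, 3, 4, 1, 2, 3, 2, 1, 3, 4] [.out 2198],
  .sub [4, 1, 2, 3, 1, 3, 4, 1, 2, 3, 2, 1, 3, 4] [.out 2384],
  .sub [4, 1, 4, 3, 2, 4, 3, 1, 2, 3, 2, 1, 3, 4] [.sub [24, 24, 19, 24, 19, 20, 29, 20, 31, 25, 29, 29] [.out 3758]],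
  .sub [3, 1, 4, 3, 2, 4, 3, 1, 2, 3, 2, 1, 3, 4] [.out 2347],
  .sub [2, 1, 4, 3, 2, 4, 3, 1, 2, 3, 2, 1, 3, 4] [.sub [24, 19, 31, 25, 19, 30, 31, 31, 30, 24, 27, 30, 29, 29] [.sub [19, 31, 20, 19, 18, 27, 20, 31, 24, 27, 30] [.out 2656]]],
  .sub [3, 2, 4, 3, 2, 4, 3, 1, 2, 3, 2, 1, 3, 4] [.sub [19, 19, 30, 19, 18, 20, 27, 31, 25, 20, 25, 29] [.out 1692]],
  .sub [2, 4, 1, 3, 2, 4, 3, 1, 2, 3, 2, 1, 3, 4] [.out 3664],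
  .sub [1, 3, 1, 3, 2, 4, 3, 1, 2, 3, 2, 1, 3, 4] [.out 3917],
  .sub [2, 3, 1, 3, 2, 4, 3, 1, 2, 3, 2, 1, 3, 4] [.sub [30, 18, 30, 20, 18, 20, 24, 27, 24, 30] [.sub [30, 31, 19, 29, 18, 24, 27, 25, 20, 30, 29] [.out 1033]]],
  .sub [3, 2, 1, 3, 2, 4, 3, 1, 2, 3, 2, 1, 3, 4] [.out 3600],
  .sub [1, 2, 1, 3, 2, 4, 3, 1, 2, 3, 2, 1, 3, 4] [.out 3041]]

/-- Branches. -/
def kidsXPart53 : List Branch := [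
  .sub [4, 1, 2, 3, 2, 4, 3, 1, 2, 3, 2, 1, 3, 4] [.out 3531],
  .sub [3, 1, 2, 3, 2, 4, 3, 1, 2, 3, 2, 1, 3, 4] [.sub [30, 31, 20, 19, 27, 20, 20, 24, 29, 25] [.sub [20, 25, 19, 24, 19, 24, 29, 31, 20, 20, 27] [.out 3001]]],
  .sub [2, 1, 3, 1, 2, 4, 3, 1, 2, 3, 2, 1, 3, 4] [.sub [25, 18, 29, 25, 24, 20, 27, 29, 29] [.sub [29, 18, 25, 18, 18, 24, 24, 27, 20, 24, 25, 29] [.done 18]]],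
  .sub [1, 2, 3, 1, 2, 4, 3, 1, 2, 3, 2, 1, 3, 4] [.sub [25, 18, 20, 24, 18, 31, 31, 20, 24, 29, 25, 29, 29] [.sub [30, 29, 31, 18, 18, 20, 24, 31, 27, 29, 29] [.out 3187]]],
  .sub [3, 2, 1, 3, 4, 1, 3, 1, 2, 3, 2, 1, 3, 4] [.sub [20, 19, 20, 19, 18, 24, 27, 31, 20, 20, 27] [.out 1332]],
  .sub [1, 2, 1, 3, 4, 1, 3, 1, 2, 3, 2, 1, 3, 4] [.out 2954],
  .sub [3, 1, 2, 3, 4, 1, 3, 1, 2, 3, 2, 1, 3, 4] [.sub [30, 20, 20, 20, 18, 18, 30, 20, 30, 29, 29] [.out 1988]],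
  .sub [1, 3, 1, 4, 3, 2, 3, 1, 2, 3, 2, 1, 3, 4] [.out 3793],
  .sub [1, 4, 3, 4, 1, 2, 3, 1, 2, 3, 2, 1, 3, 4] [.sub [29, 19, 29, 18, 18, 27, 29, 31, 20, 27, 29, 29] [.sub [18, 29, 18, 19, 20, 24, 25, 24, 30, 25] [.out 2510]]],
  .sub [1, 3, 2, 3, 1, 2, 3, 1, 2, 3, 2, 1, 3, 4] [.sub [19, 27, 18, 20, 27, 24, 20, 20, 30] [.out 1044]],
  .sub [1, 4, 3, 2, 1, 4, 1, 4, 3, 1, 2, 1, 3, 4] [.out 3373],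
  .sub [4, 1, 4, 3, 2, 4, 1, 4, 3, 1, 2, 1, 3, 4] [.sub [20, 29, 30, 18, 19, 18, 27, 29, 31, 24, 27] [.out 2874]],
  .sub [2, 1, 4, 3, 2, 4, 1, 4, 3, 1, 2, 1, 3, 4] [.out 3950],
  .sub [1, 2, 4, 3, 2, 4, 1, 4, 3, 1, 2, 1, 3, 4] [.sub [30, 24, 19, 19, 18, 30, 25, 20, 20, 29, 25] [.sub [20, 25, 20, 18, 18, 30, 24, 27, 30] [.out 3033]]],
  .sub [1, 3, 1, 3, 2, 4, 1, 4, 3, 1, 2, 1, 3, 4] [.sub [31, 30, 19, 19, 18, 20, 27, 24, 20, 30, 29] [.sub [20, 18, 18, 19, 19, 25, 31, 25, 20, 30, 25, 29, 29] [.out 1518]]],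
  .sub [2, 3, 1, 3, 2, 4, 1, 4, 3, 1, 2, 1, 3, 4] [.sub [31, 24, 18, 18, 30, 31, 29, 30, 24, 30, 27, 29] [.out 4030]],
  .sub [4, 1, 2, 3, 2, 4, 1, 4, 3, 1, 2, 1, 3, 4] [.out 3611],
  .sub [4, 3, 4, 1, 2, 4, 1, 4, 3, 1, 2, 1, 3, 4] [.out 3625],
  .sub [1, 4, 3, 1, 2, 4, 1, 4, 3, 1, 2, 1, 3, 4] [.out 3803],
  .sub [2, 4, 3, 1, 2, 4, 1, 4, 3, 1, 2, 1, 3, 4] [.sub [29, 18, 30, 19, 18, 30, 20, 24, 20, 20, 30, 29] [.out 1131]],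
  .sub [1, 3, 4, 1, 2, 3, 1, 4, 3, 1, 2, 1, 3, 4] [.sub [19, 31, 27, 18, 18, 24, 29, 31, 20, 30, 29] [.out 3694]],
  .sub [3, 4, 1, 4, 3, 2, 1, 4, 3, 1, 2, 1, 3, 4] [.sub [29, 18, 18, 24, 18, 31, 24, 31, 24, 27, 30, 29, 29] [.out 2936]],
  .sub [1, 4, 1, 4, 3, 2, 1, 4, 3, 1, 2, 1, 3, 4] [.sub [31, 30, 18, 24, 18, 27, 31, 31, 20, 27, 30, 29, 29] [.out 1251]],
  .sub [2, 4, 1, 4, 3, 2, 1, 4, 3, 1, 2, 1, 3, 4] [.sub [20, 29, 18, 25, 18, 18, 20, 20, 24, 25, 29, 29] [.out 4010]],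
  .sub [2, 3, 1, 4, 3, 2, 1, 4, 3, 1, 2, 1, 3, 4] [.sub [24, 20, 19, 19, 25, 27, 24, 30, 27] [.out 1993]],
  .sub [3, 2, 1, 4, 3, 2, 1, 4, 3, 1, 2, 1, 3, 4] [.sub [20, 19, 18, 20, 18, 20, 20, 25, 31, 29] [.out 3021]],
  .sub [1, 2, 1, 4, 3, 2, 1, 4, 3, 1, 2, 1, 3, 4] [.out 3340],
  .sub [4, 1, 2, 4, 3, 2, 1, 4, 3, 1, 2, 1, 3, 4] [.out 3348],
  .sub [3, 1, 4, 1, 3, 2, 1, 4, 3, 1, 2, 1, 3, 4] [.sub [25, 18, 24, 24, 19, 20, 20, 29, 25] [.out 1455]],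
  .sub [2, 1, 4, 1, 3, 2, 1, 4, 3, 1, 2, 1, 3, 4] [.out 3787],
  .sub [3, 2, 4, 1, 3, 2, 1, 4, 3, 1, 2, 1, 3, 4] [.out 3760],
  .sub [4, 3, 2, 1, 3, 2, 1, 4, 3, 1, 2, 1, 3, 4] [.sub [20, 19, 19, 24, 18, 18, 30, 27, 27, 31, 29] [.out 3414]],
  .sub [1, 3, 2, 1, 3, 2, 1, 4, 3, 1, 2, 1, 3, 4] [.sub [18, 29, 25, 18, 20, 30, 29, 24, 20, 27, 30, 29, 29] [.sub [18, 24, 18, 19, 24, 31, 24, 20, 25] [.done 19]]],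
  .sub [4, 1, 4, 3, 1, 2, 1, 4, 3, 1, 2, 1, 3, 4] [.out 2534],
  .sub [3, 1, 4, 3, 1, 2, 1, 4, 3, 1, 2, 1, 3, 4] [.out 3343],
  .sub [1, 3, 4, 1, 4, 3, 2, 4, 3, 1, 2, 1, 3, 4] [.out 1245],
  .sub [2, 3, 4, 1, 4, 3, 2, 4, 3, 1, 2, 1, 3, 4] [.sub [18, 24, 19, 25, 19, 24, 27, 30, 31, 20, 25, 29] [.out 2307]],
  .sub [1, 4, 3, 1, 4, 3, 2, 4, 3, 1, 2, 1, 3, 4] [.sub [30, 19, 18, 19, 18, 31, 20, 31, 25, 20, 27, 29] [.out 1936]],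
  .sub [4, 1, 3, 4, 1, 3, 2, 4, 3, 1, 2, 1, 3, 4] [.out 2560],
  .sub [2, 1, 3, 4, 1, 3, 2, 4, 3, 1, 2, 1, 3, 4] [.out 1974],
  .sub [1, 2, 3, 4, 1, 3, 2, 4, 3, 1, 2, 1, 3, 4] [.sub [30, 18, 20, 19, 18, 30, 24, 30, 31, 30, 27] [.out 1075]],
  .sub [1, 3, 2, 4, 1, 3, 2, 4, 3, 1, 2, 1, 3, 4] [.out 3898],
  .sub [4, 1, 2, 4, 1, 3, 2, 4, 3, 1, 2, 1, 3, 4] [.out 2755],
  .sub [3, 1, 2, 4, 1, 3, 2, 4, 3, 1, 2, 1, 3, 4] [.out 1196],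
  .sub [3, 2, 4, 3, 1, 3, 2, 4, 3, 1, 2, 1, 3, 4] [.sub [30, 24, 20, 19, 25, 31, 24, 27] [.sub [24, 25, 18, 18, 18, 18, 24, 29, 24, 31, 30, 25, 29, 29] [.out 2611]]],
  .sub [4, 3, 2, 3, 1, 3, 2, 4, 3, 1, 2, 1, 3, 4] [.out 2894],
  .sub [4, 1, 3, 1, 4, 1, 2, 4, 3, 1, 2, 1, 3, 4] [.sub [24, 20, 18, 19, 25, 31, 25, 20, 27, 29, 29] [.sub [19, 29, 19, 29, 18, 30, 27, 31, 27, 29, 29] [.bad [18, 19, 25, 20, 30, 20, 30, 27, 29] 1]]],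
  .sub [4, 3, 2, 1, 3, 1, 2, 4, 3, 1, 2, 1, 3, 4] [.sub [19, 20, 20, 18, 18, 20, 24, 25, 24, 30, 25] [.out 3651]],
  .sub [3, 4, 1, 3, 2, 3, 4, 1, 3, 1, 2, 1, 3, 4] [.out 2079],
  .sub [3, 2, 4, 3, 2, 1, 4, 1, 3, 1, 2, 1, 3, 4] [.out 3485],
  .sub [1, 2, 4, 3, 2, 1, 4, 1, 3, 1, 2, 1, 3, 4] [.out 4008],
  .sub [3, 4, 1, 3, 2, 1, 4, 1, 3, 1, 2, 1, 3, 4] [.sub [30, 24, 29, 18, 18, 31, 27, 25, 20, 20, 29, 29] [.sub [27, 31, 31, 19, 18, 25, 20, 20, 20, 20, 29] [.out 2131]]],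
  .sub [4, 3, 1, 3, 2, 1, 4, 1, 3, 1, 2, 1, 3, 4] [.out 3376],
  .sub [1, 3, 1, 3, 2, 1, 4, 1, 3, 1, 2, 1, 3, 4] [.out 3461],
  .sub [4, 3, 4, 1, 2, 1, 4, 1, 3, 1, 2, 1, 3, 4] [.out 3146],
  .sub [2, 1, 3, 1, 2, 1, 4, 1, 3, 1, 2, 1, 3, 4] [.out 3375],
  .sub [1, 2, 1, 4, 3, 2, 4, 1, 3, 1, 2, 1, 3, 4] [.sub [19, 18, 19, 25, 18, 25, 31, 31, 20, 20, 30, 27] [.out 1708]],
  .sub [1, 3, 2, 4, 3, 2, 4, 1, 3, 1, 2, 1, 3, 4] [.out 2149],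
  .sub [2, 3, 2, 4, 3, 2, 4, 1, 3, 1, 2, 1, 3, 4] [.sub [27, 18, 25, 31, 19, 18, 31, 24, 20, 20, 27, 30, 29] [.out 60]],
  .sub [1, 3, 1, 2, 3, 2, 4, 1, 3, 1, 2, 1, 3, 4] [.out 3662],
  .sub [2, 3, 1, 4, 1, 2, 4, 1, 3, 1, 2, 1, 3, 4] [.sub [31, 24, 18, 19, 18, 24, 27, 30, 31, 30, 27] [.out 2642]],
  .sub [3, 2, 1, 4, 1, 2, 4, 1, 3, 1, 2, 1, 3, 4] [.sub [18, 19, 18, 25, 18, 27, 29, 31, 24, 30, 25] [.sub [20, 27, 18, 18, 25, 31, 31, 24, 20, 30] [.out 2113]]],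
  .sub [3, 2, 4, 3, 1, 2, 4, 1, 3, 1, 2, 1, 3, 4] [.out 2084],
  .sub [4, 3, 2, 3, 1, 2, 4, 1, 3, 1, 2, 1, 3, 4] [.out 2084]]

/-- Branches. -/
def kidsXPart54 : List Branch := [
  .sub [1, 3, 2, 3, 1, 2, 4, 1, 3, 1, 2, 1, 3, 4] [.sub [29, 18, 29, 18, 19, 18, 20, 24, 31, 25, 20, 30, 25, 29, 29] [.out 3414]],
  .sub [4, 1, 2, 3, 1, 2, 4, 1, 3, 1, 2, 1, 3, 4] [.sub [31, 31, 19, 27, 29, 31, 24, 29, 25, 29] [.out 1716]],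
  .sub [3, 1, 2, 3, 1, 2, 4, 1, 3, 1, 2, 1, 3, 4] [.sub [20, 18, 25, 20, 19, 29, 24, 20, 27, 29] [.out 1672]],
  .sub [1, 4, 3, 1, 4, 3, 2, 1, 3, 1, 2, 1, 3, 4] [.sub [30, 31, 19, 19, 31, 24, 20, 31, 27, 29, 29] [.out 1762]],
  .sub [2, 4, 3, 1, 4, 3, 2, 1, 3, 1, 2, 1, 3, 4] [.out 3029],
  .sub [4, 1, 3, 1, 4, 3, 2, 1, 3, 1, 2, 1, 3, 4] [.sub [19, 29, 18, 19, 18, 27, 24, 29, 31, 30, 25] [.out 1239]],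
  .sub [3, 2, 3, 1, 4, 3, 2, 1, 3, 1, 2, 1, 3, 4] [.out 4055],
  .sub [2, 3, 2, 1, 4, 3, 2, 1, 3, 1, 2, 1, 3, 4] [.sub [20, 24, 31, 19, 30, 25, 31, 25, 29, 29] [.out 3886]],
  .sub [2, 1, 3, 2, 4, 3, 2, 1, 3, 1, 2, 1, 3, 4] [.out 4046],
  .sub [1, 2, 3, 2, 4, 3, 2, 1, 3, 1, 2, 1, 3, 4] [.out 2590],
  .sub [2, 4, 3, 4, 1, 3, 2, 1, 3, 1, 2, 1, 3, 4] [.out 2725],
  .sub [4, 3, 2, 4, 1, 3, 2, 1, 3, 1, 2, 1, 3, 4] [.sub [29, 24, 25, 18, 31, 29, 31, 24, 29, 25, 29, 29] [.out 2761]],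
  .sub [1, 4, 3, 1, 2, 3, 2, 1, 3, 1, 2, 1, 3, 4] [.sub [19, 27, 20, 18, 18, 30, 24, 31, 31, 20, 30, 27, 29, 29] [.sub [24, 18, 29, 19, 18, 31, 29, 31, 30] [.out 3472]]],
  .sub [4, 3, 2, 1, 3, 1, 2, 1, 3, 1, 2, 1, 3, 4] [.sub [25, 31, 20, 18, 29, 20, 24, 30, 29, 29] [.out 95]],
  .sub [3, 4, 1, 2, 3, 1, 2, 1, 3, 1, 2, 1, 3, 4] [.sub [18, 18, 19, 24, 18, 27, 24, 31, 20, 20, 25, 29] [.sub [31, 19, 19, 31, 18, 20, 30, 29, 29] [.out 3316]]],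
  .sub [2, 1, 3, 2, 1, 4, 3, 2, 3, 1, 2, 1, 3, 4] [.sub [20, 19, 20, 18, 18, 20, 30, 31, 24, 20, 30, 25, 29, 29] [.sub [18, 19, 18, 19, 24, 27, 29, 31, 30, 25] [.bad [19, 19, 24, 19, 31, 27, 25, 31, 20, 25, 29] 1]]],
  .sub [3, 4, 1, 3, 4, 1, 3, 2, 3, 1, 2, 1, 3, 4] [.sub [20, 19, 20, 25, 18, 24, 31, 30, 20, 27] [.out 1333]],
  .sub [1, 3, 1, 3, 4, 1, 3, 2, 3, 1, 2, 1, 3, 4] [.out 2818],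
  .sub [2, 4, 3, 1, 4, 1, 3, 2, 3, 1, 2, 1, 3, 4] [.out 1919],
  .sub [4, 1, 3, 1, 4, 1, 3, 2, 3, 1, 2, 1, 3, 4] [.out 2890],
  .sub [3, 2, 3, 1, 4, 1, 3, 2, 3, 1, 2, 1, 3, 4] [.sub [24, 19, 24, 18, 19, 27, 29, 20, 20, 20, 27] [.out 2098]],
  .sub [1, 2, 3, 1, 4, 1, 3, 2, 3, 1, 2, 1, 3, 4] [.sub [29, 19, 24, 31, 18, 27, 31, 30, 20, 29, 25, 29] [.sub [18, 29, 25, 19, 18, 29, 31, 29, 31, 29, 25, 29, 29] [.out 2016]]],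
  .sub [4, 3, 1, 4, 3, 1, 3, 2, 3, 1, 2, 1, 3, 4] [.sub [25, 19, 18, 19, 18, 18, 20, 31, 20, 29] [.out 2335]],
  .sub [2, 3, 4, 1, 3, 1, 3, 2, 3, 1, 2, 1, 3, 4] [.out 2961],
  .sub [3, 2, 4, 1, 3, 1, 3, 2, 3, 1, 2, 1, 3, 4] [.sub [24, 20, 27, 19, 27, 24, 31, 20, 25] [.out 714]],
  .sub [4, 3, 2, 1, 3, 1, 3, 2, 3, 1, 2, 1, 3, 4] [.sub [27, 20, 18, 25, 18, 18, 24, 25, 31, 20, 29, 29] [.out 1712]],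
  .sub [1, 3, 2, 1, 3, 1, 3, 2, 3, 1, 2, 1, 3, 4] [.sub [30, 20, 27, 19, 27, 30, 31, 31, 30, 27, 29] [.out 803]],
  .sub [2, 3, 2, 1, 3, 1, 3, 2, 3, 1, 2, 1, 3, 4] [.out 3101],
  .sub [1, 2, 1, 4, 3, 4, 1, 2, 3, 1, 2, 1, 3, 4] [.sub [18, 18, 18, 18, 20, 31, 20, 20, 30, 29] [.out 683]],
  .sub [3, 1, 2, 4, 3, 4, 1, 2, 3, 1, 2, 1, 3, 4] [.out 3095],
  .sub [2, 1, 4, 1, 3, 4, 1, 2, 3, 1, 2, 1, 3, 4] [.sub [18, 19, 27, 18, 20, 20, 30, 27] [.out 3753]],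
  .sub [3, 2, 4, 1, 3, 4, 1, 2, 3, 1, 2, 1, 3, 4] [.sub [31, 18, 31, 24, 19, 31, 27, 20, 20, 30, 25, 29, 29] [.out 3816]],
  .sub [2, 3, 1, 2, 3, 4, 1, 2, 3, 1, 2, 1, 3, 4] [.sub [24, 19, 29, 18, 25, 31, 20, 20] [.out 642]],
  .sub [1, 2, 4, 3, 1, 4, 1, 2, 3, 1, 2, 1, 3, 4] [.out 896],
  .sub [3, 4, 1, 3, 1, 4, 1, 2, 3, 1, 2, 1, 3, 4] [.sub [31, 24, 29, 31, 18, 31, 31, 31, 25, 31, 29] [.out 2016]],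
  .sub [1, 4, 1, 3, 1, 4, 1, 2, 3, 1, 2, 1, 3, 4] [.out 3586],
  .sub [4, 3, 2, 3, 1, 4, 1, 2, 3, 1, 2, 1, 3, 4] [.out 3848],
  .sub [1, 3, 2, 3, 1, 4, 1, 2, 3, 1, 2, 1, 3, 4] [.out 2976],
  .sub [4, 1, 2, 3, 1, 4, 1, 2, 3, 1, 2, 1, 3, 4] [.sub [25, 24, 19, 24, 18, 30, 20, 24, 29, 25, 29, 29] [.out 3846]],
  .sub [2, 4, 3, 2, 1, 4, 1, 2, 3, 1, 2, 1, 3, 4] [.sub [24, 29, 20, 24, 18, 27, 29, 20, 24, 30, 27, 29, 29] [.out 3155]],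
  .sub [1, 4, 3, 1, 4, 3, 1, 2, 3, 1, 2, 1, 3, 4] [.sub [31, 29, 19, 18, 29, 24, 20, 31, 27] [.sub [18, 18, 25, 18, 30, 24, 24, 20, 20, 30, 27, 29] [.bad [31, 19, 24, 18, 18, 18, 20, 29, 20, 31, 29, 25, 29] 1]]],
  .sub [2, 1, 3, 4, 1, 3, 1, 2, 3, 1, 2, 1, 3, 4] [.sub [18, 29, 19, 18, 19, 20, 31, 29, 29] [.sub [24, 18, 29, 19, 18, 24, 31, 29, 24, 27, 30] [.out 3749]]],
  .sub [3, 2, 3, 4, 1, 3, 1, 2, 3, 1, 2, 1, 3, 4] [.sub [30, 18, 31, 18, 19, 25, 20, 24, 20, 30, 27] [.out 3083]],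
  .sub [1, 2, 3, 4, 1, 3, 1, 2, 3, 1, 2, 1, 3, 4] [.sub [19, 25, 31, 25, 19, 30, 31, 27, 20, 20, 27, 30] [.out 3712]],
  .sub [1, 2, 1, 4, 1, 3, 1, 2, 3, 1, 2, 1, 3, 4] [.sub [29, 20, 19, 25, 19, 30, 20, 24, 20, 20] [.out 1140]],
  .sub [4, 3, 2, 4, 1, 3, 1, 2, 3, 1, 2, 1, 3, 4] [.sub [19, 19, 19, 25, 18, 18, 31, 31, 20, 27, 29, 29] [.out 3637]],
  .sub [2, 3, 2, 4, 1, 3, 1, 2, 3, 1, 2, 1, 3, 4] [.sub [19, 18, 18, 24, 31, 31, 31, 24, 29, 25] [.out 3587]],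
  .sub [4, 1, 2, 4, 1, 3, 1, 2, 3, 1, 2, 1, 3, 4] [.out 3163],
  .sub [2, 4, 3, 2, 1, 3, 1, 2, 3, 1, 2, 1, 3, 4] [.sub [29, 31, 27, 25, 18, 31, 24, 20, 31, 29, 25, 29, 29] [.out 2905]],
  .sub [1, 2, 3, 2, 1, 3, 1, 2, 3, 1, 2, 1, 3, 4] [.sub [18, 31, 29, 18, 31, 29, 24, 25, 20, 29, 25] [.out 516]],
  .sub [2, 1, 4, 1, 2, 3, 1, 2, 3, 1, 2, 1, 3, 4] [.out 3793],
  .sub [1, 4, 3, 1, 2, 3, 1, 2, 3, 1, 2, 1, 3, 4] [.sub [20, 29, 19, 18, 18, 18, 20, 25, 31, 30, 25, 29] [.out 2781]],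
  .sub [4, 1, 4, 3, 2, 1, 3, 4, 1, 4, 3, 2, 3, 4] [.out 2297],
  .sub [3, 1, 4, 3, 2, 1, 3, 4, 1, 4, 3, 2, 3, 4] [.sub [30, 24, 31, 18, 19, 24, 24, 27, 25, 20, 27, 30, 29] [.out 1130]],
  .sub [2, 1, 4, 3, 2, 1, 3, 4, 1, 4, 3, 2, 3, 4] [.sub [20, 31, 24, 18, 20, 31, 20, 24, 30, 25, 29, 29] [.sub [19, 29, 18, 18, 29, 25, 24, 31, 20, 30, 25, 29] [.out 2688]]],
  .sub [3, 2, 4, 3, 2, 1, 3, 4, 1, 4, 3, 2, 3, 4] [.sub [18, 19, 20, 24, 18, 30, 24, 27, 24, 30, 27, 29, 29] [.out 2678]],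
  .sub [1, 2, 4, 3, 2, 1, 3, 4, 1, 4, 3, 2, 3, 4] [.sub [19, 18, 27, 27, 18, 24, 27, 30, 31, 27, 29, 29] [.out 2167]],
  .sub [1, 4, 1, 3, 2, 1, 3, 4, 1, 4, 3, 2, 3, 4] [.out 4003],
  .sub [2, 4, 1, 3, 2, 1, 3, 4, 1, 4, 3, 2, 3, 4] [.out 3318],
  .sub [4, 3, 1, 3, 2, 1, 3, 4, 1, 4, 3, 2, 3, 4] [.sub [20, 30, 18, 18, 19, 24, 27, 31, 25, 20, 30] [.out 1110]],
  .sub [2, 3, 1, 3, 2, 1, 3, 4, 1, 4, 3, 2, 3, 4] [.sub [31, 24, 29, 18, 18, 25, 31, 31, 20, 30, 25] [.out 268]],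
  .sub [3, 2, 1, 3, 2, 1, 3, 4, 1, 4, 3, 2, 3, 4] [.sub [19, 20, 29, 18, 20, 31, 20, 20, 29, 25, 29, 29] [.out 3822]],
  .sub [1, 2, 1, 3, 2, 1, 3, 4, 1, 4, 3, 2, 3, 4] [.out 2455],
  .sub [4, 1, 2, 3, 2, 1, 3, 4, 1, 4, 3, 2, 3, 4] [.sub [19, 20, 18, 25, 19, 20, 27, 31, 25, 20, 30, 29, 29] [.out 195]]]

/-- Branches. -/
def kidsXPart55 : List Branch := [
  .sub [3, 1, 2, 3, 2, 1, 3, 4, 1, 4, 3, 2, 3, 4] [.sub [18, 31, 31, 20, 18, 18, 25, 24, 27, 31, 27, 29] [.out 2900]],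
  .sub [3, 2, 1, 4, 1, 2, 4, 3, 1, 4, 3, 2, 3, 4] [.sub [31, 27, 18, 24, 18, 24, 20, 30, 31, 20, 27] [.out 3031]],
  .sub [1, 4, 3, 1, 2, 4, 1, 3, 1, 4, 3, 2, 3, 4] [.sub [30, 20, 18, 18, 30, 20, 30, 24, 20] [.out 3304]],
  .sub [1, 4, 1, 4, 3, 2, 1, 3, 1, 4, 3, 2, 3, 4] [.sub [25, 24, 27, 19, 24, 27, 24, 29, 25, 29] [.sub [20, 31, 18, 19, 30, 25, 20, 20, 30, 29, 29] [.out 2131]]],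
  .sub [2, 3, 2, 4, 3, 2, 1, 3, 1, 4, 3, 2, 3, 4] [.out 3974],
  .sub [3, 1, 4, 1, 3, 2, 1, 3, 1, 4, 3, 2, 3, 4] [.sub [18, 20, 31, 18, 19, 18, 24, 20, 30, 31, 20, 30, 27] [.out 3208]],
  .sub [4, 3, 1, 2, 3, 2, 1, 3, 1, 4, 3, 2, 3, 4] [.sub [19, 25, 24, 19, 18, 24, 20, 20, 27, 29] [.out 1561]],
  .sub [1, 3, 1, 2, 3, 2, 1, 3, 1, 4, 3, 2, 3, 4] [.sub [19, 29, 18, 19, 18, 30, 25, 27, 24, 30, 27, 29] [.out 696]],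
  .sub [2, 3, 1, 2, 3, 2, 1, 3, 1, 4, 3, 2, 3, 4] [.out 3307],
  .sub [3, 1, 4, 3, 1, 2, 1, 3, 1, 4, 3, 2, 3, 4] [.sub [18, 18, 19, 27, 31, 30, 20, 20, 29, 25, 29] [.sub [20, 18, 27, 19, 29, 30, 24, 20, 30, 29, 29] [.out 3861]]],
  .sub [1, 3, 2, 4, 1, 3, 2, 3, 1, 4, 3, 2, 3, 4] [.sub [18, 25, 31, 19, 18, 29, 20, 24, 20, 27] [.out 920]],
  .sub [2, 1, 4, 3, 4, 1, 2, 3, 1, 4, 3, 2, 3, 4] [.sub [30, 20, 29, 31, 18, 27, 24, 20, 30, 27, 29, 29] [.out 46]],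
  .sub [1, 2, 4, 3, 4, 1, 2, 3, 1, 4, 3, 2, 3, 4] [.sub [30, 20, 24, 18, 29, 25, 20, 31, 20, 27] [.out 2211]],
  .sub [1, 4, 3, 1, 4, 1, 2, 3, 1, 4, 3, 2, 3, 4] [.sub [18, 18, 30, 31, 19, 20, 30, 24, 25, 20, 25] [.out 3056]],
  .sub [2, 3, 1, 4, 3, 1, 2, 3, 1, 4, 3, 2, 3, 4] [.out 1857],
  .sub [4, 3, 2, 4, 1, 4, 3, 2, 1, 4, 3, 2, 3, 4] [.sub [20, 24, 19, 19, 19, 24, 30, 24, 20, 29, 25, 29, 29] [.sub [20, 30, 18, 19, 29, 25, 31, 24, 29, 25, 29, 29] [.out 2443]]],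
  .sub [2, 4, 1, 3, 1, 4, 3, 2, 1, 4, 3, 2, 3, 4] [.out 3248],
  .sub [2, 3, 1, 2, 1, 4, 3, 2, 1, 4, 3, 2, 3, 4] [.sub [19, 18, 25, 20, 19, 18, 31, 27, 30, 31, 30, 29, 29] [.sub [18, 19, 31, 20, 18, 20, 30, 20, 31, 25, 29] [.out 1596]]],
  .sub [2, 4, 3, 1, 2, 4, 3, 2, 1, 4, 3, 2, 3, 4] [.sub [19, 20, 29, 18, 25, 31, 31, 27, 29] [.out 3583]],
  .sub [3, 2, 3, 1, 2, 4, 3, 2, 1, 4, 3, 2, 3, 4] [.out 3790],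
  .sub [2, 4, 3, 4, 1, 2, 3, 2, 1, 4, 3, 2, 3, 4] [.out 3565],
  .sub [4, 3, 1, 4, 1, 2, 3, 2, 1, 4, 3, 2, 3, 4] [.sub [24, 24, 18, 19, 24, 29, 20, 31, 30, 25, 29, 29] [.out 1752]],
  .sub [1, 4, 3, 2, 3, 4, 1, 3, 4, 1, 3, 2, 3, 4] [.out 3703],
  .sub [4, 1, 2, 3, 1, 2, 1, 3, 4, 1, 3, 2, 3, 4] [.sub [20, 19, 18, 18, 19, 24, 27, 31, 20, 29] [.out 3494]],
  .sub [1, 3, 4, 1, 4, 3, 2, 3, 4, 1, 3, 2, 3, 4] [.sub [20, 27, 31, 18, 31, 20, 29, 24, 25, 29, 29] [.out 3301]],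
  .sub [2, 4, 3, 4, 1, 3, 2, 3, 4, 1, 3, 2, 3, 4] [.sub [27, 18, 25, 31, 19, 18, 30, 29, 24, 31, 27] [.sub [20, 19, 19, 24, 18, 18, 24, 31, 31, 31, 24, 29, 25, 29] [.out 1479]]],
  .sub [2, 1, 3, 4, 1, 3, 2, 3, 4, 1, 3, 2, 3, 4] [.sub [20, 18, 18, 29, 31, 29, 30, 24, 27, 29, 29] [.sub [19, 20, 19, 27, 31, 20, 20, 31, 27, 30, 29] [.out 2443]]],
  .sub [3, 2, 1, 3, 1, 3, 2, 3, 4, 1, 3, 2, 3, 4] [.sub [27, 19, 19, 25, 18, 18, 27, 20, 31, 30, 20, 30, 29, 29] [.out 604]],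
  .sub [1, 3, 1, 2, 3, 1, 2, 3, 4, 1, 3, 2, 3, 4] [.sub [20, 18, 18, 19, 19, 24, 20, 24, 27, 24, 27, 30] [.out 3117]],
  .sub [2, 3, 1, 2, 3, 1, 2, 3, 4, 1, 3, 2, 3, 4] [.sub [24, 20, 24, 18, 24, 31, 27, 24, 20, 29] [.out 2661]],
  .sub [1, 3, 1, 3, 2, 4, 3, 2, 4, 1, 3, 2, 3, 4] [.out 1974],
  .sub [1, 4, 3, 1, 2, 4, 3, 2, 4, 1, 3, 2, 3, 4] [.sub [31, 24, 29, 31, 18, 31, 31, 31, 25, 31, 29] [.out 3885]],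
  .sub [2, 4, 3, 1, 2, 4, 3, 2, 4, 1, 3, 2, 3, 4] [.sub [19, 19, 18, 19, 27, 25, 20, 27, 29, 29] [.sub [29, 24, 27, 18, 19, 31, 20, 29, 24, 25] [.out 3661]]],
  .sub [4, 1, 3, 1, 2, 4, 3, 2, 4, 1, 3, 2, 3, 4] [.sub [18, 31, 31, 19, 20, 30, 25, 27, 24, 27, 29, 29] [.sub [25, 20, 18, 24, 18, 27, 29, 25, 24, 27] [.out 2132]]],
  .sub [2, 1, 3, 1, 2, 4, 3, 2, 4, 1, 3, 2, 3, 4] [.sub [24, 20, 19, 19, 30, 24, 31, 20, 20, 30, 25, 29] [.sub [24, 31, 19, 18, 19, 30, 29, 24, 29] [.out 4047]]],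
  .sub [3, 2, 3, 1, 2, 4, 3, 2, 4, 1, 3, 2, 3, 4] [.sub [25, 19, 29, 18, 31, 27, 29, 20, 24, 29, 25, 29, 29] [.sub [19, 30, 31, 25, 18, 31, 25, 24, 29, 29] [.done 9]]],
  .sub [2, 1, 3, 1, 4, 1, 3, 2, 4, 1, 3, 2, 3, 4] [.sub [19, 19, 27, 18, 19, 24, 31, 25, 20, 30, 27, 29] [.out 2272]],
  .sub [1, 2, 3, 1, 4, 1, 3, 2, 4, 1, 3, 2, 3, 4] [.sub [18, 20, 29, 20, 18, 30, 27, 24, 31, 30, 27, 29] [.out 1145]],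
  .sub [1, 2, 3, 2, 4, 1, 3, 2, 4, 1, 3, 2, 3, 4] [.sub [19, 24, 24, 19, 18, 24, 25, 31, 20, 20, 30] [.out 168]],
  .sub [2, 4, 3, 2, 3, 1, 3, 2, 4, 1, 3, 2, 3, 4] [.sub [24, 20, 24, 18, 24, 31, 27, 24, 20, 29] [.out 4024]],
  .sub [2, 1, 3, 2, 3, 1, 3, 2, 4, 1, 3, 2, 3, 4] [.out 2336],
  .sub [1, 2, 3, 2, 3, 1, 3, 2, 4, 1, 3, 2, 3, 4] [.sub [30, 24, 27, 19, 29, 31, 31, 27, 29] [.sub [20, 20, 19, 24, 19, 31, 31, 20, 31, 27, 30] [.out 2966]]],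
  .sub [4, 3, 4, 1, 2, 1, 3, 2, 4, 1, 3, 2, 3, 4] [.out 3041],
  .sub [2, 3, 4, 1, 2, 1, 3, 2, 4, 1, 3, 2, 3, 4] [.sub [27, 20, 18, 30, 19, 18, 30, 20, 29, 20, 31, 27, 30] [.sub [25, 31, 30, 19, 19, 18, 25, 27, 25, 20, 30, 27, 29, 29] [.out 1858]]],
  .sub [2, 4, 3, 1, 2, 1, 3, 2, 4, 1, 3, 2, 3, 4] [.sub [24, 18, 19, 25, 18, 31, 20, 20, 20, 29, 25, 29] [.out 3638]],
  .sub [3, 1, 3, 4, 1, 2, 3, 2, 4, 1, 3, 2, 3, 4] [.sub [30, 24, 29, 18, 18, 31, 27, 25, 20, 20, 29, 29] [.sub [20, 30, 20, 18, 18, 27, 25, 20, 27, 30, 29] [.out 2916]]],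
  .sub [2, 1, 3, 4, 1, 2, 3, 2, 4, 1, 3, 2, 3, 4] [.out 2728],
  .sub [1, 2, 3, 4, 1, 2, 3, 2, 4, 1, 3, 2, 3, 4] [.sub [29, 25, 19, 18, 18, 18, 20, 29, 24, 27] [.sub [20, 27, 24, 19, 18, 31, 25, 20, 31, 30, 29] [.out 1015]]],
  .sub [4, 3, 1, 4, 1, 2, 3, 2, 4, 1, 3, 2, 3, 4] [.sub [29, 20, 18, 24, 24, 20, 20, 30, 25, 29] [.out 3132]],
  .sub [2, 1, 3, 2, 4, 3, 2, 4, 3, 1, 3, 2, 3, 4] [.sub [31, 31, 25, 18, 29, 31, 20, 20, 30, 27, 29, 29] [.out 3391]],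
  .sub [2, 4, 3, 4, 1, 3, 2, 4, 3, 1, 3, 2, 3, 4] [.out 2359],
  .sub [2, 1, 3, 4, 1, 3, 2, 4, 3, 1, 3, 2, 3, 4] [.out 3129],
  .sub [1, 2, 3, 4, 1, 3, 2, 4, 3, 1, 3, 2, 3, 4] [.out 3268],
  .sub [2, 3, 2, 3, 1, 3, 2, 4, 3, 1, 3, 2, 3, 4] [.sub [31, 20, 19, 18, 18, 25, 20, 31, 25, 20, 30, 27, 29, 29] [.sub [30, 20, 19, 24, 18, 20, 29, 20, 20, 20, 25] [.out 1199]]],
  .sub [2, 4, 3, 2, 1, 3, 2, 4, 3, 1, 3, 2, 3, 4] [.out 3786],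
  .sub [1, 3, 2, 1, 3, 1, 2, 4, 3, 1, 3, 2, 3, 4] [.out 2086],
  .sub [3, 2, 1, 4, 3, 2, 4, 1, 3, 1, 3, 2, 3, 4] [.out 1934],
  .sub [1, 3, 2, 4, 3, 2, 4, 1, 3, 1, 3, 2, 3, 4] [.out 1822],
  .sub [2, 1, 4, 1, 3, 2, 4, 1, 3, 1, 3, 2, 3, 4] [.sub [19, 20, 24, 18, 24, 20, 30, 31, 20, 27, 29] [.out 895]],
  .sub [3, 2, 3, 4, 1, 2, 4, 1, 3, 1, 3, 2, 3, 4] [.out 1880],
  .sub [1, 4, 1, 3, 1, 2, 4, 1, 3, 1, 3, 2, 3, 4] [.sub [18, 19, 29, 18, 19, 18, 27, 20, 31, 31, 27, 29] [.sub [20, 27, 18, 31, 19, 27, 29, 30, 24, 29, 25] [.out 2998]]],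
  .sub [4, 3, 2, 1, 4, 3, 2, 1, 3, 1, 3, 2, 3, 4] [.out 1997],
  .sub [3, 1, 2, 1, 4, 3, 2, 1, 3, 1, 3, 2, 3, 4] [.sub [29, 24, 25, 18, 31, 29, 31, 24, 29, 25, 29, 29] [.out 1353]],
  .sub [2, 4, 3, 4, 1, 3, 2, 1, 3, 1, 3, 2, 3, 4] [.out 3916]]

/-- Branches. -/
def kidsXPart56 : List Branch := [
  .sub [3, 2, 3, 4, 1, 3, 2, 1, 3, 1, 3, 2, 3, 4] [.sub [29, 18, 18, 18, 18, 31, 20, 31, 20, 30, 25] [.out 3374]],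
  .sub [4, 3, 2, 4, 1, 3, 2, 1, 3, 1, 3, 2, 3, 4] [.sub [19, 25, 27, 18, 27, 20, 20, 20, 30, 25, 29, 29] [.sub [25, 31, 30, 19, 19, 18, 25, 27, 25, 20, 30, 27, 29, 29] [.out 739]]],
  .sub [2, 3, 2, 4, 1, 3, 2, 1, 3, 1, 3, 2, 3, 4] [.out 3438],
  .sub [3, 1, 2, 4, 1, 3, 2, 1, 3, 1, 3, 2, 3, 4] [.sub [27, 31, 27, 25, 18, 24, 27, 31, 20, 20, 30, 25, 29] [.out 686]],
  .sub [3, 1, 3, 2, 1, 3, 2, 1, 3, 1, 3, 2, 3, 4] [.out 3099],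
  .sub [2, 1, 3, 2, 1, 3, 2, 1, 3, 1, 3, 2, 3, 4] [.out 3891],
  .sub [3, 4, 1, 2, 1, 3, 2, 1, 3, 1, 3, 2, 3, 4] [.sub [29, 31, 19, 31, 18, 27, 27, 31, 30, 20, 25, 29, 29] [.sub [31, 20, 19, 29, 18, 24, 27, 30, 31, 20, 30, 27, 29] [.out 601]]],
  .sub [4, 3, 1, 2, 1, 3, 2, 1, 3, 1, 3, 2, 3, 4] [.out 3758],
  .sub [1, 3, 1, 2, 1, 3, 2, 1, 3, 1, 3, 2, 3, 4] [.sub [30, 19, 20, 20, 18, 24, 29, 20, 20, 30, 29] [.sub [29, 25, 18, 29, 20, 20, 31, 30, 29, 29] [.bad [19, 27, 19, 20, 18, 30, 27, 24, 27, 24, 27, 29, 29] 1]]],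
  .sub [2, 3, 1, 2, 1, 3, 2, 1, 3, 1, 3, 2, 3, 4] [.sub [24, 20, 19, 19, 30, 24, 31, 20, 20, 30, 25, 29] [.out 340]],
  .sub [3, 2, 3, 1, 2, 3, 2, 1, 3, 1, 3, 2, 3, 4] [.out 3745],
  .sub [2, 1, 4, 1, 3, 1, 2, 1, 3, 1, 3, 2, 3, 4] [.out 895],
  .sub [1, 2, 4, 1, 3, 1, 2, 1, 3, 1, 3, 2, 3, 4] [.sub [29, 19, 20, 18, 18, 24, 24, 27, 25, 20, 29, 25, 29] [.out 115]],
  .sub [2, 3, 2, 4, 1, 4, 3, 2, 3, 1, 3, 2, 3, 4] [.out 2336],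
  .sub [1, 4, 1, 3, 1, 4, 3, 2, 3, 1, 3, 2, 3, 4] [.sub [30, 18, 20, 19, 18, 31, 27, 25, 20, 20] [.sub [20, 27, 18, 31, 19, 24, 27, 30, 31, 27, 30, 29, 29] [.done 15]]],
  .sub [2, 4, 1, 3, 1, 4, 3, 2, 3, 1, 3, 2, 3, 4] [.out 4008],
  .sub [3, 2, 1, 3, 1, 4, 3, 2, 3, 1, 3, 2, 3, 4] [.sub [19, 31, 31, 19, 30, 20, 20, 24, 27, 30, 29] [.out 3354]],
  .sub [4, 3, 1, 2, 1, 4, 3, 2, 3, 1, 3, 2, 3, 4] [.out 3143],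
  .sub [4, 1, 3, 1, 2, 4, 3, 2, 3, 1, 3, 2, 3, 4] [.out 1253],
  .sub [2, 1, 3, 1, 2, 4, 3, 2, 3, 1, 3, 2, 3, 4] [.out 3623],
  .sub [1, 2, 4, 3, 4, 1, 3, 2, 3, 1, 3, 2, 3, 4] [.out 404],
  .sub [2, 4, 1, 3, 4, 1, 3, 2, 3, 1, 3, 2, 3, 4] [.sub [24, 18, 18, 31, 25, 31, 27, 29, 29] [.sub [24, 19, 27, 31, 19, 20, 20, 24, 20, 20, 27, 30, 29] [.out 2004]]],
  .sub [2, 3, 2, 3, 4, 1, 3, 2, 3, 1, 3, 2, 3, 4] [.out 3340],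
  .sub [4, 1, 2, 3, 4, 1, 3, 2, 3, 1, 3, 2, 3, 4] [.out 2305],
  .sub [3, 1, 2, 3, 4, 1, 3, 2, 3, 1, 3, 2, 3, 4] [.sub [29, 19, 29, 31, 18, 31, 25, 20, 31, 24, 29] [.out 3267]],
  .sub [1, 2, 3, 1, 4, 1, 3, 2, 3, 1, 3, 2, 3, 4] [.sub [18, 24, 19, 18, 18, 31, 31, 25, 20] [.sub [18, 30, 18, 18, 18, 24, 30, 24, 20, 25] [.out 1278]]],
  .sub [2, 4, 1, 3, 2, 1, 3, 2, 3, 1, 3, 2, 3, 4] [.sub [24, 20, 27, 19, 27, 24, 31, 20, 25] [.out 877]],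
  .sub [3, 2, 1, 3, 2, 1, 3, 2, 3, 1, 3, 2, 3, 4] [.out 3809],
  .sub [1, 3, 4, 1, 2, 1, 3, 2, 3, 1, 3, 2, 3, 4] [.sub [25, 31, 18, 19, 29, 31, 31, 30, 27, 29] [.out 1536]],
  .sub [1, 4, 3, 1, 2, 1, 3, 2, 3, 1, 3, 2, 3, 4] [.out 3877],
  .sub [2, 4, 3, 1, 2, 1, 3, 2, 3, 1, 3, 2, 3, 4] [.sub [29, 18, 18, 18, 30, 20, 30, 27, 29] [.out 2675]],
  .sub [1, 2, 3, 1, 2, 1, 3, 2, 3, 1, 3, 2, 3, 4] [.out 2994],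
  .sub [4, 1, 3, 4, 1, 2, 3, 2, 3, 1, 3, 2, 3, 4] [.sub [18, 20, 24, 19, 18, 30, 31, 20, 20, 20, 27, 30, 29] [.out 781]],
  .sub [3, 1, 3, 4, 1, 2, 3, 2, 3, 1, 3, 2, 3, 4] [.sub [29, 31, 19, 19, 20, 30, 25, 31, 30, 27, 29, 29] [.out 2515]],
  .sub [2, 1, 3, 4, 1, 2, 3, 2, 3, 1, 3, 2, 3, 4] [.out 2284],
  .sub [4, 3, 1, 4, 1, 2, 3, 2, 3, 1, 3, 2, 3, 4] [.sub [20, 30, 29, 18, 19, 18, 31, 31, 24, 20, 30, 25] [.out 660]],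
  .sub [1, 3, 1, 4, 1, 2, 3, 2, 3, 1, 3, 2, 3, 4] [.out 3868],
  .sub [2, 3, 1, 4, 1, 2, 3, 2, 3, 1, 3, 2, 3, 4] [.sub [19, 18, 24, 24, 18, 27, 24, 27, 24, 30] [.sub [18, 27, 31, 18, 29, 24, 30, 25, 20, 27, 29, 29] [.out 3472]]],
  .sub [1, 4, 3, 2, 4, 1, 4, 3, 2, 1, 3, 2, 3, 4] [.out 3730],
  .sub [4, 1, 3, 2, 4, 1, 4, 3, 2, 1, 3, 2, 3, 4] [.out 2991],
  .sub [3, 4, 1, 2, 4, 1, 4, 3, 2, 1, 3, 2, 3, 4] [.sub [18, 29, 31, 25, 18, 24, 24, 20, 20, 30, 25, 29] [.out 3100]],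
  .sub [4, 3, 1, 2, 4, 1, 4, 3, 2, 1, 3, 2, 3, 4] [.out 2900],
  .sub [2, 3, 4, 1, 3, 1, 4, 3, 2, 1, 3, 2, 3, 4] [.out 3322],
  .sub [3, 2, 4, 1, 3, 1, 4, 3, 2, 1, 3, 2, 3, 4] [.out 1630],
  .sub [4, 1, 4, 3, 2, 1, 4, 3, 2, 1, 3, 2, 3, 4] [.sub [24, 18, 31, 19, 18, 24, 20, 27, 24, 30, 27, 29] [.out 3598]],
  .sub [3, 1, 4, 3, 2, 1, 4, 3, 2, 1, 3, 2, 3, 4] [.out 2848],
  .sub [2, 1, 4, 3, 2, 1, 4, 3, 2, 1, 3, 2, 3, 4] [.out 2068],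
  .sub [1, 3, 4, 1, 2, 1, 4, 3, 2, 1, 3, 2, 3, 4] [.sub [27, 19, 24, 18, 18, 31, 31, 31, 25, 29] [.out 3857]],
  .sub [2, 1, 4, 1, 2, 1, 4, 3, 2, 1, 3, 2, 3, 4] [.sub [31, 18, 20, 18, 18, 31, 31, 24, 20, 27, 29, 29] [.out 3615]],
  .sub [2, 4, 3, 1, 2, 1, 4, 3, 2, 1, 3, 2, 3, 4] [.sub [31, 18, 25, 20, 18, 20, 27, 31, 30, 27] [.out 1846]],
  .sub [3, 2, 3, 1, 2, 1, 4, 3, 2, 1, 3, 2, 3, 4] [.sub [25, 18, 31, 18, 18, 27, 29, 30, 31, 27, 29] [.out 2026]],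
  .sub [3, 2, 3, 1, 3, 2, 4, 3, 2, 1, 3, 2, 3, 4] [.sub [20, 18, 31, 18, 19, 31, 20, 25, 20, 30, 29, 29] [.out 3700]],
  .sub [4, 3, 2, 1, 3, 2, 4, 3, 2, 1, 3, 2, 3, 4] [.sub [20, 18, 20, 20, 18, 20, 30, 29, 24, 30, 29] [.out 1025]],
  .sub [1, 3, 2, 1, 3, 2, 4, 3, 2, 1, 3, 2, 3, 4] [.out 2967],
  .sub [2, 3, 2, 1, 3, 2, 4, 3, 2, 1, 3, 2, 3, 4] [.sub [19, 30, 18, 19, 29, 30, 24, 20, 29, 29] [.out 2695]],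
  .sub [4, 3, 1, 2, 3, 2, 4, 3, 2, 1, 3, 2, 3, 4] [.out 2057],
  .sub [3, 2, 4, 3, 1, 2, 4, 3, 2, 1, 3, 2, 3, 4] [.out 3837],
  .sub [4, 3, 2, 3, 1, 2, 4, 3, 2, 1, 3, 2, 3, 4] [.sub [31, 27, 27, 19, 18, 30, 31, 24, 25, 20] [.sub [18, 31, 31, 18, 18, 31, 29, 31, 25] [.out 581]]],
  .sub [1, 3, 2, 3, 1, 2, 4, 3, 2, 1, 3, 2, 3, 4] [.sub [18, 31, 24, 18, 31, 20, 20, 20, 29] [.out 2371]],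
  .sub [3, 1, 2, 3, 1, 2, 4, 3, 2, 1, 3, 2, 3, 4] [.sub [19, 20, 24, 19, 18, 30, 24, 24, 20, 20, 30] [.out 1473]],
  .sub [1, 2, 1, 3, 1, 4, 1, 3, 2, 1, 3, 2, 3, 4] [.out 3316],
  .sub [1, 3, 1, 2, 1, 4, 1, 3, 2, 1, 3, 2, 3, 4] [.out 2362],
  .sub [2, 3, 1, 2, 1, 4, 1, 3, 2, 1, 3, 2, 3, 4] [.sub [18, 29, 31, 25, 18, 24, 24, 20, 20, 30, 25, 29] [.sub [18, 19, 19, 29, 25, 20, 24] [.out 2239]]],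
  .sub [3, 1, 4, 3, 2, 4, 1, 3, 2, 1, 3, 2, 3, 4] [.sub [30, 31, 24, 18, 27, 30, 20, 27, 29, 29] [.out 3461]]]

/-- Branches. -/
def kidsXPart57 : List Branch := [
  .sub [3, 2, 3, 1, 2, 4, 1, 3, 2, 1, 3, 2, 3, 4] [.sub [24, 31, 20, 25, 18, 24, 24, 27, 31, 30, 25] [.out 3549]],
  .sub [1, 2, 3, 1, 2, 4, 1, 3, 2, 1, 3, 2, 3, 4] [.out 3810],
  .sub [1, 4, 3, 4, 1, 2, 1, 3, 2, 1, 3, 2, 3, 4] [.sub [20, 30, 20, 24, 18, 29, 30, 20, 24, 30, 25, 29, 29] [.out 2346]],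
  .sub [2, 4, 3, 4, 1, 2, 1, 3, 2, 1, 3, 2, 3, 4] [.sub [18, 27, 20, 18, 20, 27, 20, 31, 29, 25, 29, 29] [.out 4028]],
  .sub [3, 2, 3, 4, 1, 2, 1, 3, 2, 1, 3, 2, 3, 4] [.out 3328],
  .sub [1, 2, 3, 4, 1, 2, 1, 3, 2, 1, 3, 2, 3, 4] [.sub [27, 24, 20, 18, 18, 31, 30, 27, 31, 30, 29] [.out 2800]],
  .sub [1, 2, 4, 3, 1, 2, 1, 3, 2, 1, 3, 2, 3, 4] [.sub [24, 31, 19, 19, 24, 20, 24, 20, 27, 29, 29] [.sub [18, 18, 30, 18, 18, 30, 24, 20, 20, 29, 25, 29] [.out 485]]],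
  .sub [1, 4, 1, 3, 1, 2, 1, 3, 2, 1, 3, 2, 3, 4] [.out 2244],
  .sub [2, 4, 1, 3, 1, 2, 1, 3, 2, 1, 3, 2, 3, 4] [.sub [18, 19, 29, 18, 24, 29, 20, 31, 30, 27, 29, 29] [.out 1935]],
  .sub [1, 2, 1, 3, 1, 2, 1, 3, 2, 1, 3, 2, 3, 4] [.out 3578],
  .sub [1, 3, 2, 3, 1, 2, 1, 3, 2, 1, 3, 2, 3, 4] [.sub [25, 20, 31, 19, 25, 31, 20, 30, 25, 29] [.out 1716]],
  .sub [4, 1, 2, 3, 1, 2, 1, 3, 2, 1, 3, 2, 3, 4] [.sub [19, 24, 19, 24, 19, 27, 24, 31, 20, 27, 29, 29] [.out 1602]],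
  .sub [3, 1, 2, 3, 1, 2, 1, 3, 2, 1, 3, 2, 3, 4] [.out 2549],
  .sub [3, 2, 4, 3, 4, 1, 2, 3, 2, 1, 3, 2, 3, 4] [.sub [19, 29, 31, 29, 19, 18, 25, 31, 20, 24, 20, 27] [.out 1254]],
  .sub [1, 4, 1, 3, 4, 1, 2, 3, 2, 1, 3, 2, 3, 4] [.sub [27, 27, 25, 18, 18, 29, 24, 29, 24, 30, 27] [.out 1104]],
  .sub [2, 4, 1, 3, 4, 1, 2, 3, 2, 1, 3, 2, 3, 4] [.out 3822],
  .sub [1, 2, 1, 3, 4, 1, 2, 3, 2, 1, 3, 2, 3, 4] [.out 1088],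
  .sub [4, 3, 2, 3, 4, 1, 2, 3, 2, 1, 3, 2, 3, 4] [.out 3537],
  .sub [4, 1, 2, 4, 3, 1, 2, 3, 2, 1, 3, 2, 3, 4] [.sub [18, 19, 25, 19, 18, 30, 31, 24, 20, 30, 25, 29] [.sub [20, 31, 31, 18, 19, 18, 27, 27, 31, 30, 20, 30, 27, 29, 29] [.out 317]]],
  .sub [1, 2, 4, 1, 3, 1, 2, 3, 2, 1, 3, 2, 3, 4] [.out 3582],
  .sub [4, 1, 2, 1, 3, 1, 2, 3, 2, 1, 3, 2, 3, 4] [.sub [18, 31, 19, 19, 19, 27, 24, 27, 24, 29, 25] [.sub [24, 30, 31, 29, 18, 20, 30, 25, 20, 25] [.out 1509]]],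
  .sub [4, 1, 3, 2, 3, 1, 2, 3, 2, 1, 3, 2, 3, 4] [.out 2538],
  .sub [3, 1, 3, 2, 3, 1, 2, 3, 2, 1, 3, 2, 3, 4] [.sub [30, 29, 20, 18, 24, 27, 29, 24, 29, 25, 29, 29] [.sub [31, 20, 18, 18, 29, 24, 25, 24, 30, 25] [.out 2409]]],
  .sub [2, 1, 3, 2, 3, 1, 2, 3, 2, 1, 3, 2, 3, 4] [.out 3933],
  .sub [1, 4, 1, 2, 3, 1, 2, 3, 2, 1, 3, 2, 3, 4] [.sub [18, 18, 18, 19, 18, 31, 24, 20, 31, 29, 25, 29, 29] [.sub [29, 24, 25, 20, 18, 29, 31, 30, 20, 20, 25, 29] [.out 1675]]],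
  .sub [4, 3, 1, 2, 3, 1, 2, 3, 2, 1, 3, 2, 3, 4] [.sub [24, 25, 20, 18, 20, 31, 20, 20, 27, 30, 29] [.sub [27, 24, 20, 18, 19, 24, 20, 30, 29, 24, 27] [.out 1909]]],
  .sub [1, 2, 1, 3, 1, 4, 3, 2, 4, 3, 1, 2, 3, 4] [.sub [18, 27, 30, 31, 18, 24, 24, 27, 25, 20, 27, 30, 29] [.out 3347]],
  .sub [1, 4, 1, 3, 2, 4, 3, 2, 4, 3, 1, 2, 3, 4] [.sub [29, 24, 27, 19, 18, 30, 27, 24, 20, 20, 30, 29] [.sub [19, 30, 24, 25, 19, 18, 25, 24, 31, 31, 30, 27] [.out 2245]]],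
  .sub [2, 3, 1, 3, 2, 4, 3, 2, 4, 3, 1, 2, 3, 4] [.sub [18, 24, 29, 20, 18, 18, 30, 27, 24, 27, 24, 30, 25, 29, 29] [.sub [20, 31, 18, 19, 18, 24, 27, 24, 20, 20, 25, 29, 29] [.out 371]]],
  .sub [3, 2, 1, 3, 2, 4, 3, 2, 4, 3, 1, 2, 3, 4] [.sub [31, 27, 18, 18, 18, 18, 24, 20, 24, 20, 27, 30] [.out 4024]],
  .sub [2, 4, 3, 4, 1, 2, 3, 2, 4, 3, 1, 2, 3, 4] [.sub [25, 19, 24, 19, 30, 24, 31, 20, 20, 29] [.out 3228]],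
  .sub [4, 1, 3, 4, 1, 2, 3, 2, 4, 3, 1, 2, 3, 4] [.sub [25, 18, 27, 27, 18, 31, 29, 20, 24, 20, 27, 30] [.out 1561]],
  .sub [3, 1, 2, 3, 1, 2, 3, 2, 4, 3, 1, 2, 3, 4] [.out 3372],
  .sub [3, 1, 4, 3, 2, 1, 3, 4, 1, 3, 1, 2, 3, 4] [.sub [20, 25, 20, 19, 31, 25, 20, 31, 20, 27, 30, 29] [.out 3572]],
  .sub [4, 3, 1, 4, 3, 2, 3, 4, 1, 3, 1, 2, 3, 4] [.out 3381],
  .sub [4, 1, 2, 1, 3, 2, 3, 4, 1, 3, 1, 2, 3, 4] [.out 2464],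
  .sub [1, 4, 1, 2, 3, 2, 3, 4, 1, 3, 1, 2, 3, 4] [.out 3533],
  .sub [3, 1, 4, 3, 1, 2, 3, 4, 1, 3, 1, 2, 3, 4] [.sub [25, 27, 24, 18, 18, 20, 25, 24, 20, 20, 29, 25, 29, 29] [.out 2292]],
  .sub [4, 1, 2, 3, 2, 3, 1, 4, 1, 3, 1, 2, 3, 4] [.sub [31, 24, 24, 19, 20, 20, 20, 31, 20, 29, 25, 29, 29] [.out 3554]],
  .sub [1, 3, 1, 4, 3, 2, 1, 4, 1, 3, 1, 2, 3, 4] [.sub [18, 27, 30, 31, 18, 24, 24, 27, 25, 20, 27, 30, 29] [.sub [30, 18, 18, 24, 29, 30, 31, 30, 27, 29] [.out 76]]],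
  .sub [2, 3, 1, 4, 3, 2, 1, 4, 1, 3, 1, 2, 3, 4] [.out 3690],
  .sub [2, 4, 3, 1, 3, 2, 1, 4, 1, 3, 1, 2, 3, 4] [.sub [30, 19, 18, 24, 18, 30, 31, 31] [.sub [25, 31, 25, 19, 24, 31, 25, 20, 30, 29] [.out 429]]],
  .sub [1, 4, 3, 4, 1, 2, 1, 4, 1, 3, 1, 2, 3, 4] [.sub [18, 25, 20, 18, 31, 20, 31, 31, 30, 25, 29] [.out 781]],
  .sub [2, 4, 3, 4, 1, 2, 1, 4, 1, 3, 1, 2, 3, 4] [.out 1854],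
  .sub [4, 1, 3, 4, 1, 2, 1, 4, 1, 3, 1, 2, 3, 4] [.sub [24, 18, 24, 25, 18, 29, 20, 20, 24, 27, 30, 29, 29] [.out 1248]],
  .sub [3, 1, 3, 4, 1, 2, 1, 4, 1, 3, 1, 2, 3, 4] [.out 3729],
  .sub [4, 1, 4, 3, 1, 2, 1, 4, 1, 3, 1, 2, 3, 4] [.out 2274],
  .sub [3, 1, 4, 3, 1, 2, 1, 4, 1, 3, 1, 2, 3, 4] [.sub [24, 18, 27, 19, 18, 25, 24, 27, 24, 20, 29, 25, 29, 29] [.out 1441]],
  .sub [2, 1, 4, 3, 1, 2, 1, 4, 1, 3, 1, 2, 3, 4] [.out 2575],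
  .sub [3, 4, 1, 3, 1, 2, 1, 4, 1, 3, 1, 2, 3, 4] [.sub [30, 19, 18, 19, 18, 31, 27, 25, 20, 20, 25, 29] [.out 3278]],
  .sub [3, 1, 2, 3, 1, 2, 1, 4, 1, 3, 1, 2, 3, 4] [.sub [29, 24, 27, 19, 18, 24, 31, 31, 20, 29, 25] [.out 3822]],
  .sub [3, 1, 4, 1, 4, 3, 2, 4, 1, 3, 1, 2, 3, 4] [.sub [19, 18, 31, 24, 18, 29, 25, 31, 29] [.sub [19, 20, 20, 19, 30, 20, 24, 20, 27] [.out 3669]]],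
  .sub [3, 2, 3, 4, 1, 3, 2, 4, 1, 3, 1, 2, 3, 4] [.sub [31, 31, 27, 18, 20, 24, 30, 27, 29, 29] [.out 96]],
  .sub [4, 3, 2, 1, 3, 1, 2, 4, 1, 3, 1, 2, 3, 4] [.sub [31, 20, 27, 18, 20, 20, 30, 24, 20, 30, 29] [.out 1719]],
  .sub [2, 3, 4, 1, 2, 4, 3, 2, 1, 3, 1, 2, 3, 4] [.sub [20, 24, 30, 19, 18, 27, 31, 25, 31, 20, 25, 29, 29] [.out 2086]],
  .sub [3, 1, 2, 3, 4, 1, 3, 2, 1, 3, 1, 2, 3, 4] [.sub [24, 25, 20, 18, 20, 31, 20, 20, 27, 30, 29] [.out 2013]],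
  .sub [1, 3, 1, 2, 4, 1, 3, 2, 1, 3, 1, 2, 3, 4] [.sub [20, 25, 18, 19, 29, 25, 20, 20, 29, 25, 29] [.sub [31, 31, 18, 18, 20, 24, 20, 24, 30, 29, 29] [.out 1133]]],
  .sub [3, 1, 4, 1, 2, 1, 3, 2, 1, 3, 1, 2, 3, 4] [.sub [27, 19, 24, 19, 30, 27, 20, 31, 29] [.out 3710]],
  .sub [3, 2, 4, 3, 1, 4, 1, 2, 1, 3, 1, 2, 3, 4] [.out 1961],
  .sub [1, 4, 1, 2, 1, 3, 1, 2, 1, 3, 1, 2, 3, 4] [.out 3205],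
  .sub [2, 4, 3, 2, 3, 1, 4, 3, 2, 3, 1, 2, 3, 4] [.out 3985],
  .sub [3, 1, 3, 2, 3, 1, 4, 3, 2, 3, 1, 2, 3, 4] [.out 2708],
  .sub [2, 1, 3, 2, 3, 1, 4, 3, 2, 3, 1, 2, 3, 4] [.out 1953],
  .sub [1, 4, 1, 2, 3, 1, 4, 3, 2, 3, 1, 2, 3, 4] [.sub [24, 25, 18, 31, 20, 31, 25, 20, 25, 29] [.out 1006]]]

/-- Branches. -/
def kidsXPart58 : List Branch := [
  .sub [1, 3, 1, 2, 3, 1, 4, 3, 2, 3, 1, 2, 3, 4] [.sub [18, 20, 29, 18, 18, 20, 30, 24, 31, 25, 29] [.out 2380]],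
  .sub [4, 1, 2, 3, 2, 1, 4, 3, 2, 3, 1, 2, 3, 4] [.sub [18, 31, 24, 18, 31, 20, 20, 20, 29] [.out 358]],
  .sub [4, 3, 2, 3, 1, 4, 1, 3, 2, 3, 1, 2, 3, 4] [.sub [27, 24, 31, 25, 18, 24, 20, 20, 30, 25, 29] [.out 1270]],
  .sub [2, 3, 2, 3, 1, 4, 1, 3, 2, 3, 1, 2, 3, 4] [.sub [27, 24, 18, 29, 18, 20, 20, 31, 24, 27, 30, 29] [.out 2261]],
  .sub [4, 1, 2, 3, 1, 4, 1, 3, 2, 3, 1, 2, 3, 4] [.out 3579],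
  .sub [1, 4, 3, 2, 1, 4, 1, 3, 2, 3, 1, 2, 3, 4] [.sub [30, 19, 29, 25, 18, 31, 25, 20, 31, 24, 29, 25] [.sub [18, 20, 20, 25, 19, 20, 20, 20, 27, 30] [.out 3672]]],
  .sub [2, 4, 3, 2, 1, 4, 1, 3, 2, 3, 1, 2, 3, 4] [.sub [27, 30, 18, 18, 18, 24, 31, 25, 24, 29, 25, 29, 29] [.sub [27, 19, 29, 18, 18, 27, 24, 29, 25, 29] [.out 1234]]],
  .sub [2, 4, 3, 1, 2, 4, 1, 3, 2, 3, 1, 2, 3, 4] [.sub [29, 20, 18, 31, 27, 29, 24, 30, 25] [.out 3200]],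
  .sub [1, 2, 3, 1, 2, 4, 1, 3, 2, 3, 1, 2, 3, 4] [.sub [25, 27, 19, 31, 18, 29, 25, 20, 24, 27, 30] [.out 3770]],
  .sub [1, 2, 4, 3, 2, 4, 3, 1, 2, 3, 1, 2, 3, 4] [.out 3810],
  .sub [1, 3, 1, 3, 2, 4, 3, 1, 2, 3, 1, 2, 3, 4] [.sub [31, 25, 27, 18, 19, 20, 31, 20, 20, 30, 25] [.out 532]],
  .sub [2, 3, 1, 3, 2, 4, 3, 1, 2, 3, 1, 2, 3, 4] [.sub [27, 30, 31, 19, 25, 31, 27, 20, 20, 25] [.out 1893]],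
  .sub [3, 1, 2, 3, 2, 4, 3, 1, 2, 3, 1, 2, 3, 4] [.out 3454],
  .sub [1, 4, 3, 1, 2, 4, 3, 1, 2, 3, 1, 2, 3, 4] [.out 886],
  .sub [2, 1, 3, 1, 2, 4, 3, 1, 2, 3, 1, 2, 3, 4] [.sub [31, 20, 27, 19, 25, 31, 25, 20, 29, 25, 29, 29] [.out 776]],
  .sub [1, 2, 3, 2, 4, 1, 3, 1, 2, 3, 1, 2, 3, 4] [.sub [30, 19, 29, 25, 18, 24, 30, 27, 27, 24, 30] [.sub [18, 30, 18, 18, 18, 29, 31, 30, 20, 29, 25, 29] [.done 4]]],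
  .sub [4, 3, 1, 2, 4, 1, 3, 1, 2, 3, 1, 2, 3, 4] [.sub [31, 20, 18, 25, 18, 18, 30, 25, 31, 25, 24, 27, 29] [.out 2700]],
  .sub [1, 3, 1, 2, 4, 1, 3, 1, 2, 3, 1, 2, 3, 4] [.out 886],
  .sub [2, 3, 1, 2, 4, 1, 3, 1, 2, 3, 1, 2, 3, 4] [.out 3011],
  .sub [3, 1, 2, 3, 2, 1, 3, 1, 2, 3, 1, 2, 3, 4] [.sub [24, 20, 31, 20, 19, 31, 20, 20, 31, 27] [.out 3093]],
  .sub [1, 3, 1, 4, 3, 2, 3, 1, 2, 3, 1, 2, 3, 4] [.sub [29, 19, 18, 20, 30, 31, 24, 20, 30, 27, 29] [.out 1168]],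
  .sub [3, 1, 2, 4, 3, 2, 4, 3, 1, 2, 1, 4, 1, 3, 4] [.out 3755],
  .sub [1, 3, 4, 1, 3, 2, 4, 3, 1, 2, 1, 4, 1, 3, 4] [.sub [19, 20, 19, 19, 25, 31, 20, 24, 20, 29, 25] [.sub [18, 27, 31, 18, 29, 24, 30, 25, 20, 27, 29, 29] [.out 150]]],
  .sub [1, 2, 4, 1, 3, 2, 4, 3, 1, 2, 1, 4, 1, 3, 4] [.sub [19, 24, 20, 20, 19, 31, 30, 31, 31, 29, 29] [.out 3965]],
  .sub [4, 1, 2, 1, 3, 2, 4, 3, 1, 2, 1, 4, 1, 3, 4] [.sub [18, 31, 29, 18, 24, 27, 30, 31, 20, 30, 25] [.sub [18, 20, 24, 19, 18, 27, 25, 20, 24, 30, 27] [.out 541]]],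
  .sub [2, 3, 1, 4, 1, 2, 4, 3, 1, 2, 1, 4, 1, 3, 4] [.out 2267],
  .sub [3, 1, 4, 3, 1, 2, 4, 3, 1, 2, 1, 4, 1, 3, 4] [.sub [30, 31, 18, 19, 30, 27, 20, 20, 27, 29] [.out 2452]],
  .sub [2, 1, 4, 3, 1, 2, 4, 3, 1, 2, 1, 4, 1, 3, 4] [.sub [30, 19, 30, 18, 18, 29, 30, 24, 30, 25, 29, 29] [.out 2678]],
  .sub [4, 1, 2, 3, 1, 2, 4, 3, 1, 2, 1, 4, 1, 3, 4] [.sub [30, 20, 18, 20, 30, 29, 24, 25, 29, 29] [.sub [20, 27, 18, 31, 19, 31, 25, 27, 31, 27, 30, 29] [.out 25]]],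
  .sub [3, 1, 4, 3, 2, 4, 1, 3, 1, 2, 1, 4, 1, 3, 4] [.out 3215],
  .sub [1, 3, 2, 1, 3, 2, 1, 3, 1, 2, 1, 4, 1, 3, 4] [.out 3066],
  .sub [1, 4, 3, 4, 1, 2, 1, 3, 1, 2, 1, 4, 1, 3, 4] [.sub [30, 31, 24, 19, 24, 30, 31, 24, 20, 25, 29] [.out 2497]],
  .sub [4, 3, 2, 3, 1, 2, 1, 3, 1, 2, 1, 4, 1, 3, 4] [.sub [31, 18, 27, 20, 18, 18, 24, 27, 31, 20, 25] [.out 3200]],
  .sub [4, 1, 2, 3, 1, 2, 1, 3, 1, 2, 1, 4, 1, 3, 4] [.out 2995],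
  .sub [1, 4, 3, 1, 4, 3, 2, 3, 1, 2, 1, 4, 1, 3, 4] [.sub [24, 20, 19, 19, 30, 24, 31, 20, 20, 30, 25, 29] [.out 2515]],
  .sub [4, 1, 3, 1, 4, 3, 2, 3, 1, 2, 1, 4, 1, 3, 4] [.out 3077],
  .sub [2, 1, 3, 1, 4, 3, 2, 3, 1, 2, 1, 4, 1, 3, 4] [.out 2299],
  .sub [3, 2, 3, 1, 4, 3, 2, 3, 1, 2, 1, 4, 1, 3, 4] [.sub [24, 19, 24, 31, 18, 24, 27, 24, 29, 25, 29, 29] [.sub [20, 31, 20, 19, 30, 25, 24, 31, 27, 30, 29, 29] [.out 2858]]],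
  .sub [4, 1, 3, 4, 1, 3, 2, 3, 1, 2, 1, 4, 1, 3, 4] [.out 3481],
  .sub [1, 3, 2, 4, 1, 3, 2, 3, 1, 2, 1, 4, 1, 3, 4] [.out 1219],
  .sub [1, 4, 3, 1, 4, 1, 2, 3, 1, 2, 1, 4, 1, 3, 4] [.out 2849],
  .sub [4, 1, 2, 4, 3, 2, 4, 1, 4, 3, 2, 4, 1, 3, 4] [.out 3936],
  .sub [3, 2, 1, 3, 1, 2, 3, 1, 4, 3, 2, 4, 1, 3, 4] [.sub [24, 29, 19, 18, 24, 29, 31, 29, 25, 29, 29] [.out 1136]],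
  .sub [1, 3, 2, 3, 1, 3, 2, 1, 4, 3, 2, 4, 1, 3, 4] [.out 3832],
  .sub [1, 4, 3, 2, 3, 1, 2, 1, 4, 3, 2, 4, 1, 3, 4] [.out 2829],
  .sub [2, 3, 2, 4, 3, 1, 3, 2, 4, 3, 2, 4, 1, 3, 4] [.sub [27, 20, 24, 19, 18, 30, 25, 31, 31, 30, 25, 29] [.out 1436]],
  .sub [3, 1, 2, 4, 3, 1, 3, 2, 4, 3, 2, 4, 1, 3, 4] [.sub [19, 19, 25, 18, 18, 25, 31, 25, 20, 20, 29] [.out 3290]],
  .sub [1, 4, 3, 2, 4, 3, 1, 2, 4, 3, 2, 4, 1, 3, 4] [.sub [20, 31, 20, 19, 20, 31, 20, 25, 20, 30, 27] [.out 1654]],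
  .sub [2, 4, 3, 2, 4, 3, 1, 2, 4, 3, 2, 4, 1, 3, 4] [.sub [31, 18, 27, 19, 20, 27, 24, 20, 20, 29, 25] [.out 2684]],
  .sub [4, 1, 2, 4, 1, 3, 1, 2, 4, 3, 2, 4, 1, 3, 4] [.out 3002],
  .sub [3, 1, 2, 4, 1, 3, 1, 2, 4, 3, 2, 4, 1, 3, 4] [.out 3121],
  .sub [3, 1, 4, 3, 2, 3, 1, 2, 4, 3, 2, 4, 1, 3, 4] [.out 3861],
  .sub [2, 1, 4, 3, 2, 3, 1, 2, 4, 3, 2, 4, 1, 3, 4] [.sub [18, 29, 18, 19, 24, 20, 24, 27, 24, 30, 27] [.out 2025]],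
  .sub [4, 3, 4, 1, 2, 3, 1, 2, 4, 3, 2, 4, 1, 3, 4] [.out 3019],
  .sub [1, 4, 3, 1, 2, 3, 1, 2, 4, 3, 2, 4, 1, 3, 4] [.sub [18, 31, 19, 29, 18, 20, 31, 27, 20, 20, 29, 25, 29] [.sub [25, 18, 18, 30, 31, 30, 31, 30] [.out 3461]]],
  .sub [4, 3, 1, 2, 4, 1, 3, 4, 1, 3, 2, 4, 1, 3, 4] [.sub [30, 19, 31, 18, 18, 27, 30, 27, 31, 20, 30, 25, 29, 29] [.out 2869]],
  .sub [4, 3, 4, 1, 2, 1, 3, 4, 1, 3, 2, 4, 1, 3, 4] [.sub [20, 31, 24, 18, 20, 31, 20, 24, 30, 25, 29, 29] [.out 1483]],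
  .sub [2, 4, 3, 1, 2, 1, 3, 4, 1, 3, 2, 4, 1, 3, 4] [.sub [19, 18, 19, 18, 18, 20, 29, 31, 30, 27, 29, 29] [.out 1330]],
  .sub [3, 2, 3, 1, 2, 1, 3, 4, 1, 3, 2, 4, 1, 3, 4] [.out 2996],
  .sub [1, 2, 3, 1, 2, 1, 3, 4, 1, 3, 2, 4, 1, 3, 4] [.out 3040],
  .sub [2, 3, 1, 4, 3, 2, 3, 4, 1, 3, 2, 4, 1, 3, 4] [.sub [31, 18, 25, 18, 31, 20, 31, 25, 20, 27, 30] [.out 2983]],
  .sub [1, 3, 4, 1, 3, 2, 3, 4, 1, 3, 2, 4, 1, 3, 4] [.sub [20, 29, 19, 18, 29, 20, 24, 20, 20, 30, 25] [.out 3485]],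
  .sub [3, 1, 4, 1, 3, 2, 3, 4, 1, 3, 2, 4, 1, 3, 4] [.sub [30, 18, 18, 18, 18, 24, 27, 29, 24, 30, 25, 29, 29] [.sub [25, 31, 24, 18, 20, 25, 24, 20, 20, 27, 29] [.out 2167]]],
  .sub [1, 4, 3, 1, 3, 2, 3, 4, 1, 3, 2, 4, 1, 3, 4] [.sub [24, 31, 18, 31, 30, 25] [.out 3591]]]

/-- Branches. -/
def kidsXPart59 : List Branch := [
  .sub [2, 4, 1, 3, 1, 2, 3, 4, 1, 3, 2, 4, 1, 3, 4] [.sub [24, 27, 19, 20, 19, 30, 20, 24, 27, 30] [.sub [29, 19, 18, 18, 18, 20, 20, 31, 20, 25] [.bad [30, 20, 24, 19, 20, 30, 20, 20, 24, 27, 30, 29, 29] 1]]],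
  .sub [1, 2, 1, 3, 1, 2, 3, 4, 1, 3, 2, 4, 1, 3, 4] [.sub [19, 18, 18, 25, 18, 25, 31, 31, 30, 25, 29] [.out 3754]],
  .sub [3, 4, 1, 3, 1, 2, 1, 4, 1, 3, 2, 4, 1, 3, 4] [.out 2723],
  .sub [4, 1, 3, 2, 4, 3, 2, 4, 1, 3, 2, 4, 1, 3, 4] [.sub [27, 24, 31, 25, 18, 29, 31, 25, 31, 29, 25, 29, 29] [.out 2157]],
  .sub [3, 1, 3, 2, 4, 3, 2, 4, 1, 3, 2, 4, 1, 3, 4] [.sub [19, 18, 24, 24, 18, 24, 30, 20, 31, 30, 27, 29] [.out 3428]],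
  .sub [1, 2, 3, 2, 4, 3, 2, 4, 1, 3, 2, 4, 1, 3, 4] [.out 2962],
  .sub [1, 2, 1, 4, 3, 1, 2, 4, 1, 3, 2, 4, 1, 3, 4] [.sub [20, 24, 18, 25, 18, 25, 27, 20, 31, 27, 30, 29, 29] [.out 817]],
  .sub [4, 1, 3, 1, 4, 3, 2, 3, 1, 3, 2, 4, 1, 3, 4] [.out 3990],
  .sub [2, 1, 3, 1, 4, 3, 2, 3, 1, 3, 2, 4, 1, 3, 4] [.sub [20, 19, 31, 24, 18, 25, 31, 30, 24, 30, 29, 29] [.out 3519]],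
  .sub [2, 1, 4, 3, 1, 3, 2, 3, 1, 3, 2, 4, 1, 3, 4] [.sub [24, 25, 20, 19, 30, 27, 20, 20, 27] [.out 342]],
  .sub [3, 4, 1, 3, 1, 3, 2, 3, 1, 3, 2, 4, 1, 3, 4] [.out 3989],
  .sub [3, 2, 1, 3, 1, 3, 2, 3, 1, 3, 2, 4, 1, 3, 4] [.sub [18, 20, 27, 19, 31, 29, 20, 24, 29] [.out 1360]],
  .sub [2, 3, 4, 1, 3, 1, 2, 3, 1, 3, 2, 4, 1, 3, 4] [.sub [20, 18, 18, 18, 18, 20, 20, 20, 20, 27, 29, 29] [.sub [19, 29, 31, 29, 19, 18, 29, 31, 20, 30, 27, 29, 29] [.out 1533]]],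
  .sub [1, 2, 3, 2, 1, 4, 3, 2, 1, 3, 2, 4, 1, 3, 4] [.sub [31, 19, 19, 20, 18, 20, 31, 20, 24, 30, 29, 29] [.out 2324]],
  .sub [3, 2, 1, 3, 2, 4, 3, 2, 1, 3, 2, 4, 1, 3, 4] [.sub [18, 19, 18, 30, 29, 24, 31, 30, 25] [.out 3289]],
  .sub [1, 2, 1, 3, 2, 4, 3, 2, 1, 3, 2, 4, 1, 3, 4] [.sub [25, 19, 24, 25, 18, 27, 25, 24, 31, 20, 27, 29] [.out 942]],
  .sub [4, 1, 2, 3, 2, 4, 3, 2, 1, 3, 2, 4, 1, 3, 4] [.sub [29, 19, 29, 20, 18, 24, 25, 31, 25, 20, 29, 25, 29, 29] [.out 861]],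
  .sub [3, 1, 2, 3, 2, 4, 3, 2, 1, 3, 2, 4, 1, 3, 4] [.out 3256],
  .sub [1, 2, 3, 1, 2, 4, 3, 2, 1, 3, 2, 4, 1, 3, 4] [.out 3622],
  .sub [1, 3, 2, 3, 4, 1, 3, 2, 1, 3, 2, 4, 1, 3, 4] [.out 3712],
  .sub [3, 1, 2, 3, 4, 1, 3, 2, 1, 3, 2, 4, 1, 3, 4] [.out 1353],
  .sub [2, 3, 2, 1, 4, 3, 1, 2, 1, 3, 2, 4, 1, 3, 4] [.sub [30, 24, 19, 19, 18, 30, 25, 20, 20, 29, 25] [.out 3511]],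
  .sub [4, 1, 3, 2, 4, 3, 1, 2, 1, 3, 2, 4, 1, 3, 4] [.sub [25, 24, 24, 18, 30, 29, 31, 31] [.out 345]],
  .sub [3, 4, 1, 2, 4, 3, 1, 2, 1, 3, 2, 4, 1, 3, 4] [.sub [29, 18, 18, 18, 31, 24, 20, 31, 29] [.out 974]],
  .sub [1, 4, 1, 2, 4, 3, 1, 2, 1, 3, 2, 4, 1, 3, 4] [.sub [18, 27, 24, 31, 19, 18, 27, 20, 20, 20, 30, 25, 29] [.out 2964]],
  .sub [1, 4, 1, 3, 2, 3, 1, 2, 1, 3, 2, 4, 1, 3, 4] [.out 3701],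
  .sub [2, 4, 1, 3, 2, 3, 1, 2, 1, 3, 2, 4, 1, 3, 4] [.sub [18, 18, 20, 31, 18, 18, 30, 27, 24, 27] [.out 2569]],
  .sub [3, 1, 4, 1, 2, 3, 1, 2, 1, 3, 2, 4, 1, 3, 4] [.out 2834],
  .sub [2, 1, 4, 1, 2, 3, 1, 2, 1, 3, 2, 4, 1, 3, 4] [.sub [24, 19, 29, 18, 31, 27, 30, 20, 20, 27] [.sub [20, 19, 18, 20, 18, 27, 24, 30, 31, 25] [.out 2916]]],
  .sub [3, 2, 4, 3, 2, 4, 3, 1, 2, 3, 2, 4, 1, 3, 4] [.sub [18, 18, 20, 31, 18, 18, 30, 27, 24, 27] [.out 2697]],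
  .sub [3, 4, 1, 3, 2, 4, 3, 1, 2, 3, 2, 4, 1, 3, 4] [.out 3394],
  .sub [1, 4, 1, 3, 2, 4, 3, 1, 2, 3, 2, 4, 1, 3, 4] [.sub [19, 24, 24, 19, 25, 31, 25, 20, 27, 29, 29] [.out 3106]],
  .sub [2, 4, 1, 3, 2, 4, 3, 1, 2, 3, 2, 4, 1, 3, 4] [.sub [24, 24, 19, 20, 31, 31, 20, 27, 30, 29] [.sub [29, 19, 30, 18, 18, 31, 31, 29, 25, 29] [.out 1658]]],
  .sub [1, 4, 3, 1, 3, 2, 3, 1, 2, 3, 2, 4, 1, 3, 4] [.sub [18, 18, 31, 25, 18, 31, 31, 25, 20, 27, 29, 29] [.sub [18, 25, 18, 24, 18, 20, 20, 24, 20, 20, 29] [.out 2750]]],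
  .sub [3, 2, 1, 4, 1, 2, 3, 1, 2, 3, 2, 4, 1, 3, 4] [.out 3649],
  .sub [4, 3, 1, 4, 3, 2, 1, 4, 3, 1, 2, 4, 1, 3, 4] [.out 947],
  .sub [4, 1, 3, 1, 3, 2, 1, 4, 3, 1, 2, 4, 1, 3, 4] [.out 3119],
  .sub [1, 3, 2, 1, 4, 3, 2, 4, 3, 1, 2, 4, 1, 3, 4] [.out 3765],
  .sub [3, 1, 2, 1, 4, 3, 2, 4, 3, 1, 2, 4, 1, 3, 4] [.out 3455],
  .sub [3, 4, 1, 2, 1, 3, 2, 4, 3, 1, 2, 4, 1, 3, 4] [.sub [31, 18, 25, 31, 19, 18, 24, 29, 25, 31, 24, 25, 29, 29] [.sub [19, 29, 18, 30, 20, 31, 29, 24, 30, 27, 29, 29] [.out 1911]]],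
  .sub [1, 4, 1, 2, 1, 3, 2, 4, 3, 1, 2, 4, 1, 3, 4] [.out 3943],
  .sub [1, 2, 4, 3, 4, 1, 2, 4, 3, 1, 2, 4, 1, 3, 4] [.sub [24, 19, 18, 25, 31, 25, 20, 20] [.out 2066]],
  .sub [4, 3, 2, 3, 4, 1, 2, 4, 3, 1, 2, 4, 1, 3, 4] [.sub [20, 30, 19, 19, 18, 20, 31, 24, 30, 25, 29, 29] [.sub [19, 29, 24, 18, 24, 27, 24, 27, 30, 29, 29] [.out 2180]]],
  .sub [3, 1, 2, 4, 3, 1, 2, 4, 3, 1, 2, 4, 1, 3, 4] [.out 3803],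
  .sub [2, 4, 3, 2, 3, 1, 4, 1, 3, 1, 2, 4, 1, 3, 4] [.sub [18, 31, 19, 25, 18, 29, 30, 20, 30, 20, 27] [.sub [27, 31, 19, 19, 25, 24, 20, 29, 25] [.out 3316]]],
  .sub [2, 4, 1, 3, 2, 1, 4, 1, 3, 1, 2, 4, 1, 3, 4] [.sub [18, 29, 18, 18, 29, 25, 31, 24, 27, 29, 29] [.out 3047]],
  .sub [1, 2, 1, 3, 2, 1, 4, 1, 3, 1, 2, 4, 1, 3, 4] [.sub [18, 27, 20, 18, 29, 24, 20, 31, 27, 29] [.sub [25, 31, 24, 18, 24, 30, 31, 24, 27, 30] [.out 2546]]],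
  .sub [2, 1, 3, 1, 2, 1, 4, 1, 3, 1, 2, 4, 1, 3, 4] [.out 4022],
  .sub [2, 4, 1, 4, 3, 2, 4, 1, 3, 1, 2, 4, 1, 3, 4] [.sub [30, 31, 18, 19, 18, 24, 27, 31, 30, 25, 29] [.out 3703]],
  .sub [4, 3, 2, 1, 3, 2, 4, 1, 3, 1, 2, 4, 1, 3, 4] [.out 3066],
  .sub [2, 3, 1, 4, 1, 2, 4, 1, 3, 1, 2, 4, 1, 3, 4] [.sub [20, 19, 19, 27, 18, 27, 24, 29, 24, 27, 29, 29] [.out 3245]],
  .sub [4, 1, 4, 3, 1, 2, 4, 1, 3, 1, 2, 4, 1, 3, 4] [.sub [18, 25, 20, 20, 18, 25, 31, 24, 29, 25] [.out 2560]],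
  .sub [3, 2, 3, 1, 4, 3, 2, 1, 3, 1, 2, 4, 1, 3, 4] [.sub [27, 18, 18, 18, 29, 31, 27, 25, 31, 25, 29, 29] [.out 2098]],
  .sub [1, 2, 4, 3, 1, 3, 2, 1, 3, 1, 2, 4, 1, 3, 4] [.out 3417],
  .sub [1, 2, 3, 2, 1, 3, 2, 1, 3, 1, 2, 4, 1, 3, 4] [.out 4039],
  .sub [1, 4, 1, 4, 3, 1, 2, 1, 3, 1, 2, 4, 1, 3, 4] [.out 3621],
  .sub [4, 3, 1, 4, 3, 1, 2, 1, 3, 1, 2, 4, 1, 3, 4] [.sub [24, 24, 19, 20, 31, 31, 20, 27, 30, 29] [.out 2503]],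
  .sub [2, 3, 1, 4, 3, 1, 2, 1, 3, 1, 2, 4, 1, 3, 4] [.sub [18, 19, 19, 18, 30, 24, 27, 20, 24, 30, 25] [.sub [19, 19, 20, 20, 31, 30, 20, 29] [.done 11]]],
  .sub [1, 2, 4, 3, 1, 4, 1, 2, 3, 1, 2, 4, 1, 3, 4] [.sub [31, 25, 20, 19, 24, 25, 24, 31, 30, 25, 29, 29] [.out 1933]],
  .sub [1, 3, 2, 4, 1, 3, 2, 1, 4, 3, 2, 3, 1, 3, 4] [.out 3194],
  .sub [1, 2, 3, 1, 2, 1, 3, 2, 4, 3, 2, 3, 1, 3, 4] [.sub [29, 31, 19, 29, 18, 29, 31, 27, 24, 27, 29] [.sub [29, 30, 18, 19, 18, 24, 24, 27, 20, 24, 30, 29] [.out 1033]]],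
  .sub [4, 1, 3, 1, 2, 4, 3, 4, 1, 3, 2, 3, 1, 3, 4] [.out 2937],
  .sub [2, 1, 3, 1, 2, 4, 3, 4, 1, 3, 2, 3, 1, 3, 4] [.sub [20, 20, 25, 19, 18, 27, 29, 20, 20, 29, 25] [.sub [25, 19, 19, 24, 18, 27, 31, 31, 20, 30, 27, 29, 29] [.bad [24, 20, 24, 18, 29, 25, 24, 30, 27, 29, 29] 1]]],
  .sub [4, 3, 2, 3, 1, 2, 3, 4, 1, 3, 2, 3, 1, 3, 4] [.sub [29, 18, 19, 31, 18, 24, 30, 20, 24, 20, 20, 27, 30, 29, 29] [.out 96]]]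

/-- Branches. -/
def kidsXPart60 : List Branch := [
  .sub [3, 4, 1, 3, 1, 2, 1, 4, 1, 3, 2, 3, 1, 3, 4] [.out 3783],
  .sub [1, 3, 2, 4, 3, 2, 4, 3, 1, 3, 2, 3, 1, 3, 4] [.sub [29, 18, 18, 18, 24, 20, 29, 31, 20, 27, 30, 29, 29] [.sub [19, 31, 18, 20, 18, 18, 20, 20, 20, 31, 20, 29, 25, 29] [.done 12]]],
  .sub [1, 3, 4, 1, 3, 2, 4, 3, 1, 3, 2, 3, 1, 3, 4] [.out 3815],
  .sub [1, 2, 3, 1, 3, 2, 4, 3, 1, 3, 2, 3, 1, 3, 4] [.sub [19, 24, 20, 20, 19, 30, 24, 20, 27, 24, 30, 27] [.out 3385]],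
  .sub [4, 1, 2, 1, 3, 2, 4, 3, 1, 3, 2, 3, 1, 3, 4] [.out 2432],
  .sub [4, 3, 2, 3, 1, 2, 4, 3, 1, 3, 2, 3, 1, 3, 4] [.sub [18, 25, 27, 24, 18, 18, 27, 20, 31, 30, 20, 27, 30] [.sub [18, 27, 24, 31, 19, 18, 27, 24, 27, 31, 20, 30, 27, 29] [.out 3461]]],
  .sub [1, 4, 3, 1, 4, 3, 2, 3, 1, 3, 2, 3, 1, 3, 4] [.sub [18, 30, 29, 20, 18, 31, 25, 31, 20, 27, 29] [.out 3600]],
  .sub [1, 2, 4, 3, 1, 3, 2, 3, 1, 3, 2, 3, 1, 3, 4] [.sub [30, 24, 27, 18, 30, 31, 31, 20, 24, 27, 30, 29, 29] [.out 3820]],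
  .sub [4, 1, 2, 4, 1, 4, 3, 2, 1, 3, 2, 3, 1, 3, 4] [.sub [31, 20, 18, 18, 19, 27, 24, 30, 24, 20, 27] [.out 256]],
  .sub [1, 2, 3, 1, 4, 3, 1, 2, 1, 3, 2, 3, 1, 3, 4] [.sub [24, 19, 19, 24, 18, 25, 27, 25, 20, 30, 25] [.out 2677]],
  .sub [1, 2, 1, 3, 4, 1, 3, 1, 2, 3, 2, 3, 1, 3, 4] [.sub [24, 20, 20, 19, 30, 31, 27, 20, 20, 27, 30, 29] [.sub [24, 25, 18, 18, 24, 24, 27, 24, 30, 27, 29] [.out 25]]],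
  .sub [4, 3, 2, 3, 4, 1, 3, 1, 2, 3, 2, 3, 1, 3, 4] [.out 3511],
  .sub [1, 3, 2, 3, 4, 1, 3, 1, 2, 3, 2, 3, 1, 3, 4] [.sub [19, 25, 18, 19, 18, 29, 25, 20, 20, 30, 29, 29] [.out 3536]],
  .sub [4, 1, 2, 3, 4, 1, 3, 1, 2, 3, 2, 3, 1, 3, 4] [.out 3330],
  .sub [3, 1, 4, 1, 4, 3, 2, 4, 3, 1, 2, 3, 1, 3, 4] [.out 1945],
  .sub [1, 2, 4, 1, 4, 3, 2, 4, 3, 1, 2, 3, 1, 3, 4] [.out 2103],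
  .sub [1, 3, 2, 1, 4, 3, 2, 4, 3, 1, 2, 3, 1, 3, 4] [.sub [20, 31, 18, 18, 19, 27, 29, 25, 24, 27, 29] [.out 1492]],
  .sub [2, 3, 1, 2, 1, 3, 2, 4, 3, 1, 2, 3, 1, 3, 4] [.sub [31, 24, 29, 18, 18, 25, 31, 31, 20, 30, 25] [.out 565]],
  .sub [3, 4, 1, 4, 3, 1, 2, 4, 3, 1, 2, 3, 1, 3, 4] [.sub [24, 31, 19, 19, 24, 20, 24, 20, 27, 29, 29] [.sub [19, 18, 31, 19, 27, 25, 20, 31, 30, 27, 29] [.out 1999]]],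
  .sub [4, 1, 2, 1, 4, 1, 3, 2, 3, 1, 2, 3, 1, 3, 4] [.out 2717],
  .sub [3, 4, 1, 2, 4, 1, 3, 2, 3, 1, 2, 3, 1, 3, 4] [.sub [19, 18, 29, 18, 20, 20, 31, 20, 30, 27, 29] [.out 3849]],
  .sub [4, 3, 1, 3, 2, 1, 3, 2, 3, 1, 2, 3, 1, 3, 4] [.sub [31, 18, 27, 20, 18, 18, 20, 25, 20, 27, 29, 29] [.out 2794]],
  .sub [2, 1, 4, 3, 1, 4, 1, 2, 3, 1, 2, 3, 1, 3, 4] [.sub [24, 31, 19, 31, 18, 20, 30, 25, 20] [.out 104]],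
  .sub [4, 1, 4, 3, 2, 1, 3, 4, 1, 4, 3, 2, 1, 3, 4] [.out 1219],
  .sub [2, 1, 4, 3, 2, 1, 3, 4, 1, 4, 3, 2, 1, 3, 4] [.out 3326],
  .sub [1, 3, 1, 4, 3, 2, 3, 4, 1, 4, 3, 2, 1, 3, 4] [.out 3281],
  .sub [2, 3, 2, 1, 3, 2, 3, 4, 1, 4, 3, 2, 1, 3, 4] [.sub [31, 25, 19, 24, 19, 18, 25, 24, 27, 24, 25] [.out 443]],
  .sub [1, 2, 4, 3, 2, 1, 4, 3, 1, 4, 3, 2, 1, 3, 4] [.out 3323],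
  .sub [2, 4, 1, 3, 2, 1, 4, 3, 1, 4, 3, 2, 1, 3, 4] [.out 2900],
  .sub [3, 1, 2, 3, 2, 1, 4, 3, 1, 4, 3, 2, 1, 3, 4] [.out 1567],
  .sub [3, 2, 4, 3, 1, 2, 4, 3, 1, 4, 3, 2, 1, 3, 4] [.sub [24, 19, 19, 24, 18, 27, 27, 31, 30, 20, 30, 27] [.out 3573]],
  .sub [1, 3, 2, 3, 1, 2, 4, 3, 1, 4, 3, 2, 1, 3, 4] [.sub [19, 19, 27, 18, 19, 24, 31, 25, 20, 30, 27, 29] [.out 3380]],
  .sub [1, 3, 1, 2, 3, 2, 1, 3, 1, 4, 3, 2, 1, 3, 4] [.out 2267],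
  .sub [2, 4, 3, 1, 4, 3, 2, 3, 1, 4, 3, 2, 1, 3, 4] [.sub [27, 24, 20, 19, 19, 18, 20, 24, 30, 25, 20, 25, 29, 29] [.out 974]],
  .sub [4, 1, 3, 2, 4, 3, 2, 3, 1, 4, 3, 2, 1, 3, 4] [.sub [24, 24, 19, 20, 19, 20, 30, 24, 27] [.out 3624]],
  .sub [3, 1, 3, 2, 4, 3, 2, 3, 1, 4, 3, 2, 1, 3, 4] [.sub [31, 19, 27, 31, 18, 30, 20, 31, 29, 24, 25, 29] [.sub [25, 18, 19, 31, 18, 25, 24, 24, 20, 20, 27, 29] [.out 3680]]],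
  .sub [3, 2, 3, 1, 4, 1, 2, 3, 1, 4, 3, 2, 1, 3, 4] [.out 3379],
  .sub [1, 3, 2, 1, 4, 1, 2, 3, 1, 4, 3, 2, 1, 3, 4] [.sub [29, 31, 19, 20, 19, 31, 24, 25, 20, 27, 30, 29] [.out 3165]],
  .sub [2, 3, 2, 1, 4, 1, 2, 3, 1, 4, 3, 2, 1, 3, 4] [.out 3739],
  .sub [3, 1, 3, 2, 1, 4, 3, 2, 1, 4, 3, 2, 1, 3, 4] [.out 3690],
  .sub [1, 4, 1, 2, 1, 4, 3, 2, 1, 4, 3, 2, 1, 3, 4] [.out 1974],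
  .sub [2, 3, 1, 2, 1, 4, 3, 2, 1, 4, 3, 2, 1, 3, 4] [.out 2148],
  .sub [1, 3, 4, 1, 2, 4, 3, 2, 1, 4, 3, 2, 1, 3, 4] [.out 2190],
  .sub [2, 3, 4, 1, 2, 4, 3, 2, 1, 4, 3, 2, 1, 3, 4] [.out 3875],
  .sub [1, 4, 3, 1, 2, 4, 3, 2, 1, 4, 3, 2, 1, 3, 4] [.out 2069],
  .sub [4, 3, 2, 3, 4, 1, 3, 2, 1, 4, 3, 2, 1, 3, 4] [.out 3950],
  .sub [2, 1, 4, 1, 2, 1, 3, 2, 1, 4, 3, 2, 1, 3, 4] [.sub [20, 19, 20, 24, 18, 18, 20, 30, 31, 24, 20, 27, 29] [.out 1682]],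
  .sub [1, 4, 3, 4, 1, 2, 3, 2, 1, 4, 3, 2, 1, 3, 4] [.sub [30, 31, 19, 19, 19, 24, 20, 30, 24, 20, 30, 27] [.out 3346]],
  .sub [1, 3, 1, 4, 1, 2, 3, 2, 1, 4, 3, 2, 1, 3, 4] [.sub [20, 31, 30, 18, 19, 24, 25, 31, 31, 27, 30, 29] [.out 2725]],
  .sub [3, 4, 1, 3, 1, 2, 3, 2, 1, 4, 3, 2, 1, 3, 4] [.out 4054],
  .sub [2, 4, 1, 3, 1, 2, 3, 2, 1, 4, 3, 2, 1, 3, 4] [.out 1235],
  .sub [3, 2, 1, 3, 1, 2, 3, 2, 1, 4, 3, 2, 1, 3, 4] [.sub [30, 18, 31, 24, 18, 29, 31, 27, 24, 25, 29, 29] [.sub [20, 18, 31, 24, 18, 25, 31, 24, 30, 27, 29, 29] [.out 733]]],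
  .sub [4, 1, 4, 3, 2, 4, 1, 3, 2, 4, 3, 2, 1, 3, 4] [.sub [18, 24, 19, 29, 18, 20, 20, 30, 24, 29] [.out 721]],
  .sub [1, 4, 3, 4, 1, 2, 1, 3, 2, 4, 3, 2, 1, 3, 4] [.sub [25, 27, 25, 18, 31, 31, 20, 24, 29, 29] [.out 2250]],
  .sub [3, 4, 1, 3, 4, 1, 2, 3, 2, 4, 3, 2, 1, 3, 4] [.out 2183],
  .sub [2, 3, 4, 1, 3, 1, 2, 3, 2, 4, 3, 2, 1, 3, 4] [.sub [24, 20, 31, 20, 19, 31, 20, 20, 31, 27] [.out 2037]],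
  .sub [4, 1, 3, 4, 1, 2, 4, 3, 4, 1, 3, 2, 1, 3, 4] [.sub [19, 20, 19, 20, 18, 20, 25, 20, 29, 25, 29] [.out 1719]],
  .sub [2, 1, 3, 4, 1, 2, 4, 3, 4, 1, 3, 2, 1, 3, 4] [.sub [18, 18, 27, 19, 29, 25, 20, 24, 25, 29, 29] [.out 2635]],
  .sub [3, 1, 4, 3, 2, 4, 1, 3, 4, 1, 3, 2, 1, 3, 4] [.sub [24, 31, 20, 18, 18, 30, 20, 24, 30, 25] [.out 2335]],
  .sub [2, 4, 1, 3, 2, 4, 1, 3, 4, 1, 3, 2, 1, 3, 4] [.out 1944],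
  .sub [2, 3, 1, 3, 2, 4, 1, 3, 4, 1, 3, 2, 1, 3, 4] [.sub [24, 19, 31, 19, 24, 29, 25, 31, 25] [.sub [30, 27, 24, 19, 18, 27, 20, 20, 30, 25, 29] [.out 1221]]],
  .sub [4, 1, 3, 1, 2, 4, 1, 3, 4, 1, 3, 2, 1, 3, 4] [.out 3241],
  .sub [2, 1, 3, 1, 2, 4, 1, 3, 4, 1, 3, 2, 1, 3, 4] [.sub [18, 19, 18, 18, 18, 24, 30, 31, 30, 27, 29] [.out 1099]],
  .sub [1, 3, 1, 4, 3, 2, 1, 3, 4, 1, 3, 2, 1, 3, 4] [.out 3713]]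

/-- Branches. -/
def kidsXPart61 : List Branch := [
  .sub [2, 3, 2, 4, 3, 2, 1, 3, 4, 1, 3, 2, 1, 3, 4] [.sub [18, 30, 18, 18, 27, 18, 31, 31, 31, 25, 31, 30] [.sub [19, 29, 31, 27, 18, 20, 27, 20, 20, 27, 30, 29, 29] [.out 1129]]],
  .sub [1, 2, 4, 3, 1, 2, 1, 3, 4, 1, 3, 2, 1, 3, 4] [.sub [20, 30, 31, 19, 31, 29, 20, 24, 30, 27] [.out 907]],
  .sub [2, 4, 3, 1, 4, 3, 2, 3, 4, 1, 3, 2, 1, 3, 4] [.sub [29, 19, 29, 18, 18, 24, 20, 24, 30, 20, 27, 30, 29, 29] [.out 1210]],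
  .sub [3, 2, 3, 1, 4, 3, 2, 3, 4, 1, 3, 2, 1, 3, 4] [.sub [27, 20, 31, 20, 18, 25, 27, 25, 31, 30, 27] [.sub [18, 18, 30, 18, 18, 30, 24, 20, 20, 29, 25, 29] [.out 1205]]],
  .sub [1, 2, 3, 2, 4, 3, 2, 3, 4, 1, 3, 2, 1, 3, 4] [.sub [29, 31, 19, 19, 20, 30, 25, 31, 30, 27, 29, 29] [.out 3213]],
  .sub [1, 3, 1, 2, 4, 3, 2, 3, 4, 1, 3, 2, 1, 3, 4] [.sub [18, 19, 18, 18, 25, 27, 24, 29, 24, 27, 30] [.sub [20, 31, 18, 19, 18, 31, 31, 25, 29] [.out 2656]]],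
  .sub [3, 1, 3, 2, 3, 1, 2, 3, 4, 1, 3, 2, 1, 3, 4] [.sub [27, 18, 25, 31, 19, 18, 25, 27, 24, 29] [.out 4008]],
  .sub [4, 3, 1, 2, 3, 1, 2, 3, 4, 1, 3, 2, 1, 3, 4] [.sub [20, 20, 27, 19, 18, 29, 25, 20, 24, 30, 27] [.out 2252]],
  .sub [1, 3, 1, 2, 3, 1, 2, 3, 4, 1, 3, 2, 1, 3, 4] [.out 954],
  .sub [3, 2, 1, 3, 2, 4, 3, 2, 4, 1, 3, 2, 1, 3, 4] [.sub [24, 20, 19, 18, 25, 24, 29, 25, 29, 29] [.out 3785]],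
  .sub [1, 2, 1, 3, 2, 4, 3, 2, 4, 1, 3, 2, 1, 3, 4] [.out 3827],
  .sub [2, 1, 3, 2, 4, 1, 3, 2, 4, 1, 3, 2, 1, 3, 4] [.sub [18, 20, 18, 18, 19, 18, 31, 24, 30, 25, 29] [.out 3093]],
  .sub [1, 2, 1, 4, 3, 2, 4, 1, 3, 1, 3, 2, 1, 3, 4] [.sub [27, 18, 31, 18, 18, 20, 31, 31, 20, 30, 27, 29, 29] [.out 2976]],
  .sub [4, 3, 4, 1, 3, 2, 4, 1, 3, 1, 3, 2, 1, 3, 4] [.sub [29, 24, 24, 19, 24, 31, 29, 25, 29, 29] [.sub [30, 24, 18, 18, 29, 20, 31, 20, 24, 27, 29] [.out 1742]]],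
  .sub [2, 4, 3, 1, 3, 2, 4, 1, 3, 1, 3, 2, 1, 3, 4] [.sub [29, 19, 18, 31, 29, 25, 24, 29, 29] [.out 1632]],
  .sub [1, 2, 3, 2, 1, 3, 2, 1, 3, 1, 3, 2, 1, 3, 4] [.out 3118],
  .sub [3, 4, 1, 3, 4, 1, 2, 1, 3, 1, 3, 2, 1, 3, 4] [.sub [18, 24, 18, 20, 20, 24, 25, 29, 29] [.out 1959]],
  .sub [3, 1, 2, 4, 3, 1, 4, 3, 2, 1, 3, 2, 1, 3, 4] [.out 1947],
  .sub [3, 1, 2, 1, 3, 1, 4, 3, 2, 1, 3, 2, 1, 3, 4] [.sub [18, 18, 31, 19, 18, 27, 31, 24, 29, 24, 30, 27] [.out 3778]],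
  .sub [3, 4, 1, 2, 3, 1, 4, 3, 2, 1, 3, 2, 1, 3, 4] [.out 2910],
  .sub [3, 1, 3, 2, 1, 4, 1, 3, 2, 1, 3, 2, 1, 3, 4] [.out 2426],
  .sub [2, 1, 3, 2, 1, 4, 1, 3, 2, 1, 3, 2, 1, 3, 4] [.sub [31, 18, 18, 27, 18, 18, 25, 24, 20, 30, 27, 29] [.sub [18, 30, 19, 27, 19, 31, 27, 24, 20, 25, 29] [.out 939]]],
  .sub [3, 2, 3, 1, 4, 1, 3, 1, 2, 1, 3, 2, 1, 3, 4] [.out 2590],
  .sub [3, 2, 1, 3, 2, 4, 3, 4, 1, 2, 3, 2, 1, 3, 4] [.sub [29, 20, 18, 18, 27, 24, 20, 20, 30, 25] [.sub [18, 18, 30, 18, 18, 30, 25, 31, 20, 27] [.out 1996]]],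
  .sub [4, 1, 2, 3, 4, 1, 3, 4, 1, 2, 3, 2, 1, 3, 4] [.out 3845],
  .sub [4, 1, 3, 2, 3, 1, 3, 4, 1, 2, 3, 2, 1, 3, 4] [.out 3815],
  .sub [2, 3, 1, 4, 3, 2, 4, 3, 1, 2, 3, 2, 1, 3, 4] [.out 2840],
  .sub [3, 2, 3, 1, 3, 2, 4, 3, 1, 2, 3, 2, 1, 3, 4] [.sub [30, 20, 29, 31, 18, 27, 29, 30, 31, 30, 27] [.out 2193]],
  .sub [3, 1, 2, 1, 3, 2, 4, 3, 1, 2, 3, 2, 1, 3, 4] [.sub [29, 18, 29, 18, 19, 18, 31, 25, 20, 31, 30, 27, 29, 29] [.out 3963]],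
  .sub [3, 4, 1, 2, 3, 2, 4, 3, 1, 2, 3, 2, 1, 3, 4] [.out 3696],
  .sub [4, 3, 1, 2, 3, 2, 4, 3, 1, 2, 3, 2, 1, 3, 4] [.out 2118],
  .sub [1, 3, 1, 2, 3, 2, 4, 3, 1, 2, 3, 2, 1, 3, 4] [.out 2244],
  .sub [1, 3, 2, 1, 3, 4, 1, 3, 1, 2, 3, 2, 1, 3, 4] [.out 1595],
  .sub [3, 1, 2, 1, 3, 4, 1, 3, 1, 2, 3, 2, 1, 3, 4] [.sub [31, 24, 19, 24, 18, 18, 25, 24, 30, 20, 30, 25, 29] [.out 2473]],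
  .sub [4, 1, 4, 3, 1, 2, 4, 1, 4, 3, 1, 2, 1, 3, 4] [.out 1799],
  .sub [2, 1, 4, 3, 1, 2, 4, 1, 4, 3, 1, 2, 1, 3, 4] [.sub [25, 18, 18, 24, 18, 31, 25, 24] [.out 3573]],
  .sub [1, 3, 4, 1, 4, 3, 2, 1, 4, 3, 1, 2, 1, 3, 4] [.sub [20, 30, 31, 19, 24, 27, 31, 20, 20, 27, 30, 29, 29] [.sub [27, 19, 18, 20, 18, 18, 20, 27, 31, 25, 20, 30, 27, 29] [.out 3164]]],
  .sub [2, 3, 2, 1, 4, 3, 2, 1, 4, 3, 1, 2, 1, 3, 4] [.out 3502],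
  .sub [3, 2, 1, 3, 4, 1, 3, 2, 4, 3, 1, 2, 1, 3, 4] [.out 3661],
  .sub [1, 2, 1, 3, 4, 1, 3, 2, 4, 3, 1, 2, 1, 3, 4] [.sub [25, 27, 18, 20, 19, 18, 24, 30, 31, 24, 20, 30, 29, 29] [.out 2815]],
  .sub [3, 1, 2, 3, 4, 1, 3, 2, 4, 3, 1, 2, 1, 3, 4] [.sub [19, 27, 18, 18, 19, 20, 25, 24, 20, 20, 29] [.out 3473]],
  .sub [3, 1, 3, 2, 4, 1, 3, 2, 4, 3, 1, 2, 1, 3, 4] [.sub [19, 29, 18, 19, 18, 24, 27, 29, 24, 27, 29] [.out 2481]],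
  .sub [2, 1, 3, 2, 4, 1, 3, 2, 4, 3, 1, 2, 1, 3, 4] [.sub [20, 24, 19, 24, 19, 31, 30, 29, 24, 20, 27] [.sub [20, 29, 18, 24, 18, 27, 24, 30, 20, 30, 29] [.out 4047]]],
  .sub [1, 4, 3, 2, 1, 3, 1, 2, 4, 3, 1, 2, 1, 3, 4] [.sub [19, 31, 18, 20, 30, 29, 31, 20, 30, 25, 29, 29] [.out 940]],
  .sub [2, 3, 4, 1, 3, 2, 3, 4, 1, 3, 1, 2, 1, 3, 4] [.sub [27, 19, 24, 18, 18, 29, 25, 31, 29, 25, 29] [.sub [25, 18, 19, 25, 18, 27, 24, 25, 24, 20, 29] [.out 256]]],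
  .sub [4, 3, 4, 1, 3, 2, 1, 4, 1, 3, 1, 2, 1, 3, 4] [.out 2308],
  .sub [1, 3, 4, 1, 3, 2, 1, 4, 1, 3, 1, 2, 1, 3, 4] [.out 1037],
  .sub [3, 4, 1, 2, 3, 1, 2, 4, 1, 3, 1, 2, 1, 3, 4] [.sub [18, 27, 29, 20, 18, 31, 24, 27, 25, 20, 30, 27, 29, 29] [.out 3149]],
  .sub [4, 1, 4, 3, 1, 4, 3, 2, 1, 3, 1, 2, 1, 3, 4] [.sub [18, 18, 31, 24, 18, 18, 29, 20, 24, 20] [.out 2067]],
  .sub [2, 1, 4, 3, 1, 4, 3, 2, 1, 3, 1, 2, 1, 3, 4] [.sub [31, 27, 18, 18, 19, 20, 25, 24, 20, 27, 30] [.out 1254]],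
  .sub [1, 2, 4, 3, 1, 4, 3, 2, 1, 3, 1, 2, 1, 3, 4] [.sub [24, 24, 19, 18, 27, 31, 24, 30, 29, 29] [.out 3648]],
  .sub [2, 3, 2, 3, 1, 4, 3, 2, 1, 3, 1, 2, 1, 3, 4] [.sub [30, 18, 29, 19, 20, 18, 29, 31, 25, 20, 30, 29, 29] [.sub [19, 27, 19, 18, 18, 24, 24, 31, 30, 25, 29, 29] [.out 472]]],
  .sub [1, 2, 1, 3, 2, 4, 3, 2, 1, 3, 1, 2, 1, 3, 4] [.out 2130],
  .sub [4, 1, 2, 3, 2, 4, 3, 2, 1, 3, 1, 2, 1, 3, 4] [.sub [20, 19, 19, 19, 18, 31, 24, 29, 24, 30, 29, 29] [.out 1046]],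
  .sub [1, 3, 2, 3, 1, 4, 1, 3, 2, 3, 1, 2, 1, 3, 4] [.out 2388],
  .sub [4, 3, 2, 4, 1, 3, 1, 3, 2, 3, 1, 2, 1, 3, 4] [.out 2313],
  .sub [2, 3, 2, 4, 1, 3, 1, 3, 2, 3, 1, 2, 1, 3, 4] [.sub [18, 20, 29, 20, 18, 30, 27, 24, 31, 30, 27, 29] [.sub [18, 18, 19, 18, 19, 31, 31, 20, 30, 29] [.out 1188]]],
  .sub [2, 4, 3, 2, 1, 3, 1, 3, 2, 3, 1, 2, 1, 3, 4] [.sub [31, 18, 31, 24, 18, 25, 24, 29, 20, 24, 27, 29] [.sub [27, 18, 24, 25, 18, 25, 27, 20, 24, 29, 25] [.out 1996]]],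
  .sub [3, 4, 1, 2, 3, 1, 4, 1, 2, 3, 1, 2, 1, 3, 4] [.out 3204],
  .sub [2, 1, 4, 3, 1, 4, 3, 1, 2, 3, 1, 2, 1, 3, 4] [.out 3474],
  .sub [1, 2, 1, 3, 4, 1, 3, 1, 2, 3, 1, 2, 1, 3, 4] [.out 3305],
  .sub [4, 3, 2, 3, 4, 1, 3, 1, 2, 3, 1, 2, 1, 3, 4] [.sub [31, 31, 30, 19, 18, 24, 20, 30, 24, 29, 25, 29] [.out 21]],
  .sub [1, 3, 2, 3, 4, 1, 3, 1, 2, 3, 1, 2, 1, 3, 4] [.sub [30, 18, 30, 20, 18, 25, 24, 20, 24, 29, 25, 29, 29] [.out 2217]],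
  .sub [2, 3, 2, 3, 4, 1, 3, 1, 2, 3, 1, 2, 1, 3, 4] [.sub [19, 27, 27, 31, 18, 18, 29, 25, 31, 24, 20, 30, 27, 29] [.out 2448]]]

/-- Branches. -/
def kidsXPart62 : List Branch := [
  .sub [4, 1, 2, 1, 4, 1, 3, 1, 2, 3, 1, 2, 1, 3, 4] [.out 2792],
  .sub [2, 4, 3, 2, 4, 1, 3, 1, 2, 3, 1, 2, 1, 3, 4] [.out 2994],
  .sub [4, 1, 2, 3, 2, 1, 3, 1, 2, 3, 1, 2, 1, 3, 4] [.out 3650],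
  .sub [3, 4, 1, 4, 3, 2, 1, 3, 4, 1, 4, 3, 2, 3, 4] [.out 1353],
  .sub [1, 3, 1, 4, 3, 2, 1, 3, 4, 1, 4, 3, 2, 3, 4] [.sub [19, 30, 18, 18, 18, 24, 25, 24, 31, 27, 30] [.out 3981]],
  .sub [1, 2, 1, 4, 3, 2, 1, 3, 4, 1, 4, 3, 2, 3, 4] [.sub [25, 18, 31, 18, 30, 31, 25, 20, 29] [.out 665]],
  .sub [1, 3, 2, 4, 3, 2, 1, 3, 4, 1, 4, 3, 2, 3, 4] [.sub [20, 29, 18, 25, 18, 18, 20, 20, 24, 25, 29, 29] [.out 3929]],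
  .sub [4, 1, 2, 4, 3, 2, 1, 3, 4, 1, 4, 3, 2, 3, 4] [.sub [19, 20, 19, 19, 18, 20, 27, 31, 25, 20, 25, 29] [.sub [25, 19, 24, 20, 18, 24, 20, 30, 29, 24, 29, 25] [.out 4037]]],
  .sub [3, 1, 4, 1, 3, 2, 1, 3, 4, 1, 4, 3, 2, 3, 4] [.out 1663],
  .sub [3, 2, 4, 1, 3, 2, 1, 3, 4, 1, 4, 3, 2, 3, 4] [.sub [31, 27, 19, 19, 19, 18, 31, 31, 20, 31, 29, 25, 29] [.out 2017]],
  .sub [1, 4, 3, 1, 3, 2, 1, 3, 4, 1, 4, 3, 2, 3, 4] [.out 1869],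
  .sub [2, 4, 3, 1, 3, 2, 1, 3, 4, 1, 4, 3, 2, 3, 4] [.out 2439],
  .sub [3, 2, 3, 1, 3, 2, 1, 3, 4, 1, 4, 3, 2, 3, 4] [.sub [20, 19, 27, 19, 18, 25, 31, 27, 20, 20, 27] [.sub [20, 25, 19, 24, 19, 24, 29, 31, 20, 20, 27] [.out 3472]]],
  .sub [2, 1, 4, 3, 1, 4, 1, 2, 3, 1, 4, 3, 2, 3, 4] [.out 2671],
  .sub [3, 2, 3, 1, 4, 3, 1, 2, 3, 1, 4, 3, 2, 3, 4] [.out 2924],
  .sub [1, 4, 3, 2, 4, 1, 4, 3, 2, 1, 4, 3, 2, 3, 4] [.out 3143],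
  .sub [3, 2, 4, 3, 1, 2, 4, 3, 2, 1, 4, 3, 2, 3, 4] [.out 2710],
  .sub [1, 2, 4, 3, 1, 2, 4, 3, 2, 1, 4, 3, 2, 3, 4] [.sub [20, 18, 19, 18, 18, 20, 27, 30, 20, 30, 27] [.sub [30, 18, 18, 24, 29, 30, 31, 30, 27, 29] [.bad [18, 27, 18, 29, 20, 20, 24, 30, 29, 29] 1]]],
  .sub [3, 1, 4, 3, 2, 3, 4, 1, 3, 4, 1, 3, 2, 3, 4] [.out 2307],
  .sub [4, 1, 4, 3, 1, 2, 4, 3, 2, 4, 1, 3, 2, 3, 4] [.sub [19, 29, 24, 18, 24, 31, 27, 24, 20, 30, 29] [.out 3528]],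
  .sub [2, 1, 4, 3, 1, 2, 4, 3, 2, 4, 1, 3, 2, 3, 4] [.out 3559],
  .sub [1, 2, 1, 3, 1, 4, 1, 3, 2, 4, 1, 3, 2, 3, 4] [.out 3138],
  .sub [3, 1, 2, 3, 2, 4, 1, 3, 2, 4, 1, 3, 2, 3, 4] [.sub [31, 30, 18, 31, 19, 31, 31, 31, 31, 24, 27] [.sub [20, 19, 18, 31, 29, 31, 20, 20, 30, 27, 29, 29] [.out 402]]],
  .sub [1, 2, 4, 3, 2, 3, 1, 3, 2, 4, 1, 3, 2, 3, 4] [.sub [24, 24, 18, 31, 31, 20, 24, 25, 29] [.out 2358]],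
  .sub [1, 4, 3, 4, 1, 2, 1, 3, 2, 4, 1, 3, 2, 3, 4] [.sub [27, 19, 20, 31, 19, 18, 29, 30, 20, 30, 20, 25] [.out 1369]],
  .sub [2, 4, 3, 4, 1, 2, 1, 3, 2, 4, 1, 3, 2, 3, 4] [.out 2717],
  .sub [1, 2, 3, 4, 1, 2, 1, 3, 2, 4, 1, 3, 2, 3, 4] [.sub [31, 20, 29, 18, 18, 30, 24, 31, 24] [.sub [18, 29, 25, 19, 18, 25, 27, 20, 31, 30, 29, 29] [.out 3861]]],
  .sub [2, 3, 1, 3, 4, 1, 2, 3, 2, 4, 1, 3, 2, 3, 4] [.sub [24, 20, 20, 19, 30, 31, 27, 20, 20, 27, 30, 29] [.out 1465]],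
  .sub [3, 1, 2, 3, 4, 1, 2, 3, 2, 4, 1, 3, 2, 3, 4] [.sub [18, 19, 29, 20, 18, 20, 30, 20, 31, 29, 25, 29, 29] [.out 220]],
  .sub [3, 2, 4, 3, 4, 1, 3, 2, 4, 3, 1, 3, 2, 3, 4] [.out 3702],
  .sub [3, 2, 4, 3, 2, 1, 3, 2, 4, 3, 1, 3, 2, 3, 4] [.sub [19, 24, 25, 20, 18, 31, 29, 25, 24, 29, 25, 29] [.out 3331]],
  .sub [1, 3, 1, 3, 2, 1, 3, 2, 1, 3, 1, 3, 2, 3, 4] [.sub [30, 24, 31, 18, 20, 25, 27, 24, 27, 30, 29, 29] [.out 3719]],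
  .sub [2, 3, 1, 3, 2, 1, 3, 2, 1, 3, 1, 3, 2, 3, 4] [.sub [29, 18, 24, 20, 18, 30, 24, 20, 30, 29, 29] [.out 1483]],
  .sub [1, 2, 1, 4, 1, 3, 1, 2, 1, 3, 1, 3, 2, 3, 4] [.sub [24, 31, 18, 31, 30, 25] [.out 3601]],
  .sub [4, 1, 2, 4, 1, 3, 1, 2, 1, 3, 1, 3, 2, 3, 4] [.out 3807],
  .sub [2, 1, 4, 1, 3, 1, 4, 3, 2, 3, 1, 3, 2, 3, 4] [.sub [31, 24, 19, 18, 27, 31, 25, 31, 20, 25, 29] [.out 3409]],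
  .sub [4, 3, 2, 1, 3, 1, 4, 3, 2, 3, 1, 3, 2, 3, 4] [.sub [24, 19, 27, 31, 18, 20, 24, 27, 24, 20, 30, 29, 29] [.out 2959]],
  .sub [1, 4, 3, 1, 2, 1, 4, 3, 2, 3, 1, 3, 2, 3, 4] [.out 3635],
  .sub [3, 4, 1, 3, 1, 2, 4, 3, 2, 3, 1, 3, 2, 3, 4] [.out 3777],
  .sub [4, 3, 1, 2, 3, 4, 1, 3, 2, 3, 1, 3, 2, 3, 4] [.sub [24, 27, 18, 24, 18, 27, 30, 20, 24, 30, 29, 29] [.out 100]],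
  .sub [2, 4, 1, 3, 4, 1, 2, 3, 2, 3, 1, 3, 2, 3, 4] [.sub [27, 18, 18, 19, 24, 27, 31, 20, 20, 25] [.out 3358]],
  .sub [1, 3, 1, 3, 4, 1, 2, 3, 2, 3, 1, 3, 2, 3, 4] [.out 1266],
  .sub [3, 1, 4, 3, 2, 4, 1, 4, 3, 2, 1, 3, 2, 3, 4] [.sub [24, 30, 31, 19, 18, 27, 25, 20, 24] [.out 1960]],
  .sub [4, 3, 2, 3, 1, 2, 1, 4, 3, 2, 1, 3, 2, 3, 4] [.out 3736],
  .sub [2, 1, 3, 2, 1, 3, 2, 4, 3, 2, 1, 3, 2, 3, 4] [.out 1826],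
  .sub [1, 4, 3, 2, 3, 1, 2, 4, 3, 2, 1, 3, 2, 3, 4] [.out 2478],
  .sub [4, 1, 3, 2, 3, 1, 2, 4, 3, 2, 1, 3, 2, 3, 4] [.sub [18, 29, 18, 18, 27, 31, 27, 29] [.sub [19, 20, 18, 18, 27, 25, 20, 31, 27] [.out 696]]],
  .sub [3, 1, 3, 2, 3, 1, 2, 4, 3, 2, 1, 3, 2, 3, 4] [.sub [27, 31, 19, 24, 18, 27, 29, 25, 20, 24, 30, 25, 29] [.out 577]],
  .sub [3, 1, 2, 3, 4, 1, 2, 1, 3, 2, 1, 3, 2, 3, 4] [.sub [20, 18, 18, 24, 18, 25, 31, 20, 24, 27, 29] [.sub [18, 29, 18, 31, 18, 18, 25, 24, 30, 24, 20, 25] [.out 3496]]],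
  .sub [3, 2, 4, 1, 3, 1, 2, 1, 3, 2, 1, 3, 2, 3, 4] [.out 3040],
  .sub [4, 1, 2, 1, 3, 1, 2, 1, 3, 2, 1, 3, 2, 3, 4] [.out 1508],
  .sub [3, 1, 2, 1, 3, 1, 2, 1, 3, 2, 1, 3, 2, 3, 4] [.out 2779],
  .sub [4, 1, 3, 2, 3, 1, 2, 1, 3, 2, 1, 3, 2, 3, 4] [.out 2454],
  .sub [3, 1, 3, 2, 3, 1, 2, 1, 3, 2, 1, 3, 2, 3, 4] [.sub [19, 25, 19, 29, 18, 31, 27, 20, 20, 30, 29, 29] [.out 2003]],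
  .sub [1, 3, 1, 2, 3, 1, 2, 1, 3, 2, 1, 3, 2, 3, 4] [.sub [31, 30, 18, 24, 18, 27, 27, 30, 20, 24] [.out 1481]],
  .sub [1, 4, 1, 2, 4, 3, 1, 2, 3, 2, 1, 3, 2, 3, 4] [.sub [19, 24, 24, 18, 24, 29, 25, 31, 24, 30, 25, 29, 29] [.sub [20, 27, 18, 31, 19, 24, 27, 30, 31, 27, 30, 29, 29] [.out 2530]]],
  .sub [2, 3, 2, 1, 3, 2, 4, 3, 2, 4, 3, 1, 2, 3, 4] [.out 3061],
  .sub [4, 3, 1, 2, 3, 1, 2, 1, 4, 1, 3, 1, 2, 3, 4] [.sub [25, 18, 30, 20, 18, 25, 24, 31, 31, 30, 25, 29, 29] [.out 3621]],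
  .sub [2, 4, 3, 2, 3, 1, 4, 1, 3, 2, 3, 1, 2, 3, 4] [.sub [19, 29, 18, 19, 18, 24, 27, 29, 24, 27, 29] [.out 1163]],
  .sub [2, 1, 3, 1, 3, 2, 4, 3, 1, 2, 3, 1, 2, 3, 4] [.sub [20, 27, 19, 31, 19, 20, 20, 30, 20, 30, 27, 29, 29] [.out 3176]],
  .sub [2, 1, 4, 3, 1, 2, 4, 3, 1, 2, 3, 1, 2, 3, 4] [.sub [29, 24, 27, 19, 18, 24, 31, 31, 20, 29, 25] [.out 2459]],
  .sub [4, 3, 1, 2, 4, 3, 2, 4, 3, 1, 2, 1, 4, 1, 3, 4] [.sub [24, 24, 18, 18, 18, 20, 20, 29, 31, 30] [.sub [24, 25, 18, 18, 24, 24, 27, 24, 30, 27, 29] [.out 2916]]],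
  .sub [4, 1, 3, 4, 1, 3, 2, 4, 3, 1, 2, 1, 4, 1, 3, 4] [.sub [27, 31, 27, 25, 18, 24, 27, 31, 20, 20, 30, 25, 29] [.out 808]],
  .sub [3, 1, 3, 4, 1, 3, 2, 4, 3, 1, 2, 1, 4, 1, 3, 4] [.sub [20, 29, 18, 25, 18, 18, 24, 27, 31, 20, 20, 29] [.out 1228]]]

/-- Branches. -/
def kidsXPart63 : List Branch := [
  .sub [1, 3, 1, 4, 3, 1, 2, 4, 3, 1, 2, 1, 4, 1, 3, 4] [.sub [30, 24, 27, 19, 20, 27, 20, 20, 30, 27, 29] [.out 4056]],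
  .sub [4, 1, 3, 2, 1, 3, 2, 1, 3, 1, 2, 1, 4, 1, 3, 4] [.out 3956],
  .sub [2, 1, 3, 2, 1, 3, 2, 1, 3, 1, 2, 1, 4, 1, 3, 4] [.sub [20, 18, 18, 24, 27, 31, 20, 30, 25, 29, 29] [.out 258]],
  .sub [4, 1, 4, 3, 1, 4, 3, 2, 3, 1, 2, 1, 4, 1, 3, 4] [.out 2932],
  .sub [1, 4, 1, 3, 1, 4, 3, 2, 3, 1, 2, 1, 4, 1, 3, 4] [.out 4048],
  .sub [2, 4, 1, 3, 1, 4, 3, 2, 3, 1, 2, 1, 4, 1, 3, 4] [.out 3539],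
  .sub [4, 1, 4, 3, 2, 4, 3, 1, 2, 4, 3, 2, 4, 1, 3, 4] [.sub [31, 18, 25, 31, 19, 18, 24, 24, 27, 20, 24, 29] [.out 371]],
  .sub [1, 3, 2, 3, 1, 2, 1, 3, 4, 1, 3, 2, 4, 1, 3, 4] [.sub [19, 19, 20, 30, 18, 18, 27, 31, 20, 20, 27, 29, 29] [.out 3261]],
  .sub [4, 1, 3, 4, 1, 3, 2, 3, 4, 1, 3, 2, 4, 1, 3, 4] [.out 1924],
  .sub [2, 3, 1, 3, 2, 4, 3, 2, 4, 1, 3, 2, 4, 1, 3, 4] [.sub [19, 27, 19, 20, 18, 30, 25, 27, 24, 30, 25, 29, 29] [.out 3419]],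
  .sub [3, 1, 2, 3, 2, 1, 4, 3, 2, 1, 3, 2, 4, 1, 3, 4] [.sub [25, 19, 27, 19, 27, 31, 20, 29, 29] [.out 2303]],
  .sub [4, 1, 2, 1, 3, 2, 4, 3, 2, 1, 3, 2, 4, 1, 3, 4] [.out 1938],
  .sub [1, 2, 3, 2, 1, 4, 3, 1, 2, 1, 3, 2, 4, 1, 3, 4] [.out 1944],
  .sub [1, 4, 3, 2, 1, 3, 2, 4, 1, 3, 1, 2, 4, 1, 3, 4] [.out 3680],
  .sub [1, 4, 3, 1, 4, 3, 1, 2, 1, 3, 1, 2, 4, 1, 3, 4] [.sub [30, 19, 24, 27, 18, 27, 30, 31, 20, 25] [.out 3234]],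
  .sub [3, 1, 3, 2, 4, 3, 2, 4, 3, 1, 3, 2, 3, 1, 3, 4] [.sub [19, 24, 18, 19, 19, 24, 31, 20, 31, 20, 29, 25, 29] [.out 2100]],
  .sub [2, 4, 1, 4, 3, 2, 1, 3, 4, 1, 4, 3, 2, 1, 3, 4] [.sub [24, 18, 19, 25, 18, 31, 20, 20, 20, 29, 25, 29] [.out 661]],
  .sub [3, 2, 1, 4, 3, 2, 1, 3, 4, 1, 4, 3, 2, 1, 3, 4] [.out 4054],
  .sub [4, 3, 1, 3, 2, 4, 3, 2, 3, 1, 4, 3, 2, 1, 3, 4] [.out 2903],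
  .sub [2, 3, 2, 3, 1, 4, 1, 2, 3, 1, 4, 3, 2, 1, 3, 4] [.out 2947],
  .sub [3, 2, 3, 4, 1, 3, 1, 2, 3, 2, 4, 3, 2, 1, 3, 4] [.out 2641],
  .sub [1, 3, 1, 4, 3, 2, 4, 1, 3, 4, 1, 3, 2, 1, 3, 4] [.sub [20, 19, 27, 31, 18, 31, 24, 31] [.out 3953]],
  .sub [4, 1, 3, 1, 4, 3, 2, 1, 3, 4, 1, 3, 2, 1, 3, 4] [.out 1925],
  .sub [2, 3, 1, 3, 2, 1, 4, 1, 3, 2, 1, 3, 2, 1, 3, 4] [.sub [30, 31, 20, 18, 29, 24, 29, 24, 29] [.out 2579]],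
  .sub [4, 3, 4, 1, 2, 3, 2, 4, 3, 1, 2, 3, 2, 1, 3, 4] [.sub [31, 18, 27, 18, 18, 31, 25, 24, 31, 30, 29, 29] [.sub [20, 18, 18, 29, 18, 27, 31, 29, 24, 25, 29] [.out 1518]]],
  .sub [4, 1, 3, 2, 1, 3, 4, 1, 3, 1, 2, 3, 2, 1, 3, 4] [.sub [19, 19, 27, 19, 20, 20, 31, 20, 30, 27] [.sub [30, 24, 18, 18, 19, 29, 30, 24, 27, 30, 29, 29] [.out 2207]]],
  .sub [1, 3, 1, 2, 3, 2, 4, 1, 3, 2, 4, 1, 3, 2, 3, 4] [.sub [27, 27, 18, 18, 19, 27, 31, 29, 20, 20, 27] [.sub [31, 29, 19, 18, 25, 24, 30, 24, 20, 25, 29] [.out 3187]]],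
  .sub [1, 2, 3, 1, 3, 2, 4, 3, 2, 4, 1, 3, 2, 4, 1, 3, 4] [.sub [31, 18, 31, 18, 24, 29, 24, 31, 27, 30] [.sub [24, 25, 18, 18, 18, 18, 24, 29, 24, 31, 30, 25, 29, 29] [.out 524]]]]

/-- Branches. -/
def kidsXRow0 : List Branch := kidsXPart0 ++ kidsXPart1 ++ kidsXPart2 ++ kidsXPart3 ++ kidsXPart4 ++ kidsXPart5 ++ kidsXPart6 ++ kidsXPart7 ++ kidsXPart8 ++ kidsXPart9 ++ kidsXPart10 ++ kidsXPart11 ++ kidsXPart12 ++ kidsXPart13 ++ kidsXPart14 ++ kidsXPart15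

/-- Branches. -/
def kidsXRow1 : List Branch := kidsXPart16 ++ kidsXPart17 ++ kidsXPart18 ++ kidsXPart19 ++ kidsXPart20 ++ kidsXPart21 ++ kidsXPart22 ++ kidsXPart23 ++ kidsXPart24 ++ kidsXPart25 ++ kidsXPart26 ++ kidsXPart27 ++ kidsXPart28 ++ kidsXPart29 ++ kidsXPart30 ++ kidsXPart31

/-- Branches. -/
def kidsXRow2 : List Branch := kidsXPart32 ++ kidsXPart33 ++ kidsXPart34 ++ kidsXPart35 ++ kidsXPart36 ++ kidsXPart37 ++ kidsXPart38 ++ kidsXPart39 ++ kidsXPart40 ++ kidsXPart41 ++ kidsXPart42 ++ kidsXPart43 ++ kidsXPart44 ++ kidsXPart45 ++ kidsXPart46 ++ kidsXPart47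

/-- Branches. -/
def kidsXRow3 : List Branch := kidsXPart48 ++ kidsXPart49 ++ kidsXPart50 ++ kidsXPart51 ++ kidsXPart52 ++ kidsXPart53 ++ kidsXPart54 ++ kidsXPart55 ++ kidsXPart56 ++ kidsXPart57 ++ kidsXPart58 ++ kidsXPart59 ++ kidsXPart60 ++ kidsXPart61 ++ kidsXPart62 ++ kidsXPart63

/-- All branches. -/
def kidsX : List Branch := (kidsXRow0 ++ kidsXRow1 ++ kidsXRow2 ++ kidsXRow3)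

/-- The modes. -/
def modesX : List Mode := [.free, .det 0 1, .det 1 1, .det 2 1]

end CfsgLib.Spor.RuOut
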