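import Cfsg.Agent.Lib.Spor.RuOut.Data
import Cfsg.Agent.Lib.Spor.RuOut.ChainX
import Cfsg.Agent.Lib.Spor.RuOut.KidsX
import Cfsg.Agent.Lib.Spor.ActCert.SearchSplit

/-!
A centralizer search.
-/

set_option autoImplicit false
set_option maxRecDepth 100000
set_option maxHeartbeats 0
set_option Elab.async false

namespace CfsgLib.Spor.RuOut

open CfsgLib.Spor.TC CfsgLib.Spor.ActCert

theorem modesX_ok : modesOK CfsgLib.Spor.Ru.ActR.act dat.xw [] levX modesX = true := by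
  decide +kernel

theorem sliceX0 : sliceOK CfsgLib.Spor.Ru.ActR.act dat.xw [] dat.xpows levX0
    [levX1, levX2, levX3] [.det 0 1, .det 1 1, .det 2 1] 0 256 (kidsXPart0 ++ kidsXPart1 ++ kidsXPart2 ++ kidsXPart3) = true := by
  decide +kernel

theorem sliceX1 : sliceOK CfsgLib.Spor.Ru.ActR.act dat.xw [] dat.xpows levX0
    [levX1, levX2, levX3] [.det 0 1, .det 1 1, .det 2 1] 256 256 (kidsXPart4 ++ kidsXPart5 ++ kidsXPart6 ++ kidsXPart7) = true := by
  decide +kernel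

theorem sliceX2 : sliceOK CfsgLib.Spor.Ru.ActR.act dat.xw [] dat.xpows levX0
    [levX1, levX2, levX3] [.det 0 1, .det 1 1, .det 2 1] 512 256 (kidsXPart8 ++ kidsXPart9 ++ kidsXPart10 ++ kidsXPart11) = true := by
  decide +kernel

theorem sliceX3 : sliceOK CfsgLib.Spor.Ru.ActR.act dat.xw [] dat.xpows levX0
    [levX1, levX2, levX3] [.det 0 1, .det 1 1, .det 2 1] 768 256 (kidsXPart12 ++ kidsXPart13 ++ kidsXPart14 ++ kidsXPart15) = true := by
  decide +kernel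

theorem sliceX4 : sliceOK CfsgLib.Spor.Ru.ActR.act dat.xw [] dat.xpows levX0
    [levX1, levX2, levX3] [.det 0 1, .det 1 1, .det 2 1] 1024 256 (kidsXPart16 ++ kidsXPart17 ++ kidsXPart18 ++ kidsXPart19) = true := by
  decide +kernel

theorem sliceX5 : sliceOK CfsgLib.Spor.Ru.ActR.act dat.xw [] dat.xpows levX0
    [levX1, levX2, levX3] [.det 0 1, .det 1 1, .det 2 1] 1280 256 (kidsXPart20 ++ kidsXPart21 ++ kidsXPart22 ++ kidsXPart23) = true := by
  decide +kernel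

theorem sliceX6 : sliceOK CfsgLib.Spor.Ru.ActR.act dat.xw [] dat.xpows levX0
    [levX1, levX2, levX3] [.det 0 1, .det 1 1, .det 2 1] 1536 256 (kidsXPart24 ++ kidsXPart25 ++ kidsXPart26 ++ kidsXPart27) = true := by
  decide +kernel

theorem sliceX7 : sliceOK CfsgLib.Spor.Ru.ActR.act dat.xw [] dat.xpows levX0
    [levX1, levX2, levX3] [.det 0 1, .det 1 1, .det 2 1] 1792 256 (kidsXPart28 ++ kidsXPart29 ++ kidsXPart30 ++ kidsXPart31) = true := by
  decide +kernel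

theorem sliceX8 : sliceOK CfsgLib.Spor.Ru.ActR.act dat.xw [] dat.xpows levX0
    [levX1, levX2, levX3] [.det 0 1, .det 1 1, .det 2 1] 2048 256 (kidsXPart32 ++ kidsXPart33 ++ kidsXPart34 ++ kidsXPart35) = true := by
  decide +kernel

theorem sliceX9 : sliceOK CfsgLib.Spor.Ru.ActR.act dat.xw [] dat.xpows levX0
    [levX1, levX2, levX3] [.det 0 1, .det 1 1, .det 2 1] 2304 256 (kidsXPart36 ++ kidsXPart37 ++ kidsXPart38 ++ kidsXPart39) = true := by
  decide +kernel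

theorem sliceX10 : sliceOK CfsgLib.Spor.Ru.ActR.act dat.xw [] dat.xpows levX0
    [levX1, levX2, levX3] [.det 0 1, .det 1 1, .det 2 1] 2560 256 (kidsXPart40 ++ kidsXPart41 ++ kidsXPart42 ++ kidsXPart43) = true := by
  decide +kernel

theorem sliceX11 : sliceOK CfsgLib.Spor.Ru.ActR.act dat.xw [] dat.xpows levX0
    [levX1, levX2, levX3] [.det 0 1, .det 1 1, .det 2 1] 2816 256 (kidsXPart44 ++ kidsXPart45 ++ kidsXPart46 ++ kidsXPart47) = true := by
  decide +kernel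

theorem sliceX12 : sliceOK CfsgLib.Spor.Ru.ActR.act dat.xw [] dat.xpows levX0
    [levX1, levX2, levX3] [.det 0 1, .det 1 1, .det 2 1] 3072 256 (kidsXPart48 ++ kidsXPart49 ++ kidsXPart50 ++ kidsXPart51) = true := by
  decide +kernel

theorem sliceX13 : sliceOK CfsgLib.Spor.Ru.ActR.act dat.xw [] dat.xpows levX0
    [levX1, levX2, levX3] [.det 0 1, .det 1 1, .det 2 1] 3328 256 (kidsXPart52 ++ kidsXPart53 ++ kidsXPart54 ++ kidsXPart55) = true := by
  decide +kernel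

theorem sliceX14 : sliceOK CfsgLib.Spor.Ru.ActR.act dat.xw [] dat.xpows levX0
    [levX1, levX2, levX3] [.det 0 1, .det 1 1, .det 2 1] 3584 256 (kidsXPart56 ++ kidsXPart57 ++ kidsXPart58 ++ kidsXPart59) = true := by
  decide +kernel

theorem sliceX15 : sliceOK CfsgLib.Spor.Ru.ActR.act dat.xw [] dat.xpows levX0
    [levX1, levX2, levX3] [.det 0 1, .det 1 1, .det 2 1] 3840 220 (kidsXPart60 ++ kidsXPart61 ++ kidsXPart62 ++ kidsXPart63) = true := by
  decide +kernel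

theorem kidsX_eq : kidsX = (kidsXPart0 ++ kidsXPart1 ++ kidsXPart2 ++ kidsXPart3) ++ (kidsXPart4 ++ kidsXPart5 ++ kidsXPart6 ++ kidsXPart7) ++ (kidsXPart8 ++ kidsXPart9 ++ kidsXPart10 ++ kidsXPart11) ++ (kidsXPart12 ++ kidsXPart13 ++ kidsXPart14 ++ kidsXPart15) ++ (kidsXPart16 ++ kidsXPart17 ++ kidsXPart18 ++ kidsXPart19) ++ (kidsXPart20 ++ kidsXPart21 ++ kidsXPart22 ++ kidsXPart23) ++ (kidsXPart24 ++ kidsXPart25 ++ kidsXPart26 ++ kidsXPart27) ++ (kidsXPart28 ++ kidsXPart29 ++ kidsXPart30 ++ kidsXPart31) ++ (kidsXPart32 ++ kidsXPart33 ++ kidsXPart34 ++ kidsXPart35) ++ (kidsXPart36 ++ kidsXPart37 ++ kidsXPart38 ++ kidsXPart39) ++ (kidsXPart40 ++ kidsXPart41 ++ kidsXPart42 ++ kidsXPart43) ++ (kidsXPart44 ++ kidsXPart45 ++ kidsXPart46 ++ kidsXPart47) ++ (kidsXPart48 ++ kidsXPart49 ++ kidsXPart50 ++ kidsXPart51) ++ (kidsXPart52 ++ kidsXPart53 ++ kidsXPart54 ++ kidsXPart55) ++ (kidsXPart56 ++ kidsXPart57 ++ kidsXPart58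 ++ kidsXPart59) ++ (kidsXPart60 ++ kidsXPart61 ++ kidsXPart62 ++ kidsXPart63) := by
  simp only [kidsX, kidsXRow0, kidsXRow1, kidsXRow2, kidsXRow3, List.append_assoc]

theorem searchX_ok : searchOK CfsgLib.Spor.Ru.ActR.act dat.xw [] dat.xpows levX modesX [] [] [] kidsX = true := by
  rw [kidsX_eq]
  exact searchOK_of_slices CfsgLib.Spor.Ru.ActR.act (slice_append CfsgLib.Spor.Ru.ActR.act (slice_append CfsgLib.Spor.Ru.ActR.act (slice_append CfsgLib.Spor.Ru.ActR.act (slice_append CfsgLib.Spor.Ru.ActR.act (slice_append CfsgLib.Spor.Ru.ActR.act (slice_append CfsgLib.Spor.Ru.ActR.act (slice_append CfsgLib.Spor.Ru.ActR.act (slice_append CfsgLib.Spor.Ru.ActR.act (slice_append CfsgLib.Spor.Ru.ActR.act (slice_append CfsgLib.Spor.Ru.ActR.act (slice_append CfsgLib.Spor.Ru.ActR.act (slice_append CfsgLib.Spor.Ru.ActR.act (slice_append CfsgLib.Spor.Ru.ActR.act (slice_append CfsgLib.Spor.Ru.ActR.act (slice_append CfsgLib.Spor.Ru.ActR.act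 sliceX0 sliceX1) sliceX2) sliceX3) sliceX4) sliceX5) sliceX6) sliceX7) sliceX8) sliceX9) sliceX10) sliceX11) sliceX12) sliceX13) sliceX14) sliceX15)

end CfsgLib.Spor.RuOut
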