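import Cfsg.Agent.Lib.Spor.ActCert.Search

/-!
Branches of a search.
-/

set_option autoImplicit false
set_option maxRecDepth 100000
set_option maxHeartbeats 0
set_option Elab.async false

namespace CfsgLib.Spor.RuOut

open CfsgLib.Spor.TC CfsgLib.Spor.ActCert

/-- Branches. -/
def kidsYPart0 : List Branch := [
  .sub [] [.sub [] [.sub [] [.done 0]]],
  .sub [4] [.sub [19, 19, 19, 18, 27, 20, 31, 31, 29, 25, 29, 29] [.out 3219]],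
  .sub [3, 4] [.out 3603],
  .sub [1, 3, 4] [.out 1268],
  .sub [2, 3, 4] [.out 2771],
  .sub [4, 1, 3, 4] [.sub [31, 20, 29, 18, 18, 31, 29, 31, 24, 29, 29] [.out 3049]],
  .sub [3, 1, 3, 4] [.out 1249],
  .sub [2, 1, 3, 4] [.out 2305],
  .sub [3, 2, 3, 4] [.sub [29, 18, 25, 18, 29, 31, 31, 30, 24, 27, 29, 29] [.out 3517]],
  .sub [1, 2, 3, 4] [.out 4011],
  .sub [1, 4, 1, 3, 4] [.out 2235],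
  .sub [2, 4, 1, 3, 4] [.sub [20, 19, 20, 18, 27, 30, 31, 30] [.out 884]],
  .sub [2, 3, 1, 3, 4] [.sub [30, 27, 18, 25, 18, 18, 20, 31, 30, 25, 29, 29] [.out 160]],
  .sub [3, 2, 1, 3, 4] [.sub [19, 19, 20, 18, 31, 27, 30, 31, 30, 27] [.out 3380]],
  .sub [1, 2, 1, 3, 4] [.out 2787],
  .sub [4, 3, 2, 3, 4] [.sub [19, 27, 20, 18, 18, 24, 27, 20, 24] [.out 2422]],
  .sub [1, 3, 2, 3, 4] [.sub [18, 25, 19, 18, 29, 31, 25, 31, 29, 25, 29] [.sub [30, 27, 19, 20, 18, 25, 31, 31, 20, 25] [.out 3734]]],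
  .sub [3, 1, 2, 3, 4] [.out 3044],
  .sub [2, 1, 4, 1, 3, 4] [.out 3928],
  .sub [3, 2, 4, 1, 3, 4] [.sub [19, 31, 24, 18, 19, 29, 30, 20, 30, 20, 29, 25, 29, 29] [.out 3379]],
  .sub [1, 2, 4, 1, 3, 4] [.sub [20, 29, 24, 24, 19, 18, 27, 24, 31, 31, 29, 25, 29] [.out 2048]],
  .sub [3, 2, 3, 1, 3, 4] [.sub [24, 18, 18, 29, 31, 30, 20, 20, 30, 29] [.sub [27, 30, 18, 19, 18, 25, 31, 25, 20, 30, 27, 29] [.out 7]]],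
  .sub [1, 2, 3, 1, 3, 4] [.out 3158],
  .sub [4, 3, 2, 1, 3, 4] [.out 3010],
  .sub [1, 3, 2, 1, 3, 4] [.sub [20, 25, 27, 18, 31, 31, 31, 27, 30] [.out 3940]],
  .sub [2, 3, 2, 1, 3, 4] [.sub [18, 20, 31, 20, 18, 24, 29, 25, 31, 24, 27, 30, 29] [.out 931]],
  .sub [3, 1, 2, 1, 3, 4] [.out 3067],
  .sub [1, 4, 3, 2, 3, 4] [.sub [27, 19, 18, 31, 18, 24, 25, 31, 27, 30] [.out 3631]],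
  .sub [4, 1, 3, 2, 3, 4] [.sub [29, 18, 18, 31, 25, 20, 20, 30, 29, 29] [.out 2984]],
  .sub [3, 1, 3, 2, 3, 4] [.out 1171],
  .sub [2, 1, 3, 2, 3, 4] [.out 2610],
  .sub [4, 3, 1, 2, 3, 4] [.sub [31, 20, 18, 27, 18, 24, 30, 20, 31, 29, 25, 29, 29] [.out 1773]],
  .sub [1, 3, 1, 2, 3, 4] [.sub [20, 30, 19, 25, 18, 29, 20, 30, 20, 20, 30, 27, 29, 29] [.out 3429]],
  .sub [2, 3, 1, 2, 3, 4] [.out 3499],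
  .sub [3, 2, 1, 4, 1, 3, 4] [.out 1075],
  .sub [1, 2, 1, 4, 1, 3, 4] [.out 3618],
  .sub [4, 3, 2, 4, 1, 3, 4] [.out 2182],
  .sub [1, 3, 2, 4, 1, 3, 4] [.sub [30, 27, 19, 20, 18, 29, 30, 20, 31, 27, 30] [.out 1961]],
  .sub [2, 3, 2, 4, 1, 3, 4] [.sub [18, 24, 29, 19, 19, 18, 27, 24, 20, 24, 20, 27, 30, 29] [.out 3970]],
  .sub [3, 1, 2, 4, 1, 3, 4] [.sub [29, 20, 24, 24, 18, 20, 24, 31, 25, 20, 29, 25, 29] [.out 2397]],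
  .sub [4, 3, 2, 3, 1, 3, 4] [.sub [30, 19, 25, 19, 30, 24, 24, 20, 20, 30, 27, 29, 29] [.out 1785]],
  .sub [1, 3, 2, 3, 1, 3, 4] [.sub [19, 27, 31, 18, 20, 27, 31, 30, 29, 29] [.out 2845]],
  .sub [2, 3, 2, 3, 1, 3, 4] [.sub [27, 25, 18, 25, 18, 18, 31, 25, 20, 31, 24, 27, 30] [.out 3129]],
  .sub [3, 1, 2, 3, 1, 3, 4] [.sub [24, 20, 18, 18, 18, 31, 30, 20, 27, 30, 29] [.sub [18, 31, 31, 18, 18, 20, 24, 31, 25, 20, 29, 29] [.out 480]]],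
  .sub [1, 4, 3, 2, 1, 3, 4] [.sub [24, 30, 18, 18, 19, 18, 29, 24, 31, 20, 30, 25] [.out 2331]],
  .sub [2, 4, 3, 2, 1, 3, 4] [.out 2413],
  .sub [4, 1, 3, 2, 1, 3, 4] [.out 2106],
  .sub [3, 1, 3, 2, 1, 3, 4] [.out 3604],
  .sub [2, 1, 3, 2, 1, 3, 4] [.out 3797],
  .sub [1, 2, 3, 2, 1, 3, 4] [.out 3036],
  .sub [4, 3, 1, 2, 1, 3, 4] [.sub [20, 18, 27, 18, 19, 27, 24, 29, 31, 30, 29, 29] [.out 3804]],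
  .sub [1, 3, 1, 2, 1, 3, 4] [.sub [19, 18, 20, 25, 19, 24, 20, 24, 30, 20, 25, 29, 29] [.out 2578]],
  .sub [2, 3, 1, 2, 1, 3, 4] [.sub [25, 19, 19, 18, 20, 24, 31, 31, 30] [.out 3888]],
  .sub [4, 1, 4, 3, 2, 3, 4] [.sub [27, 31, 18, 29, 18, 31, 20, 24, 20, 29, 25, 29, 29] [.out 1087]],
  .sub [3, 1, 4, 3, 2, 3, 4] [.sub [29, 30, 31, 18, 25, 27, 31, 30, 27, 29] [.out 12]],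
  .sub [2, 1, 4, 3, 2, 3, 4] [.out 3543],
  .sub [3, 4, 1, 3, 2, 3, 4] [.sub [27, 29, 18, 19, 18, 20, 25, 20, 20, 25] [.out 3286]],
  .sub [2, 4, 1, 3, 2, 3, 4] [.out 2340],
  .sub [4, 3, 1, 3, 2, 3, 4] [.sub [27, 24, 18, 29, 18, 25, 27, 31, 31, 29, 25] [.out 1788]],
  .sub [1, 3, 1, 3, 2, 3, 4] [.sub [18, 20, 18, 18, 31, 27, 30, 20, 20, 27, 30, 29] [.sub [24, 20, 25, 18, 31, 20, 25, 20, 27, 30, 29, 29] [.out 3101]]],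
  .sub [2, 3, 1, 3, 2, 3, 4] [.sub [19, 31, 20, 19, 19, 27, 31, 20, 20, 29] [.out 2671]],
  .sub [3, 2, 1, 3, 2, 3, 4] [.sub [19, 18, 27, 20, 18, 18, 24, 20, 24, 27, 24, 29, 25, 29] [.out 3965]],
  .sub [1, 4, 3, 1, 2, 3, 4] [.sub [25, 20, 20, 19, 18, 27, 30, 31, 24, 27, 30, 29, 29] [.sub [19, 24, 31, 24, 18, 25, 31, 29, 31, 25, 29] [.out 3638]]],
  .sub [2, 4, 3, 1, 2, 3, 4] [.sub [19, 18, 29, 18, 18, 31, 31, 20, 20, 27, 29] [.out 1313]]]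

/-- Branches. -/
def kidsYPart1 : List Branch := [
  .sub [4, 1, 3, 1, 2, 3, 4] [.sub [29, 25, 18, 29, 18, 25, 27, 20, 31] [.out 3498]],
  .sub [2, 1, 3, 1, 2, 3, 4] [.sub [30, 20, 19, 31, 18, 18, 29, 24, 27, 24, 30, 27, 29, 29] [.sub [25, 18, 24, 25, 27, 31, 30, 27, 29] [.out 3741]]],
  .sub [3, 2, 3, 1, 2, 3, 4] [.sub [19, 20, 19, 19, 18, 25, 20, 20, 20, 20, 30] [.out 1499]],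
  .sub [1, 2, 3, 1, 2, 3, 4] [.sub [29, 25, 19, 27, 30, 20, 20] [.out 689]],
  .sub [4, 3, 2, 1, 4, 1, 3, 4] [.sub [29, 31, 19, 20, 19, 29, 20, 20, 20, 27, 29] [.out 4016]],
  .sub [3, 1, 2, 1, 4, 1, 3, 4] [.sub [19, 18, 31, 18, 18, 27, 24, 31, 20, 20, 30, 27, 29, 29] [.out 3629]],
  .sub [1, 4, 3, 2, 4, 1, 3, 4] [.sub [25, 27, 19, 29, 18, 31, 20, 29, 24, 30, 29] [.out 3446]],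
  .sub [2, 4, 3, 2, 4, 1, 3, 4] [.out 2475],
  .sub [4, 1, 3, 2, 4, 1, 3, 4] [.sub [18, 29, 19, 18, 31, 30, 29, 31, 30, 25, 29, 29] [.out 3540]],
  .sub [3, 1, 3, 2, 4, 1, 3, 4] [.sub [19, 31, 24, 27, 19, 24, 24, 20, 24, 20, 29] [.sub [27, 24, 25, 19, 18, 20, 30, 24, 25, 20, 29] [.bad [19, 20, 19, 18, 18, 18, 25, 24, 30, 20, 29, 29] 1]]],
  .sub [2, 1, 3, 2, 4, 1, 3, 4] [.sub [19, 18, 20, 19, 18, 20, 30, 24, 20, 30, 25, 29] [.out 3049]],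
  .sub [1, 2, 3, 2, 4, 1, 3, 4] [.sub [20, 19, 19, 19, 25, 31, 25, 31, 30, 27] [.out 2577]],
  .sub [4, 3, 1, 2, 4, 1, 3, 4] [.sub [31, 19, 25, 18, 18, 30, 25, 24, 31, 29, 25] [.out 3285]],
  .sub [1, 3, 1, 2, 4, 1, 3, 4] [.out 1582],
  .sub [2, 3, 1, 2, 4, 1, 3, 4] [.sub [31, 24, 19, 20, 18, 18, 29, 31, 27, 25, 31, 30] [.out 3895]],
  .sub [1, 4, 3, 2, 3, 1, 3, 4] [.sub [30, 20, 19, 20, 18, 31, 24, 25, 20, 30, 27] [.out 3208]],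
  .sub [2, 4, 3, 2, 3, 1, 3, 4] [.out 2710],
  .sub [4, 1, 3, 2, 3, 1, 3, 4] [.out 1238],
  .sub [3, 1, 3, 2, 3, 1, 3, 4] [.out 3983],
  .sub [2, 1, 3, 2, 3, 1, 3, 4] [.sub [19, 31, 19, 20, 18, 24, 30, 20, 31, 29, 29] [.out 2749]],
  .sub [1, 2, 3, 2, 3, 1, 3, 4] [.sub [25, 19, 25, 19, 30, 20, 20, 30, 25] [.out 2393]],
  .sub [4, 3, 1, 2, 3, 1, 3, 4] [.sub [29, 19, 29, 18, 24, 30, 25, 31, 30, 29, 29] [.out 3798]],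
  .sub [1, 3, 1, 2, 3, 1, 3, 4] [.out 1237],
  .sub [2, 3, 1, 2, 3, 1, 3, 4] [.out 3832],
  .sub [4, 1, 4, 3, 2, 1, 3, 4] [.sub [27, 25, 20, 18, 24, 29, 25, 31, 30, 25] [.sub [30, 20, 19, 31, 18, 18, 30, 25, 31, 20, 30, 25, 29] [.out 420]]],
  .sub [3, 1, 4, 3, 2, 1, 3, 4] [.sub [20, 24, 18, 27, 24, 29, 31, 30, 25] [.out 122]],
  .sub [2, 1, 4, 3, 2, 1, 3, 4] [.out 3244],
  .sub [3, 2, 4, 3, 2, 1, 3, 4] [.out 3632],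
  .sub [1, 2, 4, 3, 2, 1, 3, 4] [.out 1245],
  .sub [3, 4, 1, 3, 2, 1, 3, 4] [.sub [20, 18, 27, 27, 18, 18, 27, 31, 29, 31, 27, 30, 29, 29] [.out 3460]],
  .sub [1, 4, 1, 3, 2, 1, 3, 4] [.out 2347],
  .sub [2, 4, 1, 3, 2, 1, 3, 4] [.out 3552],
  .sub [4, 3, 1, 3, 2, 1, 3, 4] [.out 3800],
  .sub [1, 3, 1, 3, 2, 1, 3, 4] [.out 3630],
  .sub [2, 3, 1, 3, 2, 1, 3, 4] [.sub [27, 19, 19, 20, 18, 20, 31, 24, 30, 25] [.sub [24, 24, 18, 18, 19, 30, 31, 25, 29, 29] [.out 3626]]],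
  .sub [3, 2, 1, 3, 2, 1, 3, 4] [.sub [31, 27, 18, 18, 18, 18, 31, 27, 29, 20, 24, 29, 25, 29] [.out 3876]],
  .sub [1, 2, 1, 3, 2, 1, 3, 4] [.out 3364],
  .sub [4, 1, 2, 3, 2, 1, 3, 4] [.out 3661],
  .sub [3, 1, 2, 3, 2, 1, 3, 4] [.out 3955],
  .sub [1, 4, 3, 1, 2, 1, 3, 4] [.out 1596],
  .sub [2, 4, 3, 1, 2, 1, 3, 4] [.out 3702],
  .sub [4, 1, 3, 1, 2, 1, 3, 4] [.sub [29, 19, 25, 18, 18, 31, 29, 24, 30, 25, 29] [.out 1668]],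
  .sub [2, 1, 3, 1, 2, 1, 3, 4] [.sub [27, 19, 29, 18, 19, 18, 27, 30, 20, 24, 29] [.out 3644]],
  .sub [3, 2, 3, 1, 2, 1, 3, 4] [.out 1103],
  .sub [1, 2, 3, 1, 2, 1, 3, 4] [.sub [30, 20, 31, 18, 19, 27, 29, 25, 24, 30, 29, 29] [.out 704]],
  .sub [3, 4, 1, 4, 3, 2, 3, 4] [.out 3016],
  .sub [2, 4, 1, 4, 3, 2, 3, 4] [.out 1876],
  .sub [4, 3, 1, 4, 3, 2, 3, 4] [.sub [19, 29, 31, 18, 20, 27, 29, 29] [.out 3143]],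
  .sub [1, 3, 1, 4, 3, 2, 3, 4] [.sub [30, 19, 18, 24, 18, 24, 20, 30, 20, 30, 25] [.out 2620]],
  .sub [2, 3, 1, 4, 3, 2, 3, 4] [.sub [19, 19, 30, 18, 18, 29, 25, 24, 29, 25, 29] [.sub [18, 25, 20, 19, 31, 30, 24, 20, 30, 27, 29, 29] [.out 213]]],
  .sub [3, 2, 1, 4, 3, 2, 3, 4] [.sub [24, 19, 18, 31, 25, 20, 31, 20, 27, 29, 29] [.out 1622]],
  .sub [4, 3, 4, 1, 3, 2, 3, 4] [.sub [19, 31, 29, 18, 19, 29, 30, 24, 20, 29] [.out 1194]],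
  .sub [1, 3, 4, 1, 3, 2, 3, 4] [.sub [20, 30, 20, 24, 18, 20, 20, 20, 29] [.out 316]],
  .sub [2, 3, 4, 1, 3, 2, 3, 4] [.sub [25, 18, 19, 18, 18, 24, 30, 24, 20, 27, 30, 29, 29] [.out 3141]],
  .sub [3, 2, 4, 1, 3, 2, 3, 4] [.out 3975],
  .sub [2, 4, 3, 1, 3, 2, 3, 4] [.sub [24, 31, 24, 18, 18, 31, 20, 30, 20, 30, 27, 29] [.out 2686]],
  .sub [4, 1, 3, 1, 3, 2, 3, 4] [.sub [20, 19, 19, 18, 25, 27, 20, 31, 29, 25, 29] [.out 3345]],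
  .sub [2, 1, 3, 1, 3, 2, 3, 4] [.out 3691],
  .sub [3, 2, 3, 1, 3, 2, 3, 4] [.sub [31, 24, 29, 18, 18, 31, 27, 29, 24, 25, 29, 29] [.sub [19, 19, 20, 18, 18, 20, 20, 20, 24, 30, 25] [.out 1029]]],
  .sub [1, 2, 3, 1, 3, 2, 3, 4] [.out 3968],
  .sub [4, 3, 2, 1, 3, 2, 3, 4] [.sub [18, 18, 30, 19, 18, 20, 27, 30, 31, 30, 25, 29, 29] [.out 3408]],
  .sub [1, 3, 2, 1, 3, 2, 3, 4] [.sub [27, 30, 20, 18, 29, 31, 20, 20, 27] [.sub [18, 29, 18, 27, 24, 29, 20, 20, 30, 27, 29, 29] [.out 213]]],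
  .sub [2, 3, 2, 1, 3, 2, 3, 4] [.sub [18, 18, 19, 24, 18, 31, 29, 24, 25, 20, 30, 25, 29, 29] [.sub [19, 24, 19, 25, 18, 18, 20, 31, 20, 24, 30] [.out 2967]]],
  .sub [3, 2, 4, 3, 1, 2, 3, 4] [.out 2732]]

/-- Branches. -/
def kidsYPart2 : List Branch := [
  .sub [3, 4, 1, 3, 1, 2, 3, 4] [.out 2940],
  .sub [1, 4, 1, 3, 1, 2, 3, 4] [.sub [30, 18, 18, 24, 18, 27, 30, 20, 20, 30, 27, 29, 29] [.out 167]],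
  .sub [2, 4, 1, 3, 1, 2, 3, 4] [.sub [20, 18, 18, 27, 18, 31, 24, 31, 31, 25] [.sub [24, 31, 18, 20, 18, 30, 31, 20, 25, 20, 30, 25, 29, 29] [.done 1]]],
  .sub [3, 2, 1, 3, 1, 2, 3, 4] [.out 3099],
  .sub [1, 2, 1, 3, 1, 2, 3, 4] [.sub [30, 24, 31, 24, 18, 20, 27, 20, 31, 29] [.out 1799]],
  .sub [4, 3, 2, 3, 1, 2, 3, 4] [.out 3685],
  .sub [1, 3, 2, 3, 1, 2, 3, 4] [.sub [30, 18, 18, 24, 20, 20, 30, 25] [.out 3678]],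
  .sub [4, 1, 2, 3, 1, 2, 3, 4] [.out 1202],
  .sub [3, 1, 2, 3, 1, 2, 3, 4] [.sub [19, 18, 24, 24, 18, 24, 24, 24, 20, 20, 25, 29, 29] [.out 3031]],
  .sub [4, 3, 1, 2, 1, 4, 1, 3, 4] [.out 2095],
  .sub [1, 3, 1, 2, 1, 4, 1, 3, 4] [.sub [25, 18, 30, 20, 18, 30, 29, 24, 31, 29, 25, 29, 29] [.out 3263]],
  .sub [2, 3, 1, 2, 1, 4, 1, 3, 4] [.sub [31, 18, 27, 20, 18, 18, 25, 31, 20, 30, 27, 29, 29] [.sub [18, 25, 19, 25, 18, 29, 25, 31, 20, 27, 30, 29] [.out 1022]]],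
  .sub [4, 1, 4, 3, 2, 4, 1, 3, 4] [.sub [25, 24, 27, 18, 18, 30, 24, 25, 20, 30, 27, 29, 29] [.sub [18, 29, 19, 25, 19, 20, 31, 30, 20, 20, 30, 25, 29] [.out 3762]]],
  .sub [3, 1, 4, 3, 2, 4, 1, 3, 4] [.sub [18, 27, 25, 18, 31, 20, 24] [.out 3051]],
  .sub [2, 1, 4, 3, 2, 4, 1, 3, 4] [.out 3135],
  .sub [3, 2, 4, 3, 2, 4, 1, 3, 4] [.sub [31, 31, 18, 30, 20, 18, 30, 20, 31, 20, 25, 29, 29] [.out 944]],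
  .sub [1, 2, 4, 3, 2, 4, 1, 3, 4] [.out 3372],
  .sub [3, 4, 1, 3, 2, 4, 1, 3, 4] [.out 3769],
  .sub [1, 4, 1, 3, 2, 4, 1, 3, 4] [.sub [27, 20, 19, 27, 19, 18, 29, 20, 31, 20, 24, 27, 29] [.out 1398]],
  .sub [2, 4, 1, 3, 2, 4, 1, 3, 4] [.sub [24, 30, 19, 19, 19, 27, 24, 27, 24, 25, 29, 29] [.sub [29, 18, 27, 27, 18, 27, 29, 20, 31, 20, 30, 25, 29, 29] [.out 7]]],
  .sub [4, 3, 1, 3, 2, 4, 1, 3, 4] [.sub [18, 20, 31, 18, 19, 18, 20, 30, 29, 31, 20, 29, 25, 29, 29] [.out 2745]],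
  .sub [1, 3, 1, 3, 2, 4, 1, 3, 4] [.out 2938],
  .sub [2, 3, 1, 3, 2, 4, 1, 3, 4] [.out 2532],
  .sub [3, 2, 1, 3, 2, 4, 1, 3, 4] [.out 2962],
  .sub [1, 2, 1, 3, 2, 4, 1, 3, 4] [.sub [19, 18, 19, 29, 18, 20, 31, 31, 27, 30] [.out 2957]],
  .sub [3, 1, 2, 3, 2, 4, 1, 3, 4] [.sub [27, 24, 25, 19, 31, 30, 20, 24, 30, 29] [.out 3734]],
  .sub [1, 4, 3, 1, 2, 4, 1, 3, 4] [.sub [29, 19, 19, 20, 18, 18, 27, 24, 31, 20] [.out 1323]],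
  .sub [2, 4, 3, 1, 2, 4, 1, 3, 4] [.out 3709],
  .sub [4, 1, 3, 1, 2, 4, 1, 3, 4] [.out 2421],
  .sub [2, 1, 3, 1, 2, 4, 1, 3, 4] [.out 3476],
  .sub [3, 2, 3, 1, 2, 4, 1, 3, 4] [.sub [30, 31, 20, 25, 18, 31, 31, 24, 25, 24, 30, 25] [.out 2578]],
  .sub [1, 2, 3, 1, 2, 4, 1, 3, 4] [.out 3466],
  .sub [4, 1, 4, 3, 2, 3, 1, 3, 4] [.out 3582],
  .sub [2, 1, 4, 3, 2, 3, 1, 3, 4] [.out 4022],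
  .sub [3, 2, 4, 3, 2, 3, 1, 3, 4] [.out 3331],
  .sub [3, 4, 1, 3, 2, 3, 1, 3, 4] [.out 3470],
  .sub [1, 4, 1, 3, 2, 3, 1, 3, 4] [.out 3526],
  .sub [2, 4, 1, 3, 2, 3, 1, 3, 4] [.sub [18, 18, 20, 19, 18, 25, 31, 25, 31, 30] [.out 2875]],
  .sub [4, 3, 1, 3, 2, 3, 1, 3, 4] [.out 3405],
  .sub [1, 3, 1, 3, 2, 3, 1, 3, 4] [.sub [18, 25, 19, 18, 24, 29, 24, 20, 29, 29] [.out 2805]],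
  .sub [2, 3, 1, 3, 2, 3, 1, 3, 4] [.sub [24, 24, 18, 31, 24, 18, 29, 20, 24, 20, 30, 25, 29, 29] [.out 960]],
  .sub [3, 2, 1, 3, 2, 3, 1, 3, 4] [.out 2377],
  .sub [1, 2, 1, 3, 2, 3, 1, 3, 4] [.sub [18, 24, 27, 19, 18, 25, 31, 20, 20, 27, 30] [.out 1522]],
  .sub [3, 1, 2, 3, 2, 3, 1, 3, 4] [.out 3238],
  .sub [1, 4, 3, 1, 2, 3, 1, 3, 4] [.out 3678],
  .sub [2, 4, 3, 1, 2, 3, 1, 3, 4] [.out 2831],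
  .sub [2, 1, 3, 1, 2, 3, 1, 3, 4] [.out 2468],
  .sub [3, 2, 3, 1, 2, 3, 1, 3, 4] [.sub [19, 18, 19, 18, 29, 25, 24, 27, 24, 25] [.out 1463]],
  .sub [1, 2, 3, 1, 2, 3, 1, 3, 4] [.out 3924],
  .sub [3, 4, 1, 4, 3, 2, 1, 3, 4] [.sub [25, 24, 24, 20, 18, 29, 20, 30, 20, 20, 30, 27] [.out 525]],
  .sub [1, 4, 1, 4, 3, 2, 1, 3, 4] [.sub [31, 31, 20, 18, 18, 27, 30, 20, 20, 27, 30] [.out 1760]],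
  .sub [2, 4, 1, 4, 3, 2, 1, 3, 4] [.sub [20, 19, 31, 24, 18, 24, 31, 20, 20, 25, 29, 29] [.out 3926]],
  .sub [4, 3, 1, 4, 3, 2, 1, 3, 4] [.sub [24, 30, 31, 19, 18, 24, 31, 25, 20, 30, 27, 29] [.out 3888]],
  .sub [1, 3, 1, 4, 3, 2, 1, 3, 4] [.sub [29, 18, 31, 19, 24, 29, 24, 31, 29, 25, 29] [.sub [25, 24, 18, 20, 18, 30, 24, 20, 27, 24, 25] [.out 1311]]],
  .sub [2, 3, 1, 4, 3, 2, 1, 3, 4] [.sub [27, 19, 29, 18, 19, 18, 27, 30, 20, 24, 29] [.out 2385]],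
  .sub [3, 2, 1, 4, 3, 2, 1, 3, 4] [.out 911],
  .sub [1, 2, 1, 4, 3, 2, 1, 3, 4] [.sub [25, 18, 19, 19, 18, 29, 30, 20, 24, 30, 25, 29, 29] [.out 3110]],
  .sub [1, 3, 2, 4, 3, 2, 1, 3, 4] [.out 3819],
  .sub [2, 3, 2, 4, 3, 2, 1, 3, 4] [.sub [25, 20, 31, 18, 27, 25, 20, 25, 29, 29] [.sub [19, 30, 20, 19, 18, 27, 31, 29, 24, 30, 27] [.out 177]]],
  .sub [3, 1, 2, 4, 3, 2, 1, 3, 4] [.sub [30, 20, 27, 19, 24, 29, 25, 24, 20, 29, 29] [.out 1778]],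
  .sub [4, 3, 4, 1, 3, 2, 1, 3, 4] [.sub [29, 20, 19, 18, 19, 29, 20, 31, 20, 30, 25, 29, 29] [.sub [29, 24, 31, 19, 20, 31, 24, 20, 29, 25, 29] [.out 3485]]],
  .sub [1, 3, 4, 1, 3, 2, 1, 3, 4] [.sub [31, 20, 29, 18, 18, 31, 30, 27, 24] [.out 2854]],
  .sub [2, 3, 4, 1, 3, 2, 1, 3, 4] [.sub [19, 18, 27, 27, 18, 24, 20, 25, 20, 20, 30, 27, 29] [.out 3125]],
  .sub [3, 1, 4, 1, 3, 2, 1, 3, 4] [.out 2875]]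

/-- Branches. -/
def kidsYPart3 : List Branch := [
  .sub [2, 1, 4, 1, 3, 2, 1, 3, 4] [.out 3668],
  .sub [3, 2, 4, 1, 3, 2, 1, 3, 4] [.sub [20, 18, 30, 25, 18, 18, 29, 24, 20, 31, 30] [.sub [29, 18, 25, 18, 31, 29, 20, 24, 20, 30] [.out 4026]]],
  .sub [1, 2, 4, 1, 3, 2, 1, 3, 4] [.sub [19, 20, 20, 18, 18, 27, 29, 30, 24, 30, 25, 29, 29] [.out 2489]],
  .sub [2, 4, 3, 1, 3, 2, 1, 3, 4] [.out 3900],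
  .sub [4, 1, 3, 1, 3, 2, 1, 3, 4] [.sub [18, 18, 20, 19, 20, 18, 25, 31, 31, 20, 20, 29, 25, 29, 29] [.out 46]],
  .sub [2, 1, 3, 1, 3, 2, 1, 3, 4] [.sub [19, 20, 19, 18, 24, 24, 27, 20, 24, 29] [.out 430]],
  .sub [3, 2, 3, 1, 3, 2, 1, 3, 4] [.out 3345],
  .sub [1, 2, 3, 1, 3, 2, 1, 3, 4] [.out 3451],
  .sub [4, 3, 2, 1, 3, 2, 1, 3, 4] [.out 3422],
  .sub [1, 3, 2, 1, 3, 2, 1, 3, 4] [.out 2921],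
  .sub [2, 3, 2, 1, 3, 2, 1, 3, 4] [.sub [29, 31, 24, 18, 19, 31, 24, 30, 20, 29, 29] [.out 4044]],
  .sub [4, 1, 2, 1, 3, 2, 1, 3, 4] [.out 3018],
  .sub [3, 1, 2, 1, 3, 2, 1, 3, 4] [.sub [29, 24, 18, 30, 24, 20, 29, 29] [.sub [18, 18, 20, 20, 18, 25, 24, 24, 20, 20] [.out 551]]],
  .sub [3, 4, 1, 2, 3, 2, 1, 3, 4] [.out 3723],
  .sub [4, 3, 1, 2, 3, 2, 1, 3, 4] [.sub [18, 18, 27, 18, 18, 30, 25, 31, 20, 29, 25] [.out 1937]],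
  .sub [1, 3, 1, 2, 3, 2, 1, 3, 4] [.out 3154],
  .sub [2, 3, 1, 2, 3, 2, 1, 3, 4] [.sub [18, 18, 19, 18, 25, 31, 27, 20, 20, 27, 30, 29] [.sub [19, 19, 18, 19, 29, 24, 31, 29] [.out 3754]]],
  .sub [4, 1, 4, 3, 1, 2, 1, 3, 4] [.sub [24, 19, 18, 18, 18, 27, 31, 20, 30, 20, 29, 29] [.out 1508]],
  .sub [3, 1, 4, 3, 1, 2, 1, 3, 4] [.out 4044],
  .sub [2, 1, 4, 3, 1, 2, 1, 3, 4] [.out 1211],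
  .sub [3, 2, 4, 3, 1, 2, 1, 3, 4] [.out 2419],
  .sub [1, 2, 4, 3, 1, 2, 1, 3, 4] [.sub [27, 27, 18, 29, 18, 30, 24, 25, 20, 30, 27, 29] [.out 3563]],
  .sub [3, 4, 1, 3, 1, 2, 1, 3, 4] [.out 3766],
  .sub [1, 4, 1, 3, 1, 2, 1, 3, 4] [.sub [31, 25, 20, 25, 19, 18, 27, 29, 30, 24, 27, 29, 29] [.out 4031]],
  .sub [2, 4, 1, 3, 1, 2, 1, 3, 4] [.out 1880],
  .sub [3, 2, 1, 3, 1, 2, 1, 3, 4] [.out 3110],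
  .sub [1, 2, 1, 3, 1, 2, 1, 3, 4] [.out 957],
  .sub [4, 3, 2, 3, 1, 2, 1, 3, 4] [.out 3610],
  .sub [1, 3, 2, 3, 1, 2, 1, 3, 4] [.sub [18, 31, 31, 19, 27, 30, 20, 20, 27, 29, 29] [.out 3867]],
  .sub [4, 1, 2, 3, 1, 2, 1, 3, 4] [.out 3108],
  .sub [3, 1, 2, 3, 1, 2, 1, 3, 4] [.sub [20, 27, 19, 31, 19, 20, 31, 31, 20, 29, 29] [.sub [20, 31, 20, 18, 19, 29, 31, 27, 24, 27, 30, 29, 29] [.out 73]]],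
  .sub [1, 3, 4, 1, 4, 3, 2, 3, 4] [.sub [31, 19, 24, 20, 18, 24, 31, 31, 29, 25, 29, 29] [.out 2311]],
  .sub [3, 2, 4, 1, 4, 3, 2, 3, 4] [.sub [25, 19, 24, 25, 18, 30, 24, 31, 24, 27] [.out 1316]],
  .sub [2, 4, 3, 1, 4, 3, 2, 3, 4] [.out 2283],
  .sub [4, 1, 3, 1, 4, 3, 2, 3, 4] [.out 3267],
  .sub [2, 1, 3, 1, 4, 3, 2, 3, 4] [.out 2079],
  .sub [3, 2, 3, 1, 4, 3, 2, 3, 4] [.sub [25, 31, 29, 18, 27, 31, 30, 20, 20, 30] [.sub [19, 19, 31, 18, 18, 25, 24, 24, 20, 20, 25, 29, 29] [.out 824]]],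
  .sub [1, 2, 3, 1, 4, 3, 2, 3, 4] [.sub [31, 18, 18, 27, 19, 31, 30, 20, 24, 25] [.out 27]],
  .sub [4, 3, 2, 1, 4, 3, 2, 3, 4] [.sub [29, 19, 25, 18, 18, 31, 29, 24, 30, 25, 29] [.out 2875]],
  .sub [2, 3, 2, 1, 4, 3, 2, 3, 4] [.sub [19, 18, 24, 24, 19, 27, 25, 20, 29, 25, 29] [.out 974]],
  .sub [2, 4, 3, 4, 1, 3, 2, 3, 4] [.out 3007],
  .sub [4, 1, 3, 4, 1, 3, 2, 3, 4] [.out 2014],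
  .sub [2, 1, 3, 4, 1, 3, 2, 3, 4] [.out 2304],
  .sub [3, 2, 3, 4, 1, 3, 2, 3, 4] [.out 3552],
  .sub [1, 2, 3, 4, 1, 3, 2, 3, 4] [.sub [31, 19, 20, 18, 19, 29, 24, 20, 25] [.out 1340]],
  .sub [4, 3, 2, 4, 1, 3, 2, 3, 4] [.sub [25, 20, 24, 19, 18, 31, 31, 25, 31, 30, 27, 29] [.sub [29, 19, 29, 20, 18, 25, 20, 31, 20, 29, 25, 29] [.out 2800]]],
  .sub [1, 3, 2, 4, 1, 3, 2, 3, 4] [.out 3423],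
  .sub [2, 3, 2, 4, 1, 3, 2, 3, 4] [.sub [18, 20, 31, 20, 18, 24, 29, 25, 31, 24, 27, 30, 29] [.out 2101]],
  .sub [3, 2, 4, 3, 1, 3, 2, 3, 4] [.sub [31, 20, 19, 19, 24, 25, 27, 20, 20, 30, 27, 29, 29] [.out 3560]],
  .sub [1, 2, 4, 3, 1, 3, 2, 3, 4] [.sub [27, 18, 19, 31, 18, 18, 27, 24, 31, 31, 29, 25, 29] [.out 3140]],
  .sub [3, 4, 1, 3, 1, 3, 2, 3, 4] [.out 4055],
  .sub [2, 4, 1, 3, 1, 3, 2, 3, 4] [.sub [18, 31, 19, 19, 18, 30, 25, 24, 31, 27] [.sub [31, 31, 25, 19, 18, 27, 30, 31, 31, 30, 25] [.out 2800]]],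
  .sub [3, 2, 1, 3, 1, 3, 2, 3, 4] [.sub [20, 30, 31, 19, 24, 24, 27, 24, 29, 25, 29, 29] [.out 18]],
  .sub [1, 2, 1, 3, 1, 3, 2, 3, 4] [.out 3980],
  .sub [4, 3, 2, 3, 1, 3, 2, 3, 4] [.out 870],
  .sub [1, 3, 2, 3, 1, 3, 2, 3, 4] [.sub [30, 27, 18, 25, 18, 18, 25, 24, 27, 31, 27, 30] [.sub [19, 29, 18, 19, 18, 31, 25, 20, 31, 27, 30] [.out 2657]]],
  .sub [2, 3, 2, 3, 1, 3, 2, 3, 4] [.out 3576],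
  .sub [3, 1, 2, 3, 1, 3, 2, 3, 4] [.sub [27, 18, 29, 18, 31, 20, 27, 24, 25, 29] [.out 2704]],
  .sub [1, 4, 3, 2, 1, 3, 2, 3, 4] [.out 2964],
  .sub [2, 4, 3, 2, 1, 3, 2, 3, 4] [.sub [19, 19, 18, 20, 18, 18, 27, 31, 31, 25, 29, 29] [.out 4000]],
  .sub [4, 1, 3, 2, 1, 3, 2, 3, 4] [.sub [27, 24, 19, 29, 18, 25, 31, 31, 24, 20, 25, 29, 29] [.out 3255]],
  .sub [2, 1, 3, 2, 1, 3, 2, 3, 4] [.sub [18, 25, 19, 25, 18, 20, 30, 24, 31] [.out 2526]],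
  .sub [1, 2, 3, 2, 1, 3, 2, 3, 4] [.out 2285],
  .sub [4, 3, 2, 4, 3, 1, 2, 3, 4] [.sub [20, 24, 18, 31, 19, 27, 27, 31, 31, 27, 30, 29] [.out 3822]]]

/-- Branches. -/
def kidsYPart4 : List Branch := [
  .sub [2, 3, 2, 4, 3, 1, 2, 3, 4] [.sub [25, 31, 24, 19, 18, 29, 24, 31, 30, 25, 29, 29] [.out 137]],
  .sub [1, 3, 4, 1, 3, 1, 2, 3, 4] [.sub [18, 30, 20, 24, 19, 29, 24, 29, 24, 20, 30, 27, 29, 29] [.sub [29, 24, 20, 25, 18, 20, 25, 20, 20, 27] [.out 2117]]],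
  .sub [2, 3, 4, 1, 3, 1, 2, 3, 4] [.sub [27, 20, 31, 25, 18, 30, 20, 31, 29, 24, 30, 27] [.out 3427]],
  .sub [3, 1, 4, 1, 3, 1, 2, 3, 4] [.out 2876],
  .sub [2, 1, 4, 1, 3, 1, 2, 3, 4] [.sub [18, 20, 20, 25, 18, 27, 20, 20, 27, 29, 29] [.sub [19, 31, 25, 19, 18, 27, 31, 27, 20, 20, 30, 27, 29] [.out 791]]],
  .sub [3, 2, 4, 1, 3, 1, 2, 3, 4] [.out 2728],
  .sub [1, 2, 4, 1, 3, 1, 2, 3, 4] [.out 560],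
  .sub [4, 3, 2, 1, 3, 1, 2, 3, 4] [.sub [19, 25, 18, 19, 18, 25, 20, 24, 20, 30, 27, 29] [.out 2900]],
  .sub [1, 3, 2, 1, 3, 1, 2, 3, 4] [.sub [30, 19, 30, 18, 18, 25, 27, 20, 24, 30, 25, 29] [.sub [31, 30, 19, 19, 19, 31, 31, 31, 27, 29, 29] [.out 1871]]],
  .sub [2, 3, 2, 1, 3, 1, 2, 3, 4] [.sub [27, 20, 18, 30, 19, 18, 31, 29, 25, 24, 30, 25, 29, 29] [.sub [18, 18, 20, 20, 18, 25, 24, 24, 20, 20] [.out 2966]]],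
  .sub [4, 1, 2, 1, 3, 1, 2, 3, 4] [.sub [19, 31, 27, 18, 18, 27, 24, 31, 20, 30, 27] [.sub [19, 31, 19, 24, 20, 30, 25] [.out 2939]]],
  .sub [3, 1, 2, 1, 3, 1, 2, 3, 4] [.sub [25, 19, 19, 18, 19, 31, 29, 24, 25, 20, 29, 25] [.out 2989]],
  .sub [1, 4, 3, 2, 3, 1, 2, 3, 4] [.sub [30, 20, 27, 19, 24, 29, 25, 24, 20, 29, 29] [.out 1532]],
  .sub [4, 1, 3, 2, 3, 1, 2, 3, 4] [.sub [18, 31, 18, 18, 19, 24, 31, 30, 29] [.out 1134]],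
  .sub [3, 1, 3, 2, 3, 1, 2, 3, 4] [.sub [31, 20, 29, 18, 18, 25, 27, 25, 20, 27, 30] [.sub [29, 18, 25, 18, 18, 25, 27, 30, 20, 29] [.out 1776]]],
  .sub [2, 1, 3, 2, 3, 1, 2, 3, 4] [.sub [30, 18, 19, 20, 31, 25, 20, 29, 25, 29] [.out 615]],
  .sub [4, 3, 1, 2, 3, 1, 2, 3, 4] [.sub [19, 27, 19, 18, 27, 27, 24, 27, 24, 29, 29] [.sub [20, 25, 18, 29, 25, 20, 31, 20, 29, 25, 29, 29] [.out 2777]]],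
  .sub [1, 3, 1, 2, 3, 1, 2, 3, 4] [.out 2062],
  .sub [2, 3, 1, 2, 3, 1, 2, 3, 4] [.sub [30, 18, 29, 19, 20, 18, 31, 27, 24, 29] [.out 2274]],
  .sub [2, 4, 3, 1, 2, 1, 4, 1, 3, 4] [.sub [31, 27, 19, 29, 18, 31, 24, 29, 24, 30, 27] [.out 3798]],
  .sub [4, 1, 3, 1, 2, 1, 4, 1, 3, 4] [.sub [30, 27, 24, 19, 18, 30, 25, 24, 31, 20, 27] [.out 2048]],
  .sub [2, 1, 3, 1, 2, 1, 4, 1, 3, 4] [.out 2917],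
  .sub [3, 2, 3, 1, 2, 1, 4, 1, 3, 4] [.out 1961],
  .sub [1, 2, 3, 1, 2, 1, 4, 1, 3, 4] [.out 2439],
  .sub [1, 4, 1, 4, 3, 2, 4, 1, 3, 4] [.sub [30, 25, 31, 18, 31, 20, 31, 30] [.out 2123]],
  .sub [2, 4, 1, 4, 3, 2, 4, 1, 3, 4] [.sub [18, 27, 24, 18, 18, 30, 20, 20, 24, 29, 25] [.out 2380]],
  .sub [1, 3, 1, 4, 3, 2, 4, 1, 3, 4] [.sub [27, 19, 18, 19, 20, 31, 29, 31, 24, 30, 27, 29, 29] [.out 3690]],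
  .sub [2, 3, 1, 4, 3, 2, 4, 1, 3, 4] [.out 3527],
  .sub [3, 2, 1, 4, 3, 2, 4, 1, 3, 4] [.sub [19, 24, 20, 31, 18, 27, 24, 29, 20, 20, 27] [.sub [31, 19, 27, 18, 29, 20, 20, 31, 27, 30] [.done 6]]],
  .sub [1, 2, 1, 4, 3, 2, 4, 1, 3, 4] [.out 2691],
  .sub [1, 3, 2, 4, 3, 2, 4, 1, 3, 4] [.out 3090],
  .sub [2, 3, 2, 4, 3, 2, 4, 1, 3, 4] [.sub [31, 20, 29, 18, 29, 24, 30, 25, 20, 29] [.sub [19, 30, 20, 19, 18, 31, 29, 20, 24, 29, 29] [.out 2877]]],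
  .sub [3, 1, 2, 4, 3, 2, 4, 1, 3, 4] [.sub [19, 19, 19, 19, 27, 29, 25, 20, 24, 30, 25, 29, 29] [.out 2420]],
  .sub [4, 3, 4, 1, 3, 2, 4, 1, 3, 4] [.sub [20, 18, 24, 18, 25, 20, 31, 31, 27] [.sub [25, 18, 31, 24, 18, 30, 29, 31, 20, 30, 29, 29] [.out 2386]]],
  .sub [1, 3, 4, 1, 3, 2, 4, 1, 3, 4] [.sub [24, 27, 19, 19, 19, 24, 27, 31, 20, 20, 27, 30, 29] [.out 489]],
  .sub [2, 3, 4, 1, 3, 2, 4, 1, 3, 4] [.sub [27, 31, 18, 27, 19, 20, 30, 20] [.out 1131]],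
  .sub [3, 1, 4, 1, 3, 2, 4, 1, 3, 4] [.out 3591],
  .sub [2, 1, 4, 1, 3, 2, 4, 1, 3, 4] [.out 3778],
  .sub [3, 2, 4, 1, 3, 2, 4, 1, 3, 4] [.sub [29, 24, 24, 19, 18, 27, 24, 29] [.out 3953]],
  .sub [1, 2, 4, 1, 3, 2, 4, 1, 3, 4] [.out 3029],
  .sub [2, 4, 3, 1, 3, 2, 4, 1, 3, 4] [.sub [20, 19, 18, 20, 18, 25, 27, 31, 25, 29, 29] [.out 2040]],
  .sub [4, 1, 3, 1, 3, 2, 4, 1, 3, 4] [.out 3663],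
  .sub [2, 1, 3, 1, 3, 2, 4, 1, 3, 4] [.sub [18, 27, 18, 31, 27, 27, 31, 30, 29] [.out 2892]],
  .sub [3, 2, 3, 1, 3, 2, 4, 1, 3, 4] [.sub [27, 19, 24, 19, 31, 20, 31, 20, 27, 30, 29] [.out 2344]],
  .sub [1, 2, 3, 1, 3, 2, 4, 1, 3, 4] [.sub [19, 19, 18, 29, 18, 24, 20, 27, 24, 25, 29] [.sub [20, 24, 25, 19, 24, 31, 27, 24, 20, 27] [.out 2657]]],
  .sub [4, 3, 2, 1, 3, 2, 4, 1, 3, 4] [.sub [18, 31, 19, 19, 18, 24, 31, 31, 20, 27, 30, 29, 29] [.sub [30, 25, 18, 18, 18, 24, 24, 27, 20, 24, 27, 29] [.out 3741]]],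
  .sub [1, 3, 2, 1, 3, 2, 4, 1, 3, 4] [.out 3477],
  .sub [2, 3, 2, 1, 3, 2, 4, 1, 3, 4] [.out 3831],
  .sub [3, 1, 2, 1, 3, 2, 4, 1, 3, 4] [.out 2149],
  .sub [4, 3, 1, 2, 3, 2, 4, 1, 3, 4] [.out 1981],
  .sub [1, 3, 1, 2, 3, 2, 4, 1, 3, 4] [.out 3200],
  .sub [2, 3, 1, 2, 3, 2, 4, 1, 3, 4] [.sub [24, 18, 27, 19, 31, 30, 29, 24, 20, 29, 25] [.out 42]],
  .sub [2, 1, 4, 3, 1, 2, 4, 1, 3, 4] [.out 3903],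
  .sub [3, 2, 4, 3, 1, 2, 4, 1, 3, 4] [.sub [29, 25, 18, 29, 18, 24, 20, 24, 27] [.out 948]],
  .sub [1, 2, 4, 3, 1, 2, 4, 1, 3, 4] [.out 3321],
  .sub [3, 4, 1, 3, 1, 2, 4, 1, 3, 4] [.sub [18, 20, 29, 18, 31, 24, 31, 24] [.sub [18, 20, 20, 18, 31, 30, 27, 24, 27, 30, 29] [.out 1458]]],
  .sub [1, 4, 1, 3, 1, 2, 4, 1, 3, 4] [.sub [31, 24, 19, 20, 18, 18, 29, 31, 27, 25, 31, 30] [.out 1431]],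
  .sub [2, 4, 1, 3, 1, 2, 4, 1, 3, 4] [.out 3212],
  .sub [3, 2, 1, 3, 1, 2, 4, 1, 3, 4] [.out 2474],
  .sub [1, 2, 1, 3, 1, 2, 4, 1, 3, 4] [.sub [18, 29, 19, 18, 31, 30, 29, 31, 30, 25, 29, 29] [.out 3619]],
  .sub [4, 3, 2, 3, 1, 2, 4, 1, 3, 4] [.out 2157],
  .sub [1, 3, 2, 3, 1, 2, 4, 1, 3, 4] [.out 3821],
  .sub [4, 1, 2, 3, 1, 2, 4, 1, 3, 4] [.out 4009],
  .sub [1, 4, 1, 4, 3, 2, 3, 1, 3, 4] [.sub [25, 27, 31, 18, 27, 25, 20, 31, 30, 29] [.sub [25, 24, 25, 19, 31, 29, 31, 20, 20, 27] [.out 2168]]]]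

/-- Branches. -/
def kidsYPart5 : List Branch := [
  .sub [2, 4, 1, 4, 3, 2, 3, 1, 3, 4] [.sub [25, 31, 29, 24, 18, 25, 27, 20, 20, 30, 27] [.out 2355]],
  .sub [3, 2, 1, 4, 3, 2, 3, 1, 3, 4] [.out 3386],
  .sub [1, 3, 2, 4, 3, 2, 3, 1, 3, 4] [.out 3478],
  .sub [2, 3, 2, 4, 3, 2, 3, 1, 3, 4] [.sub [18, 20, 24, 20, 18, 27, 27, 31, 31, 27, 29] [.out 3051]],
  .sub [4, 3, 4, 1, 3, 2, 3, 1, 3, 4] [.out 2487],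
  .sub [2, 3, 4, 1, 3, 2, 3, 1, 3, 4] [.out 3002],
  .sub [3, 1, 4, 1, 3, 2, 3, 1, 3, 4] [.out 1959],
  .sub [2, 1, 4, 1, 3, 2, 3, 1, 3, 4] [.sub [18, 25, 31, 19, 18, 30, 29, 31, 31, 29, 29] [.out 304]],
  .sub [3, 2, 4, 1, 3, 2, 3, 1, 3, 4] [.out 2198],
  .sub [1, 2, 4, 1, 3, 2, 3, 1, 3, 4] [.out 3596],
  .sub [2, 4, 3, 1, 3, 2, 3, 1, 3, 4] [.sub [25, 27, 20, 19, 18, 27, 29, 20, 20, 27] [.out 1131]],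
  .sub [4, 1, 3, 1, 3, 2, 3, 1, 3, 4] [.sub [31, 24, 19, 30, 31, 27, 20, 20, 27, 30, 29, 29] [.out 784]],
  .sub [2, 1, 3, 1, 3, 2, 3, 1, 3, 4] [.out 3670],
  .sub [3, 2, 3, 1, 3, 2, 3, 1, 3, 4] [.out 2452],
  .sub [1, 2, 3, 1, 3, 2, 3, 1, 3, 4] [.sub [20, 19, 19, 19, 18, 31, 24, 20, 30, 20, 25, 29, 29] [.out 3750]],
  .sub [4, 3, 2, 1, 3, 2, 3, 1, 3, 4] [.sub [19, 31, 20, 19, 19, 31, 20, 20, 20, 29, 25, 29] [.sub [31, 20, 20, 19, 18, 31, 24, 31, 31, 29, 29] [.out 801]]],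
  .sub [2, 3, 2, 1, 3, 2, 3, 1, 3, 4] [.sub [24, 24, 18, 19, 31, 25, 24, 31, 27, 30, 29, 29] [.sub [27, 30, 31, 19, 31, 24, 27, 25, 20, 25] [.out 2894]]],
  .sub [3, 1, 2, 1, 3, 2, 3, 1, 3, 4] [.out 3464],
  .sub [4, 3, 1, 2, 3, 2, 3, 1, 3, 4] [.sub [19, 27, 19, 18, 19, 31, 20, 31, 20] [.out 2215]],
  .sub [1, 3, 1, 2, 3, 2, 3, 1, 3, 4] [.sub [31, 30, 18, 19, 20, 30, 20, 31, 27, 30, 29, 29] [.out 2033]],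
  .sub [2, 1, 4, 3, 1, 2, 3, 1, 3, 4] [.out 886],
  .sub [3, 2, 4, 3, 1, 2, 3, 1, 3, 4] [.out 2284],
  .sub [1, 2, 4, 3, 1, 2, 3, 1, 3, 4] [.out 3781],
  .sub [1, 2, 1, 3, 1, 2, 3, 1, 3, 4] [.sub [30, 31, 25, 18, 24, 27, 24, 30, 27, 29] [.out 3021]],
  .sub [4, 3, 2, 3, 1, 2, 3, 1, 3, 4] [.sub [19, 20, 31, 19, 24, 29, 24, 31, 29, 29] [.out 605]],
  .sub [1, 3, 2, 3, 1, 2, 3, 1, 3, 4] [.sub [29, 31, 20, 18, 18, 30, 20, 24, 20, 20, 30, 29] [.out 2138]],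
  .sub [4, 1, 2, 3, 1, 2, 3, 1, 3, 4] [.sub [25, 31, 19, 18, 19, 31, 31, 31, 29, 29] [.out 1316]],
  .sub [3, 1, 2, 3, 1, 2, 3, 1, 3, 4] [.out 3495],
  .sub [1, 3, 4, 1, 4, 3, 2, 1, 3, 4] [.sub [24, 31, 19, 31, 18, 24, 27, 30, 31, 30, 27, 29, 29] [.out 3309]],
  .sub [2, 3, 4, 1, 4, 3, 2, 1, 3, 4] [.out 3564],
  .sub [2, 1, 4, 1, 4, 3, 2, 1, 3, 4] [.out 3974],
  .sub [3, 2, 4, 1, 4, 3, 2, 1, 3, 4] [.sub [20, 19, 18, 20, 18, 24, 20, 30, 31, 20, 27] [.out 3001]],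
  .sub [1, 2, 4, 1, 4, 3, 2, 1, 3, 4] [.out 2480],
  .sub [1, 4, 3, 1, 4, 3, 2, 1, 3, 4] [.sub [18, 20, 19, 19, 19, 30, 25, 27, 24, 27, 30, 29, 29] [.sub [19, 27, 27, 18, 31, 31, 20, 31, 30, 29, 29] [.out 420]]],
  .sub [2, 4, 3, 1, 4, 3, 2, 1, 3, 4] [.sub [31, 19, 18, 18, 18, 25, 24, 20, 20, 30, 27, 29, 29] [.out 1076]],
  .sub [4, 1, 3, 1, 4, 3, 2, 1, 3, 4] [.sub [24, 24, 24, 24, 18, 20, 31, 27, 30] [.out 1742]],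
  .sub [2, 1, 3, 1, 4, 3, 2, 1, 3, 4] [.sub [19, 19, 18, 20, 18, 18, 20, 20, 20, 20, 25, 29] [.out 2190]],
  .sub [3, 2, 3, 1, 4, 3, 2, 1, 3, 4] [.sub [20, 30, 19, 25, 18, 29, 20, 30, 20, 20, 30, 27, 29, 29] [.out 492]],
  .sub [1, 2, 3, 1, 4, 3, 2, 1, 3, 4] [.sub [29, 18, 18, 19, 24, 31, 29, 24, 29, 29] [.sub [24, 31, 19, 29, 18, 20, 31, 29, 31, 29] [.out 1487]]],
  .sub [4, 3, 2, 1, 4, 3, 2, 1, 3, 4] [.sub [27, 31, 19, 27, 29, 30, 31, 30, 27] [.out 3998]],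
  .sub [1, 3, 2, 1, 4, 3, 2, 1, 3, 4] [.sub [31, 25, 18, 18, 31, 25, 20, 24, 29, 25, 29, 29] [.out 3848]],
  .sub [2, 3, 2, 1, 4, 3, 2, 1, 3, 4] [.sub [29, 20, 18, 19, 31, 25, 31, 20, 27, 29] [.out 3076]],
  .sub [3, 1, 2, 1, 4, 3, 2, 1, 3, 4] [.sub [31, 30, 19, 19, 19, 24, 20, 27, 31, 29, 25, 29] [.sub [18, 18, 29, 25, 19, 18, 29, 24, 30, 31, 20, 25, 29, 29] [.out 2835]]],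
  .sub [4, 1, 3, 2, 4, 3, 2, 1, 3, 4] [.sub [20, 25, 18, 18, 24, 25, 31, 30, 25, 29, 29] [.out 251]],
  .sub [3, 1, 3, 2, 4, 3, 2, 1, 3, 4] [.out 777],
  .sub [2, 1, 3, 2, 4, 3, 2, 1, 3, 4] [.sub [19, 29, 19, 25, 18, 18, 25, 24, 30, 24, 20, 30] [.out 1353]],
  .sub [1, 2, 3, 2, 4, 3, 2, 1, 3, 4] [.out 2431],
  .sub [4, 3, 1, 2, 4, 3, 2, 1, 3, 4] [.out 2458],
  .sub [2, 4, 3, 4, 1, 3, 2, 1, 3, 4] [.sub [25, 31, 29, 24, 18, 25, 24, 31, 20, 30, 25, 29, 29] [.out 1159]],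
  .sub [4, 1, 3, 4, 1, 3, 2, 1, 3, 4] [.out 3987],
  .sub [3, 1, 3, 4, 1, 3, 2, 1, 3, 4] [.sub [31, 24, 19, 19, 19, 30, 20, 31, 20, 27, 29, 29] [.out 3646]],
  .sub [2, 1, 3, 4, 1, 3, 2, 1, 3, 4] [.sub [24, 31, 27, 19, 24, 25, 24, 20, 20, 27, 30] [.sub [25, 24, 25, 19, 31, 29, 31, 20, 20, 27] [.out 889]]],
  .sub [3, 2, 3, 4, 1, 3, 2, 1, 3, 4] [.sub [20, 24, 20, 24, 18, 24, 25, 31, 25, 20, 30, 27] [.out 3904]],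
  .sub [1, 2, 3, 4, 1, 3, 2, 1, 3, 4] [.out 3777],
  .sub [1, 3, 1, 4, 1, 3, 2, 1, 3, 4] [.sub [24, 25, 20, 18, 30, 29, 31, 31, 30, 29, 29] [.out 3762]],
  .sub [3, 2, 1, 4, 1, 3, 2, 1, 3, 4] [.out 2419],
  .sub [1, 2, 1, 4, 1, 3, 2, 1, 3, 4] [.out 3476],
  .sub [4, 3, 2, 4, 1, 3, 2, 1, 3, 4] [.sub [29, 24, 18, 18, 19, 29, 31, 25, 20, 20, 30, 27, 29, 29] [.out 2153]],
  .sub [1, 3, 2, 4, 1, 3, 2, 1, 3, 4] [.sub [29, 25, 18, 29, 18, 25, 27, 20, 31] [.out 2093]],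
  .sub [2, 3, 2, 4, 1, 3, 2, 1, 3, 4] [.out 3809],
  .sub [4, 1, 2, 4, 1, 3, 2, 1, 3, 4] [.out 3823],
  .sub [3, 1, 2, 4, 1, 3, 2, 1, 3, 4] [.sub [25, 18, 20, 24, 18, 24, 30, 24, 20, 29, 25] [.out 3883]],
  .sub [3, 2, 4, 3, 1, 3, 2, 1, 3, 4] [.out 1803],
  .sub [1, 2, 4, 3, 1, 3, 2, 1, 3, 4] [.sub [27, 19, 24, 19, 24, 31, 20, 24, 20, 29] [.out 3466]]]

/-- Branches. -/
def kidsYPart6 : List Branch := [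
  .sub [3, 4, 1, 3, 1, 3, 2, 1, 3, 4] [.out 3650],
  .sub [2, 4, 1, 3, 1, 3, 2, 1, 3, 4] [.out 2030],
  .sub [3, 2, 1, 3, 1, 3, 2, 1, 3, 4] [.out 2005],
  .sub [1, 2, 1, 3, 1, 3, 2, 1, 3, 4] [.sub [19, 29, 20, 18, 18, 30, 20, 20, 29, 25] [.out 2888]],
  .sub [4, 3, 2, 3, 1, 3, 2, 1, 3, 4] [.sub [27, 31, 31, 19, 18, 27, 31, 27, 20, 20, 25, 29] [.out 1412]],
  .sub [2, 3, 2, 3, 1, 3, 2, 1, 3, 4] [.out 1397],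
  .sub [4, 1, 2, 3, 1, 3, 2, 1, 3, 4] [.sub [29, 24, 20, 18, 19, 30, 25, 24, 25, 29, 29] [.out 1871]],
  .sub [3, 1, 2, 3, 1, 3, 2, 1, 3, 4] [.sub [19, 29, 25, 18, 30, 31, 24, 30, 27, 29] [.sub [25, 18, 27, 19, 18, 30, 24, 25, 20, 25] [.out 98]]],
  .sub [1, 4, 3, 2, 1, 3, 2, 1, 3, 4] [.sub [18, 25, 19, 20, 18, 18, 20, 31, 29, 24, 25, 29, 29] [.out 3844]],
  .sub [2, 4, 3, 2, 1, 3, 2, 1, 3, 4] [.sub [18, 25, 19, 20, 18, 18, 20, 31, 29, 24, 25, 29, 29] [.out 2717]],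
  .sub [4, 1, 3, 2, 1, 3, 2, 1, 3, 4] [.sub [24, 24, 24, 18, 30, 31, 25, 24, 25, 29] [.out 3807]],
  .sub [3, 1, 3, 2, 1, 3, 2, 1, 3, 4] [.sub [30, 29, 20, 19, 18, 24, 29, 30, 31, 29, 25, 29] [.out 3194]],
  .sub [2, 1, 3, 2, 1, 3, 2, 1, 3, 4] [.sub [19, 18, 19, 20, 31, 27, 20, 20, 29, 25, 29, 29] [.out 749]],
  .sub [1, 2, 3, 2, 1, 3, 2, 1, 3, 4] [.out 3584],
  .sub [3, 4, 1, 2, 1, 3, 2, 1, 3, 4] [.out 2720],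
  .sub [4, 3, 1, 2, 1, 3, 2, 1, 3, 4] [.sub [18, 31, 25, 20, 19, 31, 20, 24, 20] [.sub [24, 24, 18, 18, 19, 30, 31, 25, 29, 29] [.out 3996]]],
  .sub [1, 3, 1, 2, 1, 3, 2, 1, 3, 4] [.sub [27, 27, 18, 29, 18, 30, 24, 25, 20, 30, 27, 29] [.out 2209]],
  .sub [2, 3, 1, 2, 1, 3, 2, 1, 3, 4] [.out 2601],
  .sub [4, 3, 4, 1, 2, 3, 2, 1, 3, 4] [.sub [27, 31, 27, 27, 18, 24, 29, 24, 31, 30, 25] [.out 3821]],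
  .sub [1, 3, 4, 1, 2, 3, 2, 1, 3, 4] [.sub [31, 30, 27, 20, 18, 31, 24, 27, 25, 20, 30, 29] [.out 1376]],
  .sub [2, 3, 4, 1, 2, 3, 2, 1, 3, 4] [.out 3074],
  .sub [2, 4, 3, 1, 2, 3, 2, 1, 3, 4] [.sub [30, 18, 19, 20, 18, 31, 25, 20, 31, 30, 27, 29, 29] [.out 509]],
  .sub [4, 1, 3, 1, 2, 3, 2, 1, 3, 4] [.out 2378],
  .sub [3, 2, 3, 1, 2, 3, 2, 1, 3, 4] [.sub [27, 29, 18, 19, 18, 20, 25, 20, 20, 25] [.out 3959]],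
  .sub [1, 2, 3, 1, 2, 3, 2, 1, 3, 4] [.out 3238],
  .sub [1, 4, 1, 4, 3, 1, 2, 1, 3, 4] [.sub [19, 18, 20, 30, 31, 20, 27, 30] [.out 3344]],
  .sub [2, 4, 1, 4, 3, 1, 2, 1, 3, 4] [.out 2146],
  .sub [1, 3, 1, 4, 3, 1, 2, 1, 3, 4] [.sub [24, 20, 20, 18, 18, 27, 29, 20, 31, 20, 30, 29, 29] [.out 2363]],
  .sub [2, 3, 1, 4, 3, 1, 2, 1, 3, 4] [.out 2888],
  .sub [3, 2, 1, 4, 3, 1, 2, 1, 3, 4] [.out 3102],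
  .sub [1, 2, 1, 4, 3, 1, 2, 1, 3, 4] [.out 3253],
  .sub [4, 3, 2, 4, 3, 1, 2, 1, 3, 4] [.out 2862],
  .sub [1, 3, 2, 4, 3, 1, 2, 1, 3, 4] [.out 2758],
  .sub [2, 3, 2, 4, 3, 1, 2, 1, 3, 4] [.out 407],
  .sub [4, 1, 2, 4, 3, 1, 2, 1, 3, 4] [.sub [24, 18, 19, 24, 18, 31, 24, 29, 24, 30, 29] [.out 2222]],
  .sub [3, 1, 2, 4, 3, 1, 2, 1, 3, 4] [.out 3494],
  .sub [1, 3, 4, 1, 3, 1, 2, 1, 3, 4] [.out 2724],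
  .sub [2, 3, 4, 1, 3, 1, 2, 1, 3, 4] [.out 2000],
  .sub [3, 1, 4, 1, 3, 1, 2, 1, 3, 4] [.sub [31, 19, 30, 19, 18, 27, 29, 31, 20, 30, 29, 29] [.out 1429]],
  .sub [2, 1, 4, 1, 3, 1, 2, 1, 3, 4] [.out 4034],
  .sub [3, 2, 4, 1, 3, 1, 2, 1, 3, 4] [.sub [24, 18, 20, 24, 18, 27, 31, 24, 29, 24, 29, 25, 29] [.out 2577]],
  .sub [1, 2, 4, 1, 3, 1, 2, 1, 3, 4] [.sub [31, 19, 31, 19, 18, 30, 31, 24, 25, 20, 27, 29, 29] [.out 2048]],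
  .sub [4, 3, 2, 1, 3, 1, 2, 1, 3, 4] [.sub [24, 24, 19, 25, 18, 18, 25, 27, 25, 31, 30, 27, 29, 29] [.out 3883]],
  .sub [1, 3, 2, 1, 3, 1, 2, 1, 3, 4] [.out 3249],
  .sub [2, 3, 2, 1, 3, 1, 2, 1, 3, 4] [.out 2634],
  .sub [4, 1, 2, 1, 3, 1, 2, 1, 3, 4] [.out 3791],
  .sub [3, 1, 2, 1, 3, 1, 2, 1, 3, 4] [.sub [25, 19, 25, 18, 19, 30, 20, 27, 31, 30, 25, 29, 29] [.out 2248]],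
  .sub [1, 4, 3, 2, 3, 1, 2, 1, 3, 4] [.out 3495],
  .sub [4, 1, 3, 2, 3, 1, 2, 1, 3, 4] [.out 3586],
  .sub [3, 1, 3, 2, 3, 1, 2, 1, 3, 4] [.out 3938],
  .sub [2, 1, 3, 2, 3, 1, 2, 1, 3, 4] [.sub [18, 20, 29, 18, 20, 24, 29, 31, 29, 25, 29, 29] [.out 3737]],
  .sub [3, 4, 1, 2, 3, 1, 2, 1, 3, 4] [.out 1592],
  .sub [1, 4, 1, 2, 3, 1, 2, 1, 3, 4] [.sub [29, 18, 27, 20, 18, 25, 24, 27, 24, 29, 25] [.out 3110]],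
  .sub [4, 3, 1, 2, 3, 1, 2, 1, 3, 4] [.out 3864],
  .sub [1, 3, 1, 2, 3, 1, 2, 1, 3, 4] [.sub [29, 18, 24, 18, 18, 27, 24, 27, 24, 30, 25, 29] [.out 2674]],
  .sub [2, 3, 1, 2, 3, 1, 2, 1, 3, 4] [.sub [19, 18, 20, 29, 18, 25, 31, 29, 31, 30, 25, 29, 29] [.out 852]],
  .sub [2, 1, 3, 4, 1, 4, 3, 2, 3, 4] [.out 2441],
  .sub [4, 3, 2, 4, 1, 4, 3, 2, 3, 4] [.sub [29, 19, 29, 24, 18, 18, 20, 30, 24, 27, 29, 29] [.sub [19, 19, 18, 31, 18, 29, 24, 25, 24, 30, 25, 29, 29] [.out 2117]]],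
  .sub [1, 3, 2, 4, 1, 4, 3, 2, 3, 4] [.out 3561],
  .sub [3, 2, 4, 3, 1, 4, 3, 2, 3, 4] [.sub [31, 19, 27, 31, 18, 25, 27, 25, 20, 30, 27, 29] [.out 2034]],
  .sub [1, 2, 4, 3, 1, 4, 3, 2, 3, 4] [.out 2104],
  .sub [3, 4, 1, 3, 1, 4, 3, 2, 3, 4] [.out 3799],
  .sub [2, 4, 1, 3, 1, 4, 3, 2, 3, 4] [.sub [25, 27, 18, 20, 19, 18, 31, 31, 30, 24, 29] [.out 171]],
  .sub [3, 2, 1, 3, 1, 4, 3, 2, 3, 4] [.out 2643]]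

/-- Branches. -/
def kidsYPart7 : List Branch := [
  .sub [1, 2, 1, 3, 1, 4, 3, 2, 3, 4] [.out 769],
  .sub [1, 3, 2, 3, 1, 4, 3, 2, 3, 4] [.out 2540],
  .sub [2, 3, 2, 3, 1, 4, 3, 2, 3, 4] [.out 4037],
  .sub [4, 1, 2, 3, 1, 4, 3, 2, 3, 4] [.out 3609],
  .sub [3, 1, 2, 3, 1, 4, 3, 2, 3, 4] [.sub [27, 31, 29, 24, 18, 24, 29, 30, 31, 30, 27] [.out 1883]],
  .sub [1, 4, 3, 2, 1, 4, 3, 2, 3, 4] [.sub [29, 19, 18, 25, 18, 18, 31, 20, 24, 31, 29, 25, 29] [.sub [18, 31, 31, 18, 18, 24, 24, 20, 20, 25, 29, 29] [.out 3791]]],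
  .sub [2, 4, 3, 2, 1, 4, 3, 2, 3, 4] [.sub [24, 20, 31, 20, 19, 25, 20, 30, 20, 30, 25] [.out 2905]],
  .sub [1, 2, 3, 2, 1, 4, 3, 2, 3, 4] [.out 3958],
  .sub [3, 2, 4, 3, 4, 1, 3, 2, 3, 4] [.out 3484],
  .sub [1, 2, 4, 3, 4, 1, 3, 2, 3, 4] [.out 3724],
  .sub [3, 4, 1, 3, 4, 1, 3, 2, 3, 4] [.out 3758],
  .sub [2, 4, 1, 3, 4, 1, 3, 2, 3, 4] [.sub [31, 30, 18, 19, 24, 20, 30, 29, 24, 30, 27, 29] [.out 2823]],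
  .sub [3, 2, 1, 3, 4, 1, 3, 2, 3, 4] [.sub [25, 18, 19, 29, 18, 30, 31, 25, 31, 27, 30, 29, 29] [.sub [31, 19, 24, 18, 24, 18, 30, 31, 31, 30, 24, 30] [.out 668]]],
  .sub [1, 2, 1, 3, 4, 1, 3, 2, 3, 4] [.sub [31, 20, 30, 31, 18, 25, 24, 31, 31, 30, 29] [.out 1367]],
  .sub [4, 3, 2, 3, 4, 1, 3, 2, 3, 4] [.sub [27, 27, 31, 19, 25, 24, 24, 20, 20, 27, 29, 29] [.sub [24, 24, 19, 18, 18, 18, 27, 24, 31, 20, 30, 25, 29] [.out 3276]]],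
  .sub [1, 3, 2, 3, 4, 1, 3, 2, 3, 4] [.out 3336],
  .sub [2, 3, 2, 3, 4, 1, 3, 2, 3, 4] [.sub [25, 24, 25, 18, 19, 30, 31, 20, 20, 20, 30] [.out 4037]],
  .sub [4, 1, 2, 3, 4, 1, 3, 2, 3, 4] [.sub [20, 30, 19, 25, 18, 29, 20, 30, 20, 20, 30, 27, 29, 29] [.out 3998]],
  .sub [3, 1, 2, 3, 4, 1, 3, 2, 3, 4] [.out 3867],
  .sub [1, 4, 3, 2, 4, 1, 3, 2, 3, 4] [.sub [31, 25, 19, 19, 18, 24, 30, 31, 24, 20, 27, 29] [.out 1819]],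
  .sub [2, 4, 3, 2, 4, 1, 3, 2, 3, 4] [.out 3350],
  .sub [4, 1, 3, 2, 4, 1, 3, 2, 3, 4] [.out 2359],
  .sub [3, 1, 3, 2, 4, 1, 3, 2, 3, 4] [.out 2836],
  .sub [2, 1, 3, 2, 4, 1, 3, 2, 3, 4] [.out 1324],
  .sub [1, 2, 3, 2, 4, 1, 3, 2, 3, 4] [.out 3520],
  .sub [4, 3, 2, 4, 3, 1, 3, 2, 3, 4] [.out 2641],
  .sub [1, 3, 2, 4, 3, 1, 3, 2, 3, 4] [.out 3879],
  .sub [2, 3, 2, 4, 3, 1, 3, 2, 3, 4] [.out 2236],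
  .sub [4, 1, 2, 4, 3, 1, 3, 2, 3, 4] [.sub [24, 19, 25, 20, 18, 24, 25, 24, 20, 20, 27, 29] [.out 2699]],
  .sub [3, 1, 2, 4, 3, 1, 3, 2, 3, 4] [.sub [31, 18, 18, 31, 30, 27, 24, 25, 29, 29] [.out 2728]],
  .sub [2, 3, 4, 1, 3, 1, 3, 2, 3, 4] [.sub [24, 19, 18, 19, 18, 31, 20, 25, 20, 30] [.sub [27, 18, 18, 19, 18, 24, 31, 25, 24, 27, 29, 29] [.out 979]]],
  .sub [3, 2, 4, 1, 3, 1, 3, 2, 3, 4] [.out 2289],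
  .sub [1, 2, 4, 1, 3, 1, 3, 2, 3, 4] [.out 2351],
  .sub [4, 3, 2, 1, 3, 1, 3, 2, 3, 4] [.sub [30, 27, 18, 25, 18, 18, 20, 31, 30, 25, 29, 29] [.sub [24, 24, 19, 18, 18, 18, 27, 24, 31, 20, 30, 25, 29] [.out 3869]]],
  .sub [1, 3, 2, 1, 3, 1, 3, 2, 3, 4] [.out 1353],
  .sub [2, 3, 2, 1, 3, 1, 3, 2, 3, 4] [.out 1936],
  .sub [3, 1, 2, 1, 3, 1, 3, 2, 3, 4] [.sub [24, 25, 19, 20, 19, 24, 29, 31, 31, 30, 29, 29] [.sub [19, 19, 27, 18, 19, 25, 31, 31, 20, 27] [.out 2386]]],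
  .sub [1, 4, 3, 2, 3, 1, 3, 2, 3, 4] [.out 328],
  .sub [2, 4, 3, 2, 3, 1, 3, 2, 3, 4] [.out 2902],
  .sub [4, 1, 3, 2, 3, 1, 3, 2, 3, 4] [.sub [24, 20, 24, 19, 20, 20, 29, 24, 30, 25] [.out 704]],
  .sub [3, 1, 3, 2, 3, 1, 3, 2, 3, 4] [.out 4008],
  .sub [2, 1, 3, 2, 3, 1, 3, 2, 3, 4] [.out 3203],
  .sub [1, 2, 3, 2, 3, 1, 3, 2, 3, 4] [.sub [24, 18, 20, 18, 20, 31, 29, 24, 25] [.sub [20, 31, 20, 18, 31, 25, 20, 24, 20, 29] [.out 979]]],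
  .sub [1, 3, 1, 2, 3, 1, 3, 2, 3, 4] [.sub [27, 31, 19, 18, 19, 24, 27, 24, 20, 25] [.out 2643]],
  .sub [4, 1, 4, 3, 2, 1, 3, 2, 3, 4] [.out 3034],
  .sub [3, 1, 4, 3, 2, 1, 3, 2, 3, 4] [.sub [31, 30, 19, 19, 18, 24, 25, 31, 25, 20, 30, 27, 29, 29] [.sub [31, 20, 27, 19, 18, 29, 30, 24, 20, 27, 29, 29] [.out 3004]]],
  .sub [2, 1, 4, 3, 2, 1, 3, 2, 3, 4] [.out 2981],
  .sub [3, 2, 4, 3, 2, 1, 3, 2, 3, 4] [.out 3710],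
  .sub [1, 2, 4, 3, 2, 1, 3, 2, 3, 4] [.out 3083],
  .sub [1, 4, 1, 3, 2, 1, 3, 2, 3, 4] [.out 3980],
  .sub [2, 4, 1, 3, 2, 1, 3, 2, 3, 4] [.sub [31, 19, 20, 24, 18, 24, 20, 30, 24, 20, 27, 29] [.out 4042]],
  .sub [3, 2, 1, 3, 2, 1, 3, 2, 3, 4] [.out 3574],
  .sub [1, 2, 1, 3, 2, 1, 3, 2, 3, 4] [.sub [31, 30, 18, 19, 24, 20, 30, 29, 24, 30, 27, 29] [.sub [20, 19, 19, 19, 19, 31, 31, 20, 31, 30, 25, 29] [.out 3952]]],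
  .sub [4, 1, 2, 3, 2, 1, 3, 2, 3, 4] [.out 3420],
  .sub [3, 1, 2, 3, 2, 1, 3, 2, 3, 4] [.sub [31, 19, 24, 18, 24, 18, 27, 31, 20, 20, 31, 30, 29, 29] [.out 2032]],
  .sub [1, 4, 3, 2, 4, 3, 1, 2, 3, 4] [.sub [31, 18, 19, 18, 18, 18, 31, 31, 20, 29] [.out 362]],
  .sub [2, 4, 3, 2, 4, 3, 1, 2, 3, 4] [.out 3916],
  .sub [1, 2, 3, 2, 4, 3, 1, 2, 3, 4] [.sub [24, 19, 18, 19, 24, 29, 25, 24, 20, 30, 25, 29, 29] [.out 2416]],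
  .sub [2, 1, 3, 4, 1, 3, 1, 2, 3, 4] [.sub [19, 30, 19, 20, 18, 18, 25, 24, 31, 30, 27] [.out 1776]],
  .sub [3, 2, 3, 4, 1, 3, 1, 2, 3, 4] [.sub [18, 20, 20, 25, 18, 31, 29, 25, 20, 20, 29, 25, 29] [.out 1359]],
  .sub [1, 2, 3, 4, 1, 3, 1, 2, 3, 4] [.out 944],
  .sub [2, 3, 1, 4, 1, 3, 1, 2, 3, 4] [.sub [20, 25, 19, 29, 18, 30, 20, 30, 25, 29] [.out 713]],
  .sub [3, 2, 1, 4, 1, 3, 1, 2, 3, 4] [.out 3570],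
  .sub [1, 2, 1, 4, 1, 3, 1, 2, 3, 4] [.sub [30, 24, 29, 18, 20, 31, 31, 25, 20, 30, 29] [.out 1527]]]

/-- Branches. -/
def kidsYPart8 : List Branch := [
  .sub [4, 3, 2, 4, 1, 3, 1, 2, 3, 4] [.out 3458],
  .sub [1, 3, 2, 4, 1, 3, 1, 2, 3, 4] [.out 3859],
  .sub [2, 3, 2, 4, 1, 3, 1, 2, 3, 4] [.sub [25, 31, 24, 19, 18, 29, 24, 31, 30, 25, 29, 29] [.out 3631]],
  .sub [4, 1, 2, 4, 1, 3, 1, 2, 3, 4] [.sub [30, 24, 27, 19, 29, 20, 24, 29, 29] [.sub [20, 18, 31, 24, 19, 24, 25, 24] [.out 525]]],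
  .sub [3, 1, 2, 4, 1, 3, 1, 2, 3, 4] [.sub [30, 29, 18, 19, 18, 27, 24, 27, 24, 30, 25, 29] [.out 3907]],
  .sub [1, 4, 3, 2, 1, 3, 1, 2, 3, 4] [.out 3079],
  .sub [2, 4, 3, 2, 1, 3, 1, 2, 3, 4] [.out 2421],
  .sub [4, 1, 3, 2, 1, 3, 1, 2, 3, 4] [.sub [31, 19, 18, 19, 20, 30, 29] [.out 1783]],
  .sub [3, 1, 3, 2, 1, 3, 1, 2, 3, 4] [.sub [19, 19, 30, 18, 18, 18, 20, 30, 25, 31, 25] [.out 2270]],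
  .sub [2, 1, 3, 2, 1, 3, 1, 2, 3, 4] [.sub [19, 30, 19, 20, 18, 31, 24, 20, 30, 20, 27, 30, 29, 29] [.sub [20, 24, 24, 19, 18, 27, 24, 30, 20, 27, 30, 29] [.out 2637]]],
  .sub [1, 2, 3, 2, 1, 3, 1, 2, 3, 4] [.sub [24, 20, 31, 20, 19, 25, 20, 30, 20, 30, 25] [.sub [19, 31, 29, 29] [.out 2322]]],
  .sub [3, 4, 1, 2, 1, 3, 1, 2, 3, 4] [.out 568],
  .sub [1, 4, 1, 2, 1, 3, 1, 2, 3, 4] [.out 3935],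
  .sub [4, 3, 1, 2, 1, 3, 1, 2, 3, 4] [.sub [19, 19, 20, 25, 18, 27, 29, 30, 31, 27] [.sub [24, 18, 31, 24, 18, 29, 25, 20, 31, 20, 29, 25, 29, 29] [.out 3821]]],
  .sub [1, 3, 1, 2, 1, 3, 1, 2, 3, 4] [.sub [24, 20, 27, 19, 20, 18, 27, 24, 27, 24, 30, 29, 29] [.out 2362]],
  .sub [2, 3, 1, 2, 1, 3, 1, 2, 3, 4] [.sub [24, 29, 31, 29, 18, 30, 27, 31, 20, 30, 25, 29] [.out 2802]],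
  .sub [4, 1, 4, 3, 2, 3, 1, 2, 3, 4] [.sub [19, 31, 24, 31, 18, 24, 29, 24, 29, 29] [.out 2872]],
  .sub [3, 1, 4, 3, 2, 3, 1, 2, 3, 4] [.out 3201],
  .sub [2, 1, 4, 3, 2, 3, 1, 2, 3, 4] [.sub [19, 24, 20, 18, 18, 25, 24, 20, 30, 25, 29, 29] [.out 1608]],
  .sub [3, 4, 1, 3, 2, 3, 1, 2, 3, 4] [.out 1523],
  .sub [1, 4, 1, 3, 2, 3, 1, 2, 3, 4] [.out 2031],
  .sub [2, 4, 1, 3, 2, 3, 1, 2, 3, 4] [.sub [25, 31, 18, 18, 18, 29, 20, 31, 20, 27, 30] [.out 1644]],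
  .sub [4, 3, 1, 3, 2, 3, 1, 2, 3, 4] [.out 3940],
  .sub [1, 3, 1, 3, 2, 3, 1, 2, 3, 4] [.out 896],
  .sub [2, 3, 1, 3, 2, 3, 1, 2, 3, 4] [.out 1629],
  .sub [3, 2, 1, 3, 2, 3, 1, 2, 3, 4] [.out 634],
  .sub [1, 4, 3, 1, 2, 3, 1, 2, 3, 4] [.sub [31, 29, 19, 18, 24, 29, 20, 31, 29, 25, 29] [.out 1401]],
  .sub [2, 4, 3, 1, 2, 3, 1, 2, 3, 4] [.out 2295],
  .sub [4, 1, 3, 1, 2, 3, 1, 2, 3, 4] [.sub [27, 18, 19, 18, 18, 18, 29, 31, 20, 24, 30, 27] [.out 2732]],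
  .sub [2, 1, 3, 1, 2, 3, 1, 2, 3, 4] [.out 1245],
  .sub [3, 2, 3, 1, 2, 3, 1, 2, 3, 4] [.sub [24, 31, 19, 20, 18, 25, 31, 31, 20, 20] [.out 1431]],
  .sub [1, 2, 3, 1, 2, 3, 1, 2, 3, 4] [.sub [24, 18, 20, 18, 31, 20, 24, 30, 20, 25] [.sub [19, 18, 31, 20, 19, 30, 31, 20, 29, 25] [.out 3178]]],
  .sub [3, 2, 4, 3, 1, 2, 1, 4, 1, 3, 4] [.sub [18, 24, 19, 24, 19, 29, 20, 20, 24, 29, 25, 29] [.sub [31, 19, 24, 18, 24, 18, 30, 31, 31, 30, 24, 30] [.out 2760]]],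
  .sub [1, 2, 4, 3, 1, 2, 1, 4, 1, 3, 4] [.sub [19, 30, 24, 18, 18, 31, 31, 25, 20, 30, 29] [.out 1255]],
  .sub [2, 4, 1, 3, 1, 2, 1, 4, 1, 3, 4] [.out 3848],
  .sub [3, 2, 1, 3, 1, 2, 1, 4, 1, 3, 4] [.out 3091],
  .sub [1, 2, 1, 3, 1, 2, 1, 4, 1, 3, 4] [.sub [20, 19, 24, 18, 19, 20, 29, 20, 20, 20, 30, 27, 29, 29] [.out 3534]],
  .sub [4, 3, 2, 3, 1, 2, 1, 4, 1, 3, 4] [.sub [25, 18, 27, 18, 18, 18, 24] [.sub [19, 19, 18, 31, 18, 29, 24, 25, 24, 30, 25, 29, 29] [.out 889]]],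
  .sub [1, 3, 2, 3, 1, 2, 1, 4, 1, 3, 4] [.out 3074],
  .sub [4, 1, 2, 3, 1, 2, 1, 4, 1, 3, 4] [.sub [18, 31, 20, 19, 27, 30, 20, 24, 29, 29] [.out 3836]],
  .sub [3, 1, 2, 3, 1, 2, 1, 4, 1, 3, 4] [.sub [29, 19, 25, 18, 30, 29, 24, 31, 30, 29] [.sub [30, 20, 27, 18, 18, 31, 20, 25, 20, 29, 25, 29, 29] [.out 2168]]],
  .sub [2, 1, 4, 1, 4, 3, 2, 4, 1, 3, 4] [.out 3069],
  .sub [3, 2, 4, 1, 4, 3, 2, 4, 1, 3, 4] [.sub [18, 25, 19, 18, 29, 31, 25, 31, 29, 25, 29] [.out 2010]],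
  .sub [1, 2, 4, 1, 4, 3, 2, 4, 1, 3, 4] [.sub [25, 20, 24, 19, 18, 24, 25, 27, 20, 20, 30, 29, 29] [.out 328]],
  .sub [4, 1, 3, 1, 4, 3, 2, 4, 1, 3, 4] [.sub [27, 20, 18, 30, 19, 18, 31, 29, 25, 24, 30, 25, 29, 29] [.sub [27, 19, 19, 24, 19, 29, 24, 25, 24, 30, 25, 29] [.out 3653]]],
  .sub [2, 1, 3, 1, 4, 3, 2, 4, 1, 3, 4] [.sub [31, 20, 19, 19, 24, 29, 20, 31, 30, 25, 29] [.sub [18, 29, 18, 27, 24, 29, 20, 20, 30, 27, 29, 29] [.out 2369]]],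
  .sub [3, 2, 3, 1, 4, 3, 2, 4, 1, 3, 4] [.out 2878],
  .sub [1, 2, 3, 1, 4, 3, 2, 4, 1, 3, 4] [.sub [19, 24, 25, 19, 18, 18, 27, 31, 30, 20, 20, 29, 29] [.sub [29, 30, 20, 18, 20, 31, 24, 20, 20, 25, 29, 29] [.out 3343]]],
  .sub [4, 3, 2, 1, 4, 3, 2, 4, 1, 3, 4] [.out 3014],
  .sub [1, 3, 2, 1, 4, 3, 2, 4, 1, 3, 4] [.sub [27, 20, 19, 18, 31, 31, 31, 25, 31, 30, 29, 29] [.sub [29, 24, 20, 25, 18, 20, 25, 20, 20, 27] [.out 791]]],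
  .sub [2, 3, 2, 1, 4, 3, 2, 4, 1, 3, 4] [.out 3224],
  .sub [3, 1, 2, 1, 4, 3, 2, 4, 1, 3, 4] [.out 3098],
  .sub [4, 1, 3, 2, 4, 3, 2, 4, 1, 3, 4] [.sub [31, 29, 18, 24, 18, 30, 27, 20, 20, 30, 25] [.out 3516]],
  .sub [3, 1, 3, 2, 4, 3, 2, 4, 1, 3, 4] [.sub [19, 31, 27, 27, 18, 27, 31, 24, 20, 30, 25, 29] [.out 3362]],
  .sub [4, 3, 1, 2, 4, 3, 2, 4, 1, 3, 4] [.out 2728],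
  .sub [1, 3, 1, 2, 4, 3, 2, 4, 1, 3, 4] [.out 2013],
  .sub [2, 3, 1, 2, 4, 3, 2, 4, 1, 3, 4] [.sub [31, 31, 18, 18, 30, 25, 24, 31, 30, 25] [.out 2414]],
  .sub [2, 4, 3, 4, 1, 3, 2, 4, 1, 3, 4] [.sub [20, 18, 20, 19, 18, 20, 30, 25, 31, 31] [.out 925]],
  .sub [4, 1, 3, 4, 1, 3, 2, 4, 1, 3, 4] [.sub [29, 31, 29, 18, 24, 20, 24, 30, 20, 30, 27, 29] [.sub [18, 20, 31, 18, 19, 18, 27, 29, 20, 20, 29, 29] [.out 1776]]],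
  .sub [3, 1, 3, 4, 1, 3, 2, 4, 1, 3, 4] [.sub [18, 20, 18, 19, 30, 20, 20, 30, 29, 29] [.out 3002]],
  .sub [2, 1, 3, 4, 1, 3, 2, 4, 1, 3, 4] [.sub [27, 18, 24, 27, 19, 30, 31, 24, 30, 27, 29] [.out 1233]],
  .sub [3, 2, 3, 4, 1, 3, 2, 4, 1, 3, 4] [.sub [19, 18, 18, 19, 30, 27, 20, 31, 27, 30] [.sub [27, 19, 18, 25, 31, 25, 24, 25] [.out 1871]]],
  .sub [1, 2, 3, 4, 1, 3, 2, 4, 1, 3, 4] [.out 3159],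
  .sub [1, 3, 1, 4, 1, 3, 2, 4, 1, 3, 4] [.out 2462]]

/-- Branches. -/
def kidsYPart9 : List Branch := [
  .sub [3, 2, 1, 4, 1, 3, 2, 4, 1, 3, 4] [.out 3572],
  .sub [1, 2, 1, 4, 1, 3, 2, 4, 1, 3, 4] [.out 3646],
  .sub [4, 3, 2, 4, 1, 3, 2, 4, 1, 3, 4] [.sub [30, 20, 18, 19, 18, 31, 29, 24, 25, 20, 25, 29, 29] [.out 2344]],
  .sub [1, 3, 2, 4, 1, 3, 2, 4, 1, 3, 4] [.sub [30, 19, 27, 18, 30, 31, 20, 20, 20, 30, 25] [.out 3815]],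
  .sub [2, 3, 2, 4, 1, 3, 2, 4, 1, 3, 4] [.out 3598],
  .sub [3, 1, 2, 4, 1, 3, 2, 4, 1, 3, 4] [.sub [18, 31, 20, 18, 24, 31, 20, 20, 27, 30] [.out 880]],
  .sub [3, 2, 4, 3, 1, 3, 2, 4, 1, 3, 4] [.sub [29, 19, 29, 18, 20, 30, 20, 24, 27, 30] [.sub [20, 19, 19, 24, 18, 31, 20, 31, 31, 29, 25, 29] [.out 3092]]],
  .sub [1, 2, 4, 3, 1, 3, 2, 4, 1, 3, 4] [.out 2421],
  .sub [3, 4, 1, 3, 1, 3, 2, 4, 1, 3, 4] [.out 3288],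
  .sub [2, 4, 1, 3, 1, 3, 2, 4, 1, 3, 4] [.out 2958],
  .sub [3, 2, 1, 3, 1, 3, 2, 4, 1, 3, 4] [.sub [20, 19, 24, 29, 24, 25, 20, 30, 27, 29, 29] [.out 3109]],
  .sub [1, 2, 1, 3, 1, 3, 2, 4, 1, 3, 4] [.sub [27, 18, 24, 27, 19, 27, 30, 27, 31, 20, 30, 25, 29] [.out 3960]],
  .sub [4, 3, 2, 3, 1, 3, 2, 4, 1, 3, 4] [.out 3019],
  .sub [1, 3, 2, 3, 1, 3, 2, 4, 1, 3, 4] [.out 4020],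
  .sub [2, 3, 2, 3, 1, 3, 2, 4, 1, 3, 4] [.out 2932],
  .sub [4, 1, 2, 3, 1, 3, 2, 4, 1, 3, 4] [.out 2148],
  .sub [3, 1, 2, 3, 1, 3, 2, 4, 1, 3, 4] [.out 2479],
  .sub [1, 4, 3, 2, 1, 3, 2, 4, 1, 3, 4] [.sub [20, 20, 25, 19, 18, 24, 20, 30, 25, 20, 27, 29] [.out 852]],
  .sub [2, 4, 3, 2, 1, 3, 2, 4, 1, 3, 4] [.out 3896],
  .sub [4, 1, 3, 2, 1, 3, 2, 4, 1, 3, 4] [.out 3115],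
  .sub [4, 3, 1, 2, 1, 3, 2, 4, 1, 3, 4] [.out 3770],
  .sub [1, 3, 1, 2, 1, 3, 2, 4, 1, 3, 4] [.sub [19, 19, 30, 18, 18, 29, 31, 31, 30, 24, 29] [.out 4007]],
  .sub [2, 3, 1, 2, 1, 3, 2, 4, 1, 3, 4] [.out 3862],
  .sub [2, 4, 3, 1, 2, 3, 2, 4, 1, 3, 4] [.out 3406],
  .sub [4, 1, 3, 1, 2, 3, 2, 4, 1, 3, 4] [.sub [18, 18, 29, 25, 19, 18, 29, 31, 20, 30, 29, 29] [.out 947]],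
  .sub [2, 1, 3, 1, 2, 3, 2, 4, 1, 3, 4] [.sub [30, 18, 18, 24, 18, 25, 27, 24, 30, 29, 29] [.sub [24, 31, 19, 29, 18, 20, 31, 29, 31, 29] [.out 884]]],
  .sub [3, 2, 3, 1, 2, 3, 2, 4, 1, 3, 4] [.sub [18, 29, 19, 19, 18, 24, 29, 20, 31, 30, 27, 29, 29] [.sub [18, 29, 18, 18, 18, 31, 31, 20, 20, 29, 29] [.out 2923]]],
  .sub [1, 2, 3, 1, 2, 3, 2, 4, 1, 3, 4] [.out 4029],
  .sub [3, 2, 1, 4, 3, 1, 2, 4, 1, 3, 4] [.out 944],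
  .sub [1, 2, 1, 4, 3, 1, 2, 4, 1, 3, 4] [.out 1865],
  .sub [4, 3, 2, 4, 3, 1, 2, 4, 1, 3, 4] [.out 1334],
  .sub [1, 3, 2, 4, 3, 1, 2, 4, 1, 3, 4] [.sub [20, 29, 18, 24, 18, 24, 29, 20, 20, 29, 25] [.out 3769]],
  .sub [2, 3, 2, 4, 3, 1, 2, 4, 1, 3, 4] [.sub [25, 19, 29, 18, 19, 18, 30, 31, 31, 30, 24, 25, 29, 29] [.out 3729]],
  .sub [4, 1, 2, 4, 3, 1, 2, 4, 1, 3, 4] [.sub [19, 25, 24, 24, 19, 18, 29, 25, 20, 31, 20, 30, 25, 29, 29] [.out 747]],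
  .sub [3, 1, 2, 4, 3, 1, 2, 4, 1, 3, 4] [.sub [18, 19, 25, 18, 24, 29, 31, 20, 27, 29] [.out 734]],
  .sub [1, 3, 4, 1, 3, 1, 2, 4, 1, 3, 4] [.out 3096],
  .sub [3, 1, 4, 1, 3, 1, 2, 4, 1, 3, 4] [.out 2631],
  .sub [2, 1, 4, 1, 3, 1, 2, 4, 1, 3, 4] [.out 930],
  .sub [3, 2, 4, 1, 3, 1, 2, 4, 1, 3, 4] [.out 3689],
  .sub [1, 2, 4, 1, 3, 1, 2, 4, 1, 3, 4] [.sub [19, 27, 20, 18, 18, 24, 27, 20, 24] [.out 3644]],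
  .sub [4, 3, 2, 1, 3, 1, 2, 4, 1, 3, 4] [.sub [24, 18, 19, 20, 18, 24, 30, 25, 20, 30, 27, 29, 29] [.out 2412]],
  .sub [1, 3, 2, 1, 3, 1, 2, 4, 1, 3, 4] [.sub [24, 19, 25, 18, 24, 20, 30, 31, 20, 27, 30, 29, 29] [.out 3737]],
  .sub [2, 3, 2, 1, 3, 1, 2, 4, 1, 3, 4] [.sub [31, 29, 19, 20, 18, 27, 30, 31, 20, 25, 29] [.sub [18, 19, 30, 24, 18, 18, 20, 27, 24, 20, 27, 30, 29, 29] [.out 979]]],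
  .sub [4, 1, 2, 1, 3, 1, 2, 4, 1, 3, 4] [.sub [25, 18, 30, 19, 18, 20, 20, 20, 24, 29, 25] [.out 2340]],
  .sub [3, 1, 2, 1, 3, 1, 2, 4, 1, 3, 4] [.out 3777],
  .sub [4, 1, 3, 2, 3, 1, 2, 4, 1, 3, 4] [.sub [29, 20, 19, 25, 18, 18, 24, 24, 20, 24, 20, 29, 29] [.out 3272]],
  .sub [2, 1, 3, 2, 3, 1, 2, 4, 1, 3, 4] [.sub [30, 25, 31, 18, 31, 20, 31, 30] [.out 3903]],
  .sub [3, 4, 1, 2, 3, 1, 2, 4, 1, 3, 4] [.sub [30, 19, 18, 18, 19, 18, 29, 20, 20, 20] [.out 1536]],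
  .sub [1, 4, 1, 2, 3, 1, 2, 4, 1, 3, 4] [.out 3452],
  .sub [2, 1, 4, 1, 4, 3, 2, 3, 1, 3, 4] [.out 3412],
  .sub [3, 2, 4, 1, 4, 3, 2, 3, 1, 3, 4] [.out 1901],
  .sub [4, 3, 2, 1, 4, 3, 2, 3, 1, 3, 4] [.out 2545],
  .sub [1, 3, 2, 1, 4, 3, 2, 3, 1, 3, 4] [.sub [29, 24, 25, 18, 24, 25, 24, 20, 20, 25, 29, 29] [.out 12]],
  .sub [2, 3, 2, 1, 4, 3, 2, 3, 1, 3, 4] [.sub [24, 19, 18, 18, 31, 31, 20, 31, 25, 29, 29] [.out 334]],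
  .sub [4, 1, 3, 2, 4, 3, 2, 3, 1, 3, 4] [.out 3211],
  .sub [3, 1, 3, 2, 4, 3, 2, 3, 1, 3, 4] [.sub [18, 18, 27, 20, 18, 27, 24, 20, 24, 20, 29, 25, 29, 29] [.out 3054]],
  .sub [2, 1, 3, 2, 4, 3, 2, 3, 1, 3, 4] [.sub [25, 18, 24, 24, 19, 24, 27, 24, 20, 30] [.out 3770]],
  .sub [1, 2, 3, 2, 4, 3, 2, 3, 1, 3, 4] [.sub [18, 20, 20, 18, 18, 30, 20, 30, 29, 29] [.sub [30, 24, 27, 18, 31, 24, 25] [.out 3967]]],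
  .sub [2, 4, 3, 4, 1, 3, 2, 3, 1, 3, 4] [.sub [24, 24, 18, 24, 29, 30, 31, 25, 29] [.out 3779]],
  .sub [3, 2, 3, 4, 1, 3, 2, 3, 1, 3, 4] [.out 3348],
  .sub [1, 2, 3, 4, 1, 3, 2, 3, 1, 3, 4] [.out 3949],
  .sub [3, 2, 1, 4, 1, 3, 2, 3, 1, 3, 4] [.sub [30, 27, 19, 20, 18, 30, 25, 31, 25, 24, 25, 29, 29] [.sub [18, 29, 18, 18, 18, 31, 31, 20, 20, 29, 29] [.done 9]]],
  .sub [1, 2, 1, 4, 1, 3, 2, 3, 1, 3, 4] [.sub [20, 19, 18, 25, 31, 29, 31, 30, 29, 29] [.out 2861]],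
  .sub [4, 3, 2, 4, 1, 3, 2, 3, 1, 3, 4] [.out 2718]]

/-- Branches. -/
def kidsYPart10 : List Branch := [
  .sub [1, 3, 2, 4, 1, 3, 2, 3, 1, 3, 4] [.out 2905],
  .sub [2, 3, 2, 4, 1, 3, 2, 3, 1, 3, 4] [.out 1473],
  .sub [3, 1, 2, 4, 1, 3, 2, 3, 1, 3, 4] [.sub [30, 19, 18, 19, 24, 30, 31, 24, 20, 25, 29, 29] [.out 1611]],
  .sub [3, 2, 4, 3, 1, 3, 2, 3, 1, 3, 4] [.sub [19, 19, 19, 20, 30, 24, 30] [.out 2033]],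
  .sub [1, 2, 4, 3, 1, 3, 2, 3, 1, 3, 4] [.out 3142],
  .sub [2, 4, 1, 3, 1, 3, 2, 3, 1, 3, 4] [.out 240],
  .sub [1, 2, 1, 3, 1, 3, 2, 3, 1, 3, 4] [.out 3712],
  .sub [4, 3, 2, 3, 1, 3, 2, 3, 1, 3, 4] [.sub [18, 18, 18, 18, 18, 31, 20, 20, 20, 27] [.sub [20, 18, 27, 27, 18, 18, 25, 27, 31, 31, 27] [.out 3956]]],
  .sub [1, 3, 2, 3, 1, 3, 2, 3, 1, 3, 4] [.sub [19, 24, 18, 18, 30, 27, 31, 24, 29, 29] [.out 3032]],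
  .sub [2, 3, 2, 3, 1, 3, 2, 3, 1, 3, 4] [.sub [18, 20, 19, 18, 20, 18, 27, 25, 31, 20, 25] [.out 3258]],
  .sub [4, 1, 2, 3, 1, 3, 2, 3, 1, 3, 4] [.out 2655],
  .sub [1, 4, 3, 2, 1, 3, 2, 3, 1, 3, 4] [.out 4038],
  .sub [2, 4, 3, 2, 1, 3, 2, 3, 1, 3, 4] [.sub [20, 30, 18, 19, 18, 25, 20, 25, 29, 29] [.out 2826]],
  .sub [4, 3, 1, 2, 1, 3, 2, 3, 1, 3, 4] [.sub [31, 31, 19, 19, 19, 24, 30, 20, 31, 30, 27, 29, 29] [.sub [18, 29, 20, 20, 18, 24, 31, 30, 20, 25] [.out 2989]]],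
  .sub [4, 1, 3, 1, 2, 3, 2, 3, 1, 3, 4] [.out 2941],
  .sub [3, 2, 1, 4, 3, 1, 2, 3, 1, 3, 4] [.out 2360],
  .sub [1, 2, 1, 4, 3, 1, 2, 3, 1, 3, 4] [.sub [29, 19, 18, 24, 18, 30, 29, 31, 20, 30, 29] [.out 32]],
  .sub [4, 3, 2, 4, 3, 1, 2, 3, 1, 3, 4] [.sub [25, 19, 29, 18, 29, 20, 20, 31, 27, 30, 29] [.out 617]],
  .sub [1, 3, 2, 4, 3, 1, 2, 3, 1, 3, 4] [.out 3470],
  .sub [2, 3, 2, 4, 3, 1, 2, 3, 1, 3, 4] [.out 3312],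
  .sub [4, 1, 2, 4, 3, 1, 2, 3, 1, 3, 4] [.out 3531],
  .sub [3, 1, 2, 4, 3, 1, 2, 3, 1, 3, 4] [.sub [27, 27, 31, 19, 30, 27, 24, 20, 20, 30, 27] [.sub [19, 30, 20, 19, 18, 31, 29, 20, 24, 29, 29] [.out 2744]]],
  .sub [4, 1, 2, 1, 3, 1, 2, 3, 1, 3, 4] [.sub [18, 31, 31, 19, 19, 27, 31, 20, 20, 29, 25, 29, 29] [.out 1884]],
  .sub [4, 1, 3, 2, 3, 1, 2, 3, 1, 3, 4] [.sub [25, 27, 20, 19, 18, 27, 29, 20, 20, 27] [.out 2886]],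
  .sub [3, 1, 3, 2, 3, 1, 2, 3, 1, 3, 4] [.out 1274],
  .sub [2, 1, 3, 2, 3, 1, 2, 3, 1, 3, 4] [.out 1703],
  .sub [3, 4, 1, 2, 3, 1, 2, 3, 1, 3, 4] [.out 2853],
  .sub [1, 4, 1, 2, 3, 1, 2, 3, 1, 3, 4] [.sub [24, 19, 25, 19, 31, 24, 29, 24, 29, 25, 29] [.sub [24, 20, 27, 19, 20, 27, 31, 27, 30, 29, 29] [.out 447]]],
  .sub [4, 3, 1, 2, 3, 1, 2, 3, 1, 3, 4] [.out 1926],
  .sub [1, 3, 1, 2, 3, 1, 2, 3, 1, 3, 4] [.out 3616],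
  .sub [2, 3, 1, 2, 3, 1, 2, 3, 1, 3, 4] [.out 2991],
  .sub [2, 1, 3, 4, 1, 4, 3, 2, 1, 3, 4] [.sub [25, 20, 31, 19, 30, 31, 25, 24, 30, 29, 29] [.out 3747]],
  .sub [3, 2, 3, 4, 1, 4, 3, 2, 1, 3, 4] [.out 1273],
  .sub [1, 2, 3, 4, 1, 4, 3, 2, 1, 3, 4] [.sub [29, 24, 18, 18, 18, 31, 29, 20, 24, 20, 25, 29] [.out 3654]],
  .sub [1, 2, 1, 4, 1, 4, 3, 2, 1, 3, 4] [.out 3596],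
  .sub [4, 3, 2, 4, 1, 4, 3, 2, 1, 3, 4] [.sub [19, 19, 24, 24, 18, 20, 31, 24, 20, 20, 25, 29, 29] [.out 4023]],
  .sub [1, 3, 2, 4, 1, 4, 3, 2, 1, 3, 4] [.sub [20, 18, 27, 19, 31, 24, 20, 30, 27] [.sub [31, 18, 20, 18, 18, 25, 27, 25, 31, 30, 27, 29] [.out 213]]],
  .sub [2, 3, 2, 4, 1, 4, 3, 2, 1, 3, 4] [.out 600],
  .sub [4, 1, 4, 3, 1, 4, 3, 2, 1, 3, 4] [.sub [20, 19, 18, 20, 18, 25, 27, 31, 25, 29, 29] [.out 1219]],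
  .sub [2, 1, 4, 3, 1, 4, 3, 2, 1, 3, 4] [.sub [18, 24, 19, 24, 18, 20, 20, 20, 27, 29] [.out 2346]],
  .sub [3, 2, 4, 3, 1, 4, 3, 2, 1, 3, 4] [.sub [27, 30, 24, 18, 18, 30, 20, 24, 20, 30, 25] [.out 2241]],
  .sub [1, 2, 4, 3, 1, 4, 3, 2, 1, 3, 4] [.out 930],
  .sub [3, 4, 1, 3, 1, 4, 3, 2, 1, 3, 4] [.out 2442],
  .sub [1, 4, 1, 3, 1, 4, 3, 2, 1, 3, 4] [.sub [24, 31, 31, 18, 18, 31, 20, 30, 20, 27, 30, 29] [.out 1445]],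
  .sub [2, 4, 1, 3, 1, 4, 3, 2, 1, 3, 4] [.out 2878],
  .sub [3, 2, 1, 3, 1, 4, 3, 2, 1, 3, 4] [.out 2143],
  .sub [4, 3, 2, 3, 1, 4, 3, 2, 1, 3, 4] [.out 1219],
  .sub [1, 3, 2, 3, 1, 4, 3, 2, 1, 3, 4] [.out 1622],
  .sub [2, 3, 2, 3, 1, 4, 3, 2, 1, 3, 4] [.sub [31, 31, 19, 18, 30, 20, 31, 29, 29] [.out 1253]],
  .sub [4, 1, 2, 3, 1, 4, 3, 2, 1, 3, 4] [.out 3243],
  .sub [3, 1, 2, 3, 1, 4, 3, 2, 1, 3, 4] [.sub [31, 24, 19, 25, 18, 31, 31, 20, 30, 29] [.out 1310]],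
  .sub [1, 4, 3, 2, 1, 4, 3, 2, 1, 3, 4] [.sub [24, 18, 27, 31, 20, 29] [.out 1871]],
  .sub [2, 4, 3, 2, 1, 4, 3, 2, 1, 3, 4] [.sub [30, 19, 20, 18, 18, 20, 20, 31, 20] [.out 1185]],
  .sub [4, 1, 3, 2, 1, 4, 3, 2, 1, 3, 4] [.sub [27, 19, 20, 20, 18, 29, 31, 25, 31, 20, 30, 25, 29, 29] [.out 799]],
  .sub [3, 1, 3, 2, 1, 4, 3, 2, 1, 3, 4] [.sub [20, 19, 24, 18, 19, 25, 20, 31, 20, 30, 27, 29, 29] [.out 3653]],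
  .sub [2, 1, 3, 2, 1, 4, 3, 2, 1, 3, 4] [.sub [30, 19, 29, 18, 18, 31, 29, 20, 20, 30, 27, 29, 29] [.out 530]],
  .sub [1, 2, 3, 2, 1, 4, 3, 2, 1, 3, 4] [.sub [18, 25, 18, 19, 29, 31, 31, 20, 20, 25] [.out 3581]],
  .sub [4, 3, 1, 2, 1, 4, 3, 2, 1, 3, 4] [.sub [24, 20, 31, 24, 18, 27, 29, 20, 31, 20, 29, 29] [.out 3639]],
  .sub [1, 3, 1, 2, 1, 4, 3, 2, 1, 3, 4] [.sub [25, 27, 25, 18, 24, 31, 20, 20, 29, 25, 29] [.out 2185]],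
  .sub [3, 4, 1, 3, 2, 4, 3, 2, 1, 3, 4] [.out 1238],
  .sub [1, 4, 1, 3, 2, 4, 3, 2, 1, 3, 4] [.sub [24, 30, 19, 20, 20, 18, 25, 24, 20, 27, 30, 29] [.out 3147]],
  .sub [2, 4, 1, 3, 2, 4, 3, 2, 1, 3, 4] [.sub [29, 19, 18, 24, 18, 30, 29, 31, 20, 30, 29] [.out 3319]],
  .sub [4, 3, 1, 3, 2, 4, 3, 2, 1, 3, 4] [.out 3504],
  .sub [2, 3, 1, 3, 2, 4, 3, 2, 1, 3, 4] [.out 3791]]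

/-- Branches. -/
def kidsYPart11 : List Branch := [
  .sub [3, 2, 1, 3, 2, 4, 3, 2, 1, 3, 4] [.sub [20, 20, 19, 19, 18, 20, 30, 20, 20, 27, 30] [.out 214]],
  .sub [1, 2, 1, 3, 2, 4, 3, 2, 1, 3, 4] [.out 3420],
  .sub [4, 1, 2, 3, 2, 4, 3, 2, 1, 3, 4] [.out 3113],
  .sub [3, 1, 2, 3, 2, 4, 3, 2, 1, 3, 4] [.out 3761],
  .sub [1, 4, 3, 1, 2, 4, 3, 2, 1, 3, 4] [.out 2183],
  .sub [3, 2, 4, 3, 4, 1, 3, 2, 1, 3, 4] [.sub [18, 19, 24, 31, 18, 24, 31, 20, 20, 30, 25, 29] [.sub [24, 27, 19, 19, 19, 31, 30, 25, 20, 30, 25, 29, 29] [.out 2538]]],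
  .sub [1, 2, 4, 3, 4, 1, 3, 2, 1, 3, 4] [.sub [24, 19, 25, 18, 24, 20, 30, 31, 20, 27, 30, 29, 29] [.sub [19, 19, 18, 31, 18, 29, 31, 24, 20, 30, 27] [.out 3343]]],
  .sub [3, 4, 1, 3, 4, 1, 3, 2, 1, 3, 4] [.out 2926],
  .sub [2, 4, 1, 3, 4, 1, 3, 2, 1, 3, 4] [.out 3511],
  .sub [4, 3, 1, 3, 4, 1, 3, 2, 1, 3, 4] [.out 2896],
  .sub [1, 3, 1, 3, 4, 1, 3, 2, 1, 3, 4] [.sub [31, 18, 19, 18, 18, 25, 20, 20, 20, 20, 27, 30, 29, 29] [.sub [31, 18, 18, 19, 18, 31, 25, 20, 20, 27, 30] [.out 2932]]],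
  .sub [2, 3, 1, 3, 4, 1, 3, 2, 1, 3, 4] [.sub [31, 20, 27, 19, 18, 25, 20, 31, 24, 29, 25, 29] [.out 1799]],
  .sub [3, 2, 1, 3, 4, 1, 3, 2, 1, 3, 4] [.sub [31, 18, 19, 18, 18, 18, 31, 31, 20, 29] [.out 2972]],
  .sub [1, 2, 1, 3, 4, 1, 3, 2, 1, 3, 4] [.out 3750],
  .sub [4, 3, 2, 3, 4, 1, 3, 2, 1, 3, 4] [.out 3526],
  .sub [1, 3, 2, 3, 4, 1, 3, 2, 1, 3, 4] [.out 924],
  .sub [2, 3, 2, 3, 4, 1, 3, 2, 1, 3, 4] [.out 2431],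
  .sub [4, 1, 2, 3, 4, 1, 3, 2, 1, 3, 4] [.sub [19, 24, 25, 27, 18, 24, 24, 27, 25, 20, 30] [.out 2352]],
  .sub [3, 1, 2, 3, 4, 1, 3, 2, 1, 3, 4] [.out 3410],
  .sub [2, 1, 3, 1, 4, 1, 3, 2, 1, 3, 4] [.sub [31, 25, 18, 18, 25, 20, 31, 31, 30, 27, 29] [.sub [18, 19, 25, 18, 27, 29, 30, 24, 30, 29] [.done 7]]],
  .sub [1, 3, 2, 1, 4, 1, 3, 2, 1, 3, 4] [.out 3772],
  .sub [4, 1, 2, 1, 4, 1, 3, 2, 1, 3, 4] [.sub [20, 24, 29, 18, 27, 20, 31, 31, 30, 27, 29] [.out 1625]],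
  .sub [3, 1, 2, 1, 4, 1, 3, 2, 1, 3, 4] [.sub [20, 27, 18, 29, 18, 30, 31, 25, 24, 29] [.out 1912]],
  .sub [1, 4, 3, 2, 4, 1, 3, 2, 1, 3, 4] [.out 3360],
  .sub [2, 4, 3, 2, 4, 1, 3, 2, 1, 3, 4] [.sub [18, 24, 19, 18, 18, 20, 31, 30, 24, 30, 25] [.out 3647]],
  .sub [4, 1, 3, 2, 4, 1, 3, 2, 1, 3, 4] [.sub [25, 27, 24, 19, 18, 31, 24, 20, 31, 25, 29] [.out 3219]],
  .sub [3, 1, 3, 2, 4, 1, 3, 2, 1, 3, 4] [.sub [18, 30, 29, 18, 18, 27, 20, 20, 29] [.sub [19, 29, 20, 18, 18, 20, 27, 20, 20, 27, 29, 29] [.out 360]]],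
  .sub [2, 1, 3, 2, 4, 1, 3, 2, 1, 3, 4] [.sub [27, 19, 25, 18, 18, 30, 31, 20, 25, 20, 27, 29] [.out 3335]],
  .sub [1, 2, 3, 2, 4, 1, 3, 2, 1, 3, 4] [.sub [25, 20, 19, 31, 20, 31, 30, 29, 29] [.sub [30, 20, 19, 31, 18, 18, 29, 20, 20, 31] [.out 447]]],
  .sub [3, 4, 1, 2, 4, 1, 3, 2, 1, 3, 4] [.out 3596],
  .sub [4, 3, 1, 2, 4, 1, 3, 2, 1, 3, 4] [.sub [31, 27, 27, 19, 18, 24, 29, 20, 31, 27, 30] [.out 1507]],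
  .sub [4, 3, 2, 4, 3, 1, 3, 2, 1, 3, 4] [.out 3417],
  .sub [1, 3, 2, 4, 3, 1, 3, 2, 1, 3, 4] [.out 3450],
  .sub [2, 3, 2, 4, 3, 1, 3, 2, 1, 3, 4] [.sub [20, 20, 19, 20, 18, 18, 31, 31, 25, 31, 30, 25, 29, 29] [.out 2313]],
  .sub [4, 1, 2, 4, 3, 1, 3, 2, 1, 3, 4] [.out 3381],
  .sub [3, 1, 2, 4, 3, 1, 3, 2, 1, 3, 4] [.sub [24, 31, 18, 19, 20, 30, 20, 20, 24, 27, 29] [.out 3199]],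
  .sub [2, 3, 4, 1, 3, 1, 3, 2, 1, 3, 4] [.sub [20, 29, 18, 18, 29, 24, 27, 31, 20, 29, 25] [.out 2461]],
  .sub [3, 2, 4, 1, 3, 1, 3, 2, 1, 3, 4] [.out 3055],
  .sub [1, 2, 4, 1, 3, 1, 3, 2, 1, 3, 4] [.sub [19, 30, 19, 20, 18, 18, 24, 24, 20, 24, 20, 30, 27] [.out 1884]],
  .sub [4, 3, 2, 1, 3, 1, 3, 2, 1, 3, 4] [.sub [20, 24, 19, 24, 18, 30, 20, 30, 20, 25] [.out 73]],
  .sub [1, 3, 2, 1, 3, 1, 3, 2, 1, 3, 4] [.sub [19, 20, 25, 18, 18, 29, 20, 20, 20, 20, 25] [.sub [29, 24, 27, 18, 18, 24, 25, 31, 25, 20, 25, 29] [.out 1062]]],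
  .sub [2, 3, 2, 1, 3, 1, 3, 2, 1, 3, 4] [.out 3670],
  .sub [4, 1, 2, 1, 3, 1, 3, 2, 1, 3, 4] [.out 3655],
  .sub [3, 1, 2, 1, 3, 1, 3, 2, 1, 3, 4] [.out 2659],
  .sub [1, 4, 3, 2, 3, 1, 3, 2, 1, 3, 4] [.out 3656],
  .sub [2, 4, 3, 2, 3, 1, 3, 2, 1, 3, 4] [.out 3597],
  .sub [1, 2, 3, 2, 3, 1, 3, 2, 1, 3, 4] [.sub [19, 19, 24, 25, 18, 24, 25, 27, 31, 27] [.out 4028]],
  .sub [1, 4, 1, 2, 3, 1, 3, 2, 1, 3, 4] [.sub [27, 19, 19, 25, 18, 18, 31, 30, 31, 31, 27, 30, 29, 29] [.out 1087]],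
  .sub [4, 3, 1, 2, 3, 1, 3, 2, 1, 3, 4] [.out 3810],
  .sub [2, 3, 1, 2, 3, 1, 3, 2, 1, 3, 4] [.out 3148],
  .sub [4, 1, 4, 3, 2, 1, 3, 2, 1, 3, 4] [.out 3458],
  .sub [3, 1, 4, 3, 2, 1, 3, 2, 1, 3, 4] [.sub [25, 24, 27, 18, 18, 30, 24, 25, 20, 30, 27, 29, 29] [.out 778]],
  .sub [2, 1, 4, 3, 2, 1, 3, 2, 1, 3, 4] [.sub [18, 18, 20, 31, 18, 18, 25, 31, 25, 31, 27, 29, 29] [.out 2637]],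
  .sub [3, 2, 4, 3, 2, 1, 3, 2, 1, 3, 4] [.sub [29, 31, 27, 18, 31, 20, 20, 25, 20, 27, 30, 29] [.out 3183]],
  .sub [1, 2, 4, 3, 2, 1, 3, 2, 1, 3, 4] [.out 1432],
  .sub [3, 4, 1, 3, 2, 1, 3, 2, 1, 3, 4] [.out 3260],
  .sub [1, 4, 1, 3, 2, 1, 3, 2, 1, 3, 4] [.out 3325],
  .sub [2, 4, 1, 3, 2, 1, 3, 2, 1, 3, 4] [.out 3016],
  .sub [4, 3, 1, 3, 2, 1, 3, 2, 1, 3, 4] [.out 3157],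
  .sub [1, 3, 1, 3, 2, 1, 3, 2, 1, 3, 4] [.sub [25, 20, 25, 19, 20, 20, 20, 24, 29, 25, 29] [.out 2575]],
  .sub [3, 2, 1, 3, 2, 1, 3, 2, 1, 3, 4] [.sub [18, 20, 19, 19, 19, 20, 24, 27, 24, 30, 25] [.sub [24, 20, 19, 24, 27, 31, 20, 30, 29] [.out 2299]]],
  .sub [1, 2, 1, 3, 2, 1, 3, 2, 1, 3, 4] [.out 3472],
  .sub [4, 1, 2, 3, 2, 1, 3, 2, 1, 3, 4] [.out 3452],
  .sub [3, 1, 2, 3, 2, 1, 3, 2, 1, 3, 4] [.out 3021]]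

/-- Branches. -/
def kidsYPart12 : List Branch := [
  .sub [4, 3, 4, 1, 2, 1, 3, 2, 1, 3, 4] [.sub [30, 20, 25, 19, 18, 24, 30, 20, 27, 30, 29] [.out 3742]],
  .sub [1, 3, 4, 1, 2, 1, 3, 2, 1, 3, 4] [.out 2729],
  .sub [1, 4, 3, 1, 2, 1, 3, 2, 1, 3, 4] [.sub [19, 31, 20, 19, 19, 31, 20, 20, 20, 29, 25, 29] [.sub [30, 19, 20, 18, 19, 31, 25, 27, 24, 29, 25, 29, 29] [.out 3077]]],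
  .sub [2, 4, 3, 1, 2, 1, 3, 2, 1, 3, 4] [.sub [30, 19, 18, 25, 18, 24, 29, 24, 31, 20, 25] [.sub [27, 31, 19, 31, 18, 24, 30, 29, 31, 27, 29, 29] [.out 671]]],
  .sub [4, 1, 3, 1, 2, 1, 3, 2, 1, 3, 4] [.out 409],
  .sub [2, 1, 3, 1, 2, 1, 3, 2, 1, 3, 4] [.sub [19, 24, 27, 19, 18, 27, 24, 27, 31, 20, 29, 25, 29] [.out 136]],
  .sub [3, 2, 3, 1, 2, 1, 3, 2, 1, 3, 4] [.out 3052],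
  .sub [1, 2, 3, 1, 2, 1, 3, 2, 1, 3, 4] [.sub [19, 19, 19, 19, 27, 29, 25, 20, 24, 30, 25, 29, 29] [.out 615]],
  .sub [1, 4, 3, 4, 1, 2, 3, 2, 1, 3, 4] [.out 2600],
  .sub [2, 4, 3, 4, 1, 2, 3, 2, 1, 3, 4] [.sub [30, 20, 24, 18, 24, 29, 20, 20, 30, 27] [.sub [27, 31, 18, 18, 25, 31, 31, 20, 25, 29] [.out 3274]]],
  .sub [4, 1, 3, 4, 1, 2, 3, 2, 1, 3, 4] [.out 3310],
  .sub [3, 1, 3, 4, 1, 2, 3, 2, 1, 3, 4] [.sub [18, 18, 27, 18, 18, 30, 25, 31, 20, 29, 25] [.out 3568]],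
  .sub [3, 2, 4, 3, 1, 2, 3, 2, 1, 3, 4] [.sub [31, 31, 19, 19, 29, 31, 27, 25, 31, 29] [.out 3033]],
  .sub [1, 2, 4, 3, 1, 2, 3, 2, 1, 3, 4] [.sub [18, 20, 24, 20, 18, 25, 31, 31, 20] [.out 2048]],
  .sub [3, 4, 1, 3, 1, 2, 3, 2, 1, 3, 4] [.sub [24, 31, 24, 18, 18, 27, 25, 31, 20, 27, 30] [.out 2700]],
  .sub [4, 3, 2, 3, 1, 2, 3, 2, 1, 3, 4] [.out 935],
  .sub [1, 3, 2, 3, 1, 2, 3, 2, 1, 3, 4] [.out 3584],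
  .sub [4, 1, 2, 3, 1, 2, 3, 2, 1, 3, 4] [.sub [31, 30, 19, 20, 18, 27, 24, 31, 31, 25, 29] [.out 2306]],
  .sub [3, 1, 2, 3, 1, 2, 3, 2, 1, 3, 4] [.sub [29, 20, 20, 18, 29, 31, 27, 24, 30] [.out 3839]],
  .sub [2, 1, 4, 1, 4, 3, 1, 2, 1, 3, 4] [.sub [19, 24, 29, 19, 18, 31, 29, 31, 24, 30, 29] [.out 3049]],
  .sub [3, 2, 4, 1, 4, 3, 1, 2, 1, 3, 4] [.out 890],
  .sub [1, 2, 4, 1, 4, 3, 1, 2, 1, 3, 4] [.sub [25, 18, 27, 18, 18, 18, 24] [.out 1398]],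
  .sub [2, 1, 3, 1, 4, 3, 1, 2, 1, 3, 4] [.out 2822],
  .sub [1, 2, 3, 1, 4, 3, 1, 2, 1, 3, 4] [.out 1057],
  .sub [4, 3, 2, 1, 4, 3, 1, 2, 1, 3, 4] [.sub [20, 19, 18, 18, 18, 31, 27, 29, 20, 24, 27, 30, 29] [.out 4015]],
  .sub [1, 3, 2, 1, 4, 3, 1, 2, 1, 3, 4] [.out 4008],
  .sub [2, 3, 2, 1, 4, 3, 1, 2, 1, 3, 4] [.out 3231],
  .sub [4, 1, 2, 1, 4, 3, 1, 2, 1, 3, 4] [.out 2958],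
  .sub [3, 1, 2, 1, 4, 3, 1, 2, 1, 3, 4] [.sub [30, 19, 18, 18, 19, 18, 25, 20, 30, 24, 20, 27, 30, 29] [.sub [25, 20, 18, 19, 27, 24, 27, 31, 30, 27, 29] [.out 4026]]],
  .sub [1, 4, 3, 2, 4, 3, 1, 2, 1, 3, 4] [.sub [24, 19, 24, 18, 18, 30, 31, 24, 31, 29, 29] [.out 3042]],
  .sub [4, 1, 3, 2, 4, 3, 1, 2, 1, 3, 4] [.sub [19, 18, 27, 27, 18, 25, 27, 24, 30, 27, 29, 29] [.out 2113]],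
  .sub [3, 1, 3, 2, 4, 3, 1, 2, 1, 3, 4] [.sub [31, 19, 29, 20, 18, 24, 25, 31, 20, 30, 27] [.out 3662]],
  .sub [2, 1, 3, 2, 4, 3, 1, 2, 1, 3, 4] [.out 2430],
  .sub [1, 2, 3, 2, 4, 3, 1, 2, 1, 3, 4] [.sub [30, 19, 18, 18, 19, 18, 25, 20, 30, 24, 20, 27, 30, 29] [.sub [29, 24, 30, 19, 18, 27, 20, 20, 24, 29, 25, 29] [.out 1854]]],
  .sub [1, 4, 1, 2, 4, 3, 1, 2, 1, 3, 4] [.out 3866],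
  .sub [1, 3, 1, 2, 4, 3, 1, 2, 1, 3, 4] [.sub [19, 27, 29, 18, 18, 24, 20, 24, 29, 25] [.out 1284]],
  .sub [2, 3, 1, 2, 4, 3, 1, 2, 1, 3, 4] [.out 2544],
  .sub [3, 2, 3, 4, 1, 3, 1, 2, 1, 3, 4] [.sub [20, 24, 20, 19, 24, 27, 27, 24, 30, 29, 29] [.sub [31, 30, 27, 20, 18, 20, 31, 20, 20, 29] [.out 267]]],
  .sub [1, 3, 1, 4, 1, 3, 1, 2, 1, 3, 4] [.out 4006],
  .sub [2, 3, 1, 4, 1, 3, 1, 2, 1, 3, 4] [.sub [31, 19, 31, 18, 31, 30, 25, 20, 30, 27, 29, 29] [.out 246]],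
  .sub [3, 2, 1, 4, 1, 3, 1, 2, 1, 3, 4] [.sub [24, 19, 30, 20, 18, 30, 31, 25, 31, 25] [.out 3132]],
  .sub [1, 2, 1, 4, 1, 3, 1, 2, 1, 3, 4] [.sub [18, 30, 25, 20, 18, 27, 20, 31, 30, 20, 30] [.out 3157]],
  .sub [4, 3, 2, 4, 1, 3, 1, 2, 1, 3, 4] [.sub [18, 30, 24, 18, 18, 31, 20, 29, 31, 29] [.out 1965]],
  .sub [1, 3, 2, 4, 1, 3, 1, 2, 1, 3, 4] [.sub [31, 25, 19, 18, 24, 29, 25, 31, 30, 25, 29] [.out 3246]],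
  .sub [2, 3, 2, 4, 1, 3, 1, 2, 1, 3, 4] [.out 3746],
  .sub [4, 1, 2, 4, 1, 3, 1, 2, 1, 3, 4] [.out 546],
  .sub [3, 1, 2, 4, 1, 3, 1, 2, 1, 3, 4] [.out 1823],
  .sub [1, 4, 3, 2, 1, 3, 1, 2, 1, 3, 4] [.out 2330],
  .sub [2, 4, 3, 2, 1, 3, 1, 2, 1, 3, 4] [.sub [19, 25, 19, 19, 18, 25, 20, 31, 27, 30] [.sub [27, 18, 27, 18, 18, 25, 31, 31, 20, 20, 30, 27] [.out 2123]]],
  .sub [4, 1, 3, 2, 1, 3, 1, 2, 1, 3, 4] [.out 2823],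
  .sub [3, 1, 3, 2, 1, 3, 1, 2, 1, 3, 4] [.out 3719],
  .sub [2, 1, 3, 2, 1, 3, 1, 2, 1, 3, 4] [.sub [25, 27, 30, 20, 18, 30, 25, 20, 31, 29, 25] [.out 3739]],
  .sub [1, 2, 3, 2, 1, 3, 1, 2, 1, 3, 4] [.sub [19, 18, 18, 18, 18, 25, 31, 24, 20] [.out 3105]],
  .sub [3, 4, 1, 2, 1, 3, 1, 2, 1, 3, 4] [.out 3841],
  .sub [1, 4, 1, 2, 1, 3, 1, 2, 1, 3, 4] [.sub [18, 30, 25, 20, 18, 27, 20, 31, 30, 20, 30] [.out 3091]],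
  .sub [4, 3, 1, 2, 1, 3, 1, 2, 1, 3, 4] [.sub [25, 20, 18, 24, 18, 24, 25, 24, 20, 20, 30, 25, 29, 29] [.sub [30, 27, 19, 20, 18, 25, 31, 31, 20, 25] [.out 1540]]],
  .sub [1, 3, 1, 2, 1, 3, 1, 2, 1, 3, 4] [.sub [24, 24, 18, 24, 29, 30, 31, 25, 29] [.out 3021]],
  .sub [2, 3, 1, 2, 1, 3, 1, 2, 1, 3, 4] [.sub [30, 25, 31, 19, 24, 27, 29, 31, 27, 30, 29] [.out 925]],
  .sub [4, 1, 4, 3, 2, 3, 1, 2, 1, 3, 4] [.out 3073],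
  .sub [3, 1, 4, 3, 2, 3, 1, 2, 1, 3, 4] [.sub [31, 30, 27, 20, 18, 31, 30, 27, 24, 25, 29, 29] [.sub [18, 30, 25, 18, 18, 30, 27, 24, 30, 25, 29, 29] [.out 2282]]],
  .sub [2, 1, 4, 3, 2, 3, 1, 2, 1, 3, 4] [.sub [20, 27, 18, 29, 18, 30, 31, 25, 24, 29] [.sub [27, 24, 20, 19, 19, 18, 31, 20, 24, 27, 30, 29] [.out 2932]]],
  .sub [3, 4, 1, 3, 2, 3, 1, 2, 1, 3, 4] [.out 1844],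
  .sub [1, 4, 1, 3, 2, 3, 1, 2, 1, 3, 4] [.sub [25, 19, 24, 25, 18, 31, 29, 24, 25, 20, 27, 29, 29] [.out 3091]],
  .sub [2, 4, 1, 3, 2, 3, 1, 2, 1, 3, 4] [.sub [29, 30, 31, 18, 25, 27, 31, 30, 27, 29] [.out 2983]]]

/-- Branches. -/
def kidsYPart13 : List Branch := [
  .sub [4, 3, 1, 3, 2, 3, 1, 2, 1, 3, 4] [.sub [29, 18, 25, 18, 29, 31, 31, 30, 24, 27, 29, 29] [.out 1560]],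
  .sub [1, 3, 1, 3, 2, 3, 1, 2, 1, 3, 4] [.out 3855],
  .sub [2, 3, 1, 3, 2, 3, 1, 2, 1, 3, 4] [.out 3631],
  .sub [4, 3, 4, 1, 2, 3, 1, 2, 1, 3, 4] [.sub [30, 24, 27, 20, 18, 31, 30, 31, 30, 25, 29, 29] [.out 1340]],
  .sub [1, 3, 4, 1, 2, 3, 1, 2, 1, 3, 4] [.sub [30, 19, 20, 18, 19, 27, 31, 25, 31, 20] [.out 917]],
  .sub [2, 3, 4, 1, 2, 3, 1, 2, 1, 3, 4] [.sub [27, 25, 18, 18, 18, 24, 29, 31, 30, 25, 29] [.out 689]],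
  .sub [3, 1, 4, 1, 2, 3, 1, 2, 1, 3, 4] [.sub [25, 19, 24, 20, 18, 24, 30, 24, 31, 27, 29] [.out 3689]],
  .sub [2, 1, 4, 1, 2, 3, 1, 2, 1, 3, 4] [.out 3406],
  .sub [1, 4, 3, 1, 2, 3, 1, 2, 1, 3, 4] [.out 3576],
  .sub [2, 4, 3, 1, 2, 3, 1, 2, 1, 3, 4] [.sub [31, 27, 19, 29, 18, 29, 30, 20, 31, 27, 30, 29, 29] [.out 2911]],
  .sub [4, 1, 3, 1, 2, 3, 1, 2, 1, 3, 4] [.sub [25, 18, 19, 18, 18, 20, 30, 20, 31, 25, 29, 29] [.sub [20, 19, 20, 20, 18, 18, 24, 20, 30, 31, 20, 27, 30, 29] [.out 2063]]],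
  .sub [2, 1, 3, 1, 2, 3, 1, 2, 1, 3, 4] [.sub [20, 18, 27, 18, 31, 31, 24, 20, 27, 30, 29, 29] [.out 3003]],
  .sub [3, 2, 3, 1, 2, 3, 1, 2, 1, 3, 4] [.out 2338],
  .sub [1, 2, 3, 1, 2, 3, 1, 2, 1, 3, 4] [.sub [19, 31, 31, 19, 24, 20, 24, 27, 24, 27, 29, 29] [.out 3911]],
  .sub [3, 2, 1, 3, 4, 1, 4, 3, 2, 3, 4] [.sub [24, 31, 25, 19, 18, 27, 24, 29, 31, 29, 25] [.out 1125]],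
  .sub [1, 3, 2, 4, 3, 1, 4, 3, 2, 3, 4] [.sub [18, 18, 24, 27, 18, 18, 20, 24, 31, 24, 27, 29] [.out 2048]],
  .sub [4, 1, 2, 4, 3, 1, 4, 3, 2, 3, 4] [.out 2976],
  .sub [3, 1, 2, 4, 3, 1, 4, 3, 2, 3, 4] [.sub [30, 18, 31, 18, 19, 24, 31, 27, 24, 20, 27, 29] [.out 238]],
  .sub [2, 3, 4, 1, 3, 1, 4, 3, 2, 3, 4] [.out 3355],
  .sub [3, 2, 4, 1, 3, 1, 4, 3, 2, 3, 4] [.out 3825],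
  .sub [1, 2, 4, 1, 3, 1, 4, 3, 2, 3, 4] [.out 1975],
  .sub [4, 3, 2, 1, 3, 1, 4, 3, 2, 3, 4] [.sub [24, 18, 24, 24, 19, 20, 20, 25, 31, 27, 29] [.out 2936]],
  .sub [1, 3, 2, 1, 3, 1, 4, 3, 2, 3, 4] [.sub [19, 24, 27, 18, 31, 29, 24, 25, 20, 30, 29] [.out 73]],
  .sub [2, 3, 2, 1, 3, 1, 4, 3, 2, 3, 4] [.out 3877],
  .sub [4, 1, 2, 1, 3, 1, 4, 3, 2, 3, 4] [.out 2634],
  .sub [3, 1, 2, 1, 3, 1, 4, 3, 2, 3, 4] [.out 3190],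
  .sub [4, 1, 3, 2, 3, 1, 4, 3, 2, 3, 4] [.sub [24, 31, 24, 19, 24, 25, 24, 31, 27, 30, 29, 29] [.sub [18, 27, 18, 18, 18, 29, 25, 20, 24, 27] [.out 3741]]],
  .sub [3, 1, 3, 2, 3, 1, 4, 3, 2, 3, 4] [.out 3866],
  .sub [2, 1, 3, 2, 3, 1, 4, 3, 2, 3, 4] [.out 404],
  .sub [1, 2, 3, 2, 3, 1, 4, 3, 2, 3, 4] [.out 1712],
  .sub [3, 4, 1, 2, 3, 1, 4, 3, 2, 3, 4] [.sub [29, 18, 24, 20, 18, 20, 24, 30, 20, 27, 29] [.out 3120]],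
  .sub [1, 4, 1, 2, 3, 1, 4, 3, 2, 3, 4] [.sub [27, 19, 29, 18, 19, 18, 27, 30, 20, 24, 29] [.sub [19, 25, 27, 18, 31, 29, 20, 30, 20, 27] [.out 3995]]],
  .sub [4, 3, 1, 2, 3, 1, 4, 3, 2, 3, 4] [.sub [29, 30, 19, 19, 19, 20, 20, 29, 31, 29, 25] [.sub [18, 20, 19, 18, 18, 24, 29, 20, 24, 29] [.out 3362]]],
  .sub [1, 3, 1, 2, 3, 1, 4, 3, 2, 3, 4] [.sub [24, 30, 18, 18, 19, 18, 29, 24, 31, 20, 30, 25] [.out 3485]],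
  .sub [2, 3, 1, 2, 3, 1, 4, 3, 2, 3, 4] [.sub [25, 19, 20, 24, 18, 31, 20, 20, 24, 30, 27] [.sub [24, 19, 20, 24, 18, 31, 20, 30, 25, 29] [.done 14]]],
  .sub [4, 1, 4, 3, 2, 1, 4, 3, 2, 3, 4] [.sub [24, 25, 19, 29, 18, 31, 31, 20, 25, 29, 29] [.sub [25, 20, 19, 29, 18, 30, 31, 25, 29] [.out 3051]]],
  .sub [3, 1, 4, 3, 2, 1, 4, 3, 2, 3, 4] [.sub [20, 19, 20, 19, 20, 31, 24, 31, 29, 25, 29, 29] [.out 1721]],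
  .sub [2, 1, 4, 3, 2, 1, 4, 3, 2, 3, 4] [.out 3370],
  .sub [3, 2, 4, 3, 2, 1, 4, 3, 2, 3, 4] [.sub [18, 24, 27, 19, 24, 31, 30, 20, 29, 25, 29, 29] [.out 3112]],
  .sub [1, 2, 4, 3, 2, 1, 4, 3, 2, 3, 4] [.sub [19, 29, 31, 18, 19, 29, 25, 20, 31, 29, 25, 29] [.sub [27, 27, 19, 18, 19, 25, 27, 25, 24, 27, 29, 29] [.out 1517]]],
  .sub [4, 1, 2, 3, 2, 1, 4, 3, 2, 3, 4] [.sub [24, 24, 19, 31, 19, 25, 20, 30, 27] [.sub [19, 27, 19, 20, 18, 24, 30, 20, 31, 25, 29, 29] [.out 2877]]],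
  .sub [3, 1, 2, 3, 2, 1, 4, 3, 2, 3, 4] [.out 2575],
  .sub [4, 3, 2, 4, 3, 4, 1, 3, 2, 3, 4] [.out 4056],
  .sub [2, 3, 2, 4, 3, 4, 1, 3, 2, 3, 4] [.sub [19, 20, 31, 18, 19, 31, 25, 31, 20] [.sub [27, 19, 18, 25, 31, 25, 24, 25] [.out 3362]]],
  .sub [4, 1, 2, 4, 3, 4, 1, 3, 2, 3, 4] [.sub [30, 18, 19, 20, 18, 29, 31, 24, 20, 30, 25, 29, 29] [.sub [27, 18, 31, 20, 18, 18, 20, 29, 24, 31, 20, 30, 25] [.out 924]]],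
  .sub [2, 3, 4, 1, 3, 4, 1, 3, 2, 3, 4] [.out 3118],
  .sub [3, 2, 4, 1, 3, 4, 1, 3, 2, 3, 4] [.sub [31, 20, 19, 19, 24, 29, 20, 31, 30, 25, 29] [.sub [19, 25, 19, 24, 19, 18, 30, 31, 20, 25, 20, 27, 30] [.done 4]]],
  .sub [1, 2, 4, 1, 3, 4, 1, 3, 2, 3, 4] [.sub [18, 18, 19, 29, 18, 31, 27, 25, 20, 20, 29, 25, 29, 29] [.sub [30, 19, 20, 18, 18, 29, 24, 27, 31, 20, 29, 25, 29] [.out 213]]],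
  .sub [4, 3, 2, 1, 3, 4, 1, 3, 2, 3, 4] [.sub [24, 31, 24, 18, 27, 24, 30, 20, 27, 30, 29] [.out 3260]],
  .sub [2, 3, 2, 1, 3, 4, 1, 3, 2, 3, 4] [.out 1959],
  .sub [4, 1, 2, 1, 3, 4, 1, 3, 2, 3, 4] [.out 1869],
  .sub [3, 1, 2, 1, 3, 4, 1, 3, 2, 3, 4] [.sub [20, 18, 19, 24, 18, 24, 29, 24, 30] [.out 1132]],
  .sub [1, 4, 3, 2, 3, 4, 1, 3, 2, 3, 4] [.out 3763],
  .sub [2, 4, 3, 2, 3, 4, 1, 3, 2, 3, 4] [.out 3081],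
  .sub [4, 1, 3, 2, 3, 4, 1, 3, 2, 3, 4] [.out 2801],
  .sub [3, 1, 3, 2, 3, 4, 1, 3, 2, 3, 4] [.sub [18, 19, 31, 25, 31, 20, 27, 30, 29] [.out 1771]],
  .sub [2, 1, 3, 2, 3, 4, 1, 3, 2, 3, 4] [.sub [19, 20, 18, 20, 18, 18, 25, 27, 25, 20, 30, 27, 29] [.out 3419]],
  .sub [1, 2, 3, 2, 3, 4, 1, 3, 2, 3, 4] [.out 3275],
  .sub [3, 4, 1, 2, 3, 4, 1, 3, 2, 3, 4] [.out 2460],
  .sub [1, 4, 1, 2, 3, 4, 1, 3, 2, 3, 4] [.sub [20, 31, 30, 18, 19, 24, 20, 24, 20, 27, 30, 29] [.out 2943]],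
  .sub [4, 3, 1, 2, 3, 4, 1, 3, 2, 3, 4] [.sub [19, 30, 20, 19, 18, 30, 27, 31, 20, 29, 25, 29, 29] [.out 3661]],
  .sub [1, 3, 1, 2, 3, 4, 1, 3, 2, 3, 4] [.out 3925],
  .sub [2, 3, 1, 2, 3, 4, 1, 3, 2, 3, 4] [.sub [29, 24, 18, 29, 20, 31, 20, 29] [.out 3189]],
  .sub [3, 1, 4, 3, 2, 4, 1, 3, 2, 3, 4] [.out 2631]]

/-- Branches. -/
def kidsYPart14 : List Branch := [
  .sub [3, 2, 4, 3, 2, 4, 1, 3, 2, 3, 4] [.out 3321],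
  .sub [1, 2, 4, 3, 2, 4, 1, 3, 2, 3, 4] [.out 3430],
  .sub [1, 4, 1, 3, 2, 4, 1, 3, 2, 3, 4] [.sub [24, 19, 29, 18, 18, 24, 30, 25, 29, 29] [.sub [24, 29, 31, 18, 31, 20, 20, 31, 27, 29] [.out 1877]]],
  .sub [2, 4, 1, 3, 2, 4, 1, 3, 2, 3, 4] [.out 3326],
  .sub [2, 3, 1, 3, 2, 4, 1, 3, 2, 3, 4] [.out 3732],
  .sub [3, 2, 1, 3, 2, 4, 1, 3, 2, 3, 4] [.out 1062],
  .sub [1, 2, 1, 3, 2, 4, 1, 3, 2, 3, 4] [.sub [25, 19, 19, 18, 19, 31, 29, 24, 25, 20, 29, 25] [.sub [30, 31, 25, 19, 18, 25, 24, 31, 20, 27, 30, 29] [.bad [31, 25, 18, 19, 27, 31, 25, 20, 29, 25, 29, 29] 1]]],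
  .sub [4, 1, 2, 3, 2, 4, 1, 3, 2, 3, 4] [.sub [27, 31, 18, 27, 19, 20, 30, 20] [.out 2595]],
  .sub [3, 1, 2, 3, 2, 4, 1, 3, 2, 3, 4] [.sub [25, 19, 29, 31, 18, 31, 31, 31, 31, 24, 29] [.out 968]],
  .sub [1, 4, 3, 2, 4, 3, 1, 3, 2, 3, 4] [.sub [19, 27, 18, 24, 30, 20, 31, 27, 30, 29] [.out 3578]],
  .sub [2, 4, 3, 2, 4, 3, 1, 3, 2, 3, 4] [.sub [27, 19, 18, 19, 18, 24, 31, 20, 27, 30, 29] [.out 1944]],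
  .sub [4, 1, 3, 2, 4, 3, 1, 3, 2, 3, 4] [.sub [31, 25, 18, 18, 25, 20, 31, 31, 30, 27, 29] [.out 3091]],
  .sub [3, 1, 3, 2, 4, 3, 1, 3, 2, 3, 4] [.sub [19, 19, 30, 18, 18, 18, 20, 30, 25, 31, 25] [.sub [18, 27, 29, 19, 18, 20, 27, 30, 20, 27, 30, 29] [.out 2727]]],
  .sub [2, 1, 3, 2, 4, 3, 1, 3, 2, 3, 4] [.sub [19, 18, 20, 31, 18, 29, 24, 25, 24, 30, 25] [.out 1641]],
  .sub [1, 2, 3, 2, 4, 3, 1, 3, 2, 3, 4] [.sub [20, 18, 24, 18, 25, 20, 31, 31, 27] [.out 3577]],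
  .sub [3, 4, 1, 2, 4, 3, 1, 3, 2, 3, 4] [.out 1628],
  .sub [4, 3, 1, 2, 4, 3, 1, 3, 2, 3, 4] [.sub [31, 24, 19, 25, 18, 30, 24, 30, 25] [.out 2094]],
  .sub [1, 3, 1, 2, 4, 3, 1, 3, 2, 3, 4] [.out 1037],
  .sub [2, 3, 1, 2, 4, 3, 1, 3, 2, 3, 4] [.sub [27, 31, 18, 29, 18, 25, 31, 20, 24, 30, 25, 29, 29] [.out 3878]],
  .sub [3, 2, 3, 4, 1, 3, 1, 3, 2, 3, 4] [.sub [31, 27, 27, 19, 18, 27, 24, 31, 31, 29] [.out 1642]],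
  .sub [1, 2, 3, 4, 1, 3, 1, 3, 2, 3, 4] [.out 2285],
  .sub [4, 3, 2, 4, 1, 3, 1, 3, 2, 3, 4] [.sub [18, 31, 18, 18, 19, 24, 31, 30, 29] [.out 304]],
  .sub [1, 3, 2, 4, 1, 3, 1, 3, 2, 3, 4] [.out 2979],
  .sub [2, 3, 2, 4, 1, 3, 1, 3, 2, 3, 4] [.out 1219],
  .sub [4, 1, 2, 4, 1, 3, 1, 3, 2, 3, 4] [.out 4058],
  .sub [3, 1, 2, 4, 1, 3, 1, 3, 2, 3, 4] [.sub [20, 19, 31, 19, 20, 20, 31, 30, 20, 29, 25] [.out 800]],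
  .sub [1, 4, 3, 2, 1, 3, 1, 3, 2, 3, 4] [.sub [27, 31, 24, 18, 25, 27, 20, 31, 27, 30, 29, 29] [.out 3347]],
  .sub [2, 4, 3, 2, 1, 3, 1, 3, 2, 3, 4] [.out 2222],
  .sub [4, 1, 3, 2, 1, 3, 1, 3, 2, 3, 4] [.sub [18, 24, 19, 20, 19, 24, 27, 24, 20, 25] [.out 951]],
  .sub [3, 1, 3, 2, 1, 3, 1, 3, 2, 3, 4] [.out 3431],
  .sub [2, 1, 3, 2, 1, 3, 1, 3, 2, 3, 4] [.sub [19, 18, 27, 19, 18, 27, 30, 27, 31, 20, 29, 25, 29] [.out 1153]],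
  .sub [1, 2, 3, 2, 1, 3, 1, 3, 2, 3, 4] [.out 2356],
  .sub [1, 3, 1, 2, 1, 3, 1, 3, 2, 3, 4] [.out 3544],
  .sub [4, 1, 4, 3, 2, 3, 1, 3, 2, 3, 4] [.sub [27, 18, 27, 19, 24, 31, 29] [.sub [30, 19, 20, 18, 19, 31, 25, 27, 24, 29, 25, 29, 29] [.out 2794]]],
  .sub [3, 1, 4, 3, 2, 3, 1, 3, 2, 3, 4] [.out 3824],
  .sub [2, 1, 4, 3, 2, 3, 1, 3, 2, 3, 4] [.sub [25, 24, 20, 18, 19, 29, 24, 29, 24] [.out 3642]],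
  .sub [3, 2, 4, 3, 2, 3, 1, 3, 2, 3, 4] [.out 3403],
  .sub [1, 2, 4, 3, 2, 3, 1, 3, 2, 3, 4] [.out 4023],
  .sub [3, 4, 1, 3, 2, 3, 1, 3, 2, 3, 4] [.sub [19, 31, 31, 18, 18, 30, 31, 30, 31, 30] [.out 4000]],
  .sub [1, 4, 1, 3, 2, 3, 1, 3, 2, 3, 4] [.out 2742],
  .sub [2, 4, 1, 3, 2, 3, 1, 3, 2, 3, 4] [.sub [18, 19, 25, 20, 18, 24, 24, 24, 20, 20, 25, 29, 29] [.out 2798]],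
  .sub [4, 3, 1, 3, 2, 3, 1, 3, 2, 3, 4] [.sub [19, 18, 24, 25, 18, 25, 20, 30, 24, 25] [.sub [20, 18, 19, 18, 30, 31, 25, 31, 27] [.out 3689]]],
  .sub [1, 3, 1, 3, 2, 3, 1, 3, 2, 3, 4] [.out 3581],
  .sub [2, 3, 1, 3, 2, 3, 1, 3, 2, 3, 4] [.out 3156],
  .sub [3, 2, 1, 3, 2, 3, 1, 3, 2, 3, 4] [.out 2432],
  .sub [1, 2, 1, 3, 2, 3, 1, 3, 2, 3, 4] [.sub [18, 31, 19, 19, 18, 24, 31, 31, 20, 27, 30, 29, 29] [.out 3680]],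
  .sub [4, 1, 2, 3, 2, 3, 1, 3, 2, 3, 4] [.out 3999],
  .sub [3, 1, 2, 3, 2, 3, 1, 3, 2, 3, 4] [.sub [19, 30, 20, 19, 18, 30, 27, 31, 20, 29, 25, 29, 29] [.out 2566]],
  .sub [4, 1, 3, 1, 2, 3, 1, 3, 2, 3, 4] [.out 3366],
  .sub [2, 1, 3, 1, 2, 3, 1, 3, 2, 3, 4] [.sub [31, 20, 29, 18, 18, 31, 30, 27, 24] [.out 521]],
  .sub [1, 4, 1, 4, 3, 2, 1, 3, 2, 3, 4] [.sub [18, 27, 18, 20, 27, 20, 31, 25] [.sub [29, 24, 25, 20, 18, 27, 31, 29, 31, 27, 29, 29] [.out 1133]]],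
  .sub [2, 4, 1, 4, 3, 2, 1, 3, 2, 3, 4] [.sub [19, 18, 27, 20, 18, 18, 25, 31, 27, 20, 20, 25, 29] [.out 3967]],
  .sub [1, 3, 1, 4, 3, 2, 1, 3, 2, 3, 4] [.sub [19, 27, 18, 19, 18, 18, 24, 24, 27, 24, 30, 25, 29, 29] [.out 3533]],
  .sub [3, 2, 1, 4, 3, 2, 1, 3, 2, 3, 4] [.out 2084],
  .sub [1, 2, 1, 4, 3, 2, 1, 3, 2, 3, 4] [.sub [27, 27, 25, 18, 27, 24, 27, 24, 29, 25, 29] [.sub [18, 24, 18, 19, 19, 25, 20, 30, 27, 29] [.out 3653]]],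
  .sub [1, 3, 2, 4, 3, 2, 1, 3, 2, 3, 4] [.sub [18, 24, 30, 31, 18, 31, 20, 20, 24, 27, 30] [.out 1652]],
  .sub [2, 3, 2, 4, 3, 2, 1, 3, 2, 3, 4] [.out 2726],
  .sub [4, 1, 2, 4, 3, 2, 1, 3, 2, 3, 4] [.out 1615],
  .sub [3, 1, 2, 4, 3, 2, 1, 3, 2, 3, 4] [.out 3349],
  .sub [3, 1, 4, 1, 3, 2, 1, 3, 2, 3, 4] [.out 2798],
  .sub [2, 1, 4, 1, 3, 2, 1, 3, 2, 3, 4] [.out 3994],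
  .sub [3, 2, 4, 1, 3, 2, 1, 3, 2, 3, 4] [.out 4034],
  .sub [1, 2, 4, 1, 3, 2, 1, 3, 2, 3, 4] [.out 2702],
  .sub [4, 3, 2, 1, 3, 2, 1, 3, 2, 3, 4] [.sub [27, 31, 20, 19, 18, 24, 30, 29, 31, 30, 25, 29] [.out 2040]]]

/-- Branches. -/
def kidsYPart15 : List Branch := [
  .sub [1, 3, 2, 1, 3, 2, 1, 3, 2, 3, 4] [.sub [18, 18, 24, 18, 19, 25, 20, 30, 29, 29] [.out 3996]],
  .sub [2, 3, 2, 1, 3, 2, 1, 3, 2, 3, 4] [.sub [25, 31, 29, 18, 27, 31, 30, 20, 20, 30] [.sub [24, 18, 31, 24, 18, 29, 25, 20, 31, 20, 29, 25, 29, 29] [.out 992]]],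
  .sub [4, 1, 2, 1, 3, 2, 1, 3, 2, 3, 4] [.out 2241],
  .sub [3, 1, 2, 1, 3, 2, 1, 3, 2, 3, 4] [.out 3974],
  .sub [3, 4, 1, 2, 3, 2, 1, 3, 2, 3, 4] [.sub [20, 19, 19, 20, 18, 20, 30, 25, 31, 31] [.sub [30, 27, 20, 18, 25, 27, 30, 20, 27, 30, 29, 29] [.out 197]]],
  .sub [1, 4, 1, 2, 3, 2, 1, 3, 2, 3, 4] [.sub [19, 27, 18, 30, 31, 24, 20, 29, 25, 29] [.out 1383]],
  .sub [4, 3, 1, 2, 3, 2, 1, 3, 2, 3, 4] [.out 1397],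
  .sub [1, 3, 1, 2, 3, 2, 1, 3, 2, 3, 4] [.sub [24, 30, 19, 20, 20, 18, 20, 30, 25, 27, 24, 29] [.out 1545]],
  .sub [2, 3, 1, 2, 3, 2, 1, 3, 2, 3, 4] [.sub [31, 18, 27, 20, 18, 18, 30, 31, 24, 31, 27, 29] [.out 2271]],
  .sub [4, 1, 4, 3, 2, 4, 3, 1, 2, 3, 4] [.out 2637],
  .sub [3, 1, 4, 3, 2, 4, 3, 1, 2, 3, 4] [.out 947],
  .sub [3, 2, 4, 3, 2, 4, 3, 1, 2, 3, 4] [.sub [19, 31, 24, 18, 19, 29, 30, 20, 30, 20, 29, 25, 29, 29] [.sub [19, 20, 19, 24, 31, 29, 24, 30, 29] [.out 73]]],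
  .sub [4, 1, 2, 3, 2, 4, 3, 1, 2, 3, 4] [.sub [27, 30, 20, 18, 20, 27, 20, 20, 30, 25, 29] [.out 3885]],
  .sub [3, 1, 2, 3, 2, 4, 3, 1, 2, 3, 4] [.out 3322],
  .sub [3, 2, 1, 3, 4, 1, 3, 1, 2, 3, 4] [.sub [20, 27, 19, 31, 19, 20, 31, 31, 20, 29, 29] [.out 3447]],
  .sub [1, 2, 1, 3, 4, 1, 3, 1, 2, 3, 4] [.out 2746],
  .sub [4, 3, 2, 3, 4, 1, 3, 1, 2, 3, 4] [.sub [18, 29, 19, 18, 24, 27, 29, 31, 30, 29, 29] [.out 3415]],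
  .sub [1, 3, 2, 3, 4, 1, 3, 1, 2, 3, 4] [.sub [20, 19, 19, 19, 29, 24, 30, 25, 20, 27, 30, 29] [.out 2682]],
  .sub [2, 3, 2, 3, 4, 1, 3, 1, 2, 3, 4] [.sub [27, 18, 29, 24, 18, 20, 29, 31, 29, 25, 29] [.out 1210]],
  .sub [3, 1, 2, 3, 4, 1, 3, 1, 2, 3, 4] [.out 2960],
  .sub [3, 2, 3, 1, 4, 1, 3, 1, 2, 3, 4] [.sub [31, 19, 31, 18, 18, 18, 20, 30, 20, 20, 27, 30] [.sub [19, 27, 31, 19, 18, 31, 24, 25, 24, 20, 30, 29] [.out 2342]]],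
  .sub [1, 2, 3, 1, 4, 1, 3, 1, 2, 3, 4] [.out 3075],
  .sub [4, 3, 2, 1, 4, 1, 3, 1, 2, 3, 4] [.out 1002],
  .sub [1, 3, 2, 1, 4, 1, 3, 1, 2, 3, 4] [.sub [25, 27, 19, 29, 18, 31, 20, 29, 24, 30, 29] [.sub [19, 18, 18, 19, 20, 18, 30, 27, 24, 31, 25, 29] [.out 3741]]],
  .sub [2, 3, 2, 1, 4, 1, 3, 1, 2, 3, 4] [.sub [27, 18, 18, 27, 19, 24, 31, 29, 31, 30, 25, 29] [.out 1644]],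
  .sub [4, 1, 2, 1, 4, 1, 3, 1, 2, 3, 4] [.sub [27, 25, 19, 19, 19, 20, 20, 30, 24, 20, 30, 25, 29, 29] [.out 704]],
  .sub [3, 1, 2, 1, 4, 1, 3, 1, 2, 3, 4] [.sub [29, 18, 18, 27, 18, 27, 31, 25, 31, 29] [.out 3862]],
  .sub [1, 4, 3, 2, 4, 1, 3, 1, 2, 3, 4] [.sub [24, 20, 24, 19, 20, 20, 29, 24, 30, 25] [.out 2905]],
  .sub [2, 4, 3, 2, 4, 1, 3, 1, 2, 3, 4] [.out 2932],
  .sub [4, 1, 3, 2, 4, 1, 3, 1, 2, 3, 4] [.sub [29, 24, 30, 19, 18, 24, 29, 31, 31, 27, 30, 29, 29] [.out 477]],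
  .sub [3, 1, 3, 2, 4, 1, 3, 1, 2, 3, 4] [.out 1940],
  .sub [1, 2, 3, 2, 4, 1, 3, 1, 2, 3, 4] [.out 3286],
  .sub [3, 4, 1, 2, 4, 1, 3, 1, 2, 3, 4] [.out 3275],
  .sub [1, 4, 1, 2, 4, 1, 3, 1, 2, 3, 4] [.sub [20, 19, 20, 18, 27, 30, 31, 30] [.sub [27, 18, 19, 18, 19, 30, 24, 27, 24, 27, 30, 29] [.out 3894]]],
  .sub [4, 3, 1, 2, 4, 1, 3, 1, 2, 3, 4] [.out 2910],
  .sub [1, 3, 1, 2, 4, 1, 3, 1, 2, 3, 4] [.sub [24, 19, 29, 18, 18, 31, 29, 20, 20, 20, 30, 29, 29] [.sub [24, 31, 24, 18, 30, 24, 31, 31, 20, 30, 29, 29] [.out 1125]]],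
  .sub [2, 3, 1, 2, 4, 1, 3, 1, 2, 3, 4] [.sub [27, 19, 24, 19, 24, 31, 20, 24, 20, 29] [.sub [19, 19, 31, 19, 18, 31, 24, 20, 31, 30, 29] [.out 2835]]],
  .sub [4, 1, 4, 3, 2, 1, 3, 1, 2, 3, 4] [.sub [20, 19, 20, 25, 18, 27, 29, 20, 20, 30] [.sub [31, 19, 20, 29, 18, 30, 24, 25, 24, 20, 30, 27, 29] [.out 1648]]],
  .sub [2, 1, 4, 3, 2, 1, 3, 1, 2, 3, 4] [.sub [25, 27, 24, 25, 18, 31, 27, 30, 20, 20, 25, 29, 29] [.out 3322]],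
  .sub [1, 2, 4, 3, 2, 1, 3, 1, 2, 3, 4] [.sub [31, 19, 31, 18, 18, 20, 20, 29, 24, 30, 25] [.out 3880]],
  .sub [3, 4, 1, 3, 2, 1, 3, 1, 2, 3, 4] [.sub [24, 30, 19, 20, 20, 18, 25, 24, 20, 27, 30, 29] [.out 3954]],
  .sub [1, 4, 1, 3, 2, 1, 3, 1, 2, 3, 4] [.out 3239],
  .sub [2, 4, 1, 3, 2, 1, 3, 1, 2, 3, 4] [.sub [19, 19, 24, 24, 18, 20, 31, 24, 20, 20, 25, 29, 29] [.sub [30, 29, 18, 18, 20, 29, 20, 20, 20, 30] [.out 2577]]],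
  .sub [4, 3, 1, 3, 2, 1, 3, 1, 2, 3, 4] [.sub [18, 18, 19, 24, 18, 27, 27, 31, 31, 30, 27, 29] [.out 527]],
  .sub [1, 3, 1, 3, 2, 1, 3, 1, 2, 3, 4] [.out 1630],
  .sub [2, 3, 1, 3, 2, 1, 3, 1, 2, 3, 4] [.out 2401],
  .sub [1, 2, 1, 3, 2, 1, 3, 1, 2, 3, 4] [.sub [27, 18, 20, 18, 18, 24, 30, 27, 27, 24, 30, 27] [.out 2286]],
  .sub [4, 1, 2, 3, 2, 1, 3, 1, 2, 3, 4] [.sub [29, 25, 19, 18, 31, 27, 20, 20, 20, 30, 29, 29] [.out 3258]],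
  .sub [3, 1, 2, 3, 2, 1, 3, 1, 2, 3, 4] [.out 3734],
  .sub [4, 3, 4, 1, 2, 1, 3, 1, 2, 3, 4] [.sub [25, 27, 20, 19, 19, 18, 27, 29, 31, 24, 30, 25, 29] [.out 707]],
  .sub [3, 1, 4, 1, 2, 1, 3, 1, 2, 3, 4] [.out 3522],
  .sub [1, 4, 3, 1, 2, 1, 3, 1, 2, 3, 4] [.out 1924],
  .sub [2, 4, 3, 1, 2, 1, 3, 1, 2, 3, 4] [.sub [24, 18, 24, 25, 18, 31, 27, 24, 30] [.out 1340]],
  .sub [2, 1, 3, 1, 2, 1, 3, 1, 2, 3, 4] [.out 1454],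
  .sub [3, 2, 3, 1, 2, 1, 3, 1, 2, 3, 4] [.out 3832],
  .sub [1, 2, 3, 1, 2, 1, 3, 1, 2, 3, 4] [.out 1333],
  .sub [1, 4, 1, 4, 3, 2, 3, 1, 2, 3, 4] [.sub [18, 19, 30, 19, 18, 24, 27, 30, 31, 20, 30, 27, 29] [.out 2504]],
  .sub [2, 4, 1, 4, 3, 2, 3, 1, 2, 3, 4] [.sub [19, 31, 24, 31, 18, 24, 29, 24, 29, 29] [.sub [27, 24, 25, 19, 18, 30, 20, 24, 20, 30, 27, 29, 29] [.out 1101]]],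
  .sub [1, 3, 1, 4, 3, 2, 3, 1, 2, 3, 4] [.out 1857],
  .sub [2, 3, 1, 4, 3, 2, 3, 1, 2, 3, 4] [.out 2534],
  .sub [3, 2, 1, 4, 3, 2, 3, 1, 2, 3, 4] [.out 3793],
  .sub [1, 3, 4, 1, 3, 2, 3, 1, 2, 3, 4] [.sub [25, 24, 27, 18, 18, 27, 20, 31, 30, 20, 30, 27, 29] [.sub [18, 30, 31, 19, 18, 29, 20, 20, 30, 29, 29] [.out 1714]]],
  .sub [3, 1, 4, 1, 3, 2, 3, 1, 2, 3, 4] [.out 3036],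
  .sub [2, 1, 4, 1, 3, 2, 3, 1, 2, 3, 4] [.out 3205]]

/-- Branches. -/
def kidsYPart16 : List Branch := [
  .sub [3, 2, 4, 1, 3, 2, 3, 1, 2, 3, 4] [.out 2390],
  .sub [1, 2, 4, 1, 3, 2, 3, 1, 2, 3, 4] [.sub [20, 25, 18, 18, 24, 29, 24, 31, 20, 30, 29] [.sub [30, 19, 25, 18, 24, 31, 29, 31, 30, 27, 29, 29] [.out 3039]]],
  .sub [2, 4, 3, 1, 3, 2, 3, 1, 2, 3, 4] [.sub [30, 31, 19, 25, 19, 30, 24, 20, 30, 25, 29, 29] [.out 2144]],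
  .sub [2, 1, 3, 1, 3, 2, 3, 1, 2, 3, 4] [.out 3153],
  .sub [3, 2, 3, 1, 3, 2, 3, 1, 2, 3, 4] [.out 1783],
  .sub [1, 2, 3, 1, 3, 2, 3, 1, 2, 3, 4] [.sub [30, 19, 30, 19, 18, 31, 30, 24, 20, 30, 25] [.sub [19, 19, 20, 18, 18, 27, 24, 30, 20, 25, 29] [.out 683]]],
  .sub [4, 3, 2, 1, 3, 2, 3, 1, 2, 3, 4] [.out 3722],
  .sub [1, 3, 2, 1, 3, 2, 3, 1, 2, 3, 4] [.sub [18, 27, 31, 18, 29, 31, 31, 25, 20, 27] [.out 3647]],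
  .sub [2, 3, 2, 1, 3, 2, 3, 1, 2, 3, 4] [.sub [25, 31, 19, 18, 19, 31, 31, 31, 29, 29] [.out 3762]],
  .sub [3, 1, 4, 3, 1, 2, 3, 1, 2, 3, 4] [.sub [19, 24, 25, 20, 18, 24, 31, 31, 31, 24] [.out 1114]],
  .sub [3, 2, 4, 3, 1, 2, 3, 1, 2, 3, 4] [.sub [18, 30, 24, 18, 18, 31, 20, 29, 31, 29] [.sub [18, 31, 18, 18, 18, 20, 20, 20, 31, 20, 30, 29] [.out 3157]]],
  .sub [1, 2, 4, 3, 1, 2, 3, 1, 2, 3, 4] [.sub [24, 31, 18, 24, 29, 24, 20, 27, 30, 29, 29] [.out 3252]],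
  .sub [1, 4, 1, 3, 1, 2, 3, 1, 2, 3, 4] [.sub [31, 27, 19, 29, 18, 29, 30, 20, 31, 27, 30, 29, 29] [.out 3324]],
  .sub [2, 4, 1, 3, 1, 2, 3, 1, 2, 3, 4] [.sub [29, 25, 18, 29, 18, 31, 25, 31, 20, 29, 29] [.out 1663]],
  .sub [3, 2, 1, 3, 1, 2, 3, 1, 2, 3, 4] [.out 3201],
  .sub [1, 2, 1, 3, 1, 2, 3, 1, 2, 3, 4] [.sub [19, 20, 25, 18, 18, 29, 20, 20, 20, 20, 25] [.out 2434]],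
  .sub [4, 3, 2, 3, 1, 2, 3, 1, 2, 3, 4] [.out 2090],
  .sub [1, 3, 2, 3, 1, 2, 3, 1, 2, 3, 4] [.out 2721],
  .sub [4, 1, 2, 3, 1, 2, 3, 1, 2, 3, 4] [.sub [18, 20, 31, 20, 18, 24, 29, 25, 31, 24, 27, 30, 29] [.out 2138]],
  .sub [3, 1, 2, 3, 1, 2, 3, 1, 2, 3, 4] [.sub [18, 24, 24, 19, 18, 31, 30, 27, 31, 30, 27, 29] [.out 2845]],
  .sub [4, 3, 2, 4, 3, 1, 2, 1, 4, 1, 3, 4] [.sub [18, 20, 29, 20, 18, 18, 24, 30, 31, 29, 25, 29, 29] [.out 2680]],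
  .sub [1, 3, 2, 4, 3, 1, 2, 1, 4, 1, 3, 4] [.sub [30, 25, 31, 18, 31, 20, 31, 30] [.out 1814]],
  .sub [2, 3, 2, 4, 3, 1, 2, 1, 4, 1, 3, 4] [.sub [29, 18, 29, 19, 18, 27, 27, 24, 30, 25, 29, 29] [.out 2886]],
  .sub [4, 1, 2, 4, 3, 1, 2, 1, 4, 1, 3, 4] [.sub [31, 30, 20, 19, 18, 20, 24, 30, 20, 29, 29] [.out 3741]],
  .sub [3, 1, 2, 4, 3, 1, 2, 1, 4, 1, 3, 4] [.out 3982],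
  .sub [3, 2, 4, 1, 3, 1, 2, 1, 4, 1, 3, 4] [.sub [18, 24, 19, 25, 19, 20, 24, 20, 20, 29, 25, 29] [.sub [19, 24, 24, 27, 18, 24, 30, 20, 31, 30] [.out 551]]],
  .sub [1, 2, 4, 1, 3, 1, 2, 1, 4, 1, 3, 4] [.sub [18, 19, 27, 19, 24, 30, 20, 20, 24, 30, 27] [.sub [29, 24, 25, 20, 18, 27, 31, 29, 31, 27, 29, 29] [.out 2657]]],
  .sub [4, 3, 2, 1, 3, 1, 2, 1, 4, 1, 3, 4] [.out 3452],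
  .sub [1, 3, 2, 1, 3, 1, 2, 1, 4, 1, 3, 4] [.out 3552],
  .sub [2, 3, 2, 1, 3, 1, 2, 1, 4, 1, 3, 4] [.sub [20, 18, 18, 29, 18, 20, 24, 27, 24, 27, 30, 29, 29] [.out 3124]],
  .sub [4, 1, 2, 1, 3, 1, 2, 1, 4, 1, 3, 4] [.out 1993],
  .sub [3, 1, 2, 1, 3, 1, 2, 1, 4, 1, 3, 4] [.out 3605],
  .sub [1, 4, 3, 2, 3, 1, 2, 1, 4, 1, 3, 4] [.sub [30, 20, 24, 18, 19, 29, 25, 31, 24] [.sub [27, 19, 19, 24, 19, 29, 24, 25, 24, 30, 25, 29] [.out 2794]]],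
  .sub [4, 1, 3, 2, 3, 1, 2, 1, 4, 1, 3, 4] [.out 3521],
  .sub [2, 1, 3, 2, 3, 1, 2, 1, 4, 1, 3, 4] [.sub [19, 27, 19, 20, 18, 18, 25, 31, 20, 27] [.out 1873]],
  .sub [3, 4, 1, 2, 3, 1, 2, 1, 4, 1, 3, 4] [.sub [30, 19, 18, 19, 24, 30, 31, 24, 20, 25, 29, 29] [.out 10]],
  .sub [1, 4, 1, 2, 3, 1, 2, 1, 4, 1, 3, 4] [.sub [29, 19, 18, 24, 18, 30, 29, 31, 20, 30, 29] [.out 3215]],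
  .sub [4, 3, 1, 2, 3, 1, 2, 1, 4, 1, 3, 4] [.out 2090],
  .sub [1, 3, 1, 2, 3, 1, 2, 1, 4, 1, 3, 4] [.out 2103],
  .sub [2, 3, 1, 2, 3, 1, 2, 1, 4, 1, 3, 4] [.sub [29, 19, 31, 24, 18, 29, 31, 20, 20, 24, 30, 27, 29, 29] [.out 2829]],
  .sub [1, 2, 1, 4, 1, 4, 3, 2, 4, 1, 3, 4] [.out 3435],
  .sub [4, 3, 2, 4, 1, 4, 3, 2, 4, 1, 3, 4] [.sub [18, 19, 31, 25, 31, 20, 27, 30, 29] [.out 1075]],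
  .sub [1, 3, 2, 4, 1, 4, 3, 2, 4, 1, 3, 4] [.sub [24, 20, 29, 20, 18, 31, 20, 25, 24, 20, 27, 30] [.out 1087]],
  .sub [2, 3, 2, 4, 1, 4, 3, 2, 4, 1, 3, 4] [.out 3110],
  .sub [3, 1, 2, 4, 1, 4, 3, 2, 4, 1, 3, 4] [.sub [19, 18, 27, 20, 18, 18, 24, 20, 24, 27, 24, 29, 25, 29] [.out 3568]],
  .sub [2, 4, 1, 3, 1, 4, 3, 2, 4, 1, 3, 4] [.out 3419],
  .sub [3, 2, 1, 3, 1, 4, 3, 2, 4, 1, 3, 4] [.sub [20, 20, 19, 29, 18, 30, 25, 24] [.out 858]],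
  .sub [1, 2, 1, 3, 1, 4, 3, 2, 4, 1, 3, 4] [.out 3337],
  .sub [1, 3, 2, 3, 1, 4, 3, 2, 4, 1, 3, 4] [.sub [27, 27, 18, 29, 18, 27, 24, 29, 20, 20, 30, 25, 29, 29] [.sub [18, 19, 24, 19, 24, 30, 20, 31, 27, 30] [.out 824]]],
  .sub [4, 1, 2, 3, 1, 4, 3, 2, 4, 1, 3, 4] [.out 3414],
  .sub [3, 1, 2, 3, 1, 4, 3, 2, 4, 1, 3, 4] [.out 1542],
  .sub [1, 4, 3, 2, 1, 4, 3, 2, 4, 1, 3, 4] [.out 1903],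
  .sub [2, 4, 3, 2, 1, 4, 3, 2, 4, 1, 3, 4] [.out 1981],
  .sub [4, 1, 3, 2, 1, 4, 3, 2, 4, 1, 3, 4] [.sub [31, 24, 19, 25, 18, 30, 24, 30, 25] [.out 59]],
  .sub [3, 1, 3, 2, 1, 4, 3, 2, 4, 1, 3, 4] [.out 1912],
  .sub [4, 3, 1, 2, 1, 4, 3, 2, 4, 1, 3, 4] [.sub [31, 19, 18, 18, 19, 31, 24, 30, 31, 30, 25, 29] [.out 3089]],
  .sub [1, 3, 1, 2, 1, 4, 3, 2, 4, 1, 3, 4] [.out 3451],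
  .sub [2, 3, 1, 2, 1, 4, 3, 2, 4, 1, 3, 4] [.out 2955],
  .sub [3, 4, 1, 3, 2, 4, 3, 2, 4, 1, 3, 4] [.sub [18, 31, 29, 18, 31, 27, 20, 20, 20, 27, 30] [.out 221]],
  .sub [1, 4, 1, 3, 2, 4, 3, 2, 4, 1, 3, 4] [.sub [31, 24, 29, 18, 29, 24, 27, 24, 30, 27] [.out 2983]],
  .sub [4, 3, 1, 3, 2, 4, 3, 2, 4, 1, 3, 4] [.out 3191],
  .sub [1, 3, 1, 3, 2, 4, 3, 2, 4, 1, 3, 4] [.sub [19, 29, 31, 29, 19, 18, 31, 30, 25, 20, 29, 25] [.out 2148]],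
  .sub [2, 3, 1, 3, 2, 4, 3, 2, 4, 1, 3, 4] [.out 3600],
  .sub [1, 4, 3, 1, 2, 4, 3, 2, 4, 1, 3, 4] [.out 2401]]

/-- Branches. -/
def kidsYPart17 : List Branch := [
  .sub [2, 4, 3, 1, 2, 4, 3, 2, 4, 1, 3, 4] [.out 3984],
  .sub [4, 1, 3, 1, 2, 4, 3, 2, 4, 1, 3, 4] [.out 3737],
  .sub [2, 1, 3, 1, 2, 4, 3, 2, 4, 1, 3, 4] [.sub [19, 20, 20, 18, 19, 20, 27, 30, 20] [.out 2068]],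
  .sub [3, 2, 3, 1, 2, 4, 3, 2, 4, 1, 3, 4] [.out 2302],
  .sub [1, 2, 3, 1, 2, 4, 3, 2, 4, 1, 3, 4] [.sub [29, 19, 19, 18, 27, 27, 30, 20, 24, 27, 29, 29] [.out 3520]],
  .sub [3, 2, 4, 3, 4, 1, 3, 2, 4, 1, 3, 4] [.out 3002],
  .sub [1, 2, 4, 3, 4, 1, 3, 2, 4, 1, 3, 4] [.sub [18, 20, 25, 18, 30, 25, 31, 30, 27, 29] [.out 3348]],
  .sub [3, 4, 1, 3, 4, 1, 3, 2, 4, 1, 3, 4] [.sub [20, 27, 18, 24, 18, 31, 30, 29, 20, 20, 29, 29] [.out 364]],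
  .sub [2, 4, 1, 3, 4, 1, 3, 2, 4, 1, 3, 4] [.out 3636],
  .sub [3, 2, 1, 3, 4, 1, 3, 2, 4, 1, 3, 4] [.sub [18, 18, 30, 18, 18, 24, 20, 31, 29, 25, 29, 29] [.out 3430]],
  .sub [1, 2, 1, 3, 4, 1, 3, 2, 4, 1, 3, 4] [.out 2931],
  .sub [4, 3, 2, 3, 4, 1, 3, 2, 4, 1, 3, 4] [.sub [31, 19, 27, 31, 18, 27, 20, 31, 24, 27] [.out 2133]],
  .sub [1, 3, 2, 3, 4, 1, 3, 2, 4, 1, 3, 4] [.sub [18, 20, 25, 18, 30, 25, 31, 30, 27, 29] [.out 1504]],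
  .sub [2, 3, 2, 3, 4, 1, 3, 2, 4, 1, 3, 4] [.sub [19, 31, 20, 19, 18, 29, 24, 25, 24, 20, 30, 25] [.sub [24, 31, 18, 20, 18, 30, 31, 20, 25, 20, 30, 25, 29, 29] [.out 3741]]],
  .sub [4, 1, 2, 3, 4, 1, 3, 2, 4, 1, 3, 4] [.out 2360],
  .sub [3, 1, 2, 3, 4, 1, 3, 2, 4, 1, 3, 4] [.sub [25, 18, 19, 20, 18, 30, 24, 24, 31, 27, 30] [.sub [31, 18, 19, 30, 31, 31, 20, 24, 30, 25] [.out 1545]]],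
  .sub [2, 1, 3, 1, 4, 1, 3, 2, 4, 1, 3, 4] [.out 4037],
  .sub [3, 1, 2, 1, 4, 1, 3, 2, 4, 1, 3, 4] [.sub [31, 20, 25, 19, 27, 24, 30, 24, 20, 29] [.out 1646]],
  .sub [2, 4, 3, 2, 4, 1, 3, 2, 4, 1, 3, 4] [.out 3629],
  .sub [4, 1, 3, 2, 4, 1, 3, 2, 4, 1, 3, 4] [.sub [24, 24, 18, 27, 19, 18, 24, 25, 31, 20, 27, 30] [.out 1412]],
  .sub [3, 1, 3, 2, 4, 1, 3, 2, 4, 1, 3, 4] [.out 1002],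
  .sub [4, 3, 1, 2, 4, 1, 3, 2, 4, 1, 3, 4] [.sub [24, 29, 24, 19, 18, 25, 27, 25, 24, 27, 30] [.out 361]],
  .sub [2, 3, 1, 2, 4, 1, 3, 2, 4, 1, 3, 4] [.sub [27, 19, 24, 25, 18, 31, 29, 20, 24, 20, 27, 30, 29, 29] [.out 3555]],
  .sub [4, 3, 2, 4, 3, 1, 3, 2, 4, 1, 3, 4] [.out 3480],
  .sub [1, 3, 2, 4, 3, 1, 3, 2, 4, 1, 3, 4] [.sub [18, 30, 25, 20, 18, 20, 25, 27, 24, 25] [.sub [18, 31, 18, 18, 18, 25, 20, 20, 31, 30, 25, 29, 29] [.out 2894]]],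
  .sub [2, 3, 2, 4, 3, 1, 3, 2, 4, 1, 3, 4] [.sub [29, 24, 18, 18, 18, 31, 29, 20, 24, 20, 25, 29] [.out 3319]],
  .sub [4, 1, 2, 4, 3, 1, 3, 2, 4, 1, 3, 4] [.sub [20, 19, 18, 19, 20, 31, 24, 27, 29] [.sub [19, 18, 19, 30, 31, 24, 31, 30, 25, 29, 29] [.out 2538]]],
  .sub [3, 2, 4, 1, 3, 1, 3, 2, 4, 1, 3, 4] [.sub [25, 18, 19, 18, 31, 27, 20, 20, 20, 30, 25, 29, 29] [.out 917]],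
  .sub [1, 2, 4, 1, 3, 1, 3, 2, 4, 1, 3, 4] [.sub [18, 18, 30, 19, 18, 24, 30, 31, 24, 27, 29] [.out 655]],
  .sub [4, 3, 2, 1, 3, 1, 3, 2, 4, 1, 3, 4] [.out 3010],
  .sub [2, 3, 2, 1, 3, 1, 3, 2, 4, 1, 3, 4] [.out 2917],
  .sub [4, 1, 2, 1, 3, 1, 3, 2, 4, 1, 3, 4] [.sub [20, 29, 31, 19, 18, 31, 24, 20, 20, 29, 25, 29] [.sub [25, 18, 31, 18, 18, 20, 30, 31, 20, 29, 29] [.out 3534]]],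
  .sub [1, 4, 3, 2, 3, 1, 3, 2, 4, 1, 3, 4] [.sub [29, 31, 31, 25, 18, 25, 24, 31, 31, 27, 30, 29, 29] [.sub [18, 31, 31, 18, 18, 20, 24, 31, 25, 20, 29, 29] [.out 3077]]],
  .sub [2, 4, 3, 2, 3, 1, 3, 2, 4, 1, 3, 4] [.sub [24, 30, 18, 18, 30, 25, 20, 25] [.out 1923]],
  .sub [4, 1, 3, 2, 3, 1, 3, 2, 4, 1, 3, 4] [.sub [25, 27, 18, 18, 18, 18, 20, 25, 31, 30, 25, 29, 29] [.out 1098]],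
  .sub [3, 1, 3, 2, 3, 1, 3, 2, 4, 1, 3, 4] [.out 3443],
  .sub [2, 1, 3, 2, 3, 1, 3, 2, 4, 1, 3, 4] [.out 3970],
  .sub [3, 4, 1, 2, 3, 1, 3, 2, 4, 1, 3, 4] [.sub [31, 19, 18, 20, 18, 30, 27, 24, 29, 25, 29] [.sub [19, 27, 31, 19, 18, 31, 24, 25, 24, 20, 30, 29] [.out 2760]]],
  .sub [1, 4, 1, 2, 3, 1, 3, 2, 4, 1, 3, 4] [.out 3762],
  .sub [4, 3, 1, 2, 3, 1, 3, 2, 4, 1, 3, 4] [.sub [20, 24, 19, 29, 18, 30, 31, 20, 30, 20, 25, 29] [.sub [30, 18, 19, 24, 19, 30, 31, 30, 31, 29, 25, 29, 29] [.out 2657]]],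
  .sub [1, 3, 1, 2, 3, 1, 3, 2, 4, 1, 3, 4] [.out 3456],
  .sub [2, 3, 1, 2, 3, 1, 3, 2, 4, 1, 3, 4] [.out 3679],
  .sub [4, 1, 4, 3, 2, 1, 3, 2, 4, 1, 3, 4] [.sub [29, 19, 31, 24, 18, 29, 31, 20, 20, 24, 30, 27, 29, 29] [.out 1463]],
  .sub [2, 1, 4, 3, 2, 1, 3, 2, 4, 1, 3, 4] [.out 3623],
  .sub [3, 2, 4, 3, 2, 1, 3, 2, 4, 1, 3, 4] [.sub [20, 24, 18, 18, 25, 27, 20, 31, 30, 25] [.out 2802]],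
  .sub [1, 2, 4, 3, 2, 1, 3, 2, 4, 1, 3, 4] [.sub [24, 31, 19, 30, 19, 18, 20, 29, 31, 30, 25, 29, 29] [.out 2582]],
  .sub [3, 4, 1, 3, 2, 1, 3, 2, 4, 1, 3, 4] [.sub [27, 30, 18, 20, 19, 18, 31, 27, 24, 20, 25, 29, 29] [.sub [24, 31, 18, 20, 18, 30, 31, 20, 25, 20, 30, 25, 29, 29] [.out 2711]]],
  .sub [1, 4, 1, 3, 2, 1, 3, 2, 4, 1, 3, 4] [.out 3209],
  .sub [1, 4, 3, 1, 2, 1, 3, 2, 4, 1, 3, 4] [.out 3564],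
  .sub [2, 4, 3, 1, 2, 1, 3, 2, 4, 1, 3, 4] [.sub [29, 18, 25, 18, 18, 20, 27, 30, 20, 27, 29] [.out 3141]],
  .sub [3, 2, 3, 1, 2, 1, 3, 2, 4, 1, 3, 4] [.out 3975],
  .sub [1, 2, 3, 1, 2, 1, 3, 2, 4, 1, 3, 4] [.out 3459],
  .sub [3, 2, 4, 3, 1, 2, 3, 2, 4, 1, 3, 4] [.out 3957],
  .sub [1, 2, 4, 3, 1, 2, 3, 2, 4, 1, 3, 4] [.out 3881],
  .sub [3, 4, 1, 3, 1, 2, 3, 2, 4, 1, 3, 4] [.sub [25, 27, 18, 18, 18, 18, 20, 25, 31, 30, 25, 29, 29] [.out 3732]],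
  .sub [2, 4, 1, 3, 1, 2, 3, 2, 4, 1, 3, 4] [.sub [] [.sub [18, 31, 24, 20, 19, 31, 29, 20, 20, 20, 27, 29, 29] [.out 897]]],
  .sub [1, 2, 1, 3, 1, 2, 3, 2, 4, 1, 3, 4] [.sub [18, 30, 25, 18, 18, 30, 24, 20, 20, 29] [.sub [31, 20, 30, 18, 19, 29, 24, 27, 31, 20, 30, 25] [.out 98]]],
  .sub [4, 3, 2, 3, 1, 2, 3, 2, 4, 1, 3, 4] [.sub [31, 29, 19, 18, 31, 25, 24, 31, 27, 29, 29] [.out 1940]],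
  .sub [1, 3, 2, 3, 1, 2, 3, 2, 4, 1, 3, 4] [.out 3935],
  .sub [4, 1, 2, 3, 1, 2, 3, 2, 4, 1, 3, 4] [.sub [30, 18, 31, 19, 24, 30, 20, 30, 20, 27, 29, 29] [.out 884]],
  .sub [4, 3, 2, 1, 4, 3, 1, 2, 4, 1, 3, 4] [.sub [30, 27, 18, 25, 18, 18, 25, 24, 27, 31, 27, 30] [.out 3766]],
  .sub [1, 3, 2, 1, 4, 3, 1, 2, 4, 1, 3, 4] [.out 1941],
  .sub [2, 3, 2, 1, 4, 3, 1, 2, 4, 1, 3, 4] [.out 3737],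
  .sub [3, 1, 2, 1, 4, 3, 1, 2, 4, 1, 3, 4] [.out 3831]]

/-- Branches. -/
def kidsYPart18 : List Branch := [
  .sub [1, 4, 3, 2, 4, 3, 1, 2, 4, 1, 3, 4] [.out 3686],
  .sub [2, 4, 3, 2, 4, 3, 1, 2, 4, 1, 3, 4] [.out 3363],
  .sub [4, 1, 3, 2, 4, 3, 1, 2, 4, 1, 3, 4] [.sub [30, 20, 25, 19, 18, 24, 30, 20, 27, 30, 29] [.sub [19, 30, 19, 20, 18, 29, 20, 31, 27, 30] [.out 2685]]],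
  .sub [2, 1, 3, 2, 4, 3, 1, 2, 4, 1, 3, 4] [.sub [27, 24, 18, 19, 18, 24, 29, 24, 30, 27] [.out 682]],
  .sub [1, 2, 3, 2, 4, 3, 1, 2, 4, 1, 3, 4] [.sub [27, 18, 19, 19, 18, 24, 25, 20, 30, 29] [.sub [19, 24, 18, 18, 31, 24, 27, 25, 20, 29, 29] [.out 3762]]],
  .sub [3, 4, 1, 2, 4, 3, 1, 2, 4, 1, 3, 4] [.sub [27, 24, 18, 19, 18, 24, 29, 24, 30, 27] [.sub [20, 27, 18, 19, 18, 20, 24, 31, 24, 30, 25, 29] [.out 1387]]],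
  .sub [1, 4, 1, 2, 4, 3, 1, 2, 4, 1, 3, 4] [.sub [29, 19, 18, 19, 19, 31, 20, 27, 24, 30, 25, 29, 29] [.out 1018]],
  .sub [4, 3, 1, 2, 4, 3, 1, 2, 4, 1, 3, 4] [.out 3243],
  .sub [2, 3, 1, 2, 4, 3, 1, 2, 4, 1, 3, 4] [.out 3542],
  .sub [2, 1, 3, 4, 1, 3, 1, 2, 4, 1, 3, 4] [.out 1935],
  .sub [2, 3, 1, 4, 1, 3, 1, 2, 4, 1, 3, 4] [.sub [29, 18, 29, 18, 31, 20, 20, 31, 30, 27, 29, 29] [.out 468]],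
  .sub [3, 2, 1, 4, 1, 3, 1, 2, 4, 1, 3, 4] [.out 3007],
  .sub [1, 2, 1, 4, 1, 3, 1, 2, 4, 1, 3, 4] [.out 2426],
  .sub [4, 3, 2, 4, 1, 3, 1, 2, 4, 1, 3, 4] [.out 3763],
  .sub [1, 3, 2, 4, 1, 3, 1, 2, 4, 1, 3, 4] [.out 2487],
  .sub [4, 1, 2, 4, 1, 3, 1, 2, 4, 1, 3, 4] [.sub [25, 19, 29, 18, 19, 18, 20, 29, 31, 30] [.out 3491]],
  .sub [3, 1, 2, 4, 1, 3, 1, 2, 4, 1, 3, 4] [.sub [31, 18, 18, 27, 18, 18, 30, 25, 24, 31, 29, 25, 29] [.out 1768]],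
  .sub [1, 4, 3, 2, 1, 3, 1, 2, 4, 1, 3, 4] [.out 2470],
  .sub [2, 4, 3, 2, 1, 3, 1, 2, 4, 1, 3, 4] [.sub [29, 19, 18, 19, 19, 31, 20, 27, 24, 30, 25, 29, 29] [.out 1677]],
  .sub [4, 1, 3, 2, 1, 3, 1, 2, 4, 1, 3, 4] [.sub [20, 20, 24, 18, 18, 31, 24, 31, 31, 20, 27, 30, 29] [.sub [20, 19, 25, 18, 27, 27, 30, 20, 24, 25, 29] [.out 2689]]],
  .sub [3, 1, 3, 2, 1, 3, 1, 2, 4, 1, 3, 4] [.out 3725],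
  .sub [2, 1, 3, 2, 1, 3, 1, 2, 4, 1, 3, 4] [.out 990],
  .sub [1, 2, 3, 2, 1, 3, 1, 2, 4, 1, 3, 4] [.sub [31, 24, 18, 29, 31, 30, 20, 30, 25] [.sub [24, 19, 18, 20, 18, 31, 25, 31, 20, 27, 30, 29, 29] [.out 2531]]],
  .sub [3, 4, 1, 2, 1, 3, 1, 2, 4, 1, 3, 4] [.sub [27, 31, 18, 27, 31, 20, 27] [.out 2818]],
  .sub [1, 4, 1, 2, 1, 3, 1, 2, 4, 1, 3, 4] [.out 2719],
  .sub [4, 3, 1, 2, 1, 3, 1, 2, 4, 1, 3, 4] [.out 2840],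
  .sub [1, 3, 1, 2, 1, 3, 1, 2, 4, 1, 3, 4] [.sub [30, 25, 20, 18, 31, 29, 31, 20, 20, 27, 29, 29] [.out 4049]],
  .sub [2, 3, 1, 2, 1, 3, 1, 2, 4, 1, 3, 4] [.sub [19, 19, 18, 20, 18, 18, 27, 31, 31, 25, 29, 29] [.out 1426]],
  .sub [3, 4, 1, 3, 2, 3, 1, 2, 4, 1, 3, 4] [.out 944],
  .sub [1, 4, 1, 3, 2, 3, 1, 2, 4, 1, 3, 4] [.sub [31, 24, 19, 25, 18, 30, 24, 30, 25] [.sub [27, 24, 25, 18, 29, 25, 20, 24, 30] [.out 2183]]],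
  .sub [2, 4, 1, 3, 2, 3, 1, 2, 4, 1, 3, 4] [.sub [19, 18, 31, 18, 18, 27, 24, 31, 20, 20, 30, 27, 29, 29] [.out 3212]],
  .sub [3, 2, 1, 3, 2, 3, 1, 2, 4, 1, 3, 4] [.sub [27, 27, 18, 29, 18, 30, 24, 25, 20, 30, 27, 29] [.sub [19, 18, 20, 19, 18, 24, 24, 27, 25, 20, 30, 29] [.out 625]]],
  .sub [1, 3, 4, 1, 2, 3, 1, 2, 4, 1, 3, 4] [.sub [19, 24, 18, 24, 20, 30, 31, 20, 27, 29, 29] [.out 2877]],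
  .sub [3, 1, 4, 1, 2, 3, 1, 2, 4, 1, 3, 4] [.sub [18, 18, 29, 20, 18, 20, 31, 30, 20, 30, 25] [.out 3458]],
  .sub [2, 1, 4, 1, 2, 3, 1, 2, 4, 1, 3, 4] [.sub [18, 27, 31, 27, 19, 24, 20, 20, 30, 27, 29, 29] [.out 3908]],
  .sub [4, 3, 2, 4, 1, 4, 3, 2, 3, 1, 3, 4] [.sub [20, 18, 27, 18, 31, 31, 24, 20, 27, 30, 29, 29] [.out 3923]],
  .sub [2, 3, 2, 4, 1, 4, 3, 2, 3, 1, 3, 4] [.sub [19, 20, 24, 19, 18, 31, 24, 25, 24, 20, 30, 25, 29] [.sub [18, 31, 31, 18, 18, 20, 25, 20, 20, 29, 25, 29] [.out 2299]]],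
  .sub [1, 4, 3, 2, 1, 4, 3, 2, 3, 1, 3, 4] [.out 3892],
  .sub [2, 4, 3, 2, 1, 4, 3, 2, 3, 1, 3, 4] [.sub [31, 19, 31, 18, 31, 30, 25, 20, 30, 27, 29, 29] [.out 972]],
  .sub [4, 1, 3, 2, 1, 4, 3, 2, 3, 1, 3, 4] [.sub [20, 24, 19, 18, 24, 24, 31, 31, 29, 25, 29] [.out 3002]],
  .sub [3, 1, 3, 2, 1, 4, 3, 2, 3, 1, 3, 4] [.out 985],
  .sub [2, 1, 3, 2, 1, 4, 3, 2, 3, 1, 3, 4] [.sub [29, 20, 19, 27, 19, 20, 30, 24, 31, 27] [.out 1889]],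
  .sub [3, 4, 1, 3, 2, 4, 3, 2, 3, 1, 3, 4] [.sub [25, 18, 20, 24, 18, 24, 30, 24, 20, 29, 25] [.out 3625]],
  .sub [1, 4, 1, 3, 2, 4, 3, 2, 3, 1, 3, 4] [.sub [20, 20, 24, 18, 18, 24, 31, 29, 24, 30, 27, 29, 29] [.out 4044]],
  .sub [2, 4, 1, 3, 2, 4, 3, 2, 3, 1, 3, 4] [.out 3422],
  .sub [4, 3, 1, 3, 2, 4, 3, 2, 3, 1, 3, 4] [.sub [19, 27, 31, 18, 18, 31, 20, 24, 20, 30] [.sub [20, 25, 18, 29, 25, 20, 31, 20, 29, 25, 29, 29] [.out 2398]]],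
  .sub [2, 3, 1, 3, 2, 4, 3, 2, 3, 1, 3, 4] [.out 3282],
  .sub [3, 2, 1, 3, 2, 4, 3, 2, 3, 1, 3, 4] [.out 2101],
  .sub [1, 2, 1, 3, 2, 4, 3, 2, 3, 1, 3, 4] [.sub [24, 18, 20, 19, 18, 20, 31, 30, 24, 27, 30] [.out 430]],
  .sub [3, 1, 2, 3, 2, 4, 3, 2, 3, 1, 3, 4] [.sub [31, 27, 19, 31, 18, 24, 20, 30, 25, 20, 27, 29] [.sub [30, 20, 27, 18, 18, 31, 20, 25, 20, 29, 25, 29, 29] [.out 1290]]],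
  .sub [3, 2, 4, 3, 4, 1, 3, 2, 3, 1, 3, 4] [.sub [30, 24, 31, 19, 20, 31, 24, 27, 29] [.out 2040]],
  .sub [1, 2, 4, 3, 4, 1, 3, 2, 3, 1, 3, 4] [.sub [19, 29, 20, 18, 18, 30, 24, 25, 20, 25] [.out 1088]],
  .sub [4, 3, 2, 3, 4, 1, 3, 2, 3, 1, 3, 4] [.sub [20, 19, 18, 18, 27, 27, 31, 30, 20, 29, 25] [.out 106]],
  .sub [1, 3, 2, 3, 4, 1, 3, 2, 3, 1, 3, 4] [.out 2965],
  .sub [2, 3, 2, 3, 4, 1, 3, 2, 3, 1, 3, 4] [.sub [20, 18, 24, 29, 24, 20, 30, 29] [.sub [31, 29, 31, 19, 18, 30, 24, 27, 24, 27, 30, 29] [.out 1078]]],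
  .sub [4, 1, 2, 3, 4, 1, 3, 2, 3, 1, 3, 4] [.sub [25, 19, 18, 18, 18, 31, 31, 27, 20, 20, 30, 27] [.sub [18, 19, 24, 18, 18, 30, 29, 31, 31, 29] [.bad [20, 18, 20, 19, 18, 27, 24, 29, 20, 20, 29, 25] 1]]],
  .sub [3, 1, 2, 3, 4, 1, 3, 2, 3, 1, 3, 4] [.out 2069],
  .sub [3, 1, 2, 1, 4, 1, 3, 2, 3, 1, 3, 4] [.out 3340],
  .sub [1, 4, 3, 2, 4, 1, 3, 2, 3, 1, 3, 4] [.out 3674],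
  .sub [2, 4, 3, 2, 4, 1, 3, 2, 3, 1, 3, 4] [.out 1383],
  .sub [3, 1, 3, 2, 4, 1, 3, 2, 3, 1, 3, 4] [.out 3829],
  .sub [2, 1, 3, 2, 4, 1, 3, 2, 3, 1, 3, 4] [.sub [29, 18, 24, 18, 18, 20, 31, 29, 31, 24, 29, 25] [.out 3862]],
  .sub [4, 3, 1, 2, 4, 1, 3, 2, 3, 1, 3, 4] [.sub [27, 18, 27, 27, 18, 27, 20, 20, 31, 30, 25, 29] [.out 177]],
  .sub [1, 3, 1, 2, 4, 1, 3, 2, 3, 1, 3, 4] [.out 4055]]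

/-- Branches. -/
def kidsYPart19 : List Branch := [
  .sub [4, 3, 2, 4, 3, 1, 3, 2, 3, 1, 3, 4] [.out 3042],
  .sub [1, 3, 2, 4, 3, 1, 3, 2, 3, 1, 3, 4] [.out 3828],
  .sub [2, 3, 2, 4, 3, 1, 3, 2, 3, 1, 3, 4] [.out 3962],
  .sub [4, 1, 2, 4, 3, 1, 3, 2, 3, 1, 3, 4] [.sub [31, 31, 20, 18, 18, 27, 30, 20, 20, 27, 30] [.sub [20, 29, 19, 18, 18, 24, 25, 24, 20, 20, 30, 25, 29] [.out 3199]]],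
  .sub [3, 1, 2, 4, 3, 1, 3, 2, 3, 1, 3, 4] [.sub [24, 29, 25, 18, 18, 20, 24, 29] [.sub [25, 18, 31, 24, 19, 27, 24, 30, 27, 29] [.out 1271]]],
  .sub [3, 2, 4, 1, 3, 1, 3, 2, 3, 1, 3, 4] [.sub [18, 19, 18, 20, 18, 18, 20, 24, 25, 24, 30, 27, 29, 29] [.sub [18, 31, 31, 18, 18, 30, 25, 20, 31, 27, 30, 29, 29] [.out 7]]],
  .sub [3, 1, 2, 1, 3, 1, 3, 2, 3, 1, 3, 4] [.out 2702],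
  .sub [1, 4, 3, 2, 3, 1, 3, 2, 3, 1, 3, 4] [.sub [30, 18, 25, 18, 20, 24, 27, 24, 20, 30, 27, 29] [.out 1915]],
  .sub [2, 4, 3, 2, 3, 1, 3, 2, 3, 1, 3, 4] [.out 1954],
  .sub [3, 1, 3, 2, 3, 1, 3, 2, 3, 1, 3, 4] [.sub [18, 30, 18, 18, 18, 31, 24, 31, 25, 29] [.out 1622]],
  .sub [1, 2, 3, 2, 3, 1, 3, 2, 3, 1, 3, 4] [.out 3241],
  .sub [4, 1, 4, 3, 2, 1, 3, 2, 3, 1, 3, 4] [.out 1818],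
  .sub [3, 1, 4, 3, 2, 1, 3, 2, 3, 1, 3, 4] [.out 3432],
  .sub [2, 1, 4, 3, 2, 1, 3, 2, 3, 1, 3, 4] [.sub [29, 25, 18, 18, 18, 31, 29, 24, 25, 20, 30, 27] [.sub [18, 24, 31, 18, 19, 18, 27, 31, 29, 24, 27, 30, 29] [.out 979]]],
  .sub [3, 2, 4, 3, 2, 1, 3, 2, 3, 1, 3, 4] [.out 1055],
  .sub [1, 2, 4, 3, 2, 1, 3, 2, 3, 1, 3, 4] [.out 2943],
  .sub [1, 4, 3, 1, 2, 1, 3, 2, 3, 1, 3, 4] [.out 3067],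
  .sub [3, 4, 1, 3, 1, 2, 3, 2, 3, 1, 3, 4] [.sub [24, 24, 18, 29, 18, 29, 31, 20, 24, 30, 29, 29] [.out 3047]],
  .sub [2, 3, 2, 1, 4, 3, 1, 2, 3, 1, 3, 4] [.sub [25, 20, 19, 24, 19, 20, 25, 24, 20, 30, 25, 29] [.out 3143]],
  .sub [4, 1, 2, 1, 4, 3, 1, 2, 3, 1, 3, 4] [.out 2398],
  .sub [1, 4, 3, 2, 4, 3, 1, 2, 3, 1, 3, 4] [.sub [18, 18, 30, 19, 18, 20, 27, 30, 31, 30, 25, 29, 29] [.sub [27, 18, 19, 25, 18, 31, 31, 20, 24, 25] [.out 3276]]],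
  .sub [2, 4, 3, 2, 4, 3, 1, 2, 3, 1, 3, 4] [.sub [31, 19, 31, 18, 18, 20, 20, 29, 24, 30, 25] [.out 3654]],
  .sub [4, 1, 3, 2, 4, 3, 1, 2, 3, 1, 3, 4] [.sub [19, 30, 18, 18, 31, 27, 27, 31, 30] [.out 1460]],
  .sub [3, 1, 3, 2, 4, 3, 1, 2, 3, 1, 3, 4] [.sub [29, 20, 18, 19, 31, 25, 31, 20, 27, 29] [.sub [30, 27, 19, 20, 18, 24, 30, 31, 29, 25, 29] [.out 1078]]],
  .sub [2, 1, 3, 2, 4, 3, 1, 2, 3, 1, 3, 4] [.sub [31, 18, 19, 24, 25, 31, 20, 20, 29, 25] [.out 3287]],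
  .sub [1, 2, 3, 2, 4, 3, 1, 2, 3, 1, 3, 4] [.sub [25, 31, 29, 24, 18, 25, 27, 20, 20, 30, 27] [.out 1480]],
  .sub [3, 4, 1, 2, 4, 3, 1, 2, 3, 1, 3, 4] [.out 1605],
  .sub [1, 4, 1, 2, 4, 3, 1, 2, 3, 1, 3, 4] [.sub [19, 29, 25, 20, 18, 24, 31, 25, 24, 30, 29, 29] [.out 3589]],
  .sub [4, 3, 1, 2, 4, 3, 1, 2, 3, 1, 3, 4] [.sub [18, 27, 25, 18, 31, 20, 24] [.sub [24, 20, 18, 27, 19, 18, 24, 29, 25, 31, 25, 29] [.out 2732]]],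
  .sub [1, 3, 1, 2, 4, 3, 1, 2, 3, 1, 3, 4] [.out 2079],
  .sub [2, 3, 1, 2, 4, 3, 1, 2, 3, 1, 3, 4] [.sub [20, 18, 18, 29, 18, 20, 24, 27, 24, 27, 30, 29, 29] [.out 2826]],
  .sub [1, 4, 1, 2, 1, 3, 1, 2, 3, 1, 3, 4] [.out 2458],
  .sub [3, 4, 1, 3, 2, 3, 1, 2, 3, 1, 3, 4] [.out 3102],
  .sub [1, 4, 1, 3, 2, 3, 1, 2, 3, 1, 3, 4] [.sub [30, 20, 18, 18, 24, 30, 31, 24, 20, 30, 27, 29] [.out 2248]],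
  .sub [2, 4, 1, 3, 2, 3, 1, 2, 3, 1, 3, 4] [.out 3877],
  .sub [1, 3, 1, 3, 2, 3, 1, 2, 3, 1, 3, 4] [.out 1925],
  .sub [3, 2, 1, 3, 2, 3, 1, 2, 3, 1, 3, 4] [.sub [24, 25, 18, 19, 20, 25, 31, 27, 30, 29] [.out 2637]],
  .sub [4, 3, 4, 1, 2, 3, 1, 2, 3, 1, 3, 4] [.sub [18, 20, 20, 18, 24, 30, 25, 31, 25] [.out 2232]],
  .sub [1, 3, 4, 1, 2, 3, 1, 2, 3, 1, 3, 4] [.sub [25, 20, 19, 18, 20, 24, 30, 20, 30, 27, 29, 29] [.out 2846]],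
  .sub [2, 3, 4, 1, 2, 3, 1, 2, 3, 1, 3, 4] [.out 3153],
  .sub [3, 1, 4, 1, 2, 3, 1, 2, 3, 1, 3, 4] [.sub [20, 20, 20, 18, 19, 20, 20, 25, 31, 27, 30, 29] [.out 2222]],
  .sub [2, 1, 4, 1, 2, 3, 1, 2, 3, 1, 3, 4] [.sub [31, 31, 31, 19, 18, 24, 27, 31, 20, 29, 25, 29, 29] [.sub [19, 19, 31, 19, 18, 31, 24, 20, 31, 30, 29] [.bad [18, 24, 25, 18, 20, 24, 27, 24, 27, 30, 29, 29] 1]]],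
  .sub [1, 4, 3, 1, 2, 3, 1, 2, 3, 1, 3, 4] [.sub [24, 31, 29, 20, 18, 31, 27, 25, 31, 25, 29, 29] [.out 1219]],
  .sub [4, 1, 3, 1, 2, 3, 1, 2, 3, 1, 3, 4] [.out 3309],
  .sub [2, 1, 3, 1, 2, 3, 1, 2, 3, 1, 3, 4] [.sub [30, 18, 19, 20, 18, 31, 25, 20, 31, 30, 27, 29, 29] [.out 1460]],
  .sub [1, 2, 3, 1, 2, 3, 1, 2, 3, 1, 3, 4] [.out 3017],
  .sub [3, 2, 1, 3, 4, 1, 4, 3, 2, 1, 3, 4] [.sub [24, 18, 20, 19, 18, 30, 25, 24, 27, 30, 29] [.out 1568]],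
  .sub [1, 2, 1, 3, 4, 1, 4, 3, 2, 1, 3, 4] [.out 3347],
  .sub [4, 3, 2, 3, 4, 1, 4, 3, 2, 1, 3, 4] [.sub [27, 18, 30, 20, 18, 27, 31, 30, 31, 30, 25] [.sub [29, 18, 31, 19, 18, 27, 29, 31, 30, 27, 29] [.out 1378]]],
  .sub [1, 3, 2, 3, 4, 1, 4, 3, 2, 1, 3, 4] [.sub [19, 31, 19, 20, 18, 31, 25, 31, 20, 27, 29] [.out 1778]],
  .sub [2, 3, 2, 3, 4, 1, 4, 3, 2, 1, 3, 4] [.sub [18, 25, 31, 24, 18, 30, 24, 31, 24, 29] [.sub [24, 19, 24, 20, 18, 29, 25, 20, 20] [.out 4031]]],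
  .sub [3, 1, 2, 3, 4, 1, 4, 3, 2, 1, 3, 4] [.out 2401],
  .sub [3, 1, 2, 1, 4, 1, 4, 3, 2, 1, 3, 4] [.sub [24, 24, 19, 31, 19, 25, 20, 30, 27] [.sub [27, 19, 20, 29, 18, 20, 27, 20, 20, 30, 27] [.out 3389]]],
  .sub [1, 4, 3, 2, 4, 1, 4, 3, 2, 1, 3, 4] [.out 920],
  .sub [2, 4, 3, 2, 4, 1, 4, 3, 2, 1, 3, 4] [.sub [30, 18, 29, 19, 20, 18, 31, 27, 24, 29] [.out 2954]],
  .sub [4, 1, 3, 2, 4, 1, 4, 3, 2, 1, 3, 4] [.out 2757],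
  .sub [2, 4, 1, 4, 3, 1, 4, 3, 2, 1, 3, 4] [.out 3411],
  .sub [3, 2, 1, 4, 3, 1, 4, 3, 2, 1, 3, 4] [.sub [25, 19, 19, 27, 18, 24, 29, 31, 31, 30, 27, 29, 29] [.out 1724]],
  .sub [1, 2, 1, 4, 3, 1, 4, 3, 2, 1, 3, 4] [.sub [20, 18, 27, 18, 30, 29, 24, 31, 30, 27, 29, 29] [.out 2371]],
  .sub [4, 3, 2, 4, 3, 1, 4, 3, 2, 1, 3, 4] [.sub [24, 24, 18, 19, 31, 25, 24, 31, 27, 30, 29, 29] [.out 2207]],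
  .sub [2, 3, 2, 4, 3, 1, 4, 3, 2, 1, 3, 4] [.out 2877],
  .sub [4, 1, 2, 4, 3, 1, 4, 3, 2, 1, 3, 4] [.out 3985],
  .sub [3, 1, 2, 4, 3, 1, 4, 3, 2, 1, 3, 4] [.out 2814],
  .sub [2, 1, 4, 1, 3, 1, 4, 3, 2, 1, 3, 4] [.sub [20, 20, 20, 19, 18, 29, 30, 31, 20, 30, 25, 29] [.out 3124]]]

/-- Branches. -/
def kidsYPart20 : List Branch := [
  .sub [3, 2, 4, 1, 3, 1, 4, 3, 2, 1, 3, 4] [.sub [18, 20, 18, 18, 20, 30, 24, 25, 20, 25, 29, 29] [.out 2484]],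
  .sub [1, 2, 4, 1, 3, 1, 4, 3, 2, 1, 3, 4] [.sub [30, 20, 19, 31, 18, 18, 29, 24, 27, 24, 30, 27, 29, 29] [.out 1871]],
  .sub [4, 3, 2, 1, 3, 1, 4, 3, 2, 1, 3, 4] [.sub [30, 24, 24, 19, 18, 25, 27, 24, 31, 27] [.out 1492]],
  .sub [2, 3, 2, 1, 3, 1, 4, 3, 2, 1, 3, 4] [.sub [31, 19, 30, 19, 18, 27, 29, 31, 20, 30, 29, 29] [.out 3789]],
  .sub [1, 4, 3, 2, 3, 1, 4, 3, 2, 1, 3, 4] [.out 2723],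
  .sub [2, 4, 3, 2, 3, 1, 4, 3, 2, 1, 3, 4] [.out 3703],
  .sub [4, 1, 3, 2, 3, 1, 4, 3, 2, 1, 3, 4] [.out 1937],
  .sub [3, 1, 3, 2, 3, 1, 4, 3, 2, 1, 3, 4] [.sub [31, 19, 29, 20, 18, 27, 29, 31, 31, 27] [.out 3455]],
  .sub [2, 1, 3, 2, 3, 1, 4, 3, 2, 1, 3, 4] [.sub [20, 20, 20, 18, 24, 27, 25, 31, 27, 30, 29, 29] [.out 3238]],
  .sub [1, 2, 3, 2, 3, 1, 4, 3, 2, 1, 3, 4] [.out 995],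
  .sub [3, 4, 1, 2, 3, 1, 4, 3, 2, 1, 3, 4] [.out 958],
  .sub [1, 4, 1, 2, 3, 1, 4, 3, 2, 1, 3, 4] [.sub [30, 18, 18, 24, 18, 27, 30, 20, 20, 30, 27, 29, 29] [.out 2620]],
  .sub [4, 3, 1, 2, 3, 1, 4, 3, 2, 1, 3, 4] [.out 2398],
  .sub [1, 3, 1, 2, 3, 1, 4, 3, 2, 1, 3, 4] [.out 2068],
  .sub [4, 1, 4, 3, 2, 1, 4, 3, 2, 1, 3, 4] [.sub [27, 31, 18, 29, 18, 31, 20, 24, 20, 29, 25, 29, 29] [.out 3910]],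
  .sub [3, 1, 4, 3, 2, 1, 4, 3, 2, 1, 3, 4] [.sub [25, 19, 19, 20, 19, 31, 20, 20, 31, 30, 25, 29, 29] [.out 3076]],
  .sub [2, 1, 4, 3, 2, 1, 4, 3, 2, 1, 3, 4] [.sub [18, 20, 20, 18, 24, 30, 25, 31, 25] [.sub [25, 20, 25, 19, 18, 27, 30, 31, 20, 27, 30, 29, 29] [.out 1878]]],
  .sub [3, 2, 4, 3, 2, 1, 4, 3, 2, 1, 3, 4] [.sub [29, 20, 18, 27, 19, 30, 20, 30, 20, 27] [.sub [24, 29, 31, 18, 31, 27, 20, 20, 20, 30, 29] [.out 685]]],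
  .sub [1, 2, 4, 3, 2, 1, 4, 3, 2, 1, 3, 4] [.out 2610],
  .sub [3, 4, 1, 3, 2, 1, 4, 3, 2, 1, 3, 4] [.sub [20, 19, 27, 19, 18, 20, 31, 30, 24, 29, 29] [.out 3656]],
  .sub [2, 4, 1, 3, 2, 1, 4, 3, 2, 1, 3, 4] [.out 2421],
  .sub [4, 3, 1, 3, 2, 1, 4, 3, 2, 1, 3, 4] [.out 3753],
  .sub [1, 3, 1, 3, 2, 1, 4, 3, 2, 1, 3, 4] [.sub [29, 19, 29, 18, 20, 30, 20, 24, 27, 30] [.out 468]],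
  .sub [2, 3, 1, 3, 2, 1, 4, 3, 2, 1, 3, 4] [.out 328],
  .sub [1, 2, 1, 3, 2, 1, 4, 3, 2, 1, 3, 4] [.out 1460],
  .sub [4, 1, 2, 3, 2, 1, 4, 3, 2, 1, 3, 4] [.sub [19, 18, 18, 19, 27, 24, 27, 24, 29, 25, 29] [.sub [20, 27, 18, 18, 19, 27, 24, 25] [.out 3022]]],
  .sub [3, 1, 2, 3, 2, 1, 4, 3, 2, 1, 3, 4] [.sub [31, 20, 20, 19, 18, 27, 24, 27, 24, 27, 29] [.out 80]],
  .sub [1, 4, 3, 1, 2, 1, 4, 3, 2, 1, 3, 4] [.out 1886],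
  .sub [4, 1, 3, 1, 2, 1, 4, 3, 2, 1, 3, 4] [.out 3455],
  .sub [1, 3, 4, 1, 3, 2, 4, 3, 2, 1, 3, 4] [.out 3687],
  .sub [2, 3, 4, 1, 3, 2, 4, 3, 2, 1, 3, 4] [.sub [24, 24, 24, 18, 31, 25, 24, 31, 30, 27] [.out 1803]],
  .sub [3, 2, 4, 1, 3, 2, 4, 3, 2, 1, 3, 4] [.out 3158],
  .sub [2, 4, 3, 1, 3, 2, 4, 3, 2, 1, 3, 4] [.sub [20, 31, 20, 18, 19, 20, 30, 24, 30, 27, 29] [.out 1186]],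
  .sub [3, 2, 3, 1, 3, 2, 4, 3, 2, 1, 3, 4] [.out 407],
  .sub [4, 3, 2, 1, 3, 2, 4, 3, 2, 1, 3, 4] [.sub [27, 19, 24, 25, 18, 31, 29, 20, 24, 20, 27, 30, 29, 29] [.out 882]],
  .sub [1, 3, 2, 1, 3, 2, 4, 3, 2, 1, 3, 4] [.sub [31, 18, 18, 19, 19, 25, 24, 30, 31, 30, 27] [.out 2254]],
  .sub [2, 3, 2, 1, 3, 2, 4, 3, 2, 1, 3, 4] [.sub [25, 27, 31, 18, 27, 25, 20, 31, 30, 29] [.out 1218]],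
  .sub [4, 1, 2, 1, 3, 2, 4, 3, 2, 1, 3, 4] [.sub [19, 19, 30, 18, 18, 29, 25, 24, 29, 25, 29] [.out 689]],
  .sub [3, 1, 2, 1, 3, 2, 4, 3, 2, 1, 3, 4] [.sub [20, 18, 27, 19, 18, 30, 20, 24, 20, 27, 29] [.sub [24, 18, 24, 25, 18, 20, 20, 31, 24, 27, 30] [.out 3517]]],
  .sub [3, 4, 1, 2, 3, 2, 4, 3, 2, 1, 3, 4] [.sub [30, 31, 27, 18, 20, 31, 31, 25, 20, 27] [.out 3858]],
  .sub [4, 3, 1, 2, 3, 2, 4, 3, 2, 1, 3, 4] [.out 2787],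
  .sub [1, 3, 1, 2, 3, 2, 4, 3, 2, 1, 3, 4] [.sub [30, 18, 31, 18, 19, 29, 25, 24, 30, 27] [.out 2967]],
  .sub [2, 3, 2, 4, 3, 4, 1, 3, 2, 1, 3, 4] [.out 2736],
  .sub [4, 1, 2, 4, 3, 4, 1, 3, 2, 1, 3, 4] [.sub [18, 31, 19, 19, 18, 24, 31, 31, 20, 27, 30, 29, 29] [.out 560]],
  .sub [3, 1, 2, 4, 3, 4, 1, 3, 2, 1, 3, 4] [.sub [27, 19, 24, 19, 20, 24, 30, 25, 20, 29, 25, 29, 29] [.sub [24, 31, 19, 31, 20, 29, 24, 25] [.out 1280]]],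
  .sub [3, 2, 4, 1, 3, 4, 1, 3, 2, 1, 3, 4] [.sub [27, 30, 19, 25, 18, 18, 30, 24, 29, 20, 20, 30, 27, 29] [.out 4040]],
  .sub [1, 2, 4, 1, 3, 4, 1, 3, 2, 1, 3, 4] [.out 2994],
  .sub [2, 1, 3, 1, 3, 4, 1, 3, 2, 1, 3, 4] [.sub [19, 31, 19, 25, 18, 24, 24, 31, 31, 30, 27, 29, 29] [.sub [29, 18, 25, 18, 29, 24, 30, 25, 20, 30, 25, 29] [.out 1517]]],
  .sub [3, 2, 3, 1, 3, 4, 1, 3, 2, 1, 3, 4] [.sub [24, 24, 18, 24, 29, 30, 31, 25, 29] [.out 2422]],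
  .sub [1, 2, 3, 1, 3, 4, 1, 3, 2, 1, 3, 4] [.out 3247],
  .sub [4, 3, 2, 1, 3, 4, 1, 3, 2, 1, 3, 4] [.sub [30, 20, 25, 18, 29, 24, 27, 31, 20, 30, 27, 29] [.out 3630]],
  .sub [2, 3, 2, 1, 3, 4, 1, 3, 2, 1, 3, 4] [.sub [24, 24, 18, 19, 31, 25, 24, 31, 27, 30, 29, 29] [.sub [18, 18, 31, 18, 27, 20, 20, 20, 30, 27, 29] [.out 3869]]],
  .sub [4, 1, 2, 1, 3, 4, 1, 3, 2, 1, 3, 4] [.sub [18, 27, 18, 18, 18, 24, 31, 30, 20, 29, 25, 29, 29] [.out 3424]],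
  .sub [3, 1, 2, 1, 3, 4, 1, 3, 2, 1, 3, 4] [.sub [18, 31, 19, 24, 20, 30, 24, 20, 27, 30, 29, 29] [.out 3726]],
  .sub [1, 4, 3, 2, 3, 4, 1, 3, 2, 1, 3, 4] [.sub [19, 29, 20, 18, 18, 30, 24, 25, 20, 25] [.sub [25, 20, 19, 24, 27, 27, 31, 30, 27, 29] [.done 3]]],
  .sub [2, 4, 3, 2, 3, 4, 1, 3, 2, 1, 3, 4] [.out 2470],
  .sub [3, 1, 3, 2, 3, 4, 1, 3, 2, 1, 3, 4] [.out 3682],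
  .sub [1, 2, 3, 2, 3, 4, 1, 3, 2, 1, 3, 4] [.sub [27, 31, 27, 27, 18, 27, 25, 31, 31, 30] [.out 1971]],
  .sub [3, 4, 1, 2, 3, 4, 1, 3, 2, 1, 3, 4] [.out 3613],
  .sub [4, 3, 1, 2, 3, 4, 1, 3, 2, 1, 3, 4] [.sub [19, 19, 19, 20, 30, 24, 30] [.out 3285]],
  .sub [1, 3, 1, 2, 3, 4, 1, 3, 2, 1, 3, 4] [.out 3024],
  .sub [2, 3, 1, 2, 3, 4, 1, 3, 2, 1, 3, 4] [.sub [20, 18, 27, 18, 19, 27, 27, 31, 31, 30, 27] [.out 286]],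
  .sub [3, 1, 3, 2, 1, 4, 1, 3, 2, 1, 3, 4] [.sub [20, 19, 19, 18, 25, 27, 20, 31, 29, 25, 29] [.out 2982]],
  .sub [2, 1, 3, 2, 1, 4, 1, 3, 2, 1, 3, 4] [.sub [24, 31, 19, 29, 18, 27, 20, 31, 20, 30, 25, 29] [.out 583]]]

/-- Branches. -/
def kidsYPart21 : List Branch := [
  .sub [3, 4, 1, 2, 1, 4, 1, 3, 2, 1, 3, 4] [.out 2373],
  .sub [4, 3, 1, 2, 1, 4, 1, 3, 2, 1, 3, 4] [.out 3964],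
  .sub [1, 3, 1, 2, 1, 4, 1, 3, 2, 1, 3, 4] [.out 3763],
  .sub [2, 3, 1, 2, 1, 4, 1, 3, 2, 1, 3, 4] [.out 3659],
  .sub [4, 1, 4, 3, 2, 4, 1, 3, 2, 1, 3, 4] [.out 940],
  .sub [3, 1, 4, 3, 2, 4, 1, 3, 2, 1, 3, 4] [.sub [20, 31, 27, 19, 24, 27, 31, 27, 30, 29] [.out 2905]],
  .sub [2, 1, 4, 3, 2, 4, 1, 3, 2, 1, 3, 4] [.sub [24, 24, 19, 24, 19, 20, 24, 27, 24, 20, 30, 25, 29] [.sub [20, 24, 18, 24, 18, 24, 29, 24, 30, 27] [.out 2710]]],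
  .sub [3, 2, 4, 3, 2, 4, 1, 3, 2, 1, 3, 4] [.sub [20, 18, 18, 18, 20, 29, 31, 30, 25, 29, 29] [.out 2434]],
  .sub [1, 2, 4, 3, 2, 4, 1, 3, 2, 1, 3, 4] [.out 3651],
  .sub [3, 4, 1, 3, 2, 4, 1, 3, 2, 1, 3, 4] [.sub [24, 25, 18, 19, 31, 27, 24, 20, 25, 29, 29] [.out 1399]],
  .sub [2, 4, 1, 3, 2, 4, 1, 3, 2, 1, 3, 4] [.sub [30, 31, 20, 25, 18, 30, 24, 24, 31, 25, 29, 29] [.sub [27, 24, 25, 18, 29, 25, 20, 24, 30] [.out 3199]]],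
  .sub [4, 3, 1, 3, 2, 4, 1, 3, 2, 1, 3, 4] [.sub [27, 18, 19, 18, 18, 18, 29, 31, 20, 24, 30, 27] [.out 1649]],
  .sub [2, 3, 1, 3, 2, 4, 1, 3, 2, 1, 3, 4] [.sub [19, 31, 31, 27, 18, 31, 31, 24, 29, 29] [.out 2468]],
  .sub [1, 2, 1, 3, 2, 4, 1, 3, 2, 1, 3, 4] [.out 4012],
  .sub [4, 1, 2, 3, 2, 4, 1, 3, 2, 1, 3, 4] [.out 3394],
  .sub [3, 1, 2, 3, 2, 4, 1, 3, 2, 1, 3, 4] [.sub [19, 18, 20, 18, 20, 24, 27, 29] [.out 972]],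
  .sub [4, 3, 4, 1, 2, 4, 1, 3, 2, 1, 3, 4] [.sub [18, 24, 20, 20, 18, 29, 20, 30, 20, 20, 25, 29, 29] [.sub [29, 24, 18, 19, 19, 31, 27, 29, 24, 29, 25, 29, 29] [.out 2015]]],
  .sub [1, 3, 4, 1, 2, 4, 1, 3, 2, 1, 3, 4] [.out 3945],
  .sub [2, 3, 4, 1, 2, 4, 1, 3, 2, 1, 3, 4] [.sub [31, 18, 30, 19, 18, 20, 31, 30, 20, 20, 29, 25] [.sub [20, 18, 18, 30, 29, 24, 20, 25, 29, 29] [.out 3970]]],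
  .sub [1, 4, 3, 1, 2, 4, 1, 3, 2, 1, 3, 4] [.sub [30, 25, 18, 18, 20, 24, 27, 24, 20, 30, 25, 29] [.out 1196]],
  .sub [1, 4, 3, 2, 4, 3, 1, 3, 2, 1, 3, 4] [.sub [30, 19, 27, 18, 18, 18, 29, 20, 24, 20, 20, 30, 27] [.out 3854]],
  .sub [2, 4, 3, 2, 4, 3, 1, 3, 2, 1, 3, 4] [.out 2473],
  .sub [2, 1, 3, 2, 4, 3, 1, 3, 2, 1, 3, 4] [.out 3521],
  .sub [4, 3, 1, 2, 4, 3, 1, 3, 2, 1, 3, 4] [.sub [20, 30, 20, 24, 18, 20, 20, 20, 29] [.out 2711]],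
  .sub [2, 3, 1, 2, 4, 3, 1, 3, 2, 1, 3, 4] [.out 3026],
  .sub [3, 2, 3, 4, 1, 3, 1, 3, 2, 1, 3, 4] [.sub [18, 31, 19, 19, 18, 27, 25, 20, 20, 27, 30, 29] [.out 974]],
  .sub [4, 3, 2, 4, 1, 3, 1, 3, 2, 1, 3, 4] [.out 2248],
  .sub [1, 3, 2, 4, 1, 3, 1, 3, 2, 1, 3, 4] [.sub [19, 27, 18, 18, 19, 25, 31, 30, 27, 29] [.out 2414]],
  .sub [2, 3, 2, 4, 1, 3, 1, 3, 2, 1, 3, 4] [.out 4052],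
  .sub [4, 1, 2, 4, 1, 3, 1, 3, 2, 1, 3, 4] [.out 3647],
  .sub [3, 1, 2, 4, 1, 3, 1, 3, 2, 1, 3, 4] [.sub [31, 20, 19, 19, 18, 20, 31, 31] [.out 1125]],
  .sub [1, 4, 3, 2, 1, 3, 1, 3, 2, 1, 3, 4] [.sub [24, 31, 25, 18, 31, 24, 31, 24, 30, 27, 29] [.out 2872]],
  .sub [2, 4, 3, 2, 1, 3, 1, 3, 2, 1, 3, 4] [.sub [20, 18, 25, 19, 25, 20, 20, 20, 20, 25] [.sub [29, 18, 31, 19, 18, 24, 30, 20, 31, 27, 29, 29] [.out 181]]],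
  .sub [4, 1, 3, 2, 1, 3, 1, 3, 2, 1, 3, 4] [.out 1831],
  .sub [3, 1, 3, 2, 1, 3, 1, 3, 2, 1, 3, 4] [.sub [30, 19, 18, 18, 19, 18, 29, 20, 20, 20] [.out 2939]],
  .sub [2, 1, 3, 2, 1, 3, 1, 3, 2, 1, 3, 4] [.out 2425],
  .sub [1, 2, 3, 2, 1, 3, 1, 3, 2, 1, 3, 4] [.sub [29, 19, 19, 18, 27, 27, 30, 20, 24, 27, 29, 29] [.out 624]],
  .sub [3, 4, 1, 2, 1, 3, 1, 3, 2, 1, 3, 4] [.sub [29, 19, 31, 18, 24, 30, 24, 20, 30, 27, 29, 29] [.sub [18, 19, 31, 18, 25, 20, 31, 31, 27] [.out 3022]]],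
  .sub [1, 4, 1, 2, 1, 3, 1, 3, 2, 1, 3, 4] [.sub [20, 24, 20, 20, 18, 31, 29, 20, 24, 29] [.out 3557]],
  .sub [4, 3, 1, 2, 1, 3, 1, 3, 2, 1, 3, 4] [.out 2190],
  .sub [3, 2, 4, 3, 2, 3, 1, 3, 2, 1, 3, 4] [.out 2504],
  .sub [1, 2, 4, 3, 2, 3, 1, 3, 2, 1, 3, 4] [.sub [24, 20, 19, 18, 19, 31, 20, 31, 20] [.sub [30, 27, 19, 20, 18, 24, 30, 31, 29, 25, 29] [.out 1006]]],
  .sub [4, 1, 2, 3, 2, 3, 1, 3, 2, 1, 3, 4] [.out 4008],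
  .sub [3, 1, 2, 3, 2, 3, 1, 3, 2, 1, 3, 4] [.out 3947],
  .sub [2, 4, 3, 1, 2, 3, 1, 3, 2, 1, 3, 4] [.sub [19, 31, 20, 19, 31, 29, 20, 30, 20, 27, 29] [.out 3627]],
  .sub [3, 2, 3, 1, 2, 3, 1, 3, 2, 1, 3, 4] [.sub [24, 30, 31, 18, 31, 25, 20, 29, 25, 29] [.sub [24, 24, 27, 18, 29, 24, 31, 30, 27, 29] [.out 1545]]],
  .sub [1, 2, 3, 1, 2, 3, 1, 3, 2, 1, 3, 4] [.sub [20, 31, 20, 18, 20, 29, 29] [.out 3863]],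
  .sub [3, 4, 1, 4, 3, 2, 1, 3, 2, 1, 3, 4] [.sub [29, 31, 25, 18, 31, 29, 31, 24] [.out 2207]],
  .sub [2, 4, 1, 4, 3, 2, 1, 3, 2, 1, 3, 4] [.sub [24, 29, 18, 24, 18, 25, 20, 30, 20, 30, 27, 29, 29] [.out 3014]],
  .sub [4, 3, 1, 4, 3, 2, 1, 3, 2, 1, 3, 4] [.sub [25, 20, 31, 18, 27, 25, 20, 25, 29, 29] [.out 2351]],
  .sub [1, 3, 1, 4, 3, 2, 1, 3, 2, 1, 3, 4] [.out 2671],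
  .sub [2, 3, 1, 4, 3, 2, 1, 3, 2, 1, 3, 4] [.sub [20, 24, 18, 27, 24, 29, 31, 30, 25] [.out 2854]],
  .sub [1, 2, 1, 4, 3, 2, 1, 3, 2, 1, 3, 4] [.sub [20, 20, 19, 19, 25, 31, 30, 25, 29] [.out 2943]],
  .sub [1, 3, 2, 4, 3, 2, 1, 3, 2, 1, 3, 4] [.out 3069],
  .sub [2, 3, 2, 4, 3, 2, 1, 3, 2, 1, 3, 4] [.sub [30, 24, 18, 24, 18, 31, 20, 29, 25, 29] [.sub [20, 24, 18, 24, 18, 24, 29, 24, 30, 27] [.out 2657]]],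
  .sub [4, 1, 2, 4, 3, 2, 1, 3, 2, 1, 3, 4] [.out 2030],
  .sub [3, 1, 2, 4, 3, 2, 1, 3, 2, 1, 3, 4] [.out 3751],
  .sub [4, 3, 4, 1, 3, 2, 1, 3, 2, 1, 3, 4] [.sub [31, 19, 19, 31, 24, 31, 27] [.out 109]],
  .sub [1, 3, 4, 1, 3, 2, 1, 3, 2, 1, 3, 4] [.out 1567],
  .sub [2, 3, 4, 1, 3, 2, 1, 3, 2, 1, 3, 4] [.sub [19, 24, 25, 20, 18, 30, 20, 24, 20, 20, 30, 25] [.out 3465]],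
  .sub [2, 1, 4, 1, 3, 2, 1, 3, 2, 1, 3, 4] [.out 3543],
  .sub [1, 4, 3, 1, 3, 2, 1, 3, 2, 1, 3, 4] [.out 2321],
  .sub [4, 1, 3, 1, 3, 2, 1, 3, 2, 1, 3, 4] [.out 1301],
  .sub [2, 1, 3, 1, 3, 2, 1, 3, 2, 1, 3, 4] [.sub [20, 30, 18, 18, 19, 25, 27, 25, 20, 30] [.sub [19, 20, 19, 18, 27, 27, 31, 30, 20, 29] [.out 7]]]]

/-- Branches. -/
def kidsYPart22 : List Branch := [
  .sub [4, 1, 2, 1, 3, 2, 1, 3, 2, 1, 3, 4] [.out 3432],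
  .sub [3, 4, 1, 2, 3, 2, 1, 3, 2, 1, 3, 4] [.out 3967],
  .sub [4, 3, 1, 2, 3, 2, 1, 3, 2, 1, 3, 4] [.sub [27, 27, 31, 19, 25, 24, 24, 20, 20, 27, 29, 29] [.sub [30, 24, 27, 19, 31, 20, 25, 20, 27, 29] [.out 3791]]],
  .sub [1, 3, 1, 2, 3, 2, 1, 3, 2, 1, 3, 4] [.out 2740],
  .sub [1, 4, 3, 4, 1, 2, 1, 3, 2, 1, 3, 4] [.sub [20, 19, 18, 18, 18, 31, 29, 20, 20, 27, 30] [.sub [31, 30, 19, 19, 19, 30, 27, 31, 20, 30, 27] [.out 3956]]],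
  .sub [4, 1, 3, 4, 1, 2, 1, 3, 2, 1, 3, 4] [.sub [19, 18, 18, 18, 18, 25, 31, 24, 20] [.out 3090]],
  .sub [3, 1, 3, 4, 1, 2, 1, 3, 2, 1, 3, 4] [.sub [30, 25, 31, 19, 24, 27, 29, 31, 27, 30, 29] [.out 3040]],
  .sub [3, 1, 4, 3, 1, 2, 1, 3, 2, 1, 3, 4] [.sub [19, 31, 31, 18, 18, 29, 25, 24, 31, 20, 29, 25, 29] [.out 3127]],
  .sub [3, 2, 4, 3, 1, 2, 1, 3, 2, 1, 3, 4] [.out 3364],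
  .sub [3, 4, 1, 3, 1, 2, 1, 3, 2, 1, 3, 4] [.out 2014],
  .sub [1, 4, 1, 3, 1, 2, 1, 3, 2, 1, 3, 4] [.out 3267],
  .sub [2, 4, 1, 3, 1, 2, 1, 3, 2, 1, 3, 4] [.sub [20, 19, 27, 19, 31, 27, 30, 31, 29, 25] [.out 830]],
  .sub [3, 2, 1, 3, 1, 2, 1, 3, 2, 1, 3, 4] [.out 2454],
  .sub [1, 2, 1, 3, 1, 2, 1, 3, 2, 1, 3, 4] [.sub [29, 31, 31, 25, 18, 25, 24, 31, 31, 27, 30, 29, 29] [.out 2032]],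
  .sub [4, 3, 2, 3, 1, 2, 1, 3, 2, 1, 3, 4] [.sub [25, 20, 18, 24, 18, 24, 25, 24, 20, 20, 30, 25, 29, 29] [.out 2141]],
  .sub [4, 1, 2, 3, 1, 2, 1, 3, 2, 1, 3, 4] [.sub [29, 24, 18, 29, 20, 31, 20, 29] [.out 3742]],
  .sub [3, 1, 2, 3, 1, 2, 1, 3, 2, 1, 3, 4] [.out 3319],
  .sub [2, 1, 4, 3, 4, 1, 2, 3, 2, 1, 3, 4] [.sub [18, 31, 18, 19, 29, 24, 31, 20, 30, 27, 29] [.sub [18, 24, 31, 19, 24, 20, 31, 25] [.out 3778]]],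
  .sub [3, 2, 4, 3, 4, 1, 2, 3, 2, 1, 3, 4] [.sub [30, 19, 20, 18, 18, 20, 20, 31, 20] [.out 615]],
  .sub [1, 2, 4, 3, 4, 1, 2, 3, 2, 1, 3, 4] [.sub [27, 25, 18, 25, 18, 18, 31, 25, 20, 31, 24, 27, 30] [.out 32]],
  .sub [3, 4, 1, 3, 4, 1, 2, 3, 2, 1, 3, 4] [.sub [24, 31, 24, 18, 31, 24, 27, 24, 29, 25, 29, 29] [.out 1589]],
  .sub [1, 4, 1, 3, 4, 1, 2, 3, 2, 1, 3, 4] [.out 2111],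
  .sub [4, 3, 1, 3, 4, 1, 2, 3, 2, 1, 3, 4] [.out 404],
  .sub [2, 3, 1, 3, 4, 1, 2, 3, 2, 1, 3, 4] [.out 2837],
  .sub [4, 3, 2, 4, 3, 1, 2, 3, 2, 1, 3, 4] [.out 4054],
  .sub [1, 3, 2, 4, 3, 1, 2, 3, 2, 1, 3, 4] [.sub [29, 18, 24, 18, 18, 27, 24, 27, 24, 30, 25, 29] [.out 1126]],
  .sub [2, 3, 2, 4, 3, 1, 2, 3, 2, 1, 3, 4] [.out 3745],
  .sub [3, 1, 2, 4, 3, 1, 2, 3, 2, 1, 3, 4] [.out 3635],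
  .sub [1, 3, 4, 1, 3, 1, 2, 3, 2, 1, 3, 4] [.out 3193],
  .sub [2, 3, 4, 1, 3, 1, 2, 3, 2, 1, 3, 4] [.sub [20, 19, 19, 18, 25, 27, 20, 31, 29, 25, 29] [.out 3251]],
  .sub [1, 4, 3, 2, 3, 1, 2, 3, 2, 1, 3, 4] [.out 2994],
  .sub [3, 1, 3, 2, 3, 1, 2, 3, 2, 1, 3, 4] [.out 2581],
  .sub [3, 4, 1, 2, 3, 1, 2, 3, 2, 1, 3, 4] [.out 3389],
  .sub [1, 4, 1, 2, 3, 1, 2, 3, 2, 1, 3, 4] [.sub [18, 18, 25, 18, 18, 20, 24, 31, 20, 30, 27, 29, 29] [.out 734]],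
  .sub [4, 3, 1, 2, 3, 1, 2, 3, 2, 1, 3, 4] [.sub [27, 29, 18, 19, 18, 30, 24, 30, 31, 30, 25, 29] [.out 3188]],
  .sub [1, 3, 1, 2, 3, 1, 2, 3, 2, 1, 3, 4] [.out 3322],
  .sub [2, 3, 1, 2, 3, 1, 2, 3, 2, 1, 3, 4] [.sub [18, 18, 29, 19, 18, 29, 25, 31, 25, 29] [.sub [19, 24, 18, 19, 29, 24, 27, 31, 20, 30, 29] [.bad [24, 19, 27, 31, 19, 30, 31, 25, 24, 30, 25, 29] 1]]],
  .sub [3, 2, 1, 4, 1, 4, 3, 1, 2, 1, 3, 4] [.out 3118],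
  .sub [1, 2, 1, 4, 1, 4, 3, 1, 2, 1, 3, 4] [.out 2365],
  .sub [4, 3, 2, 4, 1, 4, 3, 1, 2, 1, 3, 4] [.sub [20, 19, 29, 30, 18, 18, 27, 24, 29, 31, 27, 30, 29] [.out 2833]],
  .sub [1, 3, 2, 4, 1, 4, 3, 1, 2, 1, 3, 4] [.sub [19, 18, 18, 19, 27, 24, 27, 24, 29, 25, 29] [.sub [30, 27, 20, 18, 27, 29, 20, 20, 30, 27, 29, 29] [.out 1677]]],
  .sub [2, 3, 2, 4, 1, 4, 3, 1, 2, 1, 3, 4] [.out 3563],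
  .sub [4, 1, 2, 4, 1, 4, 3, 1, 2, 1, 3, 4] [.out 3568],
  .sub [3, 1, 2, 4, 1, 4, 3, 1, 2, 1, 3, 4] [.out 2157],
  .sub [3, 2, 1, 3, 1, 4, 3, 1, 2, 1, 3, 4] [.out 3817],
  .sub [4, 1, 2, 3, 1, 4, 3, 1, 2, 1, 3, 4] [.sub [20, 25, 20, 19, 18, 31, 29, 25, 20, 20, 29, 29] [.out 1595]],
  .sub [1, 4, 3, 2, 1, 4, 3, 1, 2, 1, 3, 4] [.out 3864],
  .sub [2, 4, 3, 2, 1, 4, 3, 1, 2, 1, 3, 4] [.sub [19, 18, 27, 19, 18, 27, 30, 27, 31, 20, 29, 25, 29] [.sub [31, 30, 31, 19, 24, 27, 29, 24, 29, 25, 29] [.out 3516]]],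
  .sub [4, 1, 3, 2, 1, 4, 3, 1, 2, 1, 3, 4] [.sub [25, 20, 20, 18, 30, 20, 20, 24, 29] [.out 1103]],
  .sub [2, 1, 3, 2, 1, 4, 3, 1, 2, 1, 3, 4] [.out 3615],
  .sub [1, 2, 3, 2, 1, 4, 3, 1, 2, 1, 3, 4] [.out 895],
  .sub [1, 4, 1, 2, 1, 4, 3, 1, 2, 1, 3, 4] [.sub [31, 24, 19, 24, 19, 20, 24, 20, 24, 30, 25, 29] [.sub [29, 19, 24, 20, 18, 24, 27, 30, 31, 20, 27, 30] [.out 2183]]],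
  .sub [4, 3, 1, 2, 1, 4, 3, 1, 2, 1, 3, 4] [.out 3129],
  .sub [2, 3, 1, 2, 1, 4, 3, 1, 2, 1, 3, 4] [.sub [30, 27, 24, 19, 18, 30, 25, 24, 31, 20, 27] [.out 164]],
  .sub [4, 1, 4, 3, 2, 4, 3, 1, 2, 1, 3, 4] [.sub [24, 18, 19, 24, 18, 30, 20, 30, 20, 29] [.out 2936]],
  .sub [3, 1, 4, 3, 2, 4, 3, 1, 2, 1, 3, 4] [.sub [19, 18, 31, 18, 18, 27, 24, 31, 20, 20, 30, 27, 29, 29] [.out 925]],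
  .sub [3, 4, 1, 3, 2, 4, 3, 1, 2, 1, 3, 4] [.sub [29, 18, 31, 19, 18, 20, 29, 31, 20, 29] [.out 3470]],
  .sub [1, 4, 1, 3, 2, 4, 3, 1, 2, 1, 3, 4] [.sub [27, 25, 31, 18, 18, 24, 27, 31, 25] [.out 824]],
  .sub [2, 4, 1, 3, 2, 4, 3, 1, 2, 1, 3, 4] [.sub [29, 25, 19, 24, 18, 18, 29, 20, 31, 20, 29, 25, 29] [.sub [29, 25, 20, 18, 25, 20, 20, 29, 25, 29, 29] [.out 2117]]],
  .sub [4, 3, 1, 3, 2, 4, 3, 1, 2, 1, 3, 4] [.out 2456],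
  .sub [1, 3, 1, 3, 2, 4, 3, 1, 2, 1, 3, 4] [.sub [27, 31, 31, 19, 18, 27, 31, 27, 20, 20, 25, 29] [.out 2762]],
  .sub [2, 3, 1, 3, 2, 4, 3, 1, 2, 1, 3, 4] [.sub [19, 31, 27, 18, 24, 24, 31, 30, 25, 29, 29] [.out 480]],
  .sub [3, 2, 1, 3, 2, 4, 3, 1, 2, 1, 3, 4] [.sub [20, 24, 19, 18, 19, 24, 30, 25, 31, 27] [.out 3812]],
  .sub [1, 2, 1, 3, 2, 4, 3, 1, 2, 1, 3, 4] [.out 2862]]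

/-- Branches. -/
def kidsYPart23 : List Branch := [
  .sub [3, 1, 4, 1, 2, 4, 3, 1, 2, 1, 3, 4] [.sub [24, 24, 19, 19, 20, 18, 27, 31, 27, 30, 29, 29] [.out 1675]],
  .sub [2, 1, 4, 1, 2, 4, 3, 1, 2, 1, 3, 4] [.sub [30, 19, 25, 19, 30, 24, 24, 20, 20, 30, 27, 29, 29] [.out 2461]],
  .sub [4, 1, 3, 1, 2, 4, 3, 1, 2, 1, 3, 4] [.out 1037],
  .sub [2, 1, 3, 1, 2, 4, 3, 1, 2, 1, 3, 4] [.sub [20, 31, 31, 19, 20, 27, 24, 20, 20, 30, 25, 29] [.out 1714]],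
  .sub [3, 2, 3, 1, 2, 4, 3, 1, 2, 1, 3, 4] [.sub [19, 31, 29, 18, 19, 29, 30, 24, 20, 29] [.sub [24, 18, 31, 18, 19, 20, 20, 31, 20, 30, 29] [.out 791]]],
  .sub [4, 3, 2, 3, 4, 1, 3, 1, 2, 1, 3, 4] [.out 3852],
  .sub [1, 3, 2, 3, 4, 1, 3, 1, 2, 1, 3, 4] [.sub [31, 19, 25, 18, 18, 24, 30, 29, 31, 30, 29] [.out 2389]],
  .sub [2, 3, 2, 3, 4, 1, 3, 1, 2, 1, 3, 4] [.sub [31, 24, 19, 19, 18, 25, 31, 20, 29] [.out 1477]],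
  .sub [3, 2, 3, 1, 4, 1, 3, 1, 2, 1, 3, 4] [.sub [20, 24, 19, 29, 18, 30, 31, 20, 30, 20, 25, 29] [.sub [27, 24, 29, 18, 18, 27, 30, 31, 24, 20] [.out 924]]],
  .sub [4, 3, 2, 1, 4, 1, 3, 1, 2, 1, 3, 4] [.sub [18, 19, 24, 19, 29, 31, 24, 20, 30] [.out 3589]],
  .sub [1, 3, 2, 1, 4, 1, 3, 1, 2, 1, 3, 4] [.out 3316],
  .sub [2, 3, 2, 1, 4, 1, 3, 1, 2, 1, 3, 4] [.sub [19, 30, 19, 20, 18, 18, 25, 24, 31, 30, 27] [.out 2013]],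
  .sub [4, 1, 2, 1, 4, 1, 3, 1, 2, 1, 3, 4] [.out 3647],
  .sub [3, 1, 2, 1, 4, 1, 3, 1, 2, 1, 3, 4] [.sub [27, 18, 18, 27, 19, 25, 24, 25] [.out 2826]],
  .sub [1, 4, 3, 2, 4, 1, 3, 1, 2, 1, 3, 4] [.out 3717],
  .sub [2, 4, 3, 2, 4, 1, 3, 1, 2, 1, 3, 4] [.sub [20, 30, 31, 19, 29, 31, 31, 25, 20, 27, 30, 29] [.out 3965]],
  .sub [1, 2, 3, 2, 4, 1, 3, 1, 2, 1, 3, 4] [.sub [20, 25, 18, 18, 24, 29, 24, 31, 20, 30, 29] [.out 1736]],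
  .sub [3, 4, 1, 2, 4, 1, 3, 1, 2, 1, 3, 4] [.out 1926],
  .sub [1, 4, 1, 2, 4, 1, 3, 1, 2, 1, 3, 4] [.sub [25, 18, 27, 18, 18, 18, 29, 24, 24, 31, 30, 29] [.out 1663]],
  .sub [4, 3, 1, 2, 4, 1, 3, 1, 2, 1, 3, 4] [.sub [18, 25, 31, 19, 18, 30, 29, 31, 31, 29, 29] [.out 2282]],
  .sub [2, 3, 1, 2, 4, 1, 3, 1, 2, 1, 3, 4] [.out 604],
  .sub [4, 1, 4, 3, 2, 1, 3, 1, 2, 1, 3, 4] [.sub [29, 19, 29, 18, 25, 24, 20, 24, 27, 30, 29, 29] [.out 3735]],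
  .sub [3, 1, 4, 3, 2, 1, 3, 1, 2, 1, 3, 4] [.sub [19, 19, 29, 31, 18, 24, 29, 24, 20, 27, 29] [.out 3347]],
  .sub [2, 1, 4, 3, 2, 1, 3, 1, 2, 1, 3, 4] [.out 3678],
  .sub [3, 2, 4, 3, 2, 1, 3, 1, 2, 1, 3, 4] [.sub [18, 19, 31, 25, 31, 20, 27, 30, 29] [.out 3556]],
  .sub [1, 2, 4, 3, 2, 1, 3, 1, 2, 1, 3, 4] [.sub [29, 19, 18, 24, 18, 31, 30, 27, 24, 29, 25, 29] [.out 1320]],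
  .sub [3, 4, 1, 3, 2, 1, 3, 1, 2, 1, 3, 4] [.sub [29, 19, 18, 18, 18, 24, 20, 30, 24, 20, 29, 25, 29, 29] [.out 3878]],
  .sub [1, 4, 1, 3, 2, 1, 3, 1, 2, 1, 3, 4] [.out 1003],
  .sub [2, 4, 1, 3, 2, 1, 3, 1, 2, 1, 3, 4] [.out 3713],
  .sub [4, 3, 1, 3, 2, 1, 3, 1, 2, 1, 3, 4] [.sub [31, 18, 19, 20, 18, 20, 24, 27, 24, 30, 27, 29] [.sub [25, 19, 19, 19, 24, 24, 27, 31, 29, 29] [.out 3534]]],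
  .sub [1, 3, 1, 3, 2, 1, 3, 1, 2, 1, 3, 4] [.out 3711],
  .sub [3, 2, 1, 3, 2, 1, 3, 1, 2, 1, 3, 4] [.out 3345],
  .sub [4, 1, 2, 3, 2, 1, 3, 1, 2, 1, 3, 4] [.sub [19, 20, 18, 19, 31, 31, 20, 24, 30, 25] [.out 3878]],
  .sub [3, 1, 2, 3, 2, 1, 3, 1, 2, 1, 3, 4] [.sub [19, 25, 19, 18, 20, 29, 20, 31, 25, 29, 29] [.out 3677]],
  .sub [4, 3, 4, 1, 2, 1, 3, 1, 2, 1, 3, 4] [.out 3047],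
  .sub [1, 3, 4, 1, 2, 1, 3, 1, 2, 1, 3, 4] [.out 1330],
  .sub [3, 1, 4, 1, 2, 1, 3, 1, 2, 1, 3, 4] [.sub [24, 31, 19, 30, 19, 18, 20, 29, 31, 30, 25, 29, 29] [.out 700]],
  .sub [2, 1, 4, 1, 2, 1, 3, 1, 2, 1, 3, 4] [.sub [24, 25, 19, 20, 19, 25, 20, 31, 31, 29, 25, 29] [.out 1290]],
  .sub [1, 4, 3, 1, 2, 1, 3, 1, 2, 1, 3, 4] [.sub [18, 29, 19, 25, 19, 30, 27, 24, 20, 20, 27, 29] [.out 1329]],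
  .sub [2, 4, 3, 1, 2, 1, 3, 1, 2, 1, 3, 4] [.sub [19, 20, 18, 20, 18, 18, 25, 27, 25, 20, 30, 27, 29] [.out 3741]],
  .sub [4, 1, 3, 1, 2, 1, 3, 1, 2, 1, 3, 4] [.out 3663],
  .sub [2, 1, 3, 1, 2, 1, 3, 1, 2, 1, 3, 4] [.sub [20, 19, 18, 18, 19, 31, 31, 30, 20, 20, 30, 29, 29] [.out 3646]],
  .sub [1, 2, 3, 1, 2, 1, 3, 1, 2, 1, 3, 4] [.sub [29, 31, 20, 18, 18, 30, 20, 24, 20, 20, 30, 29] [.sub [29, 24, 18, 19, 19, 31, 27, 29, 24, 29, 25, 29, 29] [.out 2572]]],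
  .sub [1, 4, 1, 4, 3, 2, 3, 1, 2, 1, 3, 4] [.out 2497],
  .sub [2, 3, 1, 4, 3, 2, 3, 1, 2, 1, 3, 4] [.out 3410],
  .sub [3, 2, 1, 4, 3, 2, 3, 1, 2, 1, 3, 4] [.sub [20, 19, 19, 19, 18, 31, 24, 20, 30, 20, 25, 29, 29] [.out 3335]],
  .sub [4, 3, 4, 1, 3, 2, 3, 1, 2, 1, 3, 4] [.sub [18, 27, 25, 18, 31, 20, 24] [.out 90]],
  .sub [1, 3, 4, 1, 3, 2, 3, 1, 2, 1, 3, 4] [.sub [29, 19, 19, 24, 18, 24, 27, 27, 31, 27, 29, 29] [.out 12]],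
  .sub [3, 1, 4, 1, 3, 2, 3, 1, 2, 1, 3, 4] [.sub [24, 24, 19, 25, 18, 18, 25, 27, 25, 31, 30, 27, 29, 29] [.out 2175]],
  .sub [3, 2, 4, 1, 3, 2, 3, 1, 2, 1, 3, 4] [.out 3982],
  .sub [1, 4, 3, 1, 3, 2, 3, 1, 2, 1, 3, 4] [.sub [27, 19, 25, 19, 24, 27, 31, 25, 29] [.out 3837]],
  .sub [4, 1, 3, 1, 3, 2, 3, 1, 2, 1, 3, 4] [.out 3412],
  .sub [2, 1, 3, 1, 3, 2, 3, 1, 2, 1, 3, 4] [.out 3742],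
  .sub [1, 4, 3, 4, 1, 2, 3, 1, 2, 1, 3, 4] [.sub [19, 31, 20, 19, 31, 29, 20, 30, 20, 27, 29] [.out 882]],
  .sub [2, 4, 3, 4, 1, 2, 3, 1, 2, 1, 3, 4] [.sub [20, 29, 24, 24, 19, 18, 27, 24, 31, 31, 29, 25, 29] [.sub [18, 31, 18, 19, 18, 25, 31, 20, 24, 30, 25, 29, 29] [.out 1495]]],
  .sub [4, 1, 3, 4, 1, 2, 3, 1, 2, 1, 3, 4] [.sub [29, 18, 31, 18, 18, 20, 30, 20, 20, 27] [.out 915]],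
  .sub [2, 1, 3, 4, 1, 2, 3, 1, 2, 1, 3, 4] [.sub [24, 31, 31, 19, 18, 20, 30, 25, 24, 30, 27, 29] [.out 2608]],
  .sub [1, 2, 3, 4, 1, 2, 3, 1, 2, 1, 3, 4] [.out 3135],
  .sub [4, 3, 1, 4, 1, 2, 3, 1, 2, 1, 3, 4] [.sub [18, 20, 19, 20, 18, 20, 31, 20, 25, 20, 25, 29] [.out 430]],
  .sub [1, 3, 1, 4, 1, 2, 3, 1, 2, 1, 3, 4] [.sub [27, 27, 31, 18, 18, 25, 31, 30, 24, 27, 29, 29] [.out 326]],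
  .sub [2, 3, 1, 4, 1, 2, 3, 1, 2, 1, 3, 4] [.out 3074],
  .sub [3, 2, 1, 4, 1, 2, 3, 1, 2, 1, 3, 4] [.out 2785],
  .sub [4, 1, 4, 3, 1, 2, 3, 1, 2, 1, 3, 4] [.sub [24, 31, 18, 19, 20, 30, 20, 20, 24, 27, 29] [.sub [20, 18, 27, 27, 18, 18, 25, 27, 31, 31, 27] [.out 320]]],
  .sub [3, 1, 4, 3, 1, 2, 3, 1, 2, 1, 3, 4] [.sub [27, 18, 25, 18, 18, 20, 25, 27, 24, 30] [.out 3609]]]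

/-- Branches. -/
def kidsYPart24 : List Branch := [
  .sub [2, 1, 4, 3, 1, 2, 3, 1, 2, 1, 3, 4] [.out 4047],
  .sub [3, 2, 4, 3, 1, 2, 3, 1, 2, 1, 3, 4] [.sub [19, 29, 31, 18, 19, 29, 25, 20, 31, 29, 25, 29] [.out 2114]],
  .sub [3, 4, 1, 3, 1, 2, 3, 1, 2, 1, 3, 4] [.sub [25, 18, 30, 19, 18, 20, 20, 25, 20, 25, 29] [.out 1783]],
  .sub [1, 4, 1, 3, 1, 2, 3, 1, 2, 1, 3, 4] [.sub [19, 19, 20, 19, 24, 20, 20, 29] [.out 164]],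
  .sub [2, 4, 1, 3, 1, 2, 3, 1, 2, 1, 3, 4] [.out 3641],
  .sub [3, 2, 1, 3, 1, 2, 3, 1, 2, 1, 3, 4] [.sub [18, 27, 18, 19, 30, 31, 24, 31, 29, 25, 29] [.out 2915]],
  .sub [4, 3, 2, 3, 1, 2, 3, 1, 2, 1, 3, 4] [.sub [31, 20, 27, 18, 18, 27, 24, 20, 27, 29, 29] [.out 221]],
  .sub [4, 1, 2, 3, 1, 2, 3, 1, 2, 1, 3, 4] [.sub [30, 24, 18, 18, 24, 31, 31, 20, 30, 25, 29, 29] [.out 3669]],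
  .sub [3, 1, 2, 3, 1, 2, 3, 1, 2, 1, 3, 4] [.out 1663],
  .sub [4, 3, 2, 1, 3, 4, 1, 4, 3, 2, 3, 4] [.sub [30, 18, 31, 18, 19, 30, 24] [.out 1721]],
  .sub [1, 3, 2, 1, 3, 4, 1, 4, 3, 2, 3, 4] [.sub [27, 31, 18, 29, 18, 29, 24, 30, 31, 20, 27, 30] [.sub [19, 29, 24, 31, 19, 30, 31, 24, 31, 30, 25] [.out 561]]],
  .sub [2, 3, 2, 1, 3, 4, 1, 4, 3, 2, 3, 4] [.out 2940],
  .sub [3, 1, 3, 2, 4, 3, 1, 4, 3, 2, 3, 4] [.out 2396],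
  .sub [3, 4, 1, 2, 4, 3, 1, 4, 3, 2, 3, 4] [.sub [27, 18, 29, 18, 27, 31, 20, 20, 31, 30, 27] [.sub [27, 20, 31, 19, 30, 27, 24, 20, 20, 29, 25] [.out 914]]],
  .sub [1, 4, 1, 2, 4, 3, 1, 4, 3, 2, 3, 4] [.out 3542],
  .sub [4, 3, 1, 2, 4, 3, 1, 4, 3, 2, 3, 4] [.sub [31, 19, 31, 18, 18, 18, 24, 31, 31, 30, 27] [.out 2377]],
  .sub [1, 3, 1, 2, 4, 3, 1, 4, 3, 2, 3, 4] [.out 2107],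
  .sub [2, 3, 1, 2, 4, 3, 1, 4, 3, 2, 3, 4] [.out 3642],
  .sub [3, 2, 3, 4, 1, 3, 1, 4, 3, 2, 3, 4] [.sub [29, 18, 29, 19, 18, 27, 27, 24, 30, 25, 29, 29] [.out 3351]],
  .sub [1, 2, 3, 4, 1, 3, 1, 4, 3, 2, 3, 4] [.out 2030],
  .sub [4, 3, 2, 4, 1, 3, 1, 4, 3, 2, 3, 4] [.sub [31, 29, 18, 29, 24, 25, 24, 29] [.out 1755]],
  .sub [1, 3, 2, 4, 1, 3, 1, 4, 3, 2, 3, 4] [.out 3770],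
  .sub [2, 3, 2, 4, 1, 3, 1, 4, 3, 2, 3, 4] [.out 3354],
  .sub [4, 1, 2, 4, 1, 3, 1, 4, 3, 2, 3, 4] [.out 4042],
  .sub [3, 1, 2, 4, 1, 3, 1, 4, 3, 2, 3, 4] [.out 2504],
  .sub [1, 4, 3, 2, 1, 3, 1, 4, 3, 2, 3, 4] [.out 2634],
  .sub [2, 4, 3, 2, 1, 3, 1, 4, 3, 2, 3, 4] [.out 3047],
  .sub [4, 1, 3, 2, 1, 3, 1, 4, 3, 2, 3, 4] [.out 1269],
  .sub [3, 1, 3, 2, 1, 3, 1, 4, 3, 2, 3, 4] [.out 3433],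
  .sub [2, 1, 3, 2, 1, 3, 1, 4, 3, 2, 3, 4] [.out 3043],
  .sub [1, 2, 3, 2, 1, 3, 1, 4, 3, 2, 3, 4] [.out 1161],
  .sub [4, 3, 1, 2, 1, 3, 1, 4, 3, 2, 3, 4] [.sub [31, 20, 19, 19, 18, 31, 24, 27, 24, 30, 27, 29] [.out 527]],
  .sub [1, 3, 1, 2, 1, 3, 1, 4, 3, 2, 3, 4] [.out 3323],
  .sub [3, 4, 1, 3, 2, 3, 1, 4, 3, 2, 3, 4] [.sub [19, 19, 19, 31, 18, 25, 20, 31, 31, 30, 27, 29] [.out 3961]],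
  .sub [2, 4, 1, 3, 2, 3, 1, 4, 3, 2, 3, 4] [.sub [18, 19, 24, 18, 18, 24, 25, 31, 20, 29, 25, 29] [.sub [19, 19, 27, 18, 19, 27, 30, 31, 24, 20, 30] [.out 1517]]],
  .sub [4, 3, 1, 3, 2, 3, 1, 4, 3, 2, 3, 4] [.out 1992],
  .sub [1, 3, 1, 3, 2, 3, 1, 4, 3, 2, 3, 4] [.sub [19, 19, 29, 19, 18, 24, 30, 29, 31, 29, 25] [.out 3198]],
  .sub [2, 3, 1, 3, 2, 3, 1, 4, 3, 2, 3, 4] [.sub [31, 19, 27, 31, 18, 27, 20, 31, 24, 27] [.out 3474]],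
  .sub [4, 3, 4, 1, 2, 3, 1, 4, 3, 2, 3, 4] [.out 2005],
  .sub [1, 3, 4, 1, 2, 3, 1, 4, 3, 2, 3, 4] [.sub [20, 18, 29, 20, 24, 30, 27] [.out 27]],
  .sub [2, 3, 4, 1, 2, 3, 1, 4, 3, 2, 3, 4] [.out 955],
  .sub [3, 1, 4, 1, 2, 3, 1, 4, 3, 2, 3, 4] [.sub [24, 20, 29, 20, 18, 24, 31, 30, 20, 29, 25, 29, 29] [.out 2729]],
  .sub [2, 1, 4, 1, 2, 3, 1, 4, 3, 2, 3, 4] [.sub [18, 20, 18, 20, 20, 25, 20, 30, 27, 29, 29] [.out 2470]],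
  .sub [1, 4, 3, 1, 2, 3, 1, 4, 3, 2, 3, 4] [.sub [24, 19, 18, 18, 18, 30, 29, 20, 20, 29, 25, 29] [.out 2484]],
  .sub [2, 4, 3, 1, 2, 3, 1, 4, 3, 2, 3, 4] [.out 3845],
  .sub [4, 1, 3, 1, 2, 3, 1, 4, 3, 2, 3, 4] [.sub [29, 24, 18, 19, 19, 27, 24, 30, 29] [.out 3446]],
  .sub [2, 1, 3, 1, 2, 3, 1, 4, 3, 2, 3, 4] [.out 3402],
  .sub [1, 2, 3, 1, 2, 3, 1, 4, 3, 2, 3, 4] [.sub [18, 20, 27, 19, 18, 31, 24, 20, 20, 29, 25, 29, 29] [.out 2902]],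
  .sub [2, 4, 1, 4, 3, 2, 1, 4, 3, 2, 3, 4] [.sub [19, 25, 19, 18, 25, 27, 31, 31] [.out 3520]],
  .sub [1, 3, 1, 4, 3, 2, 1, 4, 3, 2, 3, 4] [.out 3312],
  .sub [3, 2, 1, 4, 3, 2, 1, 4, 3, 2, 3, 4] [.sub [18, 30, 29, 18, 18, 27, 20, 20, 29] [.out 1932]],
  .sub [1, 2, 1, 4, 3, 2, 1, 4, 3, 2, 3, 4] [.out 1228],
  .sub [1, 3, 2, 4, 3, 2, 1, 4, 3, 2, 3, 4] [.sub [25, 19, 19, 18, 19, 31, 20, 31, 20, 27, 30, 29] [.sub [29, 31, 29, 19, 18, 29, 29] [.out 110]]],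
  .sub [4, 1, 2, 4, 3, 2, 1, 4, 3, 2, 3, 4] [.out 3260],
  .sub [3, 1, 2, 4, 3, 2, 1, 4, 3, 2, 3, 4] [.out 3428],
  .sub [3, 4, 1, 2, 3, 2, 1, 4, 3, 2, 3, 4] [.sub [31, 19, 31, 19, 18, 30, 31, 24, 25, 20, 27, 29, 29] [.sub [18, 30, 31, 19, 18, 29, 20, 20, 30, 29, 29] [.out 3077]]],
  .sub [1, 4, 1, 2, 3, 2, 1, 4, 3, 2, 3, 4] [.sub [31, 24, 18, 31, 19, 18, 20, 29, 20, 24, 25, 29] [.sub [19, 24, 19, 25, 18, 18, 20, 31, 20, 24, 30] [.out 3389]]],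
  .sub [4, 3, 1, 2, 3, 2, 1, 4, 3, 2, 3, 4] [.sub [25, 20, 25, 19, 20, 20, 20, 24, 29, 25, 29, 29] [.out 2877]],
  .sub [2, 3, 1, 2, 3, 2, 1, 4, 3, 2, 3, 4] [.out 3601],
  .sub [2, 4, 3, 2, 4, 3, 4, 1, 3, 2, 3, 4] [.out 3770],
  .sub [3, 4, 1, 2, 4, 3, 4, 1, 3, 2, 3, 4] [.sub [18, 19, 18, 20, 18, 18, 20, 24, 25, 24, 30, 27, 29, 29] [.out 364]],
  .sub [1, 4, 1, 2, 4, 3, 4, 1, 3, 2, 3, 4] [.sub [20, 19, 24, 19, 30, 20, 31, 29, 24, 29, 25, 29, 29] [.out 3637]],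
  .sub [3, 2, 3, 4, 1, 3, 4, 1, 3, 2, 3, 4] [.sub [31, 19, 24, 18, 30, 31, 25, 24, 30] [.out 3322]],
  .sub [1, 2, 3, 4, 1, 3, 4, 1, 3, 2, 3, 4] [.out 3435]]

/-- Branches. -/
def kidsYPart25 : List Branch := [
  .sub [4, 3, 2, 4, 1, 3, 4, 1, 3, 2, 3, 4] [.out 2338],
  .sub [2, 3, 2, 4, 1, 3, 4, 1, 3, 2, 3, 4] [.out 1432],
  .sub [4, 1, 2, 4, 1, 3, 4, 1, 3, 2, 3, 4] [.sub [18, 30, 24, 18, 18, 31, 20, 29, 31, 29] [.out 246]],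
  .sub [3, 4, 1, 2, 1, 3, 4, 1, 3, 2, 3, 4] [.sub [20, 29, 20, 18, 24, 31, 25, 29, 29] [.sub [25, 20, 24, 18, 27, 29, 25, 20, 24, 30, 27, 29] [.out 2317]]],
  .sub [1, 4, 1, 2, 1, 3, 4, 1, 3, 2, 3, 4] [.out 2874],
  .sub [4, 3, 1, 2, 1, 3, 4, 1, 3, 2, 3, 4] [.sub [27, 19, 18, 27, 19, 24, 31, 20, 20, 27, 30] [.out 1244]],
  .sub [2, 3, 1, 2, 1, 3, 4, 1, 3, 2, 3, 4] [.sub [18, 27, 18, 18, 31, 27, 24, 20, 25, 29] [.out 75]],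
  .sub [4, 1, 4, 3, 2, 3, 4, 1, 3, 2, 3, 4] [.sub [18, 27, 27, 31, 18, 18, 29, 24, 25, 24, 30, 29, 29] [.out 3192]],
  .sub [3, 1, 4, 3, 2, 3, 4, 1, 3, 2, 3, 4] [.out 1892],
  .sub [3, 2, 4, 3, 2, 3, 4, 1, 3, 2, 3, 4] [.sub [24, 30, 19, 20, 20, 18, 25, 24, 20, 27, 30, 29] [.out 621]],
  .sub [3, 4, 1, 3, 2, 3, 4, 1, 3, 2, 3, 4] [.sub [27, 30, 19, 20, 18, 31, 24, 30, 31, 29, 25] [.out 1602]],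
  .sub [4, 3, 1, 3, 2, 3, 4, 1, 3, 2, 3, 4] [.sub [27, 29, 20, 18, 24, 25, 31, 25, 20, 29, 25, 29] [.out 3260]],
  .sub [1, 3, 1, 3, 2, 3, 4, 1, 3, 2, 3, 4] [.sub [18, 20, 29, 18, 20, 24, 29, 31, 29, 25, 29, 29] [.out 834]],
  .sub [2, 3, 1, 3, 2, 3, 4, 1, 3, 2, 3, 4] [.out 3081],
  .sub [3, 2, 1, 3, 2, 3, 4, 1, 3, 2, 3, 4] [.sub [30, 27, 18, 25, 18, 18, 25, 24, 27, 31, 27, 30] [.out 2704]],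
  .sub [3, 1, 2, 3, 2, 3, 4, 1, 3, 2, 3, 4] [.out 1868],
  .sub [1, 3, 4, 1, 2, 3, 4, 1, 3, 2, 3, 4] [.out 2118],
  .sub [2, 1, 4, 1, 2, 3, 4, 1, 3, 2, 3, 4] [.out 3786],
  .sub [1, 4, 3, 1, 2, 3, 4, 1, 3, 2, 3, 4] [.sub [29, 31, 20, 18, 18, 30, 31, 31, 20, 24, 25] [.sub [18, 31, 31, 18, 18, 24, 24, 20, 20, 25, 29, 29] [.bad [24, 19, 27, 31, 19, 30, 31, 25, 24, 30, 25, 29] 1]]],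
  .sub [4, 1, 3, 1, 2, 3, 4, 1, 3, 2, 3, 4] [.sub [31, 30, 27, 20, 19, 18, 24, 31, 29, 31, 30, 29] [.out 1780]],
  .sub [2, 1, 3, 1, 2, 3, 4, 1, 3, 2, 3, 4] [.sub [18, 27, 18, 20, 18, 18, 31, 25, 20, 31, 30, 29] [.out 583]],
  .sub [1, 2, 3, 1, 2, 3, 4, 1, 3, 2, 3, 4] [.out 1391],
  .sub [1, 3, 1, 4, 3, 2, 4, 1, 3, 2, 3, 4] [.out 3243],
  .sub [1, 3, 2, 4, 3, 2, 4, 1, 3, 2, 3, 4] [.out 2893],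
  .sub [2, 3, 2, 4, 3, 2, 4, 1, 3, 2, 3, 4] [.sub [27, 18, 24, 27, 19, 30, 31, 24, 30, 27, 29] [.out 2574]],
  .sub [4, 1, 2, 4, 3, 2, 4, 1, 3, 2, 3, 4] [.sub [19, 24, 30, 18, 19, 30, 31, 24, 31, 30, 25] [.sub [18, 19, 24, 18, 18, 31, 27, 25, 24, 29, 29] [.out 3049]]],
  .sub [3, 1, 2, 4, 3, 2, 4, 1, 3, 2, 3, 4] [.sub [31, 31, 18, 30, 20, 18, 20, 30, 24, 31, 29, 25, 29, 29] [.out 605]],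
  .sub [3, 1, 4, 1, 3, 2, 4, 1, 3, 2, 3, 4] [.out 2575],
  .sub [2, 1, 4, 1, 3, 2, 4, 1, 3, 2, 3, 4] [.sub [24, 20, 19, 31, 19, 18, 29, 31, 20, 24, 20, 30, 27, 29] [.out 600]],
  .sub [3, 2, 4, 1, 3, 2, 4, 1, 3, 2, 3, 4] [.sub [25, 19, 18, 19, 19, 24, 27, 24, 27, 30] [.out 223]],
  .sub [1, 2, 4, 1, 3, 2, 4, 1, 3, 2, 3, 4] [.sub [25, 18, 30, 19, 18, 20, 20, 20, 24, 29, 25] [.out 3779]],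
  .sub [3, 2, 3, 1, 3, 2, 4, 1, 3, 2, 3, 4] [.sub [31, 19, 20, 24, 18, 29, 20, 20, 25] [.sub [30, 19, 20, 18, 18, 29, 24, 27, 31, 20, 29, 25, 29] [.out 1878]]],
  .sub [1, 2, 3, 1, 3, 2, 4, 1, 3, 2, 3, 4] [.sub [31, 24, 20, 19, 30, 25, 31, 29, 25, 29] [.sub [27, 19, 29, 18, 18, 29, 31, 30, 20, 24, 30, 27, 29, 29] [.bad [19, 29, 31, 18, 31, 30, 29, 20, 20, 27, 30, 29] 1]]],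
  .sub [1, 3, 2, 1, 3, 2, 4, 1, 3, 2, 3, 4] [.sub [29, 18, 29, 18, 31, 20, 20, 31, 30, 27, 29, 29] [.sub [19, 27, 27, 18, 31, 31, 20, 31, 30, 29, 29] [.out 1545]]],
  .sub [2, 3, 2, 1, 3, 2, 4, 1, 3, 2, 3, 4] [.out 2401],
  .sub [4, 1, 2, 1, 3, 2, 4, 1, 3, 2, 3, 4] [.out 2295],
  .sub [3, 1, 2, 1, 3, 2, 4, 1, 3, 2, 3, 4] [.sub [31, 19, 31, 18, 18, 20, 20, 29, 24, 30, 25] [.out 2264]],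
  .sub [3, 4, 1, 2, 3, 2, 4, 1, 3, 2, 3, 4] [.out 3303],
  .sub [1, 4, 1, 2, 3, 2, 4, 1, 3, 2, 3, 4] [.sub [20, 18, 24, 18, 25, 20, 31, 31, 27] [.out 1785]],
  .sub [4, 3, 1, 2, 3, 2, 4, 1, 3, 2, 3, 4] [.sub [30, 24, 27, 18, 31, 20, 31, 25, 20, 29, 25, 29] [.sub [31, 24, 27, 19, 18, 30, 20, 30, 24, 20, 27, 30, 29, 29] [.out 2923]]],
  .sub [2, 3, 1, 2, 3, 2, 4, 1, 3, 2, 3, 4] [.sub [18, 19, 24, 31, 18, 24, 31, 20, 20, 30, 25, 29] [.out 1316]],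
  .sub [2, 1, 4, 3, 2, 4, 3, 1, 3, 2, 3, 4] [.sub [19, 19, 19, 24, 18, 31, 29, 25, 20, 20, 30, 25] [.out 1926]],
  .sub [3, 2, 4, 3, 2, 4, 3, 1, 3, 2, 3, 4] [.sub [24, 18, 18, 19, 24, 30, 31, 24, 20, 30, 25, 29, 29] [.out 3269]],
  .sub [3, 4, 1, 3, 2, 4, 3, 1, 3, 2, 3, 4] [.out 3378],
  .sub [1, 4, 1, 3, 2, 4, 3, 1, 3, 2, 3, 4] [.sub [25, 20, 18, 18, 29, 31, 20, 20, 24, 30, 25, 29] [.out 2869]],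
  .sub [2, 4, 1, 3, 2, 4, 3, 1, 3, 2, 3, 4] [.sub [18, 20, 20, 25, 18, 27, 25, 31, 30, 27, 29, 29] [.sub [20, 30, 24, 27, 18, 31, 29, 20, 20, 20, 30, 29, 29] [.out 1813]]],
  .sub [4, 3, 1, 3, 2, 4, 3, 1, 3, 2, 3, 4] [.out 3623],
  .sub [1, 3, 1, 3, 2, 4, 3, 1, 3, 2, 3, 4] [.out 2889],
  .sub [2, 3, 1, 3, 2, 4, 3, 1, 3, 2, 3, 4] [.sub [31, 18, 25, 18, 18, 27, 24, 25, 24, 20, 30, 25, 29] [.out 583]],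
  .sub [3, 2, 1, 3, 2, 4, 3, 1, 3, 2, 3, 4] [.sub [30, 20, 31, 18, 18, 24, 20, 20, 31, 30, 25] [.out 692]],
  .sub [4, 1, 2, 3, 2, 4, 3, 1, 3, 2, 3, 4] [.out 3166],
  .sub [4, 3, 4, 1, 2, 4, 3, 1, 3, 2, 3, 4] [.out 2909],
  .sub [1, 3, 4, 1, 2, 4, 3, 1, 3, 2, 3, 4] [.sub [31, 20, 19, 19, 18, 31, 24, 27, 24, 30, 27, 29] [.out 468]],
  .sub [1, 4, 3, 1, 2, 4, 3, 1, 3, 2, 3, 4] [.out 2403],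
  .sub [2, 4, 3, 1, 2, 4, 3, 1, 3, 2, 3, 4] [.sub [27, 18, 29, 24, 18, 20, 29, 31, 29, 25, 29] [.out 742]],
  .sub [4, 1, 3, 1, 2, 4, 3, 1, 3, 2, 3, 4] [.sub [19, 24, 20, 31, 18, 27, 24, 29, 20, 20, 27] [.out 3141]],
  .sub [2, 1, 3, 1, 2, 4, 3, 1, 3, 2, 3, 4] [.out 3535],
  .sub [1, 2, 3, 1, 2, 4, 3, 1, 3, 2, 3, 4] [.sub [19, 27, 31, 18, 18, 31, 20, 24, 20, 30] [.out 3031]],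
  .sub [4, 3, 2, 3, 4, 1, 3, 1, 3, 2, 3, 4] [.sub [25, 19, 19, 19, 18, 27, 30, 31, 31, 29, 25, 29, 29] [.out 1339]],
  .sub [2, 3, 2, 3, 4, 1, 3, 1, 3, 2, 3, 4] [.sub [25, 19, 25, 19, 30, 20, 20, 30, 25] [.sub [18, 31, 18, 19, 18, 25, 31, 20, 24, 30, 25, 29, 29] [.out 2584]]],
  .sub [1, 4, 3, 2, 4, 1, 3, 1, 3, 2, 3, 4] [.sub [19, 20, 18, 20, 18, 18, 25, 24, 27, 25, 31, 29, 29] [.sub [29, 25, 18, 18, 24, 30, 31, 24, 25, 29, 29] [.out 2326]]],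
  .sub [2, 4, 3, 2, 4, 1, 3, 1, 3, 2, 3, 4] [.sub [19, 19, 25, 19, 27, 31, 25, 20, 30, 25] [.sub [27, 31, 19, 31, 18, 24, 30, 29, 31, 27, 29, 29] [.out 1609]]],
  .sub [4, 1, 3, 2, 4, 1, 3, 1, 3, 2, 3, 4] [.sub [30, 20, 19, 31, 18, 18, 29, 24, 27, 24, 30, 27, 29, 29] [.sub [18, 18, 30, 18, 18, 24, 27, 20, 24, 29, 29] [.out 213]]],
  .sub [2, 1, 3, 2, 4, 1, 3, 1, 3, 2, 3, 4] [.sub [19, 18, 27, 18, 18, 27, 30, 31, 31, 27, 30, 29, 29] [.out 3850]]]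

/-- Branches. -/
def kidsYPart26 : List Branch := [
  .sub [1, 2, 3, 2, 4, 1, 3, 1, 3, 2, 3, 4] [.sub [31, 19, 29, 20, 18, 31, 24, 31, 27, 29] [.out 972]],
  .sub [3, 4, 1, 2, 4, 1, 3, 1, 3, 2, 3, 4] [.sub [19, 20, 30, 18, 18, 25, 24, 27, 24, 20, 30, 27] [.sub [20, 24, 24, 19, 31, 20, 20, 31, 29, 25, 29] [.bad [31, 18, 31, 18, 20, 27, 24, 20, 30, 29, 29] 1]]],
  .sub [4, 3, 1, 2, 4, 1, 3, 1, 3, 2, 3, 4] [.sub [19, 20, 31, 18, 19, 31, 20, 24, 20, 29] [.out 3910]],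
  .sub [1, 3, 1, 2, 4, 1, 3, 1, 3, 2, 3, 4] [.sub [24, 20, 27, 19, 20, 18, 27, 31, 31, 20, 27, 30] [.out 1820]],
  .sub [2, 3, 1, 2, 4, 1, 3, 1, 3, 2, 3, 4] [.sub [31, 19, 19, 31, 24, 31, 27] [.sub [30, 20, 18, 19, 19, 31, 31, 25, 31, 30, 27, 29, 29] [.out 668]]],
  .sub [4, 1, 4, 3, 2, 1, 3, 1, 3, 2, 3, 4] [.out 585],
  .sub [2, 1, 4, 3, 2, 1, 3, 1, 3, 2, 3, 4] [.sub [30, 27, 19, 18, 19, 18, 20, 31, 31, 29] [.sub [20, 30, 19, 30, 18, 18, 27, 29, 20, 20, 27, 29] [.out 2899]]],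
  .sub [1, 2, 4, 3, 2, 1, 3, 1, 3, 2, 3, 4] [.out 3998],
  .sub [3, 4, 1, 3, 2, 1, 3, 1, 3, 2, 3, 4] [.sub [20, 24, 20, 18, 29, 24, 20, 31, 27] [.out 687]],
  .sub [1, 4, 1, 3, 2, 1, 3, 1, 3, 2, 3, 4] [.sub [29, 18, 19, 18, 18, 20, 29, 20, 24, 29, 25] [.out 492]],
  .sub [2, 4, 1, 3, 2, 1, 3, 1, 3, 2, 3, 4] [.sub [24, 31, 24, 18, 18, 31, 20, 30, 20, 30, 27, 29] [.sub [19, 19, 31, 19, 18, 31, 24, 20, 31, 30, 29] [.out 791]]],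
  .sub [4, 3, 1, 3, 2, 1, 3, 1, 3, 2, 3, 4] [.out 3281],
  .sub [1, 3, 1, 3, 2, 1, 3, 1, 3, 2, 3, 4] [.sub [19, 27, 18, 18, 31, 31, 31, 31, 24, 30, 25] [.out 1556]],
  .sub [3, 2, 1, 3, 2, 1, 3, 1, 3, 2, 3, 4] [.out 2719],
  .sub [1, 2, 1, 3, 2, 1, 3, 1, 3, 2, 3, 4] [.sub [20, 19, 19, 24, 18, 18, 24, 24, 20, 24, 20, 29, 25, 29] [.out 1346]],
  .sub [4, 1, 2, 3, 2, 1, 3, 1, 3, 2, 3, 4] [.out 3770],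
  .sub [3, 1, 2, 3, 2, 1, 3, 1, 3, 2, 3, 4] [.sub [25, 27, 18, 24, 31, 20, 20, 29, 25, 29] [.out 2130]],
  .sub [4, 1, 3, 1, 2, 1, 3, 1, 3, 2, 3, 4] [.sub [25, 19, 27, 31, 18, 31, 29, 24, 25, 20, 29] [.out 2847]],
  .sub [2, 1, 3, 1, 2, 1, 3, 1, 3, 2, 3, 4] [.out 2792],
  .sub [3, 4, 1, 4, 3, 2, 3, 1, 3, 2, 3, 4] [.out 2470],
  .sub [1, 4, 1, 4, 3, 2, 3, 1, 3, 2, 3, 4] [.out 2157],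
  .sub [2, 4, 1, 4, 3, 2, 3, 1, 3, 2, 3, 4] [.sub [19, 18, 20, 31, 18, 25, 24, 30, 31, 27] [.sub [18, 24, 19, 31, 18, 31, 31, 27, 30, 29] [.out 966]]],
  .sub [4, 3, 1, 4, 3, 2, 3, 1, 3, 2, 3, 4] [.sub [19, 19, 29, 31, 18, 24, 29, 24, 20, 27, 29] [.out 2094]],
  .sub [1, 3, 1, 4, 3, 2, 3, 1, 3, 2, 3, 4] [.sub [24, 29, 18, 30, 19, 18, 31, 25, 20, 24, 27, 29, 29] [.out 1487]],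
  .sub [2, 3, 1, 4, 3, 2, 3, 1, 3, 2, 3, 4] [.sub [19, 27, 18, 24, 29, 24, 31, 30, 27] [.out 1774]],
  .sub [3, 2, 1, 4, 3, 2, 3, 1, 3, 2, 3, 4] [.sub [18, 29, 18, 31, 19, 27, 30, 20, 24, 30, 27, 29] [.sub [18, 20, 20, 18, 31, 30, 27, 24, 27, 30, 29] [.out 1515]]],
  .sub [1, 2, 1, 4, 3, 2, 3, 1, 3, 2, 3, 4] [.sub [19, 18, 19, 19, 24, 20, 30, 20, 27, 30] [.out 3336]],
  .sub [1, 3, 2, 4, 3, 2, 3, 1, 3, 2, 3, 4] [.out 3705],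
  .sub [2, 3, 2, 4, 3, 2, 3, 1, 3, 2, 3, 4] [.sub [31, 31, 19, 18, 27, 31, 24, 20, 29, 25] [.out 523]],
  .sub [3, 1, 2, 4, 3, 2, 3, 1, 3, 2, 3, 4] [.sub [24, 24, 19, 31, 24, 31, 31, 30] [.out 3998]],
  .sub [4, 3, 4, 1, 3, 2, 3, 1, 3, 2, 3, 4] [.sub [29, 19, 25, 19, 31, 31, 24, 29, 29] [.out 3129]],
  .sub [1, 3, 4, 1, 3, 2, 3, 1, 3, 2, 3, 4] [.sub [31, 19, 19, 18, 24, 30, 20, 31, 30, 27, 29, 29] [.out 3183]],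
  .sub [2, 3, 4, 1, 3, 2, 3, 1, 3, 2, 3, 4] [.sub [19, 27, 31, 18, 18, 29, 30, 24, 27, 30] [.sub [25, 20, 20, 18, 18, 25, 24, 29, 20, 24, 25, 29] [.out 593]]],
  .sub [3, 1, 4, 1, 3, 2, 3, 1, 3, 2, 3, 4] [.sub [27, 19, 24, 19, 31, 20, 31, 20, 27, 30, 29] [.out 3812]],
  .sub [3, 2, 4, 1, 3, 2, 3, 1, 3, 2, 3, 4] [.sub [19, 30, 18, 18, 31, 27, 27, 31, 30] [.out 2833]],
  .sub [1, 4, 3, 1, 3, 2, 3, 1, 3, 2, 3, 4] [.sub [18, 19, 20, 27, 19, 18, 20, 29, 24, 30, 25, 29] [.sub [18, 31, 18, 19, 30, 27, 27, 31, 29, 25, 29, 29] [.out 447]]],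
  .sub [4, 1, 3, 1, 3, 2, 3, 1, 3, 2, 3, 4] [.out 2725],
  .sub [2, 1, 3, 1, 3, 2, 3, 1, 3, 2, 3, 4] [.out 1602],
  .sub [1, 2, 3, 1, 3, 2, 3, 1, 3, 2, 3, 4] [.sub [24, 18, 27, 31, 20, 29] [.out 3800]],
  .sub [1, 3, 2, 1, 3, 2, 3, 1, 3, 2, 3, 4] [.sub [18, 20, 24, 20, 18, 31, 25, 20, 20, 27, 30] [.sub [31, 29, 24, 18, 27, 25, 24, 20, 29] [.bad [20, 24, 18, 19, 18, 27, 25, 24, 27, 30] 1]]],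
  .sub [4, 1, 2, 1, 3, 2, 3, 1, 3, 2, 3, 4] [.sub [31, 31, 18, 18, 30, 25, 24, 31, 30, 25] [.sub [24, 24, 27, 18, 18, 30, 25, 20, 20, 29, 25, 29, 29] [.out 1311]]],
  .sub [3, 1, 2, 1, 3, 2, 3, 1, 3, 2, 3, 4] [.out 2283],
  .sub [3, 4, 1, 2, 3, 2, 3, 1, 3, 2, 3, 4] [.out 2460],
  .sub [1, 4, 1, 2, 3, 2, 3, 1, 3, 2, 3, 4] [.sub [30, 18, 18, 24, 18, 27, 30, 20, 20, 30, 27, 29, 29] [.out 1399]],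
  .sub [3, 4, 1, 3, 1, 2, 3, 1, 3, 2, 3, 4] [.out 2642],
  .sub [1, 4, 1, 3, 1, 2, 3, 1, 3, 2, 3, 4] [.sub [31, 24, 24, 19, 27, 29, 31, 29, 29] [.sub [31, 25, 19, 19, 18, 20, 31, 30, 20, 25, 29, 29] [.out 2369]]],
  .sub [3, 2, 1, 3, 1, 2, 3, 1, 3, 2, 3, 4] [.out 3563],
  .sub [2, 1, 4, 1, 4, 3, 2, 1, 3, 2, 3, 4] [.out 1588],
  .sub [3, 2, 4, 1, 4, 3, 2, 1, 3, 2, 3, 4] [.sub [19, 18, 25, 20, 19, 29, 24, 27, 24, 30, 25] [.out 2394]],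
  .sub [1, 2, 4, 1, 4, 3, 2, 1, 3, 2, 3, 4] [.sub [30, 31, 19, 25, 19, 27, 24, 29, 20, 20] [.out 1459]],
  .sub [4, 1, 3, 1, 4, 3, 2, 1, 3, 2, 3, 4] [.sub [29, 19, 29, 18, 25, 24, 20, 24, 27, 30, 29, 29] [.out 3219]],
  .sub [2, 1, 3, 1, 4, 3, 2, 1, 3, 2, 3, 4] [.out 1948],
  .sub [4, 3, 2, 1, 4, 3, 2, 1, 3, 2, 3, 4] [.sub [24, 19, 30, 20, 18, 30, 31, 25, 31, 25] [.out 2089]],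
  .sub [1, 3, 2, 1, 4, 3, 2, 1, 3, 2, 3, 4] [.sub [18, 19, 20, 19, 30, 24, 24, 20, 20, 29, 25] [.out 3876]],
  .sub [4, 1, 2, 1, 4, 3, 2, 1, 3, 2, 3, 4] [.sub [29, 19, 29, 19, 18, 31, 31, 20, 24, 30, 25, 29, 29] [.out 689]],
  .sub [3, 1, 2, 1, 4, 3, 2, 1, 3, 2, 3, 4] [.sub [20, 30, 18, 19, 18, 25, 20, 25, 29, 29] [.out 2696]],
  .sub [4, 1, 3, 2, 4, 3, 2, 1, 3, 2, 3, 4] [.out 3112],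
  .sub [3, 1, 3, 2, 4, 3, 2, 1, 3, 2, 3, 4] [.sub [20, 19, 27, 19, 18, 30, 29, 31, 27, 30] [.out 3389]],
  .sub [2, 1, 3, 2, 4, 3, 2, 1, 3, 2, 3, 4] [.sub [20, 19, 27, 19, 18, 30, 29, 31, 27, 30] [.sub [24, 29, 18, 18, 31, 24, 30, 31, 30, 27] [.bad [27, 24, 27, 18, 20, 30, 20, 20, 24, 27, 29] 1]]],
  .sub [1, 2, 3, 2, 4, 3, 2, 1, 3, 2, 3, 4] [.sub [31, 18, 18, 27, 19, 31, 30, 20, 24, 25] [.out 2028]],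
  .sub [1, 4, 1, 2, 4, 3, 2, 1, 3, 2, 3, 4] [.sub [20, 27, 18, 29, 18, 30, 24, 24, 31, 27, 30, 29, 29] [.sub [20, 19, 19, 19, 19, 31, 31, 20, 31, 30, 25, 29] [.out 1495]]],
  .sub [4, 3, 1, 2, 4, 3, 2, 1, 3, 2, 3, 4] [.out 916],
  .sub [1, 3, 1, 2, 4, 3, 2, 1, 3, 2, 3, 4] [.sub [29, 18, 19, 18, 24, 20, 31, 30, 29, 29] [.out 3485]],
  .sub [2, 3, 1, 2, 4, 3, 2, 1, 3, 2, 3, 4] [.out 3166]]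

/-- Branches. -/
def kidsYPart27 : List Branch := [
  .sub [1, 3, 1, 4, 1, 3, 2, 1, 3, 2, 3, 4] [.sub [31, 19, 30, 19, 18, 27, 29, 31, 20, 30, 29, 29] [.out 1394]],
  .sub [2, 3, 1, 4, 1, 3, 2, 1, 3, 2, 3, 4] [.out 769],
  .sub [3, 2, 1, 4, 1, 3, 2, 1, 3, 2, 3, 4] [.out 3726],
  .sub [1, 2, 1, 4, 1, 3, 2, 1, 3, 2, 3, 4] [.out 2807],
  .sub [4, 3, 2, 4, 1, 3, 2, 1, 3, 2, 3, 4] [.sub [18, 30, 29, 18, 18, 27, 20, 20, 29] [.out 3923]],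
  .sub [2, 3, 2, 4, 1, 3, 2, 1, 3, 2, 3, 4] [.sub [19, 18, 27, 20, 18, 18, 24, 20, 24, 27, 24, 29, 25, 29] [.sub [29, 19, 29, 20, 18, 27, 29, 20, 20, 20, 25, 29, 29] [.out 1826]]],
  .sub [4, 1, 2, 4, 1, 3, 2, 1, 3, 2, 3, 4] [.out 3811],
  .sub [3, 1, 2, 4, 1, 3, 2, 1, 3, 2, 3, 4] [.sub [20, 19, 19, 18, 25, 24, 27, 31, 30, 29, 29] [.out 1222]],
  .sub [1, 4, 3, 2, 1, 3, 2, 1, 3, 2, 3, 4] [.out 3211],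
  .sub [2, 4, 3, 2, 1, 3, 2, 1, 3, 2, 3, 4] [.sub [25, 31, 29, 18, 19, 18, 24, 25, 31, 20, 20, 30, 25, 29] [.out 890]],
  .sub [4, 1, 3, 2, 1, 3, 2, 1, 3, 2, 3, 4] [.sub [19, 24, 27, 19, 18, 27, 24, 27, 31, 20, 29, 25, 29] [.out 1699]],
  .sub [3, 1, 3, 2, 1, 3, 2, 1, 3, 2, 3, 4] [.sub [19, 18, 20, 19, 18, 20, 30, 24, 20, 30, 25, 29] [.out 2584]],
  .sub [2, 1, 3, 2, 1, 3, 2, 1, 3, 2, 3, 4] [.out 3028],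
  .sub [1, 2, 3, 2, 1, 3, 2, 1, 3, 2, 3, 4] [.out 3226],
  .sub [3, 4, 1, 2, 1, 3, 2, 1, 3, 2, 3, 4] [.sub [18, 19, 25, 20, 18, 24, 24, 24, 20, 20, 25, 29, 29] [.out 1056]],
  .sub [1, 4, 1, 2, 1, 3, 2, 1, 3, 2, 3, 4] [.sub [24, 19, 31, 25, 19, 31, 25, 24, 25] [.out 2665]],
  .sub [4, 3, 1, 2, 1, 3, 2, 1, 3, 2, 3, 4] [.sub [27, 27, 19, 20, 18, 24, 24, 27, 25, 20, 30, 27, 29, 29] [.out 2569]],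
  .sub [1, 3, 1, 2, 1, 3, 2, 1, 3, 2, 3, 4] [.sub [25, 18, 19, 25, 18, 20, 31, 27, 20, 20, 27, 30] [.out 923]],
  .sub [2, 3, 1, 2, 1, 3, 2, 1, 3, 2, 3, 4] [.sub [29, 31, 19, 19, 18, 24, 31, 31, 20, 29] [.out 257]],
  .sub [4, 3, 4, 1, 2, 3, 2, 1, 3, 2, 3, 4] [.out 3297],
  .sub [1, 3, 4, 1, 2, 3, 2, 1, 3, 2, 3, 4] [.out 1126],
  .sub [2, 3, 4, 1, 2, 3, 2, 1, 3, 2, 3, 4] [.sub [19, 25, 18, 24, 18, 27, 24, 20, 24, 30, 27, 29, 29] [.out 3058]],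
  .sub [2, 1, 4, 1, 2, 3, 2, 1, 3, 2, 3, 4] [.out 2983],
  .sub [1, 4, 3, 1, 2, 3, 2, 1, 3, 2, 3, 4] [.sub [25, 19, 29, 25, 18, 20, 20, 31, 20, 27, 30, 29, 29] [.sub [18, 18, 30, 18, 18, 24, 27, 20, 24, 29, 29] [.out 3049]]],
  .sub [2, 4, 3, 1, 2, 3, 2, 1, 3, 2, 3, 4] [.out 1611],
  .sub [4, 1, 3, 1, 2, 3, 2, 1, 3, 2, 3, 4] [.out 2224],
  .sub [2, 1, 3, 1, 2, 3, 2, 1, 3, 2, 3, 4] [.sub [20, 18, 18, 19, 29, 25, 24, 27, 29, 29] [.out 929]],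
  .sub [3, 2, 3, 1, 2, 3, 2, 1, 3, 2, 3, 4] [.out 3390],
  .sub [1, 2, 3, 1, 2, 3, 2, 1, 3, 2, 3, 4] [.sub [30, 18, 27, 27, 18, 31, 25, 20, 20, 27, 29, 29] [.out 3125]],
  .sub [1, 3, 1, 4, 3, 2, 4, 3, 1, 2, 3, 4] [.sub [19, 24, 18, 18, 30, 27, 31, 24, 29, 29] [.sub [19, 19, 18, 31, 18, 29, 31, 24, 20, 30, 27] [.out 1871]]],
  .sub [2, 3, 1, 4, 3, 2, 4, 3, 1, 2, 3, 4] [.sub [27, 25, 19, 19, 19, 20, 20, 30, 24, 20, 30, 25, 29, 29] [.sub [20, 19, 31, 24, 18, 25, 24, 30, 20, 29, 29] [.out 1290]]],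
  .sub [1, 3, 2, 4, 3, 2, 4, 3, 1, 2, 3, 4] [.sub [20, 19, 19, 19, 25, 31, 25, 24, 30, 27, 29, 29] [.sub [19, 27, 31, 31, 18, 24, 30, 24, 20, 29] [.out 1695]]],
  .sub [3, 4, 1, 2, 3, 2, 4, 3, 1, 2, 3, 4] [.out 3344],
  .sub [4, 3, 1, 2, 3, 2, 4, 3, 1, 2, 3, 4] [.sub [25, 31, 24, 19, 18, 30, 24, 25, 20, 25] [.sub [18, 25, 19, 25, 18, 29, 25, 31, 20, 27, 30, 29] [.out 3274]]],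
  .sub [1, 3, 1, 2, 3, 2, 4, 3, 1, 2, 3, 4] [.sub [25, 27, 18, 19, 18, 31, 25, 31, 20, 30] [.out 1054]],
  .sub [2, 3, 1, 2, 3, 2, 4, 3, 1, 2, 3, 4] [.sub [18, 19, 18, 18, 27, 30, 20, 20, 30, 29, 29] [.sub [19, 30, 19, 25, 19, 30, 31, 25, 24, 29] [.out 866]]],
  .sub [4, 3, 2, 1, 3, 4, 1, 3, 1, 2, 3, 4] [.sub [18, 31, 20, 20, 18, 31, 29, 20, 24, 27] [.out 3182]],
  .sub [2, 3, 2, 1, 3, 4, 1, 3, 1, 2, 3, 4] [.sub [20, 19, 24, 29, 18, 18, 20, 25, 24, 20, 27, 30, 29] [.out 2352]],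
  .sub [1, 4, 3, 2, 3, 4, 1, 3, 1, 2, 3, 4] [.sub [19, 25, 18, 24, 18, 24, 24, 27, 31, 30, 25] [.out 552]],
  .sub [2, 4, 3, 2, 3, 4, 1, 3, 1, 2, 3, 4] [.out 2031],
  .sub [4, 1, 3, 2, 3, 4, 1, 3, 1, 2, 3, 4] [.sub [20, 20, 20, 18, 19, 20, 20, 25, 31, 27, 30, 29] [.out 2781]],
  .sub [3, 1, 3, 2, 3, 4, 1, 3, 1, 2, 3, 4] [.sub [19, 20, 27, 19, 31, 27, 20, 20, 20, 27, 29] [.out 4007]],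
  .sub [2, 1, 3, 2, 3, 4, 1, 3, 1, 2, 3, 4] [.out 4047],
  .sub [1, 2, 3, 2, 3, 4, 1, 3, 1, 2, 3, 4] [.sub [18, 20, 20, 25, 18, 27, 25, 31, 30, 27, 29, 29] [.out 3578]],
  .sub [4, 3, 1, 2, 3, 4, 1, 3, 1, 2, 3, 4] [.sub [20, 19, 27, 19, 24, 27, 27, 24, 27, 30, 29, 29] [.out 113]],
  .sub [1, 3, 1, 2, 3, 4, 1, 3, 1, 2, 3, 4] [.out 2759],
  .sub [2, 3, 1, 2, 3, 4, 1, 3, 1, 2, 3, 4] [.out 3878],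
  .sub [4, 3, 2, 3, 1, 4, 1, 3, 1, 2, 3, 4] [.out 1803],
  .sub [1, 3, 2, 3, 1, 4, 1, 3, 1, 2, 3, 4] [.sub [19, 24, 24, 19, 20, 24, 31, 24, 30, 29] [.out 569]],
  .sub [2, 3, 2, 3, 1, 4, 1, 3, 1, 2, 3, 4] [.sub [18, 20, 19, 19, 19, 20, 24, 27, 24, 30, 25] [.sub [30, 20, 20, 19, 18, 20, 20, 20, 27, 30, 29, 29] [.out 2386]]],
  .sub [3, 1, 2, 3, 1, 4, 1, 3, 1, 2, 3, 4] [.sub [27, 18, 18, 29, 18, 18, 27, 27, 24, 29, 25] [.out 3447]],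
  .sub [1, 4, 3, 2, 1, 4, 1, 3, 1, 2, 3, 4] [.sub [18, 19, 18, 18, 30, 29] [.out 2723]],
  .sub [3, 1, 3, 2, 1, 4, 1, 3, 1, 2, 3, 4] [.out 3913],
  .sub [3, 4, 1, 2, 1, 4, 1, 3, 1, 2, 3, 4] [.out 3634],
  .sub [4, 3, 1, 2, 1, 4, 1, 3, 1, 2, 3, 4] [.out 2468],
  .sub [1, 3, 1, 2, 1, 4, 1, 3, 1, 2, 3, 4] [.sub [24, 19, 18, 31, 29, 25, 20, 20, 27, 30, 29, 29] [.out 3587]],
  .sub [2, 3, 1, 2, 1, 4, 1, 3, 1, 2, 3, 4] [.out 1629],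
  .sub [4, 1, 4, 3, 2, 4, 1, 3, 1, 2, 3, 4] [.sub [19, 20, 31, 18, 19, 30, 25, 27, 24, 25, 29, 29] [.out 1210]],
  .sub [2, 1, 4, 3, 2, 4, 1, 3, 1, 2, 3, 4] [.sub [30, 31, 27, 18, 20, 31, 31, 25, 20, 27] [.out 2603]],
  .sub [3, 2, 4, 3, 2, 4, 1, 3, 1, 2, 3, 4] [.out 2902],
  .sub [3, 4, 1, 3, 2, 4, 1, 3, 1, 2, 3, 4] [.sub [24, 24, 18, 19, 31, 25, 24, 31, 27, 30, 29, 29] [.out 3655]],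
  .sub [1, 4, 1, 3, 2, 4, 1, 3, 1, 2, 3, 4] [.out 3895],
  .sub [2, 4, 1, 3, 2, 4, 1, 3, 1, 2, 3, 4] [.sub [20, 19, 27, 31, 19, 24, 31, 31, 30, 27, 29] [.out 164]],
  .sub [1, 3, 1, 3, 2, 4, 1, 3, 1, 2, 3, 4] [.out 3932]]

/-- Branches. -/
def kidsYPart28 : List Branch := [
  .sub [4, 1, 2, 3, 2, 4, 1, 3, 1, 2, 3, 4] [.out 4025],
  .sub [3, 1, 2, 3, 2, 4, 1, 3, 1, 2, 3, 4] [.out 2084],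
  .sub [4, 3, 4, 1, 2, 4, 1, 3, 1, 2, 3, 4] [.sub [20, 24, 18, 27, 24, 29, 31, 30, 25] [.sub [29, 18, 27, 27, 18, 27, 29, 20, 31, 20, 30, 25, 29, 29] [.out 2835]]],
  .sub [1, 4, 3, 1, 2, 4, 1, 3, 1, 2, 3, 4] [.sub [25, 18, 27, 18, 18, 18, 31, 25, 20, 30, 29] [.out 1228]],
  .sub [2, 4, 3, 1, 2, 4, 1, 3, 1, 2, 3, 4] [.sub [30, 20, 19, 31, 18, 18, 29, 31, 30, 20, 20, 27, 30, 29] [.out 210]],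
  .sub [2, 1, 3, 1, 2, 4, 1, 3, 1, 2, 3, 4] [.sub [19, 27, 19, 18, 27, 27, 24, 27, 24, 29, 29] [.out 682]],
  .sub [3, 2, 3, 1, 2, 4, 1, 3, 1, 2, 3, 4] [.out 1775],
  .sub [1, 2, 3, 1, 2, 4, 1, 3, 1, 2, 3, 4] [.sub [31, 24, 18, 31, 19, 18, 20, 29, 20, 24, 25, 29] [.out 3851]],
  .sub [1, 4, 1, 4, 3, 2, 1, 3, 1, 2, 3, 4] [.sub [29, 31, 18, 18, 31, 29, 20, 20, 30, 29] [.out 2390]],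
  .sub [2, 4, 1, 4, 3, 2, 1, 3, 1, 2, 3, 4] [.sub [29, 19, 31, 24, 18, 27, 29, 20, 20, 30] [.out 2062]],
  .sub [3, 2, 1, 4, 3, 2, 1, 3, 1, 2, 3, 4] [.sub [29, 18, 19, 18, 31, 20, 24, 30, 27, 29, 29] [.sub [25, 20, 18, 19, 27, 24, 27, 31, 30, 27, 29] [.out 3485]]],
  .sub [1, 2, 1, 4, 3, 2, 1, 3, 1, 2, 3, 4] [.sub [20, 31, 30, 18, 19, 27, 24, 25, 24, 20, 29, 25] [.sub [31, 24, 27, 19, 18, 30, 20, 30, 24, 20, 27, 30, 29, 29] [.out 2487]]],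
  .sub [4, 1, 2, 4, 3, 2, 1, 3, 1, 2, 3, 4] [.sub [19, 29, 18, 30, 31, 20, 30, 20, 27, 30, 29, 29] [.out 3621]],
  .sub [3, 1, 2, 4, 3, 2, 1, 3, 1, 2, 3, 4] [.sub [30, 18, 19, 24, 25, 24, 20, 20, 27, 29] [.out 3439]],
  .sub [4, 3, 4, 1, 3, 2, 1, 3, 1, 2, 3, 4] [.sub [29, 25, 20, 18, 20, 31, 29, 31, 24, 30] [.sub [19, 19, 27, 18, 19, 25, 31, 31, 27, 30, 29, 29] [.out 2942]]],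
  .sub [2, 3, 4, 1, 3, 2, 1, 3, 1, 2, 3, 4] [.sub [31, 27, 18, 18, 18, 18, 31, 27, 29, 20, 24, 29, 25, 29] [.sub [31, 31, 31, 19, 18, 29, 30, 24, 29] [.out 561]]],
  .sub [3, 1, 4, 1, 3, 2, 1, 3, 1, 2, 3, 4] [.out 3024],
  .sub [2, 1, 4, 1, 3, 2, 1, 3, 1, 2, 3, 4] [.sub [24, 18, 31, 18, 24, 27, 20, 20, 20] [.out 4035]],
  .sub [3, 2, 4, 1, 3, 2, 1, 3, 1, 2, 3, 4] [.sub [20, 30, 20, 24, 18, 20, 20, 20, 29] [.sub [18, 24, 18, 20, 24, 30, 20, 30, 27, 29] [.out 2584]]],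
  .sub [1, 2, 4, 1, 3, 2, 1, 3, 1, 2, 3, 4] [.out 4035],
  .sub [1, 4, 3, 1, 3, 2, 1, 3, 1, 2, 3, 4] [.sub [25, 27, 25, 18, 24, 31, 20, 20, 29, 25, 29] [.out 578]],
  .sub [2, 4, 3, 1, 3, 2, 1, 3, 1, 2, 3, 4] [.sub [27, 18, 18, 27, 19, 25, 24, 31, 29, 25, 29, 29] [.out 3312]],
  .sub [4, 1, 3, 1, 3, 2, 1, 3, 1, 2, 3, 4] [.sub [29, 18, 19, 18, 19, 30, 29, 31, 31, 25, 29] [.sub [19, 30, 20, 19, 18, 20, 30, 25, 31, 27, 30] [.out 3769]]],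
  .sub [4, 1, 2, 1, 3, 2, 1, 3, 1, 2, 3, 4] [.out 2886],
  .sub [1, 4, 1, 2, 3, 2, 1, 3, 1, 2, 3, 4] [.out 2479],
  .sub [1, 3, 1, 2, 3, 2, 1, 3, 1, 2, 3, 4] [.out 3553],
  .sub [4, 3, 1, 4, 1, 2, 1, 3, 1, 2, 3, 4] [.sub [29, 20, 18, 19, 31, 25, 31, 20, 27, 29] [.sub [24, 20, 24, 20, 18, 24, 25, 27, 31, 27, 30, 29] [.done 2]]],
  .sub [2, 3, 1, 4, 1, 2, 1, 3, 1, 2, 3, 4] [.sub [29, 30, 31, 18, 30, 27, 27, 31, 27, 30, 29, 29] [.out 525]],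
  .sub [3, 1, 4, 3, 1, 2, 1, 3, 1, 2, 3, 4] [.out 3518],
  .sub [1, 2, 4, 3, 1, 2, 1, 3, 1, 2, 3, 4] [.sub [24, 20, 31, 18, 27, 31, 29, 25, 29] [.out 2421]],
  .sub [1, 2, 1, 3, 1, 2, 1, 3, 1, 2, 3, 4] [.out 1588],
  .sub [4, 3, 2, 3, 1, 2, 1, 3, 1, 2, 3, 4] [.out 3990],
  .sub [1, 3, 2, 3, 1, 2, 1, 3, 1, 2, 3, 4] [.out 3913],
  .sub [4, 1, 2, 3, 1, 2, 1, 3, 1, 2, 3, 4] [.sub [20, 29, 30, 18, 19, 18, 29, 31, 27, 25, 31, 30, 29] [.out 3791]],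
  .sub [3, 1, 2, 3, 1, 2, 1, 3, 1, 2, 3, 4] [.sub [29, 19, 18, 25, 18, 18, 31, 20, 24, 31, 29, 25, 29] [.out 3323]],
  .sub [3, 2, 4, 1, 4, 3, 2, 3, 1, 2, 3, 4] [.out 2969],
  .sub [3, 2, 3, 1, 4, 3, 2, 3, 1, 2, 3, 4] [.sub [18, 20, 27, 18, 24, 25, 31, 24, 30, 27, 29] [.out 967]],
  .sub [1, 2, 3, 1, 4, 3, 2, 3, 1, 2, 3, 4] [.sub [31, 31, 18, 19, 18, 31, 30, 24, 29, 25, 29] [.out 617]],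
  .sub [4, 3, 2, 1, 4, 3, 2, 3, 1, 2, 3, 4] [.sub [19, 24, 24, 19, 18, 20, 27, 20, 31, 25] [.out 3328]],
  .sub [2, 3, 2, 1, 4, 3, 2, 3, 1, 2, 3, 4] [.sub [20, 19, 24, 19, 24, 24, 31, 24, 29, 25] [.sub [24, 19, 27, 18, 27, 30, 20, 20, 30, 25] [.out 3187]]],
  .sub [3, 1, 3, 4, 1, 3, 2, 3, 1, 2, 3, 4] [.sub [19, 31, 20, 19, 18, 29, 24, 25, 24, 20, 30, 25] [.sub [29, 18, 25, 19, 18, 30, 25, 27, 24, 30, 25, 29, 29] [.out 3734]]],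
  .sub [4, 3, 1, 4, 1, 3, 2, 3, 1, 2, 3, 4] [.out 2456],
  .sub [2, 3, 1, 4, 1, 3, 2, 3, 1, 2, 3, 4] [.sub [29, 25, 18, 18, 31, 30, 29, 31, 27, 29] [.out 3485]],
  .sub [3, 2, 1, 4, 1, 3, 2, 3, 1, 2, 3, 4] [.out 3703],
  .sub [1, 2, 1, 4, 1, 3, 2, 3, 1, 2, 3, 4] [.out 1272],
  .sub [4, 3, 2, 4, 1, 3, 2, 3, 1, 2, 3, 4] [.sub [18, 30, 25, 20, 18, 27, 20, 31, 30, 20, 30] [.out 1353]],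
  .sub [4, 1, 2, 4, 1, 3, 2, 3, 1, 2, 3, 4] [.out 3758],
  .sub [3, 1, 2, 4, 1, 3, 2, 3, 1, 2, 3, 4] [.out 3947],
  .sub [3, 2, 4, 3, 1, 3, 2, 3, 1, 2, 3, 4] [.sub [29, 25, 31, 20, 18, 30, 20, 20, 25] [.out 2282]],
  .sub [4, 3, 2, 3, 1, 3, 2, 3, 1, 2, 3, 4] [.sub [24, 19, 18, 31, 29, 25, 20, 20, 27, 30, 29, 29] [.out 3373]],
  .sub [2, 3, 2, 3, 1, 3, 2, 3, 1, 2, 3, 4] [.out 1272],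
  .sub [3, 1, 2, 3, 1, 3, 2, 3, 1, 2, 3, 4] [.sub [31, 27, 27, 19, 18, 27, 24, 31, 31, 29] [.sub [31, 31, 18, 19, 18, 24, 24, 27, 25, 20, 27, 29] [.bad [19, 20, 19, 18, 18, 18, 25, 24, 30, 20, 29, 29] 1]]],
  .sub [1, 4, 3, 2, 1, 3, 2, 3, 1, 2, 3, 4] [.out 3899],
  .sub [2, 4, 3, 2, 1, 3, 2, 3, 1, 2, 3, 4] [.out 4031],
  .sub [1, 3, 1, 4, 3, 1, 2, 3, 1, 2, 3, 4] [.sub [29, 19, 31, 24, 18, 27, 29, 20, 20, 30] [.out 1536]],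
  .sub [4, 3, 2, 4, 3, 1, 2, 3, 1, 2, 3, 4] [.sub [27, 18, 29, 18, 27, 31, 20, 20, 31, 30, 27] [.out 1884]],
  .sub [1, 3, 2, 4, 3, 1, 2, 3, 1, 2, 3, 4] [.sub [25, 20, 20, 18, 30, 20, 20, 24, 29] [.out 2273]],
  .sub [2, 3, 2, 4, 3, 1, 2, 3, 1, 2, 3, 4] [.sub [29, 31, 19, 18, 31, 25, 20, 31, 24, 27, 30, 29] [.out 2366]],
  .sub [3, 1, 2, 4, 3, 1, 2, 3, 1, 2, 3, 4] [.sub [24, 25, 31, 19, 24, 25, 24, 20, 25, 29, 29] [.out 3140]],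
  .sub [2, 1, 4, 1, 3, 1, 2, 3, 1, 2, 3, 4] [.out 1383],
  .sub [3, 2, 4, 1, 3, 1, 2, 3, 1, 2, 3, 4] [.out 3806],
  .sub [1, 2, 4, 1, 3, 1, 2, 3, 1, 2, 3, 4] [.sub [19, 20, 31, 18, 19, 30, 25, 27, 24, 25, 29, 29] [.out 1783]],
  .sub [4, 3, 2, 1, 3, 1, 2, 3, 1, 2, 3, 4] [.sub [19, 29, 18, 30, 31, 20, 30, 20, 27, 30, 29, 29] [.sub [18, 29, 18, 27, 24, 29, 20, 20, 30, 27, 29, 29] [.bad [27, 29, 19, 18, 31, 25, 20, 31, 30, 27] 1]]],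
  .sub [2, 3, 2, 1, 3, 1, 2, 3, 1, 2, 3, 4] [.out 1578]]

/-- Branches. -/
def kidsYPart29 : List Branch := [
  .sub [4, 1, 2, 1, 3, 1, 2, 3, 1, 2, 3, 4] [.sub [19, 19, 25, 18, 30, 27, 20, 20, 27, 30] [.out 1589]],
  .sub [3, 1, 2, 1, 3, 1, 2, 3, 1, 2, 3, 4] [.sub [24, 18, 25, 31, 19, 27, 20, 31, 30, 20, 30, 27] [.out 3993]],
  .sub [1, 4, 3, 2, 3, 1, 2, 3, 1, 2, 3, 4] [.sub [30, 20, 24, 18, 24, 29, 20, 20, 30, 27] [.out 1912]],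
  .sub [3, 1, 3, 2, 3, 1, 2, 3, 1, 2, 3, 4] [.out 3657],
  .sub [2, 1, 3, 2, 3, 1, 2, 3, 1, 2, 3, 4] [.sub [27, 27, 31, 19, 25, 24, 24, 20, 20, 27, 29, 29] [.out 386]],
  .sub [3, 4, 1, 2, 3, 1, 2, 3, 1, 2, 3, 4] [.sub [31, 30, 19, 19, 19, 24, 20, 27, 31, 29, 25, 29] [.sub [29, 25, 18, 18, 24, 30, 31, 24, 25, 29, 29] [.out 1826]]],
  .sub [4, 3, 1, 2, 3, 1, 2, 3, 1, 2, 3, 4] [.out 3353],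
  .sub [2, 3, 1, 2, 3, 1, 2, 3, 1, 2, 3, 4] [.out 2990],
  .sub [2, 4, 3, 2, 4, 3, 1, 2, 1, 4, 1, 3, 4] [.sub [18, 18, 30, 18, 18, 24, 20, 31, 29, 25, 29, 29] [.out 1619]],
  .sub [4, 1, 3, 2, 4, 3, 1, 2, 1, 4, 1, 3, 4] [.out 777],
  .sub [3, 1, 3, 2, 4, 3, 1, 2, 1, 4, 1, 3, 4] [.out 3695],
  .sub [2, 1, 3, 2, 4, 3, 1, 2, 1, 4, 1, 3, 4] [.sub [29, 30, 19, 19, 19, 20, 20, 29, 31, 29, 25] [.out 2304]],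
  .sub [1, 2, 3, 2, 4, 3, 1, 2, 1, 4, 1, 3, 4] [.sub [24, 27, 27, 25, 18, 20, 27, 30, 31, 30, 29] [.out 3309]],
  .sub [3, 4, 1, 2, 4, 3, 1, 2, 1, 4, 1, 3, 4] [.out 3971],
  .sub [1, 4, 1, 2, 4, 3, 1, 2, 1, 4, 1, 3, 4] [.out 4056],
  .sub [4, 3, 1, 2, 4, 3, 1, 2, 1, 4, 1, 3, 4] [.sub [25, 18, 19, 25, 18, 20, 31, 27, 20, 20, 27, 30] [.out 3058]],
  .sub [1, 3, 1, 2, 4, 3, 1, 2, 1, 4, 1, 3, 4] [.sub [31, 24, 24, 19, 18, 29, 24, 30, 25, 20, 27] [.sub [18, 29, 19, 25, 19, 20, 31, 30, 20, 20, 30, 25, 29] [.out 2841]]],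
  .sub [2, 3, 1, 2, 4, 3, 1, 2, 1, 4, 1, 3, 4] [.out 2983],
  .sub [4, 3, 2, 4, 1, 3, 1, 2, 1, 4, 1, 3, 4] [.sub [19, 18, 20, 29, 18, 18, 30, 29, 24, 20, 27, 30, 29, 29] [.out 2185]],
  .sub [1, 3, 2, 4, 1, 3, 1, 2, 1, 4, 1, 3, 4] [.sub [27, 20, 31, 20, 18, 27, 20, 24, 27] [.sub [19, 30, 20, 19, 18, 20, 24, 30, 31, 24] [.out 1316]]],
  .sub [2, 3, 2, 4, 1, 3, 1, 2, 1, 4, 1, 3, 4] [.sub [31, 29, 18, 18, 18, 18, 29, 24, 20, 27] [.sub [19, 30, 18, 19, 29, 25, 24, 30, 25, 29, 29] [.out 551]]],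
  .sub [3, 1, 2, 4, 1, 3, 1, 2, 1, 4, 1, 3, 4] [.sub [31, 25, 19, 24, 19, 18, 27, 24, 27, 31, 20, 30, 25] [.out 3966]],
  .sub [1, 4, 3, 2, 1, 3, 1, 2, 1, 4, 1, 3, 4] [.sub [18, 29, 19, 18, 31, 30, 29, 31, 30, 25, 29, 29] [.out 2130]],
  .sub [2, 4, 3, 2, 1, 3, 1, 2, 1, 4, 1, 3, 4] [.sub [29, 24, 29, 18, 18, 29, 31, 27, 24, 30, 27, 29] [.out 1378]],
  .sub [2, 1, 3, 2, 1, 3, 1, 2, 1, 4, 1, 3, 4] [.sub [18, 29, 19, 18, 31, 30, 29, 31, 30, 25, 29, 29] [.out 3849]],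
  .sub [1, 2, 3, 2, 1, 3, 1, 2, 1, 4, 1, 3, 4] [.out 328],
  .sub [3, 4, 1, 2, 1, 3, 1, 2, 1, 4, 1, 3, 4] [.out 2543],
  .sub [4, 3, 1, 2, 1, 3, 1, 2, 1, 4, 1, 3, 4] [.sub [24, 31, 19, 31, 18, 20, 20, 31, 30, 20, 30, 29] [.out 958]],
  .sub [1, 3, 1, 2, 1, 3, 1, 2, 1, 4, 1, 3, 4] [.out 1885],
  .sub [2, 3, 1, 2, 1, 3, 1, 2, 1, 4, 1, 3, 4] [.out 3280],
  .sub [4, 1, 4, 3, 2, 3, 1, 2, 1, 4, 1, 3, 4] [.sub [18, 31, 24, 20, 19, 31, 27, 20, 31, 20, 27, 30, 29, 29] [.sub [18, 30, 18, 18, 18, 18, 24, 29, 31, 31, 29] [.out 2688]]],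
  .sub [3, 1, 4, 3, 2, 3, 1, 2, 1, 4, 1, 3, 4] [.sub [19, 31, 19, 25, 18, 24, 24, 27, 25, 20, 30, 25, 29, 29] [.out 3144]],
  .sub [2, 1, 4, 3, 2, 3, 1, 2, 1, 4, 1, 3, 4] [.out 2307],
  .sub [3, 4, 1, 3, 2, 3, 1, 2, 1, 4, 1, 3, 4] [.out 2274],
  .sub [1, 4, 1, 3, 2, 3, 1, 2, 1, 4, 1, 3, 4] [.sub [30, 25, 18, 19, 18, 20, 20, 29, 31, 27, 30] [.out 646]],
  .sub [2, 4, 1, 3, 2, 3, 1, 2, 1, 4, 1, 3, 4] [.sub [20, 18, 27, 18, 31, 31, 24, 20, 27, 30, 29, 29] [.sub [24, 27, 18, 27, 19, 18, 30, 31, 20, 31, 30] [.out 556]]],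
  .sub [3, 2, 1, 3, 2, 3, 1, 2, 1, 4, 1, 3, 4] [.out 3290],
  .sub [3, 1, 4, 1, 2, 3, 1, 2, 1, 4, 1, 3, 4] [.sub [20, 31, 24, 18, 24, 29, 31, 30, 29, 29] [.out 2034]],
  .sub [2, 4, 3, 1, 2, 3, 1, 2, 1, 4, 1, 3, 4] [.sub [31, 25, 20, 25, 19, 18, 24, 27, 31, 29, 29] [.out 2429]],
  .sub [2, 1, 3, 1, 2, 3, 1, 2, 1, 4, 1, 3, 4] [.out 2893],
  .sub [3, 2, 3, 1, 2, 3, 1, 2, 1, 4, 1, 3, 4] [.out 1989],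
  .sub [1, 2, 3, 1, 2, 3, 1, 2, 1, 4, 1, 3, 4] [.sub [30, 20, 19, 31, 18, 31, 25, 20, 31, 20, 30, 25] [.out 1937]],
  .sub [3, 1, 2, 1, 4, 1, 4, 3, 2, 4, 1, 3, 4] [.out 3890],
  .sub [1, 4, 3, 2, 4, 1, 4, 3, 2, 4, 1, 3, 4] [.out 485],
  .sub [2, 4, 3, 2, 4, 1, 4, 3, 2, 4, 1, 3, 4] [.out 3865],
  .sub [4, 1, 3, 2, 4, 1, 4, 3, 2, 4, 1, 3, 4] [.out 634],
  .sub [3, 1, 3, 2, 4, 1, 4, 3, 2, 4, 1, 3, 4] [.sub [20, 19, 29, 30, 18, 18, 27, 24, 29, 31, 27, 30, 29] [.out 3039]],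
  .sub [2, 1, 3, 2, 4, 1, 4, 3, 2, 4, 1, 3, 4] [.sub [24, 19, 27, 19, 24, 20, 30, 31, 20, 27, 29] [.out 2821]],
  .sub [1, 2, 3, 2, 4, 1, 4, 3, 2, 4, 1, 3, 4] [.out 942],
  .sub [1, 3, 1, 2, 4, 1, 4, 3, 2, 4, 1, 3, 4] [.sub [25, 20, 20, 19, 18, 27, 30, 31, 24, 27, 30, 29, 29] [.out 3219]],
  .sub [4, 3, 2, 1, 3, 1, 4, 3, 2, 4, 1, 3, 4] [.out 3671],
  .sub [1, 3, 2, 1, 3, 1, 4, 3, 2, 4, 1, 3, 4] [.sub [30, 18, 27, 20, 18, 27, 31, 20, 20, 30, 25, 29] [.out 3423]],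
  .sub [2, 3, 2, 1, 3, 1, 4, 3, 2, 4, 1, 3, 4] [.sub [19, 31, 31, 18, 18, 29, 25, 24, 31, 20, 29, 25, 29] [.sub [27, 18, 19, 25, 18, 31, 31, 20, 24, 25] [.out 2657]]],
  .sub [3, 1, 2, 1, 3, 1, 4, 3, 2, 4, 1, 3, 4] [.out 1985],
  .sub [4, 1, 3, 2, 3, 1, 4, 3, 2, 4, 1, 3, 4] [.out 3909],
  .sub [3, 1, 3, 2, 3, 1, 4, 3, 2, 4, 1, 3, 4] [.out 3995],
  .sub [1, 4, 1, 2, 3, 1, 4, 3, 2, 4, 1, 3, 4] [.sub [31, 18, 27, 18, 31, 30, 20, 20, 27, 30, 29] [.out 2584]],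
  .sub [1, 3, 1, 2, 3, 1, 4, 3, 2, 4, 1, 3, 4] [.out 3244],
  .sub [3, 2, 4, 3, 2, 1, 4, 3, 2, 4, 1, 3, 4] [.sub [25, 31, 24, 19, 19, 18, 27, 24, 31, 27, 30, 29, 29] [.out 1780]],
  .sub [3, 4, 1, 3, 2, 1, 4, 3, 2, 4, 1, 3, 4] [.sub [19, 18, 31, 27, 29, 20, 24, 30, 27] [.out 2831]],
  .sub [4, 3, 1, 3, 2, 1, 4, 3, 2, 4, 1, 3, 4] [.out 2671],
  .sub [1, 3, 1, 3, 2, 1, 4, 3, 2, 4, 1, 3, 4] [.out 3584],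
  .sub [2, 3, 1, 3, 2, 1, 4, 3, 2, 4, 1, 3, 4] [.sub [31, 25, 20, 19, 24, 27, 30, 31, 27, 30] [.out 852]],
  .sub [2, 4, 3, 1, 2, 1, 4, 3, 2, 4, 1, 3, 4] [.out 2945]]

/-- Branches. -/
def kidsYPart30 : List Branch := [
  .sub [2, 1, 3, 1, 2, 1, 4, 3, 2, 4, 1, 3, 4] [.out 3199],
  .sub [3, 2, 3, 1, 2, 1, 4, 3, 2, 4, 1, 3, 4] [.out 4031],
  .sub [2, 3, 4, 1, 3, 2, 4, 3, 2, 4, 1, 3, 4] [.out 3086],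
  .sub [2, 4, 3, 1, 3, 2, 4, 3, 2, 4, 1, 3, 4] [.sub [18, 20, 24, 20, 18, 25, 31, 31, 20] [.out 1770]],
  .sub [4, 1, 3, 1, 3, 2, 4, 3, 2, 4, 1, 3, 4] [.out 1323],
  .sub [2, 1, 3, 1, 3, 2, 4, 3, 2, 4, 1, 3, 4] [.out 2601],
  .sub [1, 2, 3, 1, 3, 2, 4, 3, 2, 4, 1, 3, 4] [.sub [31, 29, 19, 19, 19, 29, 25, 20, 24, 29, 25] [.out 3391]],
  .sub [2, 1, 4, 3, 1, 2, 4, 3, 2, 4, 1, 3, 4] [.out 1299],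
  .sub [3, 2, 4, 3, 1, 2, 4, 3, 2, 4, 1, 3, 4] [.sub [18, 20, 31, 18, 19, 18, 20, 30, 29, 31, 20, 29, 25, 29, 29] [.sub [25, 18, 24, 24, 19, 31, 29, 20, 30, 20, 30, 29, 29] [.out 3650]]],
  .sub [1, 2, 4, 3, 1, 2, 4, 3, 2, 4, 1, 3, 4] [.out 2095],
  .sub [3, 4, 1, 3, 1, 2, 4, 3, 2, 4, 1, 3, 4] [.out 3321],
  .sub [1, 4, 1, 3, 1, 2, 4, 3, 2, 4, 1, 3, 4] [.out 3428],
  .sub [2, 4, 1, 3, 1, 2, 4, 3, 2, 4, 1, 3, 4] [.sub [31, 19, 25, 18, 18, 30, 25, 24, 31, 29, 25] [.sub [29, 19, 24, 20, 18, 27, 25, 20, 29] [.out 2942]]],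
  .sub [4, 3, 2, 3, 1, 2, 4, 3, 2, 4, 1, 3, 4] [.out 3278],
  .sub [4, 1, 2, 3, 1, 2, 4, 3, 2, 4, 1, 3, 4] [.sub [24, 19, 18, 19, 18, 31, 20, 25, 20, 30] [.sub [29, 18, 25, 18, 30, 29, 31, 20, 30] [.out 2123]]],
  .sub [3, 1, 2, 3, 1, 2, 4, 3, 2, 4, 1, 3, 4] [.sub [20, 20, 24, 18, 18, 27, 31, 25, 20, 29, 29] [.out 690]],
  .sub [4, 1, 2, 4, 3, 4, 1, 3, 2, 4, 1, 3, 4] [.sub [29, 25, 31, 20, 18, 25, 20, 30, 20, 27, 29] [.out 605]],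
  .sub [3, 1, 2, 4, 3, 4, 1, 3, 2, 4, 1, 3, 4] [.sub [20, 19, 31, 27, 18, 18, 31, 24, 29, 24, 30, 29, 29] [.out 3630]],
  .sub [2, 3, 4, 1, 3, 4, 1, 3, 2, 4, 1, 3, 4] [.sub [20, 18, 20, 19, 18, 20, 30, 25, 31, 31] [.out 2989]],
  .sub [3, 2, 4, 1, 3, 4, 1, 3, 2, 4, 1, 3, 4] [.out 3425],
  .sub [1, 2, 4, 1, 3, 4, 1, 3, 2, 4, 1, 3, 4] [.out 4031],
  .sub [4, 3, 2, 1, 3, 4, 1, 3, 2, 4, 1, 3, 4] [.sub [24, 19, 18, 19, 29, 31, 25, 31, 20, 30, 25] [.out 2160]],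
  .sub [1, 3, 2, 1, 3, 4, 1, 3, 2, 4, 1, 3, 4] [.sub [24, 19, 24, 18, 19, 24, 27, 27, 31, 25] [.out 665]],
  .sub [2, 3, 2, 1, 3, 4, 1, 3, 2, 4, 1, 3, 4] [.sub [24, 19, 25, 19, 18, 31, 25, 27, 24, 30, 27, 29, 29] [.out 3909]],
  .sub [4, 1, 2, 1, 3, 4, 1, 3, 2, 4, 1, 3, 4] [.sub [30, 20, 19, 31, 18, 18, 30, 24, 24, 31, 29, 25, 29] [.out 1816]],
  .sub [3, 1, 2, 1, 3, 4, 1, 3, 2, 4, 1, 3, 4] [.out 2062],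
  .sub [1, 4, 3, 2, 3, 4, 1, 3, 2, 4, 1, 3, 4] [.out 3045],
  .sub [2, 4, 3, 2, 3, 4, 1, 3, 2, 4, 1, 3, 4] [.out 3942],
  .sub [4, 1, 3, 2, 3, 4, 1, 3, 2, 4, 1, 3, 4] [.out 2838],
  .sub [3, 1, 3, 2, 3, 4, 1, 3, 2, 4, 1, 3, 4] [.sub [20, 18, 31, 24, 18, 24, 31, 25, 24, 30, 25, 29, 29] [.out 1755]],
  .sub [2, 1, 3, 2, 3, 4, 1, 3, 2, 4, 1, 3, 4] [.sub [30, 18, 20, 19, 18, 24, 20, 20, 31, 30, 27, 29] [.out 1048]],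
  .sub [1, 2, 3, 2, 3, 4, 1, 3, 2, 4, 1, 3, 4] [.sub [30, 24, 27, 19, 29, 20, 24, 29, 29] [.out 1901]],
  .sub [1, 4, 1, 2, 3, 4, 1, 3, 2, 4, 1, 3, 4] [.out 2219],
  .sub [1, 3, 1, 2, 3, 4, 1, 3, 2, 4, 1, 3, 4] [.sub [19, 25, 31, 25, 19, 27, 31, 20, 29, 24, 27, 30, 29] [.out 3443]],
  .sub [2, 3, 1, 2, 3, 4, 1, 3, 2, 4, 1, 3, 4] [.sub [19, 30, 31, 19, 29, 31, 30, 20, 24, 30, 29, 29] [.out 1589]],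
  .sub [4, 3, 1, 2, 1, 4, 1, 3, 2, 4, 1, 3, 4] [.out 3628],
  .sub [1, 3, 1, 2, 1, 4, 1, 3, 2, 4, 1, 3, 4] [.out 1630],
  .sub [2, 3, 1, 2, 1, 4, 1, 3, 2, 4, 1, 3, 4] [.sub [30, 24, 18, 20, 18, 25, 24, 27, 31, 30, 29] [.sub [19, 31, 19, 24, 18, 31, 29, 30, 24, 30, 29] [.out 1458]]],
  .sub [3, 2, 4, 3, 2, 4, 1, 3, 2, 4, 1, 3, 4] [.sub [20, 19, 19, 19, 29, 24, 30, 25, 20, 27, 30, 29] [.out 2810]],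
  .sub [3, 4, 1, 3, 2, 4, 1, 3, 2, 4, 1, 3, 4] [.sub [18, 18, 29, 25, 19, 18, 29, 31, 20, 30, 29, 29] [.out 3577]],
  .sub [4, 3, 1, 3, 2, 4, 1, 3, 2, 4, 1, 3, 4] [.out 958],
  .sub [2, 3, 1, 3, 2, 4, 1, 3, 2, 4, 1, 3, 4] [.sub [27, 29, 18, 19, 18, 20, 25, 20, 20, 25] [.out 140]],
  .sub [1, 4, 3, 1, 2, 4, 1, 3, 2, 4, 1, 3, 4] [.sub [29, 25, 18, 29, 18, 24, 20, 24, 27] [.out 3380]],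
  .sub [2, 4, 3, 1, 2, 4, 1, 3, 2, 4, 1, 3, 4] [.out 2902],
  .sub [3, 2, 3, 1, 2, 4, 1, 3, 2, 4, 1, 3, 4] [.out 2836],
  .sub [2, 4, 3, 2, 4, 3, 1, 3, 2, 4, 1, 3, 4] [.out 1937],
  .sub [3, 4, 1, 2, 4, 3, 1, 3, 2, 4, 1, 3, 4] [.sub [24, 18, 20, 18, 27, 29, 31, 27, 30, 29, 29] [.out 2715]],
  .sub [1, 4, 1, 2, 4, 3, 1, 3, 2, 4, 1, 3, 4] [.out 1885],
  .sub [4, 3, 2, 4, 1, 3, 1, 3, 2, 4, 1, 3, 4] [.out 2274],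
  .sub [4, 1, 2, 4, 1, 3, 1, 3, 2, 4, 1, 3, 4] [.sub [31, 24, 25, 18, 19, 25, 20, 31, 24, 30, 27, 29] [.out 3642]],
  .sub [1, 2, 3, 2, 1, 3, 1, 3, 2, 4, 1, 3, 4] [.out 1663],
  .sub [1, 4, 1, 2, 1, 3, 1, 3, 2, 4, 1, 3, 4] [.sub [20, 19, 19, 24, 18, 18, 24, 24, 20, 24, 20, 29, 25, 29] [.out 3795]],
  .sub [4, 1, 4, 3, 2, 3, 1, 3, 2, 4, 1, 3, 4] [.out 3519],
  .sub [3, 1, 4, 3, 2, 3, 1, 3, 2, 4, 1, 3, 4] [.sub [20, 19, 27, 19, 18, 30, 29, 31, 27, 30] [.out 2159]],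
  .sub [2, 1, 4, 3, 2, 3, 1, 3, 2, 4, 1, 3, 4] [.sub [20, 30, 31, 19, 24, 30, 31, 30] [.out 2802]],
  .sub [3, 4, 1, 3, 2, 3, 1, 3, 2, 4, 1, 3, 4] [.sub [25, 18, 19, 20, 18, 30, 24, 24, 31, 27, 30] [.out 3148]],
  .sub [1, 4, 1, 3, 2, 3, 1, 3, 2, 4, 1, 3, 4] [.out 944],
  .sub [2, 4, 1, 3, 2, 3, 1, 3, 2, 4, 1, 3, 4] [.sub [24, 19, 20, 24, 18, 27, 24, 27, 29] [.out 1438]],
  .sub [4, 3, 1, 3, 2, 3, 1, 3, 2, 4, 1, 3, 4] [.out 2834],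
  .sub [1, 3, 1, 3, 2, 3, 1, 3, 2, 4, 1, 3, 4] [.out 3751],
  .sub [2, 3, 1, 3, 2, 3, 1, 3, 2, 4, 1, 3, 4] [.sub [31, 20, 30, 31, 18, 25, 24, 31, 31, 30, 29] [.out 2727]],
  .sub [3, 2, 1, 3, 2, 3, 1, 3, 2, 4, 1, 3, 4] [.out 3568],
  .sub [3, 1, 4, 1, 2, 3, 1, 3, 2, 4, 1, 3, 4] [.out 3421],
  .sub [2, 1, 4, 1, 2, 3, 1, 3, 2, 4, 1, 3, 4] [.out 2236]]

/-- Branches. -/
def kidsYPart31 : List Branch := [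
  .sub [1, 4, 3, 1, 2, 3, 1, 3, 2, 4, 1, 3, 4] [.out 2904],
  .sub [2, 4, 3, 1, 2, 3, 1, 3, 2, 4, 1, 3, 4] [.sub [29, 18, 18, 19, 24, 31, 29, 24, 29, 29] [.out 4012]],
  .sub [4, 1, 3, 1, 2, 3, 1, 3, 2, 4, 1, 3, 4] [.out 2413],
  .sub [1, 2, 3, 1, 2, 3, 1, 3, 2, 4, 1, 3, 4] [.sub [19, 20, 19, 19, 18, 25, 20, 20, 20, 20, 30] [.out 1509]],
  .sub [1, 4, 1, 4, 3, 2, 1, 3, 2, 4, 1, 3, 4] [.sub [20, 24, 19, 18, 24, 24, 31, 31, 29, 25, 29] [.out 2751]],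
  .sub [2, 4, 1, 4, 3, 2, 1, 3, 2, 4, 1, 3, 4] [.sub [19, 30, 20, 18, 18, 20, 27, 30, 31, 25] [.out 1443]],
  .sub [3, 2, 1, 4, 3, 2, 1, 3, 2, 4, 1, 3, 4] [.sub [24, 30, 19, 20, 20, 18, 20, 30, 25, 27, 24, 29] [.out 799]],
  .sub [1, 2, 1, 4, 3, 2, 1, 3, 2, 4, 1, 3, 4] [.sub [24, 18, 27, 19, 31, 30, 29, 24, 20, 29, 25] [.sub [19, 31, 20, 19, 31, 27, 20, 20, 20, 25] [.out 1714]]],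
  .sub [1, 3, 2, 4, 3, 2, 1, 3, 2, 4, 1, 3, 4] [.out 1113],
  .sub [2, 3, 2, 4, 3, 2, 1, 3, 2, 4, 1, 3, 4] [.sub [20, 20, 18, 24, 27, 24, 20, 30, 27, 29, 29] [.out 3906]],
  .sub [3, 1, 2, 4, 3, 2, 1, 3, 2, 4, 1, 3, 4] [.sub [30, 20, 24, 18, 19, 27, 24, 30, 20, 30, 27, 29, 29] [.out 2711]],
  .sub [2, 3, 4, 1, 3, 2, 1, 3, 2, 4, 1, 3, 4] [.sub [24, 20, 18, 18, 18, 31, 30, 20, 27, 30, 29] [.out 3144]],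
  .sub [3, 1, 4, 1, 3, 2, 1, 3, 2, 4, 1, 3, 4] [.sub [18, 20, 25, 18, 27, 29, 25, 24, 27, 30, 29] [.sub [20, 18, 19, 27, 31, 25, 20, 20, 30, 27] [.done 24]]],
  .sub [2, 1, 4, 3, 1, 2, 1, 3, 2, 4, 1, 3, 4] [.out 3895],
  .sub [3, 2, 4, 3, 1, 2, 1, 3, 2, 4, 1, 3, 4] [.out 3483],
  .sub [1, 2, 4, 3, 1, 2, 1, 3, 2, 4, 1, 3, 4] [.out 3343],
  .sub [4, 3, 2, 3, 1, 2, 1, 3, 2, 4, 1, 3, 4] [.sub [24, 18, 19, 27, 18, 20, 31, 24, 20, 20, 30, 27, 29] [.out 2582]],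
  .sub [1, 3, 2, 3, 1, 2, 1, 3, 2, 4, 1, 3, 4] [.sub [24, 29, 24, 19, 18, 25, 27, 25, 24, 27, 30] [.out 1451]],
  .sub [4, 1, 2, 3, 1, 2, 1, 3, 2, 4, 1, 3, 4] [.out 4057],
  .sub [3, 1, 2, 3, 1, 2, 1, 3, 2, 4, 1, 3, 4] [.out 2244],
  .sub [4, 3, 2, 4, 3, 1, 2, 3, 2, 4, 1, 3, 4] [.out 2456],
  .sub [1, 3, 2, 4, 3, 1, 2, 3, 2, 4, 1, 3, 4] [.sub [31, 24, 18, 29, 31, 30, 20, 30, 25] [.out 3806]],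
  .sub [2, 3, 2, 4, 3, 1, 2, 3, 2, 4, 1, 3, 4] [.sub [27, 27, 19, 20, 18, 31, 27, 24, 25] [.out 1329]],
  .sub [4, 1, 2, 4, 3, 1, 2, 3, 2, 4, 1, 3, 4] [.sub [19, 19, 30, 18, 19, 24, 20, 27, 24, 27] [.out 1129]],
  .sub [3, 1, 2, 4, 3, 1, 2, 3, 2, 4, 1, 3, 4] [.sub [27, 19, 25, 18, 18, 30, 31, 20, 25, 20, 27, 29] [.sub [29, 18, 31, 18, 18, 24, 31, 31, 27, 30, 29] [.out 213]]],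
  .sub [1, 3, 4, 1, 3, 1, 2, 3, 2, 4, 1, 3, 4] [.out 3575],
  .sub [3, 2, 4, 1, 3, 1, 2, 3, 2, 4, 1, 3, 4] [.sub [24, 25, 19, 29, 31, 31, 30, 27] [.out 1961]],
  .sub [1, 2, 4, 1, 3, 1, 2, 3, 2, 4, 1, 3, 4] [.sub [30, 19, 27, 18, 18, 18, 29, 20, 24, 20, 20, 30, 27] [.out 657]],
  .sub [4, 1, 2, 1, 3, 1, 2, 3, 2, 4, 1, 3, 4] [.sub [20, 24, 19, 19, 19, 24, 20, 30, 20, 30] [.out 1425]],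
  .sub [3, 1, 3, 2, 3, 1, 2, 3, 2, 4, 1, 3, 4] [.sub [19, 29, 31, 25, 18, 31, 20, 24, 31, 30, 25] [.out 2441]],
  .sub [2, 1, 3, 2, 3, 1, 2, 3, 2, 4, 1, 3, 4] [.sub [29, 24, 19, 19, 18, 25, 31, 20, 29, 29] [.out 3078]],
  .sub [1, 4, 1, 2, 3, 1, 2, 3, 2, 4, 1, 3, 4] [.out 3794],
  .sub [1, 4, 3, 2, 1, 4, 3, 1, 2, 4, 1, 3, 4] [.out 3016],
  .sub [3, 1, 3, 2, 1, 4, 3, 1, 2, 4, 1, 3, 4] [.sub [19, 18, 29, 24, 18, 30, 24, 30, 25, 20, 30, 25] [.out 2934]],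
  .sub [4, 3, 1, 2, 1, 4, 3, 1, 2, 4, 1, 3, 4] [.sub [27, 18, 20, 24, 18, 24, 31, 24, 27] [.sub [25, 19, 24, 24, 19, 31, 20, 24, 30, 25] [.out 2989]]],
  .sub [1, 3, 1, 2, 1, 4, 3, 1, 2, 4, 1, 3, 4] [.out 3878],
  .sub [4, 1, 4, 3, 2, 4, 3, 1, 2, 4, 1, 3, 4] [.sub [25, 19, 25, 18, 19, 30, 20, 27, 31, 30, 25, 29, 29] [.out 1054]],
  .sub [2, 1, 4, 3, 2, 4, 3, 1, 2, 4, 1, 3, 4] [.out 3475],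
  .sub [3, 2, 4, 3, 2, 4, 3, 1, 2, 4, 1, 3, 4] [.out 3906],
  .sub [1, 2, 4, 3, 2, 4, 3, 1, 2, 4, 1, 3, 4] [.out 4045],
  .sub [1, 4, 1, 3, 2, 4, 3, 1, 2, 4, 1, 3, 4] [.sub [19, 19, 29, 20, 18, 27, 31, 25, 31, 30, 29] [.out 1447]],
  .sub [2, 4, 1, 3, 2, 4, 3, 1, 2, 4, 1, 3, 4] [.out 3712],
  .sub [3, 2, 1, 3, 2, 4, 3, 1, 2, 4, 1, 3, 4] [.out 2534],
  .sub [1, 2, 1, 3, 2, 4, 3, 1, 2, 4, 1, 3, 4] [.out 3847],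
  .sub [4, 1, 2, 3, 2, 4, 3, 1, 2, 4, 1, 3, 4] [.sub [31, 19, 24, 31, 18, 27, 20, 24, 27, 29, 29] [.out 2538]],
  .sub [3, 1, 2, 3, 2, 4, 3, 1, 2, 4, 1, 3, 4] [.sub [18, 19, 20, 24, 18, 18, 24, 30, 31, 30, 25, 29] [.out 2682]],
  .sub [4, 3, 4, 1, 2, 4, 3, 1, 2, 4, 1, 3, 4] [.sub [20, 19, 24, 24, 18, 24, 25, 24, 20, 29, 25, 29] [.out 1153]],
  .sub [2, 3, 4, 1, 2, 4, 3, 1, 2, 4, 1, 3, 4] [.out 3626],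
  .sub [3, 1, 4, 1, 2, 4, 3, 1, 2, 4, 1, 3, 4] [.sub [24, 19, 18, 31, 29, 25, 20, 20, 27, 30, 29, 29] [.out 3323]],
  .sub [1, 4, 3, 1, 2, 4, 3, 1, 2, 4, 1, 3, 4] [.out 3018],
  .sub [2, 4, 3, 1, 2, 4, 3, 1, 2, 4, 1, 3, 4] [.sub [19, 24, 18, 29, 31, 30, 20, 20, 29, 25, 29, 29] [.out 3225]],
  .sub [3, 2, 3, 1, 2, 4, 3, 1, 2, 4, 1, 3, 4] [.out 4025],
  .sub [3, 2, 1, 3, 4, 1, 3, 1, 2, 4, 1, 3, 4] [.sub [19, 20, 19, 18, 24, 20, 20, 29, 25, 29] [.out 882]],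
  .sub [3, 2, 3, 1, 4, 1, 3, 1, 2, 4, 1, 3, 4] [.sub [24, 31, 24, 18, 18, 27, 25, 31, 20, 27, 30] [.out 931]],
  .sub [4, 3, 2, 1, 4, 1, 3, 1, 2, 4, 1, 3, 4] [.sub [18, 20, 29, 18, 31, 31, 27, 20, 20, 27, 29] [.out 3579]],
  .sub [1, 3, 2, 1, 4, 1, 3, 1, 2, 4, 1, 3, 4] [.sub [31, 20, 19, 19, 27, 25, 24, 31, 20] [.out 3422]],
  .sub [2, 3, 2, 1, 4, 1, 3, 1, 2, 4, 1, 3, 4] [.out 3564],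
  .sub [3, 1, 2, 1, 4, 1, 3, 1, 2, 4, 1, 3, 4] [.sub [24, 29, 19, 20, 19, 31, 30, 27, 31, 30] [.sub [20, 19, 24, 24, 18, 27, 30, 27, 31, 20, 30, 27, 29, 29] [.out 1877]]],
  .sub [1, 4, 3, 2, 4, 1, 3, 1, 2, 4, 1, 3, 4] [.out 3636],
  .sub [2, 1, 3, 2, 4, 1, 3, 1, 2, 4, 1, 3, 4] [.sub [20, 18, 25, 20, 19, 31, 31, 20, 24] [.out 3408]],
  .sub [3, 4, 1, 2, 4, 1, 3, 1, 2, 4, 1, 3, 4] [.out 3439],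
  .sub [1, 4, 1, 2, 4, 1, 3, 1, 2, 4, 1, 3, 4] [.sub [31, 18, 18, 19, 29, 31, 20, 24, 30, 25, 29] [.out 2080]],
  .sub [4, 3, 1, 2, 4, 1, 3, 1, 2, 4, 1, 3, 4] [.sub [25, 18, 30, 20, 18, 30, 29, 24, 31, 29, 25, 29, 29] [.out 3138]],
  .sub [1, 3, 1, 2, 4, 1, 3, 1, 2, 4, 1, 3, 4] [.sub [31, 29, 19, 19, 18, 20, 20, 24, 30] [.out 2779]]]

/-- Branches. -/
def kidsYPart32 : List Branch := [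
  .sub [4, 1, 4, 3, 2, 1, 3, 1, 2, 4, 1, 3, 4] [.sub [19, 19, 27, 18, 24, 20, 29, 31, 20, 27, 29] [.out 3985]],
  .sub [3, 1, 4, 3, 2, 1, 3, 1, 2, 4, 1, 3, 4] [.out 3248],
  .sub [2, 1, 4, 3, 2, 1, 3, 1, 2, 4, 1, 3, 4] [.sub [27, 18, 31, 24, 19, 25, 27, 30, 20, 27, 30, 29] [.out 3225]],
  .sub [3, 2, 4, 3, 2, 1, 3, 1, 2, 4, 1, 3, 4] [.out 3365],
  .sub [1, 2, 4, 3, 2, 1, 3, 1, 2, 4, 1, 3, 4] [.sub [31, 20, 25, 18, 20, 27, 24, 20, 20, 30, 29, 29] [.out 2705]],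
  .sub [3, 4, 1, 3, 2, 1, 3, 1, 2, 4, 1, 3, 4] [.out 2996],
  .sub [1, 4, 1, 3, 2, 1, 3, 1, 2, 4, 1, 3, 4] [.out 2481],
  .sub [2, 4, 1, 3, 2, 1, 3, 1, 2, 4, 1, 3, 4] [.sub [29, 24, 18, 18, 19, 29, 31, 25, 20, 20, 30, 27, 29, 29] [.out 2983]],
  .sub [4, 3, 1, 3, 2, 1, 3, 1, 2, 4, 1, 3, 4] [.out 3545],
  .sub [1, 3, 1, 3, 2, 1, 3, 1, 2, 4, 1, 3, 4] [.out 3496],
  .sub [2, 3, 1, 3, 2, 1, 3, 1, 2, 4, 1, 3, 4] [.sub [18, 24, 25, 20, 18, 29, 20, 31, 20, 24, 30, 27, 29] [.out 3147]],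
  .sub [3, 2, 1, 3, 2, 1, 3, 1, 2, 4, 1, 3, 4] [.sub [20, 29, 20, 18, 18, 31, 31, 20, 31, 27] [.out 3132]],
  .sub [1, 2, 1, 3, 2, 1, 3, 1, 2, 4, 1, 3, 4] [.sub [30, 18, 18, 24, 20, 20, 30, 25] [.out 3022]],
  .sub [4, 1, 2, 3, 2, 1, 3, 1, 2, 4, 1, 3, 4] [.sub [19, 18, 18, 19, 30, 27, 20, 31, 27, 30] [.out 1129]],
  .sub [4, 3, 4, 1, 2, 1, 3, 1, 2, 4, 1, 3, 4] [.out 3923],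
  .sub [2, 3, 4, 1, 2, 1, 3, 1, 2, 4, 1, 3, 4] [.sub [18, 29, 31, 25, 18, 29, 24, 27, 24, 27, 29, 29] [.out 1145]],
  .sub [2, 1, 4, 1, 2, 1, 3, 1, 2, 4, 1, 3, 4] [.out 3819],
  .sub [1, 4, 3, 1, 2, 1, 3, 1, 2, 4, 1, 3, 4] [.out 3617],
  .sub [4, 1, 3, 1, 2, 1, 3, 1, 2, 4, 1, 3, 4] [.sub [27, 19, 19, 25, 18, 18, 31, 30, 31, 31, 27, 30, 29, 29] [.out 2451]],
  .sub [2, 1, 3, 1, 2, 1, 3, 1, 2, 4, 1, 3, 4] [.out 940],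
  .sub [1, 3, 4, 1, 3, 2, 3, 1, 2, 4, 1, 3, 4] [.sub [27, 18, 19, 19, 18, 29, 24, 27, 27, 24, 30, 27, 29] [.sub [18, 30, 25, 18, 18, 30, 27, 24, 30, 25, 29, 29] [.done 23]]],
  .sub [3, 1, 4, 1, 3, 2, 3, 1, 2, 4, 1, 3, 4] [.sub [19, 20, 29, 18, 29, 31, 30, 20, 27, 30, 29, 29] [.out 1091]],
  .sub [2, 1, 4, 1, 3, 2, 3, 1, 2, 4, 1, 3, 4] [.sub [25, 24, 20, 19, 18, 27, 27, 31, 30, 20, 27, 30] [.sub [30, 25, 18, 18, 18, 24, 24, 27, 20, 24, 27, 29] [.out 791]]],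
  .sub [1, 2, 4, 1, 3, 2, 3, 1, 2, 4, 1, 3, 4] [.sub [19, 18, 18, 18, 18, 25, 31, 24, 20] [.out 2130]],
  .sub [1, 3, 2, 1, 3, 2, 3, 1, 2, 4, 1, 3, 4] [.out 2013],
  .sub [2, 3, 2, 1, 3, 2, 3, 1, 2, 4, 1, 3, 4] [.out 3758],
  .sub [2, 1, 3, 4, 1, 2, 3, 1, 2, 4, 1, 3, 4] [.sub [31, 31, 18, 19, 18, 29, 31, 24, 29, 25, 29] [.out 1835]],
  .sub [4, 3, 1, 4, 1, 2, 3, 1, 2, 4, 1, 3, 4] [.sub [18, 18, 25, 18, 27, 29, 20, 31, 20, 27] [.out 2883]],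
  .sub [1, 3, 1, 4, 1, 2, 3, 1, 2, 4, 1, 3, 4] [.sub [31, 27, 19, 20, 20, 20, 25, 29] [.sub [29, 20, 18, 27, 19, 24, 25, 31, 25, 29, 29] [.done 27]]],
  .sub [2, 3, 1, 4, 1, 2, 3, 1, 2, 4, 1, 3, 4] [.out 3048],
  .sub [4, 1, 4, 3, 2, 1, 4, 3, 2, 3, 1, 3, 4] [.sub [19, 29, 25, 19, 18, 24, 29, 20, 20, 29, 25] [.out 1786]],
  .sub [3, 1, 4, 3, 2, 1, 4, 3, 2, 3, 1, 3, 4] [.out 3306],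
  .sub [2, 1, 4, 3, 2, 1, 4, 3, 2, 3, 1, 3, 4] [.out 3896],
  .sub [3, 2, 4, 3, 2, 1, 4, 3, 2, 3, 1, 3, 4] [.sub [31, 19, 25, 19, 29, 20, 24, 30, 25, 29] [.out 589]],
  .sub [3, 4, 1, 3, 2, 1, 4, 3, 2, 3, 1, 3, 4] [.out 3696],
  .sub [2, 4, 1, 3, 2, 1, 4, 3, 2, 3, 1, 3, 4] [.out 3514],
  .sub [4, 3, 1, 3, 2, 1, 4, 3, 2, 3, 1, 3, 4] [.out 3553],
  .sub [3, 2, 1, 3, 2, 1, 4, 3, 2, 3, 1, 3, 4] [.sub [31, 24, 29, 18, 29, 24, 27, 24, 30, 27] [.out 652]],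
  .sub [1, 3, 4, 1, 3, 2, 4, 3, 2, 3, 1, 3, 4] [.sub [25, 20, 18, 19, 31, 27, 24, 30, 27] [.sub [29, 18, 31, 19, 18, 20, 30, 25, 31, 31, 30, 27] [.out 3738]]],
  .sub [2, 3, 4, 1, 3, 2, 4, 3, 2, 3, 1, 3, 4] [.sub [27, 18, 19, 19, 18, 29, 24, 27, 27, 24, 30, 27, 29] [.sub [19, 31, 19, 24, 18, 27, 29, 25, 24, 27, 30, 29, 29] [.out 3637]]],
  .sub [2, 4, 3, 1, 3, 2, 4, 3, 2, 3, 1, 3, 4] [.sub [29, 20, 19, 25, 18, 18, 24, 24, 20, 24, 20, 29, 29] [.sub [31, 24, 19, 18, 20, 30, 24, 31, 29, 25] [.out 1568]]],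
  .sub [3, 2, 3, 1, 3, 2, 4, 3, 2, 3, 1, 3, 4] [.out 3815],
  .sub [2, 3, 2, 1, 3, 2, 4, 3, 2, 3, 1, 3, 4] [.out 3464],
  .sub [3, 1, 2, 1, 3, 2, 4, 3, 2, 3, 1, 3, 4] [.sub [19, 27, 18, 18, 31, 31, 31, 31, 24, 30, 25] [.out 2444]],
  .sub [4, 3, 1, 2, 3, 2, 4, 3, 2, 3, 1, 3, 4] [.out 3170],
  .sub [4, 3, 2, 4, 3, 4, 1, 3, 2, 3, 1, 3, 4] [.out 3681],
  .sub [1, 3, 2, 4, 3, 4, 1, 3, 2, 3, 1, 3, 4] [.sub [18, 24, 19, 20, 18, 18, 29, 31, 27, 25, 31, 30, 25] [.out 3692]],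
  .sub [2, 3, 2, 4, 3, 4, 1, 3, 2, 3, 1, 3, 4] [.sub [30, 19, 27, 19, 31, 20, 27, 24, 30, 25, 29, 29] [.out 1255]],
  .sub [4, 1, 2, 4, 3, 4, 1, 3, 2, 3, 1, 3, 4] [.sub [19, 31, 24, 18, 19, 29, 30, 20, 30, 20, 29, 25, 29, 29] [.out 2122]],
  .sub [3, 1, 2, 4, 3, 4, 1, 3, 2, 3, 1, 3, 4] [.sub [29, 19, 19, 24, 18, 24, 27, 27, 31, 27, 29, 29] [.out 749]],
  .sub [2, 4, 3, 2, 3, 4, 1, 3, 2, 3, 1, 3, 4] [.out 3599],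
  .sub [4, 1, 3, 2, 3, 4, 1, 3, 2, 3, 1, 3, 4] [.out 3234],
  .sub [2, 1, 3, 2, 3, 4, 1, 3, 2, 3, 1, 3, 4] [.sub [27, 18, 19, 19, 18, 29, 24, 27, 27, 24, 30, 27, 29] [.out 521]],
  .sub [1, 2, 3, 2, 3, 4, 1, 3, 2, 3, 1, 3, 4] [.out 2362],
  .sub [3, 4, 1, 2, 3, 4, 1, 3, 2, 3, 1, 3, 4] [.sub [18, 25, 19, 18, 24, 20, 27, 31, 29, 25, 29, 29] [.out 3896]],
  .sub [1, 4, 1, 2, 3, 4, 1, 3, 2, 3, 1, 3, 4] [.out 1985],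
  .sub [4, 3, 1, 2, 3, 4, 1, 3, 2, 3, 1, 3, 4] [.out 2167],
  .sub [1, 3, 1, 2, 3, 4, 1, 3, 2, 3, 1, 3, 4] [.sub [19, 18, 19, 31, 18, 20, 30, 24, 31] [.sub [25, 19, 19, 19, 18, 24, 29, 24, 20, 30, 25, 29, 29] [.out 3804]]],
  .sub [2, 3, 1, 2, 3, 4, 1, 3, 2, 3, 1, 3, 4] [.out 1102],
  .sub [4, 3, 1, 2, 1, 4, 1, 3, 2, 3, 1, 3, 4] [.sub [18, 30, 25, 20, 18, 30, 31, 20, 27] [.out 3271]],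
  .sub [1, 3, 1, 2, 1, 4, 1, 3, 2, 3, 1, 3, 4] [.out 1708],
  .sub [1, 4, 3, 1, 2, 4, 1, 3, 2, 3, 1, 3, 4] [.out 2006],
  .sub [2, 1, 3, 1, 2, 4, 1, 3, 2, 3, 1, 3, 4] [.out 2271],
  .sub [1, 4, 3, 2, 4, 3, 1, 3, 2, 3, 1, 3, 4] [.sub [19, 18, 29, 18, 18, 30, 27, 31, 20, 25, 29, 29] [.out 1054]]]

/-- Branches. -/
def kidsYPart33 : List Branch := [
  .sub [2, 4, 3, 2, 4, 3, 1, 3, 2, 3, 1, 3, 4] [.sub [29, 25, 19, 24, 18, 18, 29, 20, 31, 20, 29, 25, 29] [.out 3517]],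
  .sub [4, 1, 3, 2, 4, 3, 1, 3, 2, 3, 1, 3, 4] [.out 2867],
  .sub [3, 1, 3, 2, 4, 3, 1, 3, 2, 3, 1, 3, 4] [.out 3822],
  .sub [2, 1, 3, 2, 4, 3, 1, 3, 2, 3, 1, 3, 4] [.sub [18, 25, 31, 24, 18, 25, 27, 31, 27] [.out 1009]],
  .sub [1, 2, 3, 2, 4, 3, 1, 3, 2, 3, 1, 3, 4] [.sub [31, 18, 19, 27, 18, 27, 31, 29, 20, 20, 27] [.out 2686]],
  .sub [4, 3, 1, 2, 4, 3, 1, 3, 2, 3, 1, 3, 4] [.out 3819],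
  .sub [1, 3, 1, 2, 4, 3, 1, 3, 2, 3, 1, 3, 4] [.sub [20, 27, 18, 24, 18, 24, 30, 20, 24, 20, 20, 25, 29, 29] [.out 3836]],
  .sub [2, 3, 1, 2, 4, 3, 1, 3, 2, 3, 1, 3, 4] [.out 3910],
  .sub [2, 3, 2, 4, 1, 3, 1, 3, 2, 3, 1, 3, 4] [.sub [20, 18, 18, 25, 31, 20, 24, 20, 30, 25, 29, 29] [.sub [30, 20, 18, 30, 24, 25, 24, 20, 30] [.out 2117]]],
  .sub [3, 1, 4, 3, 2, 3, 1, 3, 2, 3, 1, 3, 4] [.sub [31, 29, 20, 18, 24, 24, 27, 25, 20, 29, 29] [.out 24]],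
  .sub [3, 2, 4, 3, 2, 3, 1, 3, 2, 3, 1, 3, 4] [.sub [20, 27, 19, 31, 19, 20, 31, 31, 20, 29, 29] [.out 2608]],
  .sub [1, 2, 4, 3, 2, 3, 1, 3, 2, 3, 1, 3, 4] [.out 1238],
  .sub [4, 3, 1, 3, 2, 3, 1, 3, 2, 3, 1, 3, 4] [.out 2665],
  .sub [2, 3, 1, 3, 2, 3, 1, 3, 2, 3, 1, 3, 4] [.sub [18, 31, 19, 19, 18, 30, 25, 24, 31, 27] [.sub [30, 25, 18, 18, 18, 30, 24, 24, 31, 25, 29] [.out 1854]]],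
  .sub [3, 4, 1, 4, 3, 2, 1, 3, 2, 3, 1, 3, 4] [.sub [25, 18, 19, 19, 18, 24, 20, 24, 27, 24, 30] [.out 2379]],
  .sub [2, 4, 1, 4, 3, 2, 1, 3, 2, 3, 1, 3, 4] [.out 3033],
  .sub [3, 2, 1, 4, 3, 2, 1, 3, 2, 3, 1, 3, 4] [.sub [24, 19, 18, 27, 19, 30, 20, 24, 20, 20, 30, 27] [.out 2159]],
  .sub [1, 2, 1, 4, 3, 2, 1, 3, 2, 3, 1, 3, 4] [.sub [27, 27, 19, 18, 19, 24, 30, 25, 31, 25] [.out 2826]],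
  .sub [1, 3, 2, 4, 3, 2, 1, 3, 2, 3, 1, 3, 4] [.sub [18, 25, 20, 19, 24, 29, 31, 30, 25, 29, 29] [.sub [31, 20, 31, 18, 19, 18, 24, 27, 27, 31, 27, 29, 29] [.out 3638]]],
  .sub [2, 3, 2, 4, 3, 2, 1, 3, 2, 3, 1, 3, 4] [.sub [18, 20, 20, 18, 24, 30, 25, 31, 25] [.out 1515]],
  .sub [3, 1, 2, 4, 3, 2, 1, 3, 2, 3, 1, 3, 4] [.sub [31, 20, 19, 19, 24, 25, 27, 20, 20, 30, 27, 29, 29] [.out 3758]],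
  .sub [4, 1, 4, 3, 1, 2, 1, 3, 2, 3, 1, 3, 4] [.out 4033],
  .sub [3, 1, 4, 3, 1, 2, 1, 3, 2, 3, 1, 3, 4] [.out 3373],
  .sub [2, 1, 4, 3, 1, 2, 1, 3, 2, 3, 1, 3, 4] [.out 4039],
  .sub [1, 3, 4, 1, 3, 1, 2, 3, 2, 3, 1, 3, 4] [.out 3275],
  .sub [2, 3, 4, 1, 3, 1, 2, 3, 2, 3, 1, 3, 4] [.out 1876],
  .sub [1, 2, 3, 2, 1, 4, 3, 1, 2, 3, 1, 3, 4] [.out 3911],
  .sub [4, 1, 4, 3, 2, 4, 3, 1, 2, 3, 1, 3, 4] [.sub [18, 18, 29, 19, 18, 29, 25, 31, 25, 29] [.out 20]],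
  .sub [2, 1, 4, 3, 2, 4, 3, 1, 2, 3, 1, 3, 4] [.out 2908],
  .sub [3, 2, 4, 3, 2, 4, 3, 1, 2, 3, 1, 3, 4] [.out 3256],
  .sub [1, 2, 4, 3, 2, 4, 3, 1, 2, 3, 1, 3, 4] [.sub [29, 20, 20, 18, 29, 31, 27, 24, 30] [.out 470]],
  .sub [1, 4, 1, 3, 2, 4, 3, 1, 2, 3, 1, 3, 4] [.sub [27, 18, 29, 24, 18, 20, 29, 31, 29, 25, 29] [.sub [20, 18, 29, 18, 29, 31, 25, 31, 20, 30, 25, 29] [.out 3741]]],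
  .sub [2, 4, 1, 3, 2, 4, 3, 1, 2, 3, 1, 3, 4] [.out 1703],
  .sub [4, 3, 1, 3, 2, 4, 3, 1, 2, 3, 1, 3, 4] [.sub [19, 19, 24, 29, 18, 24, 20, 24, 27, 30, 29, 29] [.out 1882]],
  .sub [1, 2, 1, 3, 2, 4, 3, 1, 2, 3, 1, 3, 4] [.out 3852],
  .sub [4, 3, 4, 1, 2, 4, 3, 1, 2, 3, 1, 3, 4] [.out 3326],
  .sub [1, 3, 4, 1, 2, 4, 3, 1, 2, 3, 1, 3, 4] [.out 3294],
  .sub [2, 3, 4, 1, 2, 4, 3, 1, 2, 3, 1, 3, 4] [.sub [20, 30, 31, 19, 25, 31, 31, 20, 27, 30, 29, 29] [.sub [19, 20, 19, 25, 24, 31, 20, 27, 30, 29, 29] [.out 3426]]],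
  .sub [3, 1, 4, 1, 2, 4, 3, 1, 2, 3, 1, 3, 4] [.out 2352],
  .sub [2, 1, 4, 1, 2, 4, 3, 1, 2, 3, 1, 3, 4] [.sub [31, 27, 18, 30, 24, 31, 24] [.out 2538]],
  .sub [1, 4, 3, 1, 2, 4, 3, 1, 2, 3, 1, 3, 4] [.sub [30, 20, 25, 20, 18, 20, 30, 20, 27] [.out 46]],
  .sub [2, 4, 3, 1, 2, 4, 3, 1, 2, 3, 1, 3, 4] [.out 924],
  .sub [4, 1, 3, 1, 2, 4, 3, 1, 2, 3, 1, 3, 4] [.sub [18, 25, 24, 19, 18, 31, 24, 24, 31, 30, 29] [.out 960]],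
  .sub [2, 1, 3, 1, 2, 4, 3, 1, 2, 3, 1, 3, 4] [.sub [29, 24, 30, 19, 18, 24, 29, 31, 31, 27, 30, 29, 29] [.out 2720]],
  .sub [1, 2, 3, 1, 2, 4, 3, 1, 2, 3, 1, 3, 4] [.out 2592],
  .sub [2, 1, 4, 1, 2, 1, 3, 1, 2, 3, 1, 3, 4] [.out 3226],
  .sub [1, 3, 4, 1, 3, 2, 3, 1, 2, 3, 1, 3, 4] [.out 3290],
  .sub [3, 1, 4, 1, 3, 2, 3, 1, 2, 3, 1, 3, 4] [.sub [29, 18, 18, 19, 24, 31, 29, 24, 29, 29] [.out 3374]],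
  .sub [2, 1, 4, 1, 3, 2, 3, 1, 2, 3, 1, 3, 4] [.sub [18, 27, 18, 20, 27, 20, 31, 25] [.out 2377]],
  .sub [1, 2, 4, 1, 3, 2, 3, 1, 2, 3, 1, 3, 4] [.sub [20, 19, 19, 19, 29, 24, 30, 25, 20, 27, 30, 29] [.sub [20, 18, 31, 20, 18, 18, 20, 29, 20, 24, 30, 29] [.out 2732]]],
  .sub [4, 1, 3, 1, 3, 2, 3, 1, 2, 3, 1, 3, 4] [.sub [18, 27, 19, 18, 19, 27, 30, 20, 20, 29, 25] [.out 882]],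
  .sub [1, 3, 2, 1, 3, 2, 3, 1, 2, 3, 1, 3, 4] [.sub [20, 29, 19, 25, 18, 18, 31, 24, 31, 31, 30, 29] [.out 3982]],
  .sub [1, 4, 3, 4, 1, 2, 3, 1, 2, 3, 1, 3, 4] [.sub [19, 19, 30, 18, 18, 29, 25, 24, 29, 25, 29] [.out 4023]],
  .sub [2, 4, 3, 4, 1, 2, 3, 1, 2, 3, 1, 3, 4] [.sub [19, 31, 24, 18, 19, 31, 29, 24, 25, 20, 27, 29, 29] [.out 3025]],
  .sub [4, 1, 3, 4, 1, 2, 3, 1, 2, 3, 1, 3, 4] [.out 2428],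
  .sub [2, 1, 3, 4, 1, 2, 3, 1, 2, 3, 1, 3, 4] [.sub [20, 29, 18, 29, 18, 24, 29, 25, 31, 24, 27, 29] [.out 1378]],
  .sub [4, 3, 1, 4, 1, 2, 3, 1, 2, 3, 1, 3, 4] [.sub [24, 31, 29, 20, 18, 31, 27, 25, 31, 25, 29, 29] [.sub [20, 31, 20, 18, 24, 30, 31, 20, 29, 25, 29, 29] [.out 2326]]],
  .sub [1, 3, 1, 4, 1, 2, 3, 1, 2, 3, 1, 3, 4] [.sub [19, 27, 18, 19, 18, 31, 20, 20, 31, 27, 29] [.sub [24, 31, 31, 18, 18, 30, 25, 27, 24] [.done 10]]],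
  .sub [3, 2, 1, 4, 1, 2, 3, 1, 2, 3, 1, 3, 4] [.sub [19, 24, 25, 19, 18, 18, 27, 31, 30, 20, 20, 29, 29] [.sub [30, 24, 27, 18, 31, 24, 25] [.out 2378]]],
  .sub [4, 1, 4, 3, 1, 2, 3, 1, 2, 3, 1, 3, 4] [.sub [31, 19, 25, 19, 29, 31, 25] [.sub [19, 20, 19, 18, 27, 27, 31, 30, 20, 29] [.out 7]]],
  .sub [3, 1, 4, 3, 1, 2, 3, 1, 2, 3, 1, 3, 4] [.out 769],
  .sub [2, 1, 4, 3, 1, 2, 3, 1, 2, 3, 1, 3, 4] [.sub [20, 27, 18, 29, 18, 30, 31, 25, 24, 29] [.out 3854]],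
  .sub [3, 4, 1, 3, 1, 2, 3, 1, 2, 3, 1, 3, 4] [.sub [31, 24, 18, 27, 18, 18, 30, 31, 27, 20, 20, 25, 29, 29] [.sub [19, 19, 18, 31, 18, 29, 24, 25, 24, 30, 25, 29, 29] [.out 2727]]],
  .sub [1, 4, 1, 3, 1, 2, 3, 1, 2, 3, 1, 3, 4] [.out 2556]]

/-- Branches. -/
def kidsYPart34 : List Branch := [
  .sub [2, 4, 1, 3, 1, 2, 3, 1, 2, 3, 1, 3, 4] [.out 2866],
  .sub [3, 2, 1, 3, 1, 2, 3, 1, 2, 3, 1, 3, 4] [.out 4037],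
  .sub [1, 2, 1, 3, 1, 2, 3, 1, 2, 3, 1, 3, 4] [.out 4030],
  .sub [4, 3, 2, 1, 3, 4, 1, 4, 3, 2, 1, 3, 4] [.out 3703],
  .sub [1, 4, 3, 2, 3, 4, 1, 4, 3, 2, 1, 3, 4] [.sub [24, 20, 25, 18, 25, 20, 20, 20, 20, 25] [.out 2374]],
  .sub [2, 1, 3, 2, 3, 4, 1, 4, 3, 2, 1, 3, 4] [.sub [27, 30, 18, 19, 18, 25, 31, 25, 20, 20, 30, 25, 29, 29] [.out 2763]],
  .sub [1, 2, 3, 2, 3, 4, 1, 4, 3, 2, 1, 3, 4] [.sub [27, 20, 18, 18, 19, 30, 24, 30, 25, 20, 27, 29] [.out 3343]],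
  .sub [4, 3, 1, 2, 3, 4, 1, 4, 3, 2, 1, 3, 4] [.sub [19, 31, 20, 19, 31, 29, 20, 30, 20, 27, 29] [.out 2300]],
  .sub [1, 3, 1, 2, 3, 4, 1, 4, 3, 2, 1, 3, 4] [.sub [30, 19, 18, 19, 31, 20, 31, 30, 29, 29] [.sub [24, 20, 20, 19, 18, 31, 24, 25, 20, 29, 25, 29] [.done 12]]],
  .sub [4, 3, 1, 2, 1, 4, 1, 4, 3, 2, 1, 3, 4] [.sub [19, 27, 19, 18, 20, 30, 20, 20, 27, 29, 29] [.out 1863]],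
  .sub [1, 3, 1, 2, 1, 4, 1, 4, 3, 2, 1, 3, 4] [.out 3646],
  .sub [2, 3, 1, 2, 1, 4, 1, 4, 3, 2, 1, 3, 4] [.sub [25, 19, 24, 20, 18, 24, 30, 24, 31, 27, 29] [.sub [19, 19, 25, 18, 29, 24, 31, 20, 20, 29, 25, 29, 29] [.out 110]]],
  .sub [4, 1, 4, 3, 2, 4, 1, 4, 3, 2, 1, 3, 4] [.sub [27, 27, 18, 29, 18, 25, 27, 20, 31, 29, 29] [.out 2729]],
  .sub [2, 1, 4, 3, 2, 4, 1, 4, 3, 2, 1, 3, 4] [.sub [29, 19, 29, 31, 18, 24, 27, 24, 20, 29, 29] [.out 3839]],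
  .sub [1, 2, 4, 3, 2, 4, 1, 4, 3, 2, 1, 3, 4] [.out 2761],
  .sub [3, 2, 4, 1, 4, 3, 1, 4, 3, 2, 1, 3, 4] [.out 3605],
  .sub [4, 3, 2, 1, 4, 3, 1, 4, 3, 2, 1, 3, 4] [.out 3257],
  .sub [1, 3, 2, 1, 4, 3, 1, 4, 3, 2, 1, 3, 4] [.out 3396],
  .sub [2, 3, 2, 1, 4, 3, 1, 4, 3, 2, 1, 3, 4] [.sub [31, 29, 19, 20, 18, 27, 30, 31, 20, 25, 29] [.out 2796]],
  .sub [4, 1, 2, 1, 4, 3, 1, 4, 3, 2, 1, 3, 4] [.out 3974],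
  .sub [3, 1, 2, 1, 4, 3, 1, 4, 3, 2, 1, 3, 4] [.out 3678],
  .sub [3, 4, 1, 2, 4, 3, 1, 4, 3, 2, 1, 3, 4] [.sub [18, 29, 20, 18, 30, 25, 24, 31, 20, 29, 25] [.sub [29, 25, 18, 18, 24, 30, 31, 24, 25, 29, 29] [.out 3291]]],
  .sub [1, 4, 1, 2, 4, 3, 1, 4, 3, 2, 1, 3, 4] [.sub [31, 27, 19, 31, 18, 24, 29, 25, 31, 27, 30, 29, 29] [.out 3091]],
  .sub [4, 3, 1, 2, 4, 3, 1, 4, 3, 2, 1, 3, 4] [.out 2984],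
  .sub [1, 3, 1, 2, 4, 3, 1, 4, 3, 2, 1, 3, 4] [.out 1460],
  .sub [2, 3, 1, 2, 4, 3, 1, 4, 3, 2, 1, 3, 4] [.out 2999],
  .sub [1, 2, 1, 4, 1, 3, 1, 4, 3, 2, 1, 3, 4] [.sub [24, 31, 25, 18, 31, 24, 31, 24, 30, 27, 29] [.out 4016]],
  .sub [4, 3, 2, 4, 1, 3, 1, 4, 3, 2, 1, 3, 4] [.sub [25, 27, 18, 19, 18, 31, 25, 31, 20, 30] [.out 389]],
  .sub [1, 3, 2, 4, 1, 3, 1, 4, 3, 2, 1, 3, 4] [.out 3047],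
  .sub [4, 1, 2, 4, 1, 3, 1, 4, 3, 2, 1, 3, 4] [.out 3553],
  .sub [3, 1, 2, 4, 1, 3, 1, 4, 3, 2, 1, 3, 4] [.out 2960],
  .sub [1, 4, 3, 2, 1, 3, 1, 4, 3, 2, 1, 3, 4] [.sub [25, 27, 18, 20, 19, 18, 29, 25, 24, 30, 20, 30, 25] [.out 2982]],
  .sub [1, 2, 3, 2, 1, 3, 1, 4, 3, 2, 1, 3, 4] [.out 3662],
  .sub [3, 1, 4, 3, 2, 3, 1, 4, 3, 2, 1, 3, 4] [.sub [25, 19, 18, 18, 18, 27, 24, 29, 24, 25, 29] [.out 1126]],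
  .sub [3, 2, 4, 3, 2, 3, 1, 4, 3, 2, 1, 3, 4] [.out 2340],
  .sub [1, 2, 4, 3, 2, 3, 1, 4, 3, 2, 1, 3, 4] [.out 1542],
  .sub [3, 4, 1, 3, 2, 3, 1, 4, 3, 2, 1, 3, 4] [.out 2987],
  .sub [4, 3, 1, 3, 2, 3, 1, 4, 3, 2, 1, 3, 4] [.out 2903],
  .sub [2, 3, 1, 3, 2, 3, 1, 4, 3, 2, 1, 3, 4] [.out 2362],
  .sub [1, 2, 1, 3, 2, 3, 1, 4, 3, 2, 1, 3, 4] [.sub [30, 19, 18, 25, 24, 27, 24, 20] [.out 480]],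
  .sub [1, 3, 4, 1, 2, 3, 1, 4, 3, 2, 1, 3, 4] [.sub [31, 19, 31, 19, 31, 25, 20, 25, 29, 29] [.sub [20, 30, 19, 30, 18, 18, 27, 29, 20, 20, 27, 29] [.out 443]]],
  .sub [3, 1, 4, 1, 2, 3, 1, 4, 3, 2, 1, 3, 4] [.out 2538],
  .sub [2, 1, 4, 1, 2, 3, 1, 4, 3, 2, 1, 3, 4] [.sub [24, 31, 19, 31, 18, 24, 27, 30, 31, 30, 27, 29, 29] [.sub [24, 24, 18, 31, 24, 18, 20, 29, 20, 31, 27, 29] [.out 369]]],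
  .sub [4, 1, 3, 1, 2, 3, 1, 4, 3, 2, 1, 3, 4] [.out 3533],
  .sub [2, 1, 3, 1, 2, 3, 1, 4, 3, 2, 1, 3, 4] [.out 3033],
  .sub [3, 4, 1, 4, 3, 2, 1, 4, 3, 2, 1, 3, 4] [.out 2717],
  .sub [2, 4, 1, 4, 3, 2, 1, 4, 3, 2, 1, 3, 4] [.sub [31, 29, 19, 20, 18, 20, 24, 20, 24, 30, 29, 29] [.out 1848]],
  .sub [4, 3, 1, 4, 3, 2, 1, 4, 3, 2, 1, 3, 4] [.out 2369],
  .sub [2, 3, 1, 4, 3, 2, 1, 4, 3, 2, 1, 3, 4] [.sub [24, 18, 25, 31, 19, 27, 20, 31, 30, 20, 30, 27] [.out 137]],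
  .sub [3, 2, 1, 4, 3, 2, 1, 4, 3, 2, 1, 3, 4] [.out 1075],
  .sub [1, 2, 1, 4, 3, 2, 1, 4, 3, 2, 1, 3, 4] [.sub [19, 18, 24, 24, 19, 27, 25, 20, 29, 25, 29] [.out 2273]],
  .sub [1, 3, 2, 4, 3, 2, 1, 4, 3, 2, 1, 3, 4] [.sub [20, 29, 24, 24, 19, 18, 27, 24, 31, 31, 29, 25, 29] [.out 923]],
  .sub [2, 3, 2, 4, 3, 2, 1, 4, 3, 2, 1, 3, 4] [.out 942],
  .sub [4, 1, 2, 4, 3, 2, 1, 4, 3, 2, 1, 3, 4] [.sub [18, 20, 20, 18, 19, 31, 30, 29, 20, 20, 27, 30, 29] [.out 3094]],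
  .sub [3, 1, 2, 4, 3, 2, 1, 4, 3, 2, 1, 3, 4] [.out 3501],
  .sub [1, 3, 4, 1, 3, 2, 1, 4, 3, 2, 1, 3, 4] [.sub [31, 31, 19, 29, 18, 24, 25, 31, 20, 20, 30, 27, 29] [.sub [19, 18, 20, 19, 18, 24, 24, 27, 25, 20, 30, 29] [.out 1022]]],
  .sub [2, 3, 4, 1, 3, 2, 1, 4, 3, 2, 1, 3, 4] [.out 2904],
  .sub [3, 2, 4, 1, 3, 2, 1, 4, 3, 2, 1, 3, 4] [.sub [24, 18, 19, 24, 18, 20, 24, 20, 20] [.out 1768]],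
  .sub [1, 2, 3, 1, 3, 2, 1, 4, 3, 2, 1, 3, 4] [.sub [27, 24, 31, 25, 18, 27, 24, 20, 20, 30, 25, 29, 29] [.out 2268]],
  .sub [4, 1, 2, 1, 3, 2, 1, 4, 3, 2, 1, 3, 4] [.out 3124],
  .sub [3, 4, 1, 2, 3, 2, 1, 4, 3, 2, 1, 3, 4] [.sub [31, 31, 19, 19, 19, 24, 30, 20, 31, 30, 27, 29, 29] [.out 3849]],
  .sub [1, 4, 1, 2, 3, 2, 1, 4, 3, 2, 1, 3, 4] [.sub [31, 20, 25, 19, 27, 24, 30, 31, 30] [.out 3157]],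
  .sub [4, 3, 1, 2, 3, 2, 1, 4, 3, 2, 1, 3, 4] [.out 952],
  .sub [1, 3, 1, 2, 3, 2, 1, 4, 3, 2, 1, 3, 4] [.out 3697]]

/-- Branches. -/
def kidsYPart35 : List Branch := [
  .sub [2, 3, 1, 2, 3, 2, 1, 4, 3, 2, 1, 3, 4] [.sub [18, 24, 19, 24, 19, 29, 20, 31, 20, 24, 30, 29, 29] [.out 2823]],
  .sub [4, 1, 4, 3, 1, 2, 1, 4, 3, 2, 1, 3, 4] [.sub [18, 18, 18, 19, 18, 30, 31, 30, 31, 30, 27, 29] [.out 2311]],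
  .sub [2, 1, 4, 3, 1, 2, 1, 4, 3, 2, 1, 3, 4] [.sub [25, 24, 27, 18, 18, 31, 27, 20, 20, 20, 27] [.sub [25, 19, 24, 20, 18, 20, 24, 31, 29, 25] [.out 3657]]],
  .sub [4, 3, 2, 4, 1, 3, 2, 4, 3, 2, 1, 3, 4] [.sub [29, 18, 31, 19, 24, 29, 24, 31, 29, 25, 29] [.out 2849]],
  .sub [3, 2, 4, 3, 1, 3, 2, 4, 3, 2, 1, 3, 4] [.out 3723],
  .sub [4, 3, 2, 3, 1, 3, 2, 4, 3, 2, 1, 3, 4] [.sub [18, 19, 18, 18, 27, 30, 20, 20, 30, 29, 29] [.out 2122]],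
  .sub [2, 3, 2, 3, 1, 3, 2, 4, 3, 2, 1, 3, 4] [.out 2978],
  .sub [2, 4, 3, 2, 1, 3, 2, 4, 3, 2, 1, 3, 4] [.out 2517],
  .sub [4, 1, 3, 2, 1, 3, 2, 4, 3, 2, 1, 3, 4] [.out 3257],
  .sub [3, 1, 3, 2, 1, 3, 2, 4, 3, 2, 1, 3, 4] [.sub [29, 31, 30, 18, 19, 24, 24, 27, 25, 20, 30, 29, 29] [.out 2813]],
  .sub [1, 2, 3, 2, 1, 3, 2, 4, 3, 2, 1, 3, 4] [.out 3520],
  .sub [3, 4, 1, 2, 1, 3, 2, 4, 3, 2, 1, 3, 4] [.sub [18, 19, 20, 24, 18, 18, 31, 31, 24, 25, 24, 30, 27] [.out 2819]],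
  .sub [4, 3, 1, 2, 1, 3, 2, 4, 3, 2, 1, 3, 4] [.sub [18, 24, 31, 18, 19, 18, 20, 29, 24, 31, 20, 29, 29] [.sub [27, 19, 29, 18, 18, 29, 31, 30, 20, 24, 30, 27, 29, 29] [.out 472]]],
  .sub [1, 3, 1, 2, 1, 3, 2, 4, 3, 2, 1, 3, 4] [.out 2814],
  .sub [4, 3, 4, 1, 2, 3, 2, 4, 3, 2, 1, 3, 4] [.out 1266],
  .sub [1, 3, 4, 1, 2, 3, 2, 4, 3, 2, 1, 3, 4] [.out 2912],
  .sub [2, 3, 4, 1, 2, 3, 2, 4, 3, 2, 1, 3, 4] [.sub [30, 24, 19, 19, 18, 29, 31, 31, 20, 20, 30, 27, 29, 29] [.out 3068]],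
  .sub [4, 1, 3, 1, 2, 3, 2, 4, 3, 2, 1, 3, 4] [.out 2805],
  .sub [2, 1, 3, 1, 2, 3, 2, 4, 3, 2, 1, 3, 4] [.out 2893],
  .sub [3, 4, 1, 2, 4, 3, 4, 1, 3, 2, 1, 3, 4] [.out 890],
  .sub [4, 3, 2, 4, 1, 3, 4, 1, 3, 2, 1, 3, 4] [.sub [31, 27, 19, 20, 20, 30, 27] [.out 882]],
  .sub [1, 3, 2, 4, 1, 3, 4, 1, 3, 2, 1, 3, 4] [.sub [19, 24, 31, 24, 18, 29, 30, 20, 30, 20, 30, 25, 29, 29] [.out 958]],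
  .sub [2, 3, 2, 4, 1, 3, 4, 1, 3, 2, 1, 3, 4] [.out 3541],
  .sub [3, 1, 2, 4, 1, 3, 4, 1, 3, 2, 1, 3, 4] [.out 3930],
  .sub [1, 3, 2, 3, 1, 3, 4, 1, 3, 2, 1, 3, 4] [.sub [18, 29, 31, 25, 19, 29, 24, 31, 29, 29] [.out 2166]],
  .sub [2, 3, 2, 3, 1, 3, 4, 1, 3, 2, 1, 3, 4] [.out 2719],
  .sub [4, 1, 2, 3, 1, 3, 4, 1, 3, 2, 1, 3, 4] [.sub [30, 31, 20, 19, 27, 24, 27, 31, 20, 29, 29] [.out 2744]],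
  .sub [3, 1, 2, 3, 1, 3, 4, 1, 3, 2, 1, 3, 4] [.out 3151],
  .sub [1, 4, 3, 2, 1, 3, 4, 1, 3, 2, 1, 3, 4] [.sub [25, 19, 25, 18, 30, 24, 20, 27, 24, 30] [.out 661]],
  .sub [2, 4, 3, 2, 1, 3, 4, 1, 3, 2, 1, 3, 4] [.out 3257],
  .sub [3, 4, 1, 2, 1, 3, 4, 1, 3, 2, 1, 3, 4] [.sub [25, 19, 19, 25, 18, 27, 24, 20, 20, 30, 25, 29, 29] [.sub [19, 24, 18, 18, 31, 24, 27, 25, 20, 29, 29] [.out 3980]]],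
  .sub [4, 3, 1, 2, 1, 3, 4, 1, 3, 2, 1, 3, 4] [.out 2828],
  .sub [1, 3, 1, 2, 1, 3, 4, 1, 3, 2, 1, 3, 4] [.out 3472],
  .sub [2, 3, 1, 2, 1, 3, 4, 1, 3, 2, 1, 3, 4] [.out 1993],
  .sub [3, 1, 4, 3, 2, 3, 4, 1, 3, 2, 1, 3, 4] [.sub [29, 19, 25, 18, 18, 24, 27, 30, 31, 20, 30, 27] [.sub [24, 29, 31, 18, 31, 27, 20, 20, 20, 30, 29] [.out 2528]]],
  .sub [3, 2, 4, 3, 2, 3, 4, 1, 3, 2, 1, 3, 4] [.sub [24, 29, 31, 18, 24, 30, 20, 31, 27] [.sub [30, 20, 27, 18, 18, 24, 27, 31, 25, 20, 29, 25, 29] [.out 2369]]],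
  .sub [1, 2, 4, 3, 2, 3, 4, 1, 3, 2, 1, 3, 4] [.out 3989],
  .sub [4, 3, 1, 3, 2, 3, 4, 1, 3, 2, 1, 3, 4] [.out 2473],
  .sub [1, 3, 1, 3, 2, 3, 4, 1, 3, 2, 1, 3, 4] [.out 3959],
  .sub [1, 3, 4, 1, 2, 3, 4, 1, 3, 2, 1, 3, 4] [.out 2984],
  .sub [2, 3, 4, 1, 2, 3, 4, 1, 3, 2, 1, 3, 4] [.sub [31, 31, 18, 19, 18, 30, 29, 31, 20, 30, 27, 29] [.out 2104]],
  .sub [1, 4, 3, 1, 2, 3, 4, 1, 3, 2, 1, 3, 4] [.out 3352],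
  .sub [2, 4, 3, 1, 2, 3, 4, 1, 3, 2, 1, 3, 4] [.sub [31, 20, 20, 18, 19, 27, 24, 25, 24, 20, 30, 27] [.sub [31, 25, 19, 19, 18, 24, 20, 30, 25, 20, 29, 25, 29, 29] [.out 1290]]],
  .sub [3, 2, 3, 1, 2, 3, 4, 1, 3, 2, 1, 3, 4] [.out 564],
  .sub [1, 2, 3, 1, 2, 3, 4, 1, 3, 2, 1, 3, 4] [.sub [20, 25, 20, 18, 30, 20, 24, 20, 20, 29, 25, 29] [.out 1376]],
  .sub [4, 3, 1, 3, 2, 1, 4, 1, 3, 2, 1, 3, 4] [.out 3257],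
  .sub [1, 3, 1, 3, 2, 1, 4, 1, 3, 2, 1, 3, 4] [.out 3821],
  .sub [2, 3, 1, 3, 2, 1, 4, 1, 3, 2, 1, 3, 4] [.out 2392],
  .sub [3, 2, 1, 3, 2, 1, 4, 1, 3, 2, 1, 3, 4] [.out 560],
  .sub [4, 3, 4, 1, 2, 1, 4, 1, 3, 2, 1, 3, 4] [.sub [30, 20, 19, 20, 18, 29, 24, 30, 25, 20, 30, 25] [.sub [24, 20, 19, 24, 27, 31, 20, 30, 29] [.out 2299]]],
  .sub [2, 3, 4, 1, 2, 1, 4, 1, 3, 2, 1, 3, 4] [.out 1273],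
  .sub [4, 1, 3, 1, 2, 1, 4, 1, 3, 2, 1, 3, 4] [.out 3085],
  .sub [2, 1, 3, 1, 2, 1, 4, 1, 3, 2, 1, 3, 4] [.sub [25, 20, 19, 31, 20, 31, 30, 29, 29] [.sub [20, 18, 31, 20, 18, 18, 20, 29, 20, 24, 30, 29] [.bad [19, 18, 31, 20, 19, 31, 27, 25, 20, 20, 29, 25, 29] 1]]],
  .sub [1, 2, 3, 1, 2, 1, 4, 1, 3, 2, 1, 3, 4] [.out 2979],
  .sub [3, 4, 1, 4, 3, 2, 4, 1, 3, 2, 1, 3, 4] [.sub [25, 27, 24, 19, 18, 29, 30, 24, 27, 29] [.out 1992]],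
  .sub [4, 3, 1, 4, 3, 2, 4, 1, 3, 2, 1, 3, 4] [.sub [20, 29, 19, 18, 18, 24, 24, 20, 20, 27, 29] [.out 2394]],
  .sub [1, 3, 1, 4, 3, 2, 4, 1, 3, 2, 1, 3, 4] [.sub [20, 24, 29, 18, 27, 20, 31, 31, 30, 27, 29] [.sub [24, 31, 24, 18, 30, 24, 31, 31, 20, 30, 29, 29] [.out 179]]],
  .sub [2, 3, 1, 4, 3, 2, 4, 1, 3, 2, 1, 3, 4] [.sub [18, 24, 19, 25, 18, 27, 31, 27] [.out 1975]],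
  .sub [3, 2, 1, 4, 3, 2, 4, 1, 3, 2, 1, 3, 4] [.sub [19, 19, 30, 18, 19, 24, 20, 27, 24, 27] [.out 2733]],
  .sub [1, 2, 1, 4, 3, 2, 4, 1, 3, 2, 1, 3, 4] [.out 3405],
  .sub [1, 3, 2, 4, 3, 2, 4, 1, 3, 2, 1, 3, 4] [.out 2430],
  .sub [2, 3, 2, 4, 3, 2, 4, 1, 3, 2, 1, 3, 4] [.sub [29, 18, 19, 18, 18, 20, 29, 20, 24, 29, 25] [.out 1944]],
  .sub [4, 1, 2, 4, 3, 2, 4, 1, 3, 2, 1, 3, 4] [.out 3610],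
  .sub [3, 1, 2, 4, 3, 2, 4, 1, 3, 2, 1, 3, 4] [.sub [18, 31, 29, 18, 31, 27, 20, 20, 20, 27, 30] [.out 2289]]]

/-- Branches. -/
def kidsYPart36 : List Branch := [
  .sub [1, 3, 4, 1, 3, 2, 4, 1, 3, 2, 1, 3, 4] [.sub [30, 31, 20, 29, 18, 24, 31, 30, 20, 30, 29, 29] [.sub [18, 31, 18, 18, 18, 20, 20, 20, 31, 20, 30, 29] [.out 521]]],
  .sub [3, 2, 4, 1, 3, 2, 4, 1, 3, 2, 1, 3, 4] [.sub [18, 18, 30, 25, 20, 29, 25, 29, 29] [.out 3782]],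
  .sub [1, 2, 4, 1, 3, 2, 4, 1, 3, 2, 1, 3, 4] [.out 2892],
  .sub [4, 1, 2, 1, 3, 2, 4, 1, 3, 2, 1, 3, 4] [.out 3887],
  .sub [3, 1, 2, 1, 3, 2, 4, 1, 3, 2, 1, 3, 4] [.out 3968],
  .sub [3, 4, 1, 2, 3, 2, 4, 1, 3, 2, 1, 3, 4] [.out 3974],
  .sub [4, 3, 1, 2, 3, 2, 4, 1, 3, 2, 1, 3, 4] [.sub [24, 27, 19, 19, 19, 24, 27, 31, 20, 20, 27, 30, 29] [.sub [18, 20, 31, 18, 19, 18, 27, 29, 20, 20, 29, 29] [.out 1316]]],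
  .sub [1, 3, 1, 2, 3, 2, 4, 1, 3, 2, 1, 3, 4] [.out 3355],
  .sub [1, 4, 3, 4, 1, 2, 4, 1, 3, 2, 1, 3, 4] [.sub [25, 31, 29, 24, 18, 25, 27, 20, 20, 30, 27] [.out 3690]],
  .sub [3, 2, 3, 4, 1, 2, 4, 1, 3, 2, 1, 3, 4] [.sub [25, 20, 20, 19, 18, 27, 30, 31, 24, 27, 30, 29, 29] [.sub [30, 29, 31, 18, 18, 31, 25, 31, 29, 29] [.out 3022]]],
  .sub [4, 1, 4, 3, 1, 2, 4, 1, 3, 2, 1, 3, 4] [.sub [27, 31, 19, 24, 18, 27, 27, 24, 27, 24, 25] [.out 2087]],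
  .sub [3, 1, 4, 3, 1, 2, 4, 1, 3, 2, 1, 3, 4] [.sub [20, 27, 18, 31, 24, 31, 31, 20, 30, 27, 29, 29] [.out 2621]],
  .sub [2, 1, 4, 3, 1, 2, 4, 1, 3, 2, 1, 3, 4] [.sub [18, 25, 18, 18, 31, 29, 20, 24, 20, 27, 30] [.out 2093]],
  .sub [2, 1, 4, 3, 2, 4, 3, 1, 3, 2, 1, 3, 4] [.out 3702],
  .sub [3, 2, 4, 3, 2, 4, 3, 1, 3, 2, 1, 3, 4] [.sub [19, 20, 19, 19, 18, 25, 20, 20, 20, 20, 30] [.out 1531]],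
  .sub [1, 2, 4, 3, 2, 4, 3, 1, 3, 2, 1, 3, 4] [.sub [25, 24, 30, 19, 18, 31, 20, 20, 27, 29] [.out 2516]],
  .sub [2, 4, 3, 1, 2, 4, 3, 1, 3, 2, 1, 3, 4] [.sub [25, 19, 18, 20, 18, 18, 20, 30, 20, 24] [.out 2822]],
  .sub [1, 2, 3, 1, 2, 4, 3, 1, 3, 2, 1, 3, 4] [.sub [29, 19, 25, 19, 31, 31, 24, 29, 29] [.sub [27, 24, 27, 18, 31, 31, 20, 20, 30, 29] [.out 2699]]],
  .sub [4, 3, 2, 3, 4, 1, 3, 1, 3, 2, 1, 3, 4] [.sub [31, 24, 29, 18, 29, 24, 27, 24, 30, 27] [.sub [30, 25, 18, 18, 18, 24, 24, 27, 20, 24, 27, 29] [.out 3967]]],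
  .sub [1, 3, 2, 3, 4, 1, 3, 1, 3, 2, 1, 3, 4] [.sub [19, 20, 31, 19, 25, 31, 20, 24, 20, 30, 29, 29] [.out 817]],
  .sub [1, 4, 3, 2, 4, 1, 3, 1, 3, 2, 1, 3, 4] [.out 3766],
  .sub [2, 4, 3, 2, 4, 1, 3, 1, 3, 2, 1, 3, 4] [.sub [27, 24, 20, 19, 18, 27, 25, 31, 20, 25] [.out 3464]],
  .sub [4, 1, 3, 2, 4, 1, 3, 1, 3, 2, 1, 3, 4] [.sub [27, 19, 20, 20, 18, 29, 31, 25, 31, 20, 30, 25, 29, 29] [.out 3644]],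
  .sub [3, 1, 3, 2, 4, 1, 3, 1, 3, 2, 1, 3, 4] [.sub [24, 31, 29, 20, 18, 25, 27, 31, 30] [.out 3634]],
  .sub [2, 1, 3, 2, 4, 1, 3, 1, 3, 2, 1, 3, 4] [.sub [25, 18, 30, 19, 18, 20, 20, 20, 24, 29, 25] [.out 3653]],
  .sub [3, 4, 1, 2, 4, 1, 3, 1, 3, 2, 1, 3, 4] [.out 1919],
  .sub [1, 3, 1, 2, 4, 1, 3, 1, 3, 2, 1, 3, 4] [.out 3517],
  .sub [3, 1, 4, 3, 2, 1, 3, 1, 3, 2, 1, 3, 4] [.sub [20, 27, 19, 31, 19, 27, 27, 30, 20, 24, 30, 29, 29] [.out 3921]],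
  .sub [3, 2, 4, 3, 2, 1, 3, 1, 3, 2, 1, 3, 4] [.sub [18, 25, 31, 24, 18, 30, 24, 31, 24, 29] [.out 2377]],
  .sub [3, 4, 1, 3, 2, 1, 3, 1, 3, 2, 1, 3, 4] [.out 3045],
  .sub [2, 4, 1, 3, 2, 1, 3, 1, 3, 2, 1, 3, 4] [.out 2681],
  .sub [4, 3, 1, 3, 2, 1, 3, 1, 3, 2, 1, 3, 4] [.sub [27, 25, 31, 18, 18, 24, 27, 31, 25] [.sub [19, 19, 25, 18, 29, 24, 30, 31, 20, 30, 29, 29] [.out 2048]]],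
  .sub [2, 3, 1, 3, 2, 1, 3, 1, 3, 2, 1, 3, 4] [.out 1549],
  .sub [3, 2, 1, 3, 2, 1, 3, 1, 3, 2, 1, 3, 4] [.sub [18, 27, 19, 18, 19, 27, 30, 20, 20, 29, 25] [.out 3439]],
  .sub [1, 2, 1, 3, 2, 1, 3, 1, 3, 2, 1, 3, 4] [.sub [24, 18, 24, 25, 18, 31, 27, 24, 30] [.sub [24, 29, 19, 18, 18, 24, 30, 20, 24, 20, 20, 27, 29] [.out 3638]]],
  .sub [4, 1, 2, 3, 2, 1, 3, 1, 3, 2, 1, 3, 4] [.sub [20, 24, 19, 19, 19, 24, 30, 20, 30, 20, 30, 29, 29] [.out 2380]],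
  .sub [3, 1, 2, 3, 2, 1, 3, 1, 3, 2, 1, 3, 4] [.out 3927],
  .sub [1, 3, 4, 1, 2, 1, 3, 1, 3, 2, 1, 3, 4] [.sub [27, 24, 25, 19, 31, 30, 20, 24, 30, 29] [.out 3464]],
  .sub [2, 3, 2, 4, 3, 2, 3, 1, 3, 2, 1, 3, 4] [.out 3837],
  .sub [4, 1, 2, 4, 3, 2, 3, 1, 3, 2, 1, 3, 4] [.sub [31, 29, 19, 20, 18, 20, 24, 20, 24, 30, 29, 29] [.out 1865]],
  .sub [3, 4, 1, 2, 3, 2, 3, 1, 3, 2, 1, 3, 4] [.out 3936],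
  .sub [1, 4, 1, 2, 3, 2, 3, 1, 3, 2, 1, 3, 4] [.out 3144],
  .sub [4, 3, 1, 2, 3, 2, 3, 1, 3, 2, 1, 3, 4] [.sub [30, 25, 20, 18, 31, 29, 31, 20, 20, 27, 29, 29] [.sub [19, 30, 19, 18, 19, 24, 29, 24, 31, 20] [.out 3450]]],
  .sub [1, 3, 1, 2, 3, 2, 3, 1, 3, 2, 1, 3, 4] [.sub [20, 29, 18, 29, 18, 24, 29, 25, 31, 24, 27, 29] [.out 179]],
  .sub [1, 2, 4, 3, 1, 2, 3, 1, 3, 2, 1, 3, 4] [.out 3751],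
  .sub [1, 3, 2, 3, 1, 2, 3, 1, 3, 2, 1, 3, 4] [.out 2594],
  .sub [4, 1, 2, 3, 1, 2, 3, 1, 3, 2, 1, 3, 4] [.sub [19, 29, 19, 29, 18, 27, 29, 31, 24, 30, 25, 29] [.sub [18, 19, 29, 18, 18, 31, 30, 24, 30, 25, 29, 29] [.out 3638]]],
  .sub [3, 1, 2, 3, 1, 2, 3, 1, 3, 2, 1, 3, 4] [.sub [20, 19, 19, 19, 25, 31, 25, 24, 30, 27, 29, 29] [.out 1568]],
  .sub [2, 3, 4, 1, 4, 3, 2, 1, 3, 2, 1, 3, 4] [.out 3651],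
  .sub [3, 2, 4, 1, 4, 3, 2, 1, 3, 2, 1, 3, 4] [.sub [19, 18, 27, 27, 18, 25, 27, 24, 30, 27, 29, 29] [.out 1412]],
  .sub [1, 4, 3, 1, 4, 3, 2, 1, 3, 2, 1, 3, 4] [.out 2928],
  .sub [2, 4, 3, 1, 4, 3, 2, 1, 3, 2, 1, 3, 4] [.out 2708],
  .sub [4, 1, 3, 1, 4, 3, 2, 1, 3, 2, 1, 3, 4] [.out 3530],
  .sub [2, 1, 3, 1, 4, 3, 2, 1, 3, 2, 1, 3, 4] [.out 3158],
  .sub [3, 2, 3, 1, 4, 3, 2, 1, 3, 2, 1, 3, 4] [.out 2760],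
  .sub [1, 2, 3, 1, 4, 3, 2, 1, 3, 2, 1, 3, 4] [.sub [18, 25, 19, 18, 24, 20, 27, 31, 29, 25, 29, 29] [.out 715]],
  .sub [4, 1, 2, 1, 4, 3, 2, 1, 3, 2, 1, 3, 4] [.sub [31, 18, 25, 18, 18, 27, 24, 25, 24, 20, 30, 25, 29] [.out 3408]],
  .sub [3, 1, 2, 1, 4, 3, 2, 1, 3, 2, 1, 3, 4] [.out 3616],
  .sub [3, 1, 3, 2, 4, 3, 2, 1, 3, 2, 1, 3, 4] [.out 2504],
  .sub [1, 2, 3, 2, 4, 3, 2, 1, 3, 2, 1, 3, 4] [.sub [20, 18, 30, 19, 18, 30, 20, 20, 27, 30, 29, 29] [.sub [19, 24, 20, 18, 18, 29, 25, 24, 27, 24, 29] [.out 2967]]],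
  .sub [2, 3, 1, 2, 4, 3, 2, 1, 3, 2, 1, 3, 4] [.out 3506],
  .sub [2, 4, 3, 4, 1, 3, 2, 1, 3, 2, 1, 3, 4] [.sub [20, 27, 18, 29, 18, 30, 24, 24, 31, 27, 30, 29, 29] [.out 2902]],
  .sub [4, 1, 3, 4, 1, 3, 2, 1, 3, 2, 1, 3, 4] [.out 3201],
  .sub [3, 1, 3, 4, 1, 3, 2, 1, 3, 2, 1, 3, 4] [.sub [31, 24, 19, 19, 19, 25, 20, 31, 27, 30, 29] [.out 3061]]]

/-- Branches. -/
def kidsYPart37 : List Branch := [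
  .sub [3, 2, 1, 4, 1, 3, 2, 1, 3, 2, 1, 3, 4] [.out 3453],
  .sub [2, 1, 4, 3, 1, 3, 2, 1, 3, 2, 1, 3, 4] [.sub [18, 25, 18, 24, 18, 27, 31, 27, 20, 20, 30, 29, 29] [.out 3129]],
  .sub [1, 4, 1, 3, 1, 3, 2, 1, 3, 2, 1, 3, 4] [.sub [24, 29, 19, 20, 19, 24, 27, 25, 31, 30, 27, 29] [.out 3485]],
  .sub [3, 2, 1, 3, 1, 3, 2, 1, 3, 2, 1, 3, 4] [.sub [24, 18, 27, 19, 31, 30, 29, 24, 20, 29, 25] [.out 476]],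
  .sub [3, 4, 1, 2, 1, 3, 2, 1, 3, 2, 1, 3, 4] [.sub [18, 30, 18, 19, 30, 29, 31, 31, 30, 29, 29] [.out 3483]],
  .sub [4, 3, 4, 1, 2, 3, 2, 1, 3, 2, 1, 3, 4] [.out 1791],
  .sub [1, 3, 4, 1, 2, 3, 2, 1, 3, 2, 1, 3, 4] [.sub [29, 18, 29, 19, 18, 27, 27, 24, 30, 25, 29, 29] [.out 1812]],
  .sub [2, 3, 4, 1, 2, 3, 2, 1, 3, 2, 1, 3, 4] [.out 3272],
  .sub [1, 4, 3, 1, 2, 3, 2, 1, 3, 2, 1, 3, 4] [.out 4020],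
  .sub [4, 1, 3, 1, 2, 3, 2, 1, 3, 2, 1, 3, 4] [.out 3659],
  .sub [3, 4, 1, 3, 4, 1, 2, 1, 3, 2, 1, 3, 4] [.out 3884],
  .sub [1, 4, 1, 3, 4, 1, 2, 1, 3, 2, 1, 3, 4] [.sub [19, 19, 24, 29, 18, 24, 20, 24, 27, 30, 29, 29] [.out 2154]],
  .sub [1, 3, 1, 4, 3, 1, 2, 1, 3, 2, 1, 3, 4] [.out 3774],
  .sub [2, 3, 1, 4, 3, 1, 2, 1, 3, 2, 1, 3, 4] [.sub [30, 29, 18, 18, 25, 27, 25, 24, 27] [.sub [18, 19, 25, 20, 18, 31, 25, 20, 31, 27, 30, 29, 29] [.out 2894]]],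
  .sub [4, 3, 2, 4, 3, 1, 2, 1, 3, 2, 1, 3, 4] [.out 1818],
  .sub [2, 3, 2, 4, 3, 1, 2, 1, 3, 2, 1, 3, 4] [.sub [20, 25, 27, 24, 19, 18, 30, 31, 31, 20, 24, 29] [.out 3024]],
  .sub [1, 3, 4, 1, 3, 1, 2, 1, 3, 2, 1, 3, 4] [.sub [31, 20, 18, 18, 29, 25, 20, 31, 20, 25, 29, 29] [.sub [19, 27, 20, 31, 18, 20, 31, 20, 31, 25] [.out 3199]]],
  .sub [3, 1, 4, 1, 3, 1, 2, 1, 3, 2, 1, 3, 4] [.sub [18, 24, 18, 31, 24, 20, 20, 25] [.out 3629]],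
  .sub [3, 2, 4, 1, 3, 1, 2, 1, 3, 2, 1, 3, 4] [.sub [20, 20, 24, 18, 18, 27, 31, 25, 20, 29, 29] [.out 1812]],
  .sub [1, 2, 4, 1, 3, 1, 2, 1, 3, 2, 1, 3, 4] [.sub [29, 18, 30, 19, 18, 27, 31, 27, 20, 20, 30, 29, 29] [.out 122]],
  .sub [4, 3, 2, 1, 3, 1, 2, 1, 3, 2, 1, 3, 4] [.out 3191],
  .sub [1, 3, 2, 1, 3, 1, 2, 1, 3, 2, 1, 3, 4] [.out 2198],
  .sub [4, 1, 2, 1, 3, 1, 2, 1, 3, 2, 1, 3, 4] [.sub [27, 18, 25, 18, 18, 20, 25, 27, 24, 30] [.sub [19, 27, 19, 20, 18, 29, 30, 31, 20, 30] [.done 25]]],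
  .sub [1, 4, 3, 2, 3, 1, 2, 1, 3, 2, 1, 3, 4] [.out 3988],
  .sub [3, 4, 1, 2, 3, 1, 2, 1, 3, 2, 1, 3, 4] [.out 3820],
  .sub [4, 3, 1, 2, 3, 1, 2, 1, 3, 2, 1, 3, 4] [.sub [30, 29, 24, 25, 18, 27, 30, 27, 24, 27, 30, 29, 29] [.sub [18, 24, 31, 18, 19, 18, 27, 31, 29, 24, 27, 30, 29] [.out 866]]],
  .sub [1, 3, 1, 2, 3, 1, 2, 1, 3, 2, 1, 3, 4] [.out 2758],
  .sub [2, 3, 1, 2, 3, 1, 2, 1, 3, 2, 1, 3, 4] [.sub [18, 24, 19, 20, 19, 27, 24, 27, 31, 20, 25, 29] [.sub [24, 19, 20, 24, 18, 31, 20, 30, 25, 29] [.out 1724]]],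
  .sub [1, 2, 1, 4, 3, 4, 1, 2, 3, 2, 1, 3, 4] [.out 3498],
  .sub [1, 3, 2, 4, 3, 4, 1, 2, 3, 2, 1, 3, 4] [.sub [24, 18, 27, 19, 18, 29, 20, 31, 20, 24, 30, 27] [.out 1819]],
  .sub [2, 3, 2, 4, 3, 4, 1, 2, 3, 2, 1, 3, 4] [.sub [25, 20, 25, 19, 20, 20, 20, 24, 29, 25, 29, 29] [.out 2823]],
  .sub [3, 1, 2, 4, 3, 4, 1, 2, 3, 2, 1, 3, 4] [.out 3874],
  .sub [2, 3, 4, 1, 3, 4, 1, 2, 3, 2, 1, 3, 4] [.sub [18, 31, 19, 31, 18, 24, 31, 30, 20, 29, 25] [.sub [18, 30, 31, 19, 18, 29, 31, 25, 20, 29, 25, 29] [.out 1078]]],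
  .sub [2, 4, 3, 1, 3, 4, 1, 2, 3, 2, 1, 3, 4] [.sub [25, 19, 20, 19, 29, 24, 29, 24, 30, 27, 29] [.out 3818]],
  .sub [3, 2, 3, 1, 3, 4, 1, 2, 3, 2, 1, 3, 4] [.out 3208],
  .sub [1, 2, 3, 1, 3, 4, 1, 2, 3, 2, 1, 3, 4] [.out 1821],
  .sub [1, 4, 3, 2, 4, 3, 1, 2, 3, 2, 1, 3, 4] [.sub [29, 25, 18, 31, 19, 29, 31, 30, 20, 27, 30, 29, 29] [.out 1145]],
  .sub [2, 4, 3, 2, 4, 3, 1, 2, 3, 2, 1, 3, 4] [.sub [29, 19, 18, 25, 18, 18, 31, 20, 24, 31, 29, 25, 29] [.out 477]],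
  .sub [4, 1, 3, 2, 4, 3, 1, 2, 3, 2, 1, 3, 4] [.sub [18, 19, 25, 18, 24, 29, 31, 20, 27, 29] [.out 1094]],
  .sub [3, 1, 3, 2, 4, 3, 1, 2, 3, 2, 1, 3, 4] [.sub [24, 20, 25, 18, 25, 20, 20, 20, 20, 25] [.out 931]],
  .sub [2, 1, 3, 2, 4, 3, 1, 2, 3, 2, 1, 3, 4] [.out 2543],
  .sub [1, 2, 3, 2, 4, 3, 1, 2, 3, 2, 1, 3, 4] [.out 1272],
  .sub [1, 3, 1, 2, 4, 3, 1, 2, 3, 2, 1, 3, 4] [.out 2847],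
  .sub [2, 3, 1, 2, 4, 3, 1, 2, 3, 2, 1, 3, 4] [.sub [25, 19, 19, 25, 18, 27, 24, 20, 20, 30, 25, 29, 29] [.out 2447]],
  .sub [2, 1, 3, 4, 1, 3, 1, 2, 3, 2, 1, 3, 4] [.out 2098],
  .sub [1, 2, 3, 4, 1, 3, 1, 2, 3, 2, 1, 3, 4] [.sub [24, 18, 19, 24, 18, 31, 24, 29, 24, 30, 29] [.out 1975]],
  .sub [3, 1, 4, 3, 2, 3, 1, 2, 3, 2, 1, 3, 4] [.sub [25, 20, 25, 19, 18, 29, 31, 24, 30, 27] [.sub [30, 19, 20, 18, 19, 31, 25, 27, 24, 29, 25, 29, 29] [.out 267]]],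
  .sub [4, 3, 1, 3, 2, 3, 1, 2, 3, 2, 1, 3, 4] [.out 2475],
  .sub [4, 3, 4, 1, 2, 3, 1, 2, 3, 2, 1, 3, 4] [.sub [27, 30, 18, 18, 18, 20, 27, 20, 31, 27, 29, 29] [.out 2480]],
  .sub [1, 4, 3, 1, 2, 3, 1, 2, 3, 2, 1, 3, 4] [.out 3593],
  .sub [2, 4, 3, 1, 2, 3, 1, 2, 3, 2, 1, 3, 4] [.sub [29, 19, 29, 18, 24, 30, 25, 31, 30, 29, 29] [.out 3043]],
  .sub [3, 2, 3, 1, 2, 3, 1, 2, 3, 2, 1, 3, 4] [.out 2006],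
  .sub [4, 3, 2, 1, 4, 1, 4, 3, 1, 2, 1, 3, 4] [.out 3708],
  .sub [1, 4, 3, 2, 4, 1, 4, 3, 1, 2, 1, 3, 4] [.sub [30, 31, 19, 25, 19, 27, 24, 29, 20, 20] [.sub [20, 24, 24, 19, 29, 20, 20, 20, 29, 25] [.bad [31, 25, 18, 19, 27, 31, 25, 20, 29, 25, 29, 29] 1]]],
  .sub [2, 4, 3, 2, 4, 1, 4, 3, 1, 2, 1, 3, 4] [.out 3687],
  .sub [3, 1, 3, 2, 4, 1, 4, 3, 1, 2, 1, 3, 4] [.out 3129],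
  .sub [2, 1, 3, 2, 4, 1, 4, 3, 1, 2, 1, 3, 4] [.sub [18, 25, 19, 18, 24, 29, 24, 20, 29, 29] [.out 772]],
  .sub [1, 2, 3, 2, 4, 1, 4, 3, 1, 2, 1, 3, 4] [.sub [24, 19, 24, 18, 18, 31, 24, 20, 20, 27, 30, 29] [.out 1425]],
  .sub [3, 4, 1, 2, 4, 1, 4, 3, 1, 2, 1, 3, 4] [.sub [19, 31, 20, 19, 19, 27, 31, 20, 20, 29] [.sub [20, 25, 19, 18, 20, 24, 25, 24] [.bad [18, 19, 18, 18, 24, 25, 20, 29] 1]]],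
  .sub [1, 4, 1, 2, 4, 1, 4, 3, 1, 2, 1, 3, 4] [.out 3115],
  .sub [4, 3, 1, 2, 4, 1, 4, 3, 1, 2, 1, 3, 4] [.sub [27, 31, 20, 19, 18, 20, 30, 20, 20, 27, 30, 29] [.out 2714]],
  .sub [1, 3, 1, 2, 4, 1, 4, 3, 1, 2, 1, 3, 4] [.sub [20, 19, 18, 29, 31, 31, 20, 24, 30, 29] [.out 990]],
  .sub [2, 3, 1, 2, 4, 1, 4, 3, 1, 2, 1, 3, 4] [.out 3205],
  .sub [4, 3, 2, 1, 3, 1, 4, 3, 1, 2, 1, 3, 4] [.sub [29, 25, 18, 20, 19, 18, 31, 31, 30, 20, 30, 25, 29] [.sub [24, 19, 27, 18, 30, 24, 31, 20, 20, 30, 27] [.out 2119]]]]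

/-- Branches. -/
def kidsYPart38 : List Branch := [
  .sub [2, 3, 2, 1, 3, 1, 4, 3, 1, 2, 1, 3, 4] [.out 2198],
  .sub [3, 4, 1, 2, 3, 1, 4, 3, 1, 2, 1, 3, 4] [.out 2876],
  .sub [4, 1, 4, 3, 2, 1, 4, 3, 1, 2, 1, 3, 4] [.sub [18, 24, 27, 19, 18, 24, 30, 29, 31, 29] [.out 908]],
  .sub [3, 1, 4, 3, 2, 1, 4, 3, 1, 2, 1, 3, 4] [.sub [24, 20, 19, 19, 25, 31, 25, 24, 29, 25, 29, 29] [.out 3345]],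
  .sub [2, 1, 4, 3, 2, 1, 4, 3, 1, 2, 1, 3, 4] [.out 3495],
  .sub [1, 2, 4, 3, 2, 1, 4, 3, 1, 2, 1, 3, 4] [.sub [19, 24, 31, 24, 18, 24, 29, 31, 20, 20, 29, 25, 29, 29] [.sub [25, 20, 25, 19, 18, 27, 30, 31, 20, 27, 30, 29, 29] [.out 2989]]],
  .sub [1, 4, 1, 3, 2, 1, 4, 3, 1, 2, 1, 3, 4] [.out 1320],
  .sub [2, 4, 1, 3, 2, 1, 4, 3, 1, 2, 1, 3, 4] [.out 2391],
  .sub [3, 2, 1, 3, 2, 1, 4, 3, 1, 2, 1, 3, 4] [.out 3968],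
  .sub [1, 2, 1, 3, 2, 1, 4, 3, 1, 2, 1, 3, 4] [.out 2928],
  .sub [1, 4, 3, 1, 2, 1, 4, 3, 1, 2, 1, 3, 4] [.sub [27, 30, 18, 18, 18, 30, 31, 29, 30, 24, 30, 29] [.sub [19, 20, 20, 18, 19, 29, 25, 20, 24, 30, 27, 29, 29] [.out 1251]]],
  .sub [3, 2, 3, 1, 2, 1, 4, 3, 1, 2, 1, 3, 4] [.out 3358],
  .sub [1, 2, 3, 1, 2, 1, 4, 3, 1, 2, 1, 3, 4] [.out 3098],
  .sub [3, 4, 1, 4, 3, 2, 4, 3, 1, 2, 1, 3, 4] [.sub [31, 20, 25, 18, 20, 27, 24, 20, 20, 30, 29, 29] [.out 2646]],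
  .sub [4, 3, 1, 4, 3, 2, 4, 3, 1, 2, 1, 3, 4] [.sub [20, 27, 24, 19, 18, 25, 20, 30, 24, 20, 30, 27, 29, 29] [.sub [19, 18, 18, 24, 18, 31, 31, 25, 31, 27, 30, 29] [.out 3762]]],
  .sub [4, 3, 4, 1, 3, 2, 4, 3, 1, 2, 1, 3, 4] [.sub [18, 29, 19, 18, 24, 27, 29, 31, 30, 29, 29] [.sub [19, 29, 18, 24, 29, 31, 31, 29, 29] [.out 692]]],
  .sub [1, 3, 4, 1, 3, 2, 4, 3, 1, 2, 1, 3, 4] [.out 2983],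
  .sub [2, 3, 4, 1, 3, 2, 4, 3, 1, 2, 1, 3, 4] [.out 3236],
  .sub [3, 1, 4, 1, 3, 2, 4, 3, 1, 2, 1, 3, 4] [.sub [19, 19, 31, 19, 18, 31, 31, 20, 31, 25, 29, 29] [.out 4016]],
  .sub [3, 2, 4, 1, 3, 2, 4, 3, 1, 2, 1, 3, 4] [.sub [25, 31, 19, 24, 20, 30, 24, 30] [.out 304]],
  .sub [1, 2, 4, 1, 3, 2, 4, 3, 1, 2, 1, 3, 4] [.sub [18, 27, 25, 20, 18, 30, 20, 31, 29, 24, 27, 29] [.sub [29, 20, 20, 19, 18, 24, 31, 24, 20, 30] [.out 2808]]],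
  .sub [2, 4, 3, 1, 3, 2, 4, 3, 1, 2, 1, 3, 4] [.out 3690],
  .sub [3, 2, 3, 1, 3, 2, 4, 3, 1, 2, 1, 3, 4] [.sub [31, 27, 18, 18, 19, 20, 20, 31, 27] [.out 2034]],
  .sub [1, 3, 2, 1, 3, 2, 4, 3, 1, 2, 1, 3, 4] [.out 2637],
  .sub [1, 3, 1, 4, 1, 2, 4, 3, 1, 2, 1, 3, 4] [.out 3765],
  .sub [3, 4, 1, 3, 1, 2, 4, 3, 1, 2, 1, 3, 4] [.sub [29, 19, 25, 18, 27, 31, 30, 20, 20, 30, 25, 29] [.out 1412]],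
  .sub [2, 4, 1, 3, 1, 2, 4, 3, 1, 2, 1, 3, 4] [.out 3824],
  .sub [3, 2, 1, 3, 1, 2, 4, 3, 1, 2, 1, 3, 4] [.sub [24, 25, 19, 18, 18, 24, 29, 30, 31, 29] [.sub [19, 20, 25, 20, 18, 25, 31, 25, 31, 25, 29] [.out 2899]]],
  .sub [2, 4, 3, 2, 3, 4, 1, 3, 1, 2, 1, 3, 4] [.sub [27, 19, 19, 24, 19, 27, 30, 27, 31, 20, 25, 29] [.out 2086]],
  .sub [4, 1, 3, 2, 3, 4, 1, 3, 1, 2, 1, 3, 4] [.sub [27, 31, 20, 19, 18, 24, 30, 29, 31, 30, 25, 29] [.out 3722]],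
  .sub [1, 3, 2, 3, 1, 4, 1, 3, 1, 2, 1, 3, 4] [.sub [18, 20, 25, 27, 18, 30, 31, 30, 24, 27] [.out 391]],
  .sub [2, 3, 2, 3, 1, 4, 1, 3, 1, 2, 1, 3, 4] [.sub [19, 30, 18, 18, 18, 27, 29, 20, 20, 20, 27, 30, 29] [.out 1125]],
  .sub [2, 4, 3, 2, 1, 4, 1, 3, 1, 2, 1, 3, 4] [.sub [25, 19, 18, 24, 18, 31, 30, 29, 24, 20, 30, 25, 29] [.sub [24, 19, 27, 18, 30, 24, 31, 20, 20, 30, 27] [.bad [27, 24, 27, 18, 20, 30, 20, 20, 24, 27, 29] 1]]],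
  .sub [4, 1, 3, 2, 1, 4, 1, 3, 1, 2, 1, 3, 4] [.sub [20, 30, 31, 18, 19, 29, 31, 30, 24, 29, 25, 29, 29] [.sub [19, 27, 19, 19, 19, 20, 31, 30, 20, 20, 29, 25, 29, 29] [.out 3049]]],
  .sub [3, 1, 3, 2, 1, 4, 1, 3, 1, 2, 1, 3, 4] [.out 3708],
  .sub [1, 2, 3, 2, 1, 4, 1, 3, 1, 2, 1, 3, 4] [.out 3793],
  .sub [3, 4, 1, 2, 1, 4, 1, 3, 1, 2, 1, 3, 4] [.out 3882],
  .sub [4, 3, 1, 2, 1, 4, 1, 3, 1, 2, 1, 3, 4] [.sub [18, 27, 31, 18, 29, 31, 31, 25, 20, 27] [.out 1310]],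
  .sub [1, 3, 1, 2, 1, 4, 1, 3, 1, 2, 1, 3, 4] [.sub [31, 24, 25, 18, 19, 25, 20, 31, 24, 30, 27, 29] [.out 3619]],
  .sub [2, 3, 1, 2, 1, 4, 1, 3, 1, 2, 1, 3, 4] [.out 524],
  .sub [4, 1, 4, 3, 2, 4, 1, 3, 1, 2, 1, 3, 4] [.out 3934],
  .sub [2, 1, 4, 3, 2, 4, 1, 3, 1, 2, 1, 3, 4] [.sub [31, 27, 27, 19, 18, 24, 29, 20, 31, 27, 30] [.out 2829]],
  .sub [3, 2, 4, 3, 2, 4, 1, 3, 1, 2, 1, 3, 4] [.out 1255],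
  .sub [1, 2, 4, 3, 2, 4, 1, 3, 1, 2, 1, 3, 4] [.sub [31, 25, 19, 24, 19, 18, 24, 20, 20, 31, 27, 29] [.out 3985]],
  .sub [3, 1, 2, 3, 2, 4, 1, 3, 1, 2, 1, 3, 4] [.out 3415],
  .sub [4, 3, 4, 1, 2, 4, 1, 3, 1, 2, 1, 3, 4] [.out 2635],
  .sub [3, 1, 4, 1, 2, 4, 1, 3, 1, 2, 1, 3, 4] [.sub [31, 29, 25, 19, 18, 25, 31, 27, 20, 20, 30, 27, 29] [.out 3752]],
  .sub [2, 1, 4, 1, 2, 4, 1, 3, 1, 2, 1, 3, 4] [.sub [29, 18, 25, 18, 18, 30, 24, 31, 25, 29, 29] [.out 3629]],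
  .sub [2, 4, 3, 1, 2, 4, 1, 3, 1, 2, 1, 3, 4] [.sub [30, 24, 27, 19, 29, 20, 24, 29, 29] [.sub [18, 24, 18, 19, 19, 25, 20, 30, 27, 29] [.out 2143]]],
  .sub [3, 2, 3, 1, 2, 4, 1, 3, 1, 2, 1, 3, 4] [.out 3396],
  .sub [1, 2, 3, 1, 2, 4, 1, 3, 1, 2, 1, 3, 4] [.out 1759],
  .sub [3, 4, 1, 4, 3, 2, 1, 3, 1, 2, 1, 3, 4] [.out 1196],
  .sub [4, 3, 1, 4, 3, 2, 1, 3, 1, 2, 1, 3, 4] [.sub [24, 31, 19, 24, 18, 30, 29, 31, 20, 27] [.out 2677]],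
  .sub [1, 3, 1, 4, 3, 2, 1, 3, 1, 2, 1, 3, 4] [.sub [18, 18, 31, 19, 18, 30, 31, 31, 30, 29, 29] [.out 3904]],
  .sub [2, 3, 1, 4, 3, 2, 1, 3, 1, 2, 1, 3, 4] [.out 3727],
  .sub [3, 2, 1, 4, 3, 2, 1, 3, 1, 2, 1, 3, 4] [.sub [30, 31, 25, 18, 24, 27, 24, 30, 27, 29] [.sub [18, 31, 18, 19, 25, 20, 31, 24, 25] [.out 3653]]],
  .sub [1, 3, 2, 4, 3, 2, 1, 3, 1, 2, 1, 3, 4] [.sub [19, 20, 18, 18, 18, 24, 24, 31, 31, 30, 27, 29, 29] [.out 3081]],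
  .sub [2, 3, 2, 4, 3, 2, 1, 3, 1, 2, 1, 3, 4] [.out 2111],
  .sub [3, 1, 2, 4, 3, 2, 1, 3, 1, 2, 1, 3, 4] [.out 2541],
  .sub [4, 3, 4, 1, 3, 2, 1, 3, 1, 2, 1, 3, 4] [.out 2367],
  .sub [2, 3, 4, 1, 3, 2, 1, 3, 1, 2, 1, 3, 4] [.sub [27, 18, 18, 29, 18, 18, 27, 27, 24, 29, 25] [.out 2754]],
  .sub [3, 2, 4, 1, 3, 2, 1, 3, 1, 2, 1, 3, 4] [.sub [24, 20, 19, 18, 19, 27, 25, 20, 29, 25, 29, 29] [.out 2014]],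
  .sub [4, 1, 3, 1, 3, 2, 1, 3, 1, 2, 1, 3, 4] [.out 3344],
  .sub [2, 1, 3, 1, 3, 2, 1, 3, 1, 2, 1, 3, 4] [.out 2394]]

/-- Branches. -/
def kidsYPart39 : List Branch := [
  .sub [4, 3, 2, 1, 3, 2, 1, 3, 1, 2, 1, 3, 4] [.sub [18, 31, 25, 18, 31, 31, 31, 25, 31, 29] [.out 2281]],
  .sub [2, 3, 2, 1, 3, 2, 1, 3, 1, 2, 1, 3, 4] [.out 2704],
  .sub [1, 4, 1, 2, 3, 2, 1, 3, 1, 2, 1, 3, 4] [.out 2595],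
  .sub [4, 3, 1, 2, 3, 2, 1, 3, 1, 2, 1, 3, 4] [.sub [31, 30, 20, 19, 18, 20, 24, 30, 20, 29, 29] [.out 527]],
  .sub [1, 3, 1, 2, 3, 2, 1, 3, 1, 2, 1, 3, 4] [.sub [29, 20, 20, 18, 19, 24, 30, 31, 27] [.out 557]],
  .sub [4, 1, 3, 4, 1, 2, 1, 3, 1, 2, 1, 3, 4] [.out 3119],
  .sub [4, 3, 1, 4, 1, 2, 1, 3, 1, 2, 1, 3, 4] [.out 2364],
  .sub [2, 3, 1, 4, 1, 2, 1, 3, 1, 2, 1, 3, 4] [.sub [31, 18, 18, 24, 18, 18, 30, 31, 30, 31, 29, 25, 29] [.sub [27, 19, 18, 20, 18, 18, 31, 25, 31, 27, 29] [.out 1275]]],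
  .sub [3, 2, 1, 4, 1, 2, 1, 3, 1, 2, 1, 3, 4] [.sub [31, 18, 19, 18, 18, 25, 20, 20, 20, 20, 27, 30, 29, 29] [.out 1628]],
  .sub [2, 1, 4, 3, 1, 2, 1, 3, 1, 2, 1, 3, 4] [.out 2968],
  .sub [1, 2, 4, 3, 1, 2, 1, 3, 1, 2, 1, 3, 4] [.out 1314],
  .sub [3, 2, 1, 3, 1, 2, 1, 3, 1, 2, 1, 3, 4] [.out 2729],
  .sub [4, 1, 2, 3, 1, 2, 1, 3, 1, 2, 1, 3, 4] [.sub [29, 19, 29, 19, 18, 31, 20, 27, 29] [.sub [31, 27, 19, 18, 31, 20, 24, 20, 30, 27] [.done 11]]],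
  .sub [3, 1, 2, 3, 1, 2, 1, 3, 1, 2, 1, 3, 4] [.sub [31, 18, 31, 24, 18, 24, 31, 31, 27] [.out 3762]],
  .sub [3, 1, 4, 1, 4, 3, 2, 3, 1, 2, 1, 3, 4] [.sub [29, 18, 19, 24, 19, 30, 24, 25, 24, 20] [.sub [25, 19, 24, 24, 19, 31, 20, 24, 30, 25] [.out 2471]]],
  .sub [1, 3, 2, 1, 4, 3, 2, 3, 1, 2, 1, 3, 4] [.sub [30, 19, 18, 24, 18, 24, 20, 30, 20, 30, 25] [.out 2232]],
  .sub [2, 3, 2, 1, 4, 3, 2, 3, 1, 2, 1, 3, 4] [.sub [24, 25, 19, 18, 30, 24, 30, 25, 20, 25] [.out 3182]],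
  .sub [4, 1, 3, 4, 1, 3, 2, 3, 1, 2, 1, 3, 4] [.out 3596],
  .sub [3, 1, 3, 4, 1, 3, 2, 3, 1, 2, 1, 3, 4] [.out 3701],
  .sub [4, 3, 1, 4, 1, 3, 2, 3, 1, 2, 1, 3, 4] [.sub [18, 30, 31, 19, 20, 30, 20, 30, 27, 29] [.out 1760]],
  .sub [1, 3, 1, 4, 1, 3, 2, 3, 1, 2, 1, 3, 4] [.sub [19, 30, 19, 20, 18, 18, 24, 29, 24, 20, 30, 29, 29] [.out 1054]],
  .sub [2, 3, 1, 4, 1, 3, 2, 3, 1, 2, 1, 3, 4] [.out 3226],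
  .sub [3, 1, 4, 3, 1, 3, 2, 3, 1, 2, 1, 3, 4] [.sub [18, 19, 27, 18, 24, 20, 20, 31, 25] [.out 3024]],
  .sub [3, 4, 1, 3, 1, 3, 2, 3, 1, 2, 1, 3, 4] [.sub [18, 18, 18, 19, 18, 30, 31, 30, 31, 30, 27, 29] [.out 3657]],
  .sub [2, 4, 1, 3, 1, 3, 2, 3, 1, 2, 1, 3, 4] [.out 1266],
  .sub [3, 2, 1, 3, 1, 3, 2, 3, 1, 2, 1, 3, 4] [.sub [20, 20, 24, 18, 18, 31, 24, 31, 31, 20, 27, 30, 29] [.out 179]],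
  .sub [2, 1, 4, 3, 4, 1, 2, 3, 1, 2, 1, 3, 4] [.out 3304],
  .sub [1, 2, 4, 3, 4, 1, 2, 3, 1, 2, 1, 3, 4] [.sub [27, 29, 18, 19, 18, 30, 24, 30, 31, 30, 25, 29] [.out 2299]],
  .sub [3, 4, 1, 3, 4, 1, 2, 3, 1, 2, 1, 3, 4] [.out 1703],
  .sub [1, 4, 1, 3, 4, 1, 2, 3, 1, 2, 1, 3, 4] [.sub [18, 20, 25, 18, 27, 29, 25, 24, 27, 30, 29] [.out 3925]],
  .sub [2, 4, 1, 3, 4, 1, 2, 3, 1, 2, 1, 3, 4] [.sub [19, 18, 31, 27, 29, 20, 24, 30, 27] [.out 3869]],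
  .sub [4, 1, 2, 3, 4, 1, 2, 3, 1, 2, 1, 3, 4] [.sub [18, 30, 31, 19, 20, 30, 20, 30, 27, 29] [.out 1641]],
  .sub [3, 1, 2, 3, 4, 1, 2, 3, 1, 2, 1, 3, 4] [.sub [24, 18, 20, 24, 18, 27, 31, 24, 29, 24, 29, 25, 29] [.out 2656]],
  .sub [1, 4, 3, 1, 4, 1, 2, 3, 1, 2, 1, 3, 4] [.sub [29, 31, 19, 24, 18, 27, 25, 31, 31, 30] [.out 2892]],
  .sub [2, 4, 3, 1, 4, 1, 2, 3, 1, 2, 1, 3, 4] [.sub [25, 19, 19, 18, 19, 31, 29, 24, 25, 20, 29, 25] [.sub [20, 30, 31, 19, 29, 31, 31, 25, 20, 27, 29] [.out 521]]],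
  .sub [4, 1, 3, 1, 4, 1, 2, 3, 1, 2, 1, 3, 4] [.sub [20, 18, 27, 27, 18, 18, 27, 31, 29, 31, 27, 30, 29, 29] [.out 1874]],
  .sub [2, 1, 3, 1, 4, 1, 2, 3, 1, 2, 1, 3, 4] [.out 2787],
  .sub [3, 2, 3, 1, 4, 1, 2, 3, 1, 2, 1, 3, 4] [.sub [18, 20, 29, 18, 20, 24, 29, 31, 29, 25, 29, 29] [.out 2574]],
  .sub [1, 2, 3, 1, 4, 1, 2, 3, 1, 2, 1, 3, 4] [.out 2829],
  .sub [4, 3, 2, 1, 4, 1, 2, 3, 1, 2, 1, 3, 4] [.sub [18, 20, 20, 18, 19, 31, 30, 29, 20, 20, 27, 30, 29] [.sub [20, 20, 20, 18, 24, 29, 31, 20, 27] [.out 885]]],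
  .sub [1, 3, 2, 1, 4, 1, 2, 3, 1, 2, 1, 3, 4] [.out 3946],
  .sub [2, 3, 2, 1, 4, 1, 2, 3, 1, 2, 1, 3, 4] [.out 2545],
  .sub [3, 4, 1, 4, 3, 1, 2, 3, 1, 2, 1, 3, 4] [.sub [27, 24, 19, 29, 18, 25, 31, 31, 24, 20, 25, 29, 29] [.out 2745]],
  .sub [1, 4, 1, 4, 3, 1, 2, 3, 1, 2, 1, 3, 4] [.out 3740],
  .sub [4, 3, 1, 4, 3, 1, 2, 3, 1, 2, 1, 3, 4] [.sub [25, 19, 29, 18, 19, 18, 20, 29, 31, 30] [.sub [19, 27, 31, 19, 18, 31, 24, 25, 24, 20, 30, 29] [.out 3726]]],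
  .sub [1, 3, 1, 4, 3, 1, 2, 3, 1, 2, 1, 3, 4] [.sub [29, 18, 19, 30, 31, 30, 24, 27] [.out 529]],
  .sub [4, 3, 2, 4, 3, 1, 2, 3, 1, 2, 1, 3, 4] [.out 2810],
  .sub [1, 3, 4, 1, 3, 1, 2, 3, 1, 2, 1, 3, 4] [.sub [30, 18, 20, 20, 18, 20, 27, 24, 30, 25, 29] [.out 3062]],
  .sub [2, 3, 4, 1, 3, 1, 2, 3, 1, 2, 1, 3, 4] [.sub [19, 24, 19, 24, 18, 24, 30, 20, 30, 27, 29] [.sub [20, 18, 29, 18, 20, 27, 31, 25, 20, 30, 29, 29] [.bad [20, 24, 18, 19, 18, 27, 25, 24, 27, 30] 1]]],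
  .sub [3, 1, 4, 1, 3, 1, 2, 3, 1, 2, 1, 3, 4] [.out 3630],
  .sub [2, 1, 4, 1, 3, 1, 2, 3, 1, 2, 1, 3, 4] [.sub [20, 31, 24, 18, 24, 29, 31, 30, 29, 29] [.out 4012]],
  .sub [3, 2, 4, 1, 3, 1, 2, 3, 1, 2, 1, 3, 4] [.sub [31, 25, 19, 24, 19, 18, 27, 24, 27, 31, 20, 30, 25] [.out 1803]],
  .sub [1, 2, 4, 1, 3, 1, 2, 3, 1, 2, 1, 3, 4] [.sub [24, 19, 31, 18, 31, 29, 31, 24, 27, 29] [.out 3653]],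
  .sub [4, 3, 2, 1, 3, 1, 2, 3, 1, 2, 1, 3, 4] [.out 2776],
  .sub [2, 3, 2, 1, 3, 1, 2, 3, 1, 2, 1, 3, 4] [.sub [27, 19, 30, 24, 18, 18, 20, 31, 31, 25, 20, 30, 29] [.sub [19, 25, 27, 18, 27, 30, 27, 24, 30] [.bad [29, 25, 18, 18, 20, 20, 30, 24, 20, 30, 25, 29] 1]]],
  .sub [1, 4, 1, 2, 3, 1, 2, 3, 1, 2, 1, 3, 4] [.sub [18, 31, 18, 18, 29, 20, 31, 20, 30, 27, 29] [.out 2696]],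
  .sub [4, 3, 1, 2, 3, 1, 2, 3, 1, 2, 1, 3, 4] [.sub [18, 24, 29, 19, 19, 18, 27, 24, 20, 24, 20, 27, 30, 29] [.sub [31, 18, 18, 27, 30, 20, 30, 27] [.out 213]]],
  .sub [1, 4, 3, 2, 1, 3, 4, 1, 4, 3, 2, 3, 4] [.sub [19, 31, 20, 19, 18, 29, 31, 31, 25, 20, 30] [.sub [19, 31, 20, 19, 31, 27, 20, 20, 20, 25] [.out 3382]]],
  .sub [2, 4, 3, 2, 1, 3, 4, 1, 4, 3, 2, 3, 4] [.out 4025],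
  .sub [4, 1, 3, 2, 1, 3, 4, 1, 4, 3, 2, 3, 4] [.out 3491],
  .sub [3, 1, 3, 2, 1, 3, 4, 1, 4, 3, 2, 3, 4] [.sub [31, 29, 19, 19, 18, 20, 20, 24, 30] [.out 3090]],
  .sub [2, 1, 3, 2, 1, 3, 4, 1, 4, 3, 2, 3, 4] [.sub [31, 31, 18, 19, 18, 29, 31, 24, 29, 25, 29] [.out 803]],
  .sub [1, 2, 3, 2, 1, 3, 4, 1, 4, 3, 2, 3, 4] [.sub [31, 29, 19, 20, 18, 27, 30, 31, 20, 25, 29] [.out 3673]],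
  .sub [1, 3, 1, 3, 2, 4, 3, 1, 4, 3, 2, 3, 4] [.out 2719]]

/-- Branches. -/
def kidsYPart40 : List Branch := [
  .sub [2, 3, 1, 3, 2, 4, 3, 1, 4, 3, 2, 3, 4] [.sub [31, 20, 18, 19, 18, 30, 31, 29, 30, 24, 30, 27] [.out 997]],
  .sub [3, 1, 4, 1, 2, 4, 3, 1, 4, 3, 2, 3, 4] [.sub [31, 27, 19, 31, 18, 29, 25, 24, 31, 20, 25, 29, 29] [.out 2010]],
  .sub [2, 1, 4, 1, 2, 4, 3, 1, 4, 3, 2, 3, 4] [.out 1037],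
  .sub [1, 4, 3, 1, 2, 4, 3, 1, 4, 3, 2, 3, 4] [.out 3652],
  .sub [1, 3, 2, 3, 4, 1, 3, 1, 4, 3, 2, 3, 4] [.out 2496],
  .sub [2, 3, 2, 3, 4, 1, 3, 1, 4, 3, 2, 3, 4] [.sub [19, 20, 29, 31, 18, 27, 31, 27, 20, 20, 30, 25, 29] [.out 2705]],
  .sub [2, 4, 3, 2, 4, 1, 3, 1, 4, 3, 2, 3, 4] [.out 2885],
  .sub [2, 1, 3, 2, 4, 1, 3, 1, 4, 3, 2, 3, 4] [.out 3426],
  .sub [1, 2, 3, 2, 4, 1, 3, 1, 4, 3, 2, 3, 4] [.sub [25, 19, 29, 31, 18, 31, 31, 31, 31, 24, 29] [.sub [31, 19, 24, 18, 24, 18, 27, 29, 20, 31, 27, 30] [.done 5]]],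
  .sub [4, 3, 1, 2, 4, 1, 3, 1, 4, 3, 2, 3, 4] [.out 2505],
  .sub [4, 1, 4, 3, 2, 1, 3, 1, 4, 3, 2, 3, 4] [.out 3509],
  .sub [2, 1, 4, 3, 2, 1, 3, 1, 4, 3, 2, 3, 4] [.sub [25, 18, 30, 19, 18, 25, 27, 25, 20, 30, 25, 29, 29] [.out 3079]],
  .sub [3, 2, 4, 3, 2, 1, 3, 1, 4, 3, 2, 3, 4] [.out 2545],
  .sub [1, 4, 1, 3, 2, 1, 3, 1, 4, 3, 2, 3, 4] [.out 4037],
  .sub [4, 3, 1, 3, 2, 1, 3, 1, 4, 3, 2, 3, 4] [.out 1897],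
  .sub [2, 3, 1, 3, 2, 1, 3, 1, 4, 3, 2, 3, 4] [.out 870],
  .sub [3, 1, 2, 3, 2, 1, 3, 1, 4, 3, 2, 3, 4] [.out 1920],
  .sub [1, 4, 3, 1, 2, 1, 3, 1, 4, 3, 2, 3, 4] [.sub [20, 29, 19, 20, 18, 18, 31, 20, 20, 20, 30, 29] [.out 3480]],
  .sub [4, 1, 3, 1, 2, 1, 3, 1, 4, 3, 2, 3, 4] [.out 3132],
  .sub [2, 3, 4, 1, 3, 2, 3, 1, 4, 3, 2, 3, 4] [.out 3301],
  .sub [3, 2, 4, 1, 3, 2, 3, 1, 4, 3, 2, 3, 4] [.sub [29, 25, 20, 18, 29, 31, 25, 20, 20, 27, 30] [.out 1328]],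
  .sub [4, 1, 3, 1, 3, 2, 3, 1, 4, 3, 2, 3, 4] [.out 2610],
  .sub [2, 1, 3, 1, 3, 2, 3, 1, 4, 3, 2, 3, 4] [.out 1885],
  .sub [1, 2, 3, 1, 3, 2, 3, 1, 4, 3, 2, 3, 4] [.sub [18, 19, 31, 20, 19, 30, 29, 31, 30, 25, 29, 29] [.out 2406]],
  .sub [1, 4, 3, 4, 1, 2, 3, 1, 4, 3, 2, 3, 4] [.out 2631],
  .sub [2, 4, 3, 4, 1, 2, 3, 1, 4, 3, 2, 3, 4] [.sub [20, 19, 18, 18, 18, 29, 31, 25, 20, 25] [.out 1897]],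
  .sub [2, 1, 3, 4, 1, 2, 3, 1, 4, 3, 2, 3, 4] [.out 3648],
  .sub [4, 3, 1, 4, 1, 2, 3, 1, 4, 3, 2, 3, 4] [.out 1804],
  .sub [2, 3, 1, 4, 1, 2, 3, 1, 4, 3, 2, 3, 4] [.out 2845],
  .sub [3, 1, 4, 3, 1, 2, 3, 1, 4, 3, 2, 3, 4] [.sub [29, 31, 27, 18, 31, 20, 20, 25, 20, 27, 30, 29] [.out 1821]],
  .sub [3, 2, 4, 3, 1, 2, 3, 1, 4, 3, 2, 3, 4] [.out 3788],
  .sub [3, 2, 1, 3, 1, 2, 3, 1, 4, 3, 2, 3, 4] [.sub [30, 19, 29, 25, 18, 30, 25, 31, 25, 24, 25] [.out 778]],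
  .sub [3, 2, 4, 1, 4, 3, 2, 1, 4, 3, 2, 3, 4] [.sub [25, 31, 29, 18, 31, 24, 25, 24, 20, 30, 27, 29] [.out 3422]],
  .sub [4, 1, 3, 1, 4, 3, 2, 1, 4, 3, 2, 3, 4] [.out 4018],
  .sub [2, 1, 3, 1, 4, 3, 2, 1, 4, 3, 2, 3, 4] [.sub [20, 20, 19, 24, 18, 25, 24, 20, 29] [.out 915]],
  .sub [4, 3, 2, 1, 4, 3, 2, 1, 4, 3, 2, 3, 4] [.sub [19, 31, 27, 18, 24, 24, 31, 30, 25, 29, 29] [.out 1924]],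
  .sub [4, 1, 2, 1, 4, 3, 2, 1, 4, 3, 2, 3, 4] [.out 3581],
  .sub [3, 1, 2, 1, 4, 3, 2, 1, 4, 3, 2, 3, 4] [.out 2385],
  .sub [3, 1, 3, 2, 4, 3, 2, 1, 4, 3, 2, 3, 4] [.out 3923],
  .sub [3, 4, 1, 2, 4, 3, 2, 1, 4, 3, 2, 3, 4] [.sub [24, 18, 19, 24, 18, 30, 20, 30, 20, 29] [.out 1119]],
  .sub [1, 4, 1, 2, 4, 3, 2, 1, 4, 3, 2, 3, 4] [.sub [24, 19, 25, 18, 29, 31, 25, 31, 20, 27, 30, 29] [.out 3178]],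
  .sub [4, 3, 1, 2, 4, 3, 2, 1, 4, 3, 2, 3, 4] [.out 3672],
  .sub [2, 3, 1, 2, 4, 3, 2, 1, 4, 3, 2, 3, 4] [.out 3840],
  .sub [4, 3, 4, 1, 2, 3, 2, 1, 4, 3, 2, 3, 4] [.out 1594],
  .sub [2, 3, 4, 1, 2, 3, 2, 1, 4, 3, 2, 3, 4] [.out 3080],
  .sub [3, 1, 4, 1, 2, 3, 2, 1, 4, 3, 2, 3, 4] [.out 2942],
  .sub [2, 4, 3, 1, 2, 3, 2, 1, 4, 3, 2, 3, 4] [.sub [25, 19, 25, 19, 18, 20, 25, 31, 30, 25] [.out 1863]],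
  .sub [1, 2, 3, 1, 2, 3, 2, 1, 4, 3, 2, 3, 4] [.sub [18, 31, 31, 19, 27, 30, 20, 20, 27, 29, 29] [.sub [27, 18, 27, 18, 18, 27, 31, 27, 20, 20, 30, 29, 29] [.out 580]]],
  .sub [3, 2, 4, 3, 2, 4, 3, 4, 1, 3, 2, 3, 4] [.out 4008],
  .sub [4, 3, 2, 3, 4, 1, 3, 4, 1, 3, 2, 3, 4] [.sub [29, 25, 19, 19, 19, 31, 27, 29, 20, 24, 29, 25] [.out 712]],
  .sub [3, 1, 2, 3, 4, 1, 3, 4, 1, 3, 2, 3, 4] [.sub [18, 25, 24, 18, 18, 20, 30, 20, 20, 30, 27, 29] [.out 109]],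
  .sub [2, 4, 3, 2, 4, 1, 3, 4, 1, 3, 2, 3, 4] [.out 1253],
  .sub [1, 4, 1, 2, 4, 1, 3, 4, 1, 3, 2, 3, 4] [.sub [24, 18, 24, 25, 18, 31, 27, 24, 30] [.out 3226]],
  .sub [1, 3, 4, 1, 2, 1, 3, 4, 1, 3, 2, 3, 4] [.sub [20, 18, 25, 19, 25, 20, 20, 20, 20, 25] [.out 1159]],
  .sub [2, 1, 4, 1, 2, 1, 3, 4, 1, 3, 2, 3, 4] [.sub [30, 19, 18, 19, 24, 30, 31, 24, 20, 25, 29, 29] [.out 2575]],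
  .sub [1, 4, 3, 1, 2, 1, 3, 4, 1, 3, 2, 3, 4] [.out 3849],
  .sub [2, 4, 3, 1, 2, 1, 3, 4, 1, 3, 2, 3, 4] [.sub [31, 31, 19, 18, 30, 20, 31, 29, 29] [.out 1882]],
  .sub [1, 2, 3, 1, 2, 1, 3, 4, 1, 3, 2, 3, 4] [.sub [25, 19, 24, 25, 18, 31, 29, 24, 25, 20, 27, 29, 29] [.out 1445]],
  .sub [3, 4, 1, 4, 3, 2, 3, 4, 1, 3, 2, 3, 4] [.sub [19, 30, 19, 18, 19, 27, 29, 20, 20, 20, 27, 29, 29] [.out 3808]],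
  .sub [1, 3, 1, 4, 3, 2, 3, 4, 1, 3, 2, 3, 4] [.sub [18, 24, 19, 24, 19, 29, 20, 20, 24, 29, 25, 29] [.out 199]],
  .sub [4, 3, 4, 1, 3, 2, 3, 4, 1, 3, 2, 3, 4] [.sub [25, 18, 31, 18, 31, 24, 27, 25, 20, 27, 29] [.out 2580]],
  .sub [1, 3, 4, 1, 3, 2, 3, 4, 1, 3, 2, 3, 4] [.sub [19, 29, 19, 18, 30, 31, 25] [.out 3050]],
  .sub [2, 3, 4, 1, 3, 2, 3, 4, 1, 3, 2, 3, 4] [.sub [25, 27, 24, 19, 18, 31, 24, 20, 31, 25, 29] [.out 2516]],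
  .sub [2, 1, 3, 1, 3, 2, 3, 4, 1, 3, 2, 3, 4] [.sub [30, 24, 31, 24, 18, 20, 27, 20, 31, 29] [.out 1944]]]

/-- Branches. -/
def kidsYPart41 : List Branch := [
  .sub [1, 2, 3, 1, 3, 2, 3, 4, 1, 3, 2, 3, 4] [.sub [30, 18, 19, 18, 27, 25, 20, 24, 30, 25] [.out 1536]],
  .sub [1, 3, 2, 1, 3, 2, 3, 4, 1, 3, 2, 3, 4] [.sub [19, 27, 19, 20, 18, 18, 20, 24, 31, 31, 30, 27, 29, 29] [.out 256]],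
  .sub [2, 1, 3, 4, 1, 2, 3, 4, 1, 3, 2, 3, 4] [.out 2634],
  .sub [4, 1, 4, 3, 1, 2, 3, 4, 1, 3, 2, 3, 4] [.sub [19, 20, 31, 19, 24, 29, 24, 31, 29, 29] [.out 617]],
  .sub [3, 4, 1, 3, 1, 2, 3, 4, 1, 3, 2, 3, 4] [.sub [30, 18, 25, 18, 20, 24, 27, 24, 20, 30, 27, 29] [.out 929]],
  .sub [1, 4, 1, 3, 1, 2, 3, 4, 1, 3, 2, 3, 4] [.out 2601],
  .sub [2, 4, 1, 3, 1, 2, 3, 4, 1, 3, 2, 3, 4] [.sub [29, 24, 18, 18, 24, 20, 30, 31, 20, 27] [.out 2886]],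
  .sub [1, 2, 1, 3, 1, 2, 3, 4, 1, 3, 2, 3, 4] [.sub [20, 18, 31, 24, 18, 24, 31, 25, 24, 30, 25, 29, 29] [.sub [20, 19, 31, 24, 18, 20, 27, 20, 20, 30, 27] [.bad [31, 18, 27, 18, 18, 29, 31, 29, 30, 24, 25, 29] 1]]],
  .sub [3, 1, 2, 3, 1, 2, 3, 4, 1, 3, 2, 3, 4] [.out 3557],
  .sub [2, 1, 3, 1, 4, 3, 2, 4, 1, 3, 2, 3, 4] [.sub [27, 27, 25, 18, 18, 31, 30, 31, 27, 30] [.out 2714]],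
  .sub [4, 1, 3, 2, 4, 3, 2, 4, 1, 3, 2, 3, 4] [.sub [20, 24, 20, 24, 18, 24, 25, 31, 25, 20, 30, 27] [.out 2447]],
  .sub [3, 1, 3, 2, 4, 3, 2, 4, 1, 3, 2, 3, 4] [.out 1211],
  .sub [4, 3, 1, 2, 4, 3, 2, 4, 1, 3, 2, 3, 4] [.sub [29, 18, 19, 18, 24, 20, 31, 30, 29, 29] [.sub [30, 18, 19, 18, 27, 30, 31, 20, 30, 27] [.done 20]]],
  .sub [1, 3, 1, 2, 4, 3, 2, 4, 1, 3, 2, 3, 4] [.out 3880],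
  .sub [2, 3, 1, 2, 4, 3, 2, 4, 1, 3, 2, 3, 4] [.sub [30, 25, 31, 18, 31, 20, 31, 30] [.out 930]],
  .sub [1, 3, 1, 4, 1, 3, 2, 4, 1, 3, 2, 3, 4] [.out 3824],
  .sub [2, 3, 1, 4, 1, 3, 2, 4, 1, 3, 2, 3, 4] [.sub [31, 19, 27, 31, 18, 27, 20, 31, 24, 27] [.out 3630]],
  .sub [1, 2, 1, 4, 1, 3, 2, 4, 1, 3, 2, 3, 4] [.sub [25, 31, 19, 18, 19, 31, 31, 31, 29, 29] [.sub [20, 24, 24, 19, 24, 24, 31, 27, 30, 29] [.out 3082]]],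
  .sub [2, 3, 2, 4, 1, 3, 2, 4, 1, 3, 2, 3, 4] [.sub [27, 25, 18, 25, 18, 18, 24, 29, 25, 24, 20, 25, 29, 29] [.out 2384]],
  .sub [4, 3, 2, 3, 1, 3, 2, 4, 1, 3, 2, 3, 4] [.out 3414],
  .sub [1, 3, 2, 3, 1, 3, 2, 4, 1, 3, 2, 3, 4] [.sub [31, 24, 18, 29, 31, 30, 20, 30, 25] [.out 749]],
  .sub [2, 3, 2, 3, 1, 3, 2, 4, 1, 3, 2, 3, 4] [.sub [18, 27, 24, 20, 18, 31, 30, 27, 31] [.out 1158]],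
  .sub [3, 1, 2, 3, 1, 3, 2, 4, 1, 3, 2, 3, 4] [.sub [19, 18, 24, 25, 18, 25, 20, 30, 24, 25] [.sub [19, 18, 19, 18, 18, 31, 30, 20, 27, 29, 29] [.out 3485]]],
  .sub [3, 1, 3, 2, 1, 3, 2, 4, 1, 3, 2, 3, 4] [.sub [20, 24, 20, 20, 18, 31, 30, 31, 30] [.out 1194]],
  .sub [3, 4, 1, 2, 1, 3, 2, 4, 1, 3, 2, 3, 4] [.sub [18, 20, 25, 18, 27, 29, 25, 24, 27, 30, 29] [.out 623]],
  .sub [4, 3, 1, 2, 1, 3, 2, 4, 1, 3, 2, 3, 4] [.out 4007],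
  .sub [2, 3, 1, 2, 1, 3, 2, 4, 1, 3, 2, 3, 4] [.sub [18, 29, 18, 29, 30, 31, 20, 30, 25] [.sub [25, 20, 24, 18, 29, 31, 24, 20, 27, 29, 29] [.out 3657]]],
  .sub [4, 3, 4, 1, 2, 3, 2, 4, 1, 3, 2, 3, 4] [.sub [18, 31, 18, 19, 18, 24, 27, 24, 20, 20, 30, 29, 29] [.out 3524]],
  .sub [1, 3, 4, 1, 2, 3, 2, 4, 1, 3, 2, 3, 4] [.sub [31, 24, 19, 19, 19, 25, 31, 20, 20, 25, 29, 29] [.out 333]],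
  .sub [2, 3, 4, 1, 2, 3, 2, 4, 1, 3, 2, 3, 4] [.out 3634],
  .sub [3, 1, 4, 1, 2, 3, 2, 4, 1, 3, 2, 3, 4] [.sub [27, 27, 18, 29, 18, 25, 27, 20, 31, 29, 29] [.sub [24, 19, 20, 18, 18, 30, 27, 24, 27, 24, 30, 29] [.out 3719]]],
  .sub [1, 3, 2, 4, 3, 2, 4, 3, 1, 3, 2, 3, 4] [.out 2969],
  .sub [2, 3, 2, 4, 3, 2, 4, 3, 1, 3, 2, 3, 4] [.out 3729],
  .sub [4, 3, 4, 1, 3, 2, 4, 3, 1, 3, 2, 3, 4] [.sub [30, 19, 27, 18, 30, 31, 20, 20, 20, 30, 25] [.out 2461]],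
  .sub [1, 3, 4, 1, 3, 2, 4, 3, 1, 3, 2, 3, 4] [.out 3251],
  .sub [2, 3, 4, 1, 3, 2, 4, 3, 1, 3, 2, 3, 4] [.out 3000],
  .sub [1, 2, 4, 1, 3, 2, 4, 3, 1, 3, 2, 3, 4] [.sub [18, 20, 29, 18, 20, 24, 29, 31, 29, 25, 29, 29] [.out 3163]],
  .sub [3, 2, 3, 1, 3, 2, 4, 3, 1, 3, 2, 3, 4] [.sub [24, 24, 20, 19, 18, 31, 31, 20, 24, 25, 29] [.out 1381]],
  .sub [4, 3, 2, 1, 3, 2, 4, 3, 1, 3, 2, 3, 4] [.sub [20, 30, 19, 25, 18, 24, 20, 29] [.out 3302]],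
  .sub [2, 3, 2, 1, 3, 2, 4, 3, 1, 3, 2, 3, 4] [.out 2208],
  .sub [1, 4, 3, 4, 1, 2, 4, 3, 1, 3, 2, 3, 4] [.sub [24, 29, 31, 29, 18, 30, 27, 31, 20, 30, 25, 29] [.out 3619]],
  .sub [2, 1, 3, 4, 1, 2, 4, 3, 1, 3, 2, 3, 4] [.out 923],
  .sub [3, 4, 1, 3, 1, 2, 4, 3, 1, 3, 2, 3, 4] [.out 3037],
  .sub [1, 4, 1, 3, 1, 2, 4, 3, 1, 3, 2, 3, 4] [.out 2995],
  .sub [3, 2, 1, 3, 1, 2, 4, 3, 1, 3, 2, 3, 4] [.out 3559],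
  .sub [4, 1, 2, 3, 1, 2, 4, 3, 1, 3, 2, 3, 4] [.out 3091],
  .sub [2, 4, 3, 2, 3, 4, 1, 3, 1, 3, 2, 3, 4] [.sub [31, 29, 19, 18, 31, 25, 24, 31, 27, 29, 29] [.out 3394]],
  .sub [1, 2, 3, 2, 3, 4, 1, 3, 1, 3, 2, 3, 4] [.out 3947],
  .sub [2, 1, 4, 3, 2, 4, 1, 3, 1, 3, 2, 3, 4] [.out 2939],
  .sub [3, 2, 4, 3, 2, 4, 1, 3, 1, 3, 2, 3, 4] [.sub [24, 25, 19, 31, 24, 20, 30, 20, 30, 29, 29] [.sub [31, 29, 31, 19, 18, 30, 24, 27, 24, 27, 30, 29] [.out 3769]]],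
  .sub [3, 4, 1, 3, 2, 4, 1, 3, 1, 3, 2, 3, 4] [.out 2725],
  .sub [1, 4, 1, 3, 2, 4, 1, 3, 1, 3, 2, 3, 4] [.out 3688],
  .sub [1, 2, 1, 3, 2, 4, 1, 3, 1, 3, 2, 3, 4] [.sub [24, 31, 19, 20, 18, 27, 24, 20, 24, 20, 30, 29, 29] [.sub [24, 31, 31, 18, 18, 27, 29, 24, 29, 25, 29] [.out 2100]]],
  .sub [4, 3, 4, 1, 2, 4, 1, 3, 1, 3, 2, 3, 4] [.sub [18, 27, 24, 31, 19, 18, 31, 27, 20, 20, 27, 29, 29] [.out 332]],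
  .sub [2, 3, 4, 1, 2, 4, 1, 3, 1, 3, 2, 3, 4] [.out 3886],
  .sub [2, 4, 3, 1, 2, 4, 1, 3, 1, 3, 2, 3, 4] [.sub [19, 31, 29, 18, 19, 29, 30, 24, 20, 29] [.out 2111]],
  .sub [4, 1, 3, 1, 2, 4, 1, 3, 1, 3, 2, 3, 4] [.sub [20, 31, 27, 19, 29, 31, 29, 25] [.out 3605]],
  .sub [2, 1, 3, 1, 2, 4, 1, 3, 1, 3, 2, 3, 4] [.out 3834],
  .sub [1, 2, 3, 1, 2, 4, 1, 3, 1, 3, 2, 3, 4] [.sub [29, 24, 18, 19, 18, 29, 24, 30, 25, 20, 29, 29] [.out 84]],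
  .sub [1, 4, 1, 4, 3, 2, 1, 3, 1, 3, 2, 3, 4] [.out 2406],
  .sub [2, 4, 1, 4, 3, 2, 1, 3, 1, 3, 2, 3, 4] [.sub [31, 25, 20, 19, 24, 27, 30, 31, 27, 30] [.out 1394]],
  .sub [3, 2, 1, 4, 3, 2, 1, 3, 1, 3, 2, 3, 4] [.out 2306],
  .sub [1, 2, 1, 4, 3, 2, 1, 3, 1, 3, 2, 3, 4] [.sub [30, 20, 27, 19, 24, 20, 30, 20, 25, 29, 29] [.sub [29, 20, 18, 27, 19, 24, 25, 31, 25, 29, 29] [.out 3082]]],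
  .sub [3, 1, 2, 4, 3, 2, 1, 3, 1, 3, 2, 3, 4] [.out 3672]]

/-- Branches. -/
def kidsYPart42 : List Branch := [
  .sub [4, 3, 4, 1, 3, 2, 1, 3, 1, 3, 2, 3, 4] [.out 3289],
  .sub [1, 3, 4, 1, 3, 2, 1, 3, 1, 3, 2, 3, 4] [.out 3947],
  .sub [2, 3, 4, 1, 3, 2, 1, 3, 1, 3, 2, 3, 4] [.sub [29, 20, 24, 24, 18, 24, 31, 20, 20, 29] [.out 751]],
  .sub [3, 1, 4, 1, 3, 2, 1, 3, 1, 3, 2, 3, 4] [.out 3238],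
  .sub [2, 1, 4, 1, 3, 2, 1, 3, 1, 3, 2, 3, 4] [.sub [31, 24, 19, 20, 18, 18, 29, 31, 27, 25, 31, 30] [.out 834]],
  .sub [3, 2, 4, 1, 3, 2, 1, 3, 1, 3, 2, 3, 4] [.out 3650],
  .sub [1, 2, 4, 1, 3, 2, 1, 3, 1, 3, 2, 3, 4] [.sub [20, 27, 19, 31, 19, 27, 27, 30, 20, 24, 30, 29, 29] [.out 1770]],
  .sub [2, 1, 3, 1, 3, 2, 1, 3, 1, 3, 2, 3, 4] [.sub [18, 19, 27, 31, 18, 20, 27, 20, 20] [.sub [20, 29, 31, 20, 18, 29, 31, 30, 27, 29] [.out 2688]]],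
  .sub [4, 3, 2, 1, 3, 2, 1, 3, 1, 3, 2, 3, 4] [.sub [31, 25, 20, 25, 19, 18, 27, 29, 30, 24, 27, 29, 29] [.out 2848]],
  .sub [1, 3, 2, 1, 3, 2, 1, 3, 1, 3, 2, 3, 4] [.sub [20, 25, 18, 18, 24, 29, 24, 31, 20, 30, 29] [.sub [19, 27, 19, 19, 19, 31, 20, 29] [.out 1724]]],
  .sub [4, 1, 2, 1, 3, 2, 1, 3, 1, 3, 2, 3, 4] [.out 1269],
  .sub [3, 1, 2, 1, 3, 2, 1, 3, 1, 3, 2, 3, 4] [.out 3255],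
  .sub [1, 4, 1, 2, 3, 2, 1, 3, 1, 3, 2, 3, 4] [.sub [18, 20, 27, 18, 24, 25, 31, 24, 30, 27, 29] [.out 3374]],
  .sub [4, 3, 1, 2, 3, 2, 1, 3, 1, 3, 2, 3, 4] [.out 3308],
  .sub [1, 3, 1, 2, 3, 2, 1, 3, 1, 3, 2, 3, 4] [.sub [29, 18, 19, 18, 24, 20, 31, 30, 29, 29] [.out 3078]],
  .sub [2, 3, 1, 2, 3, 2, 1, 3, 1, 3, 2, 3, 4] [.sub [30, 20, 30, 19, 19, 18, 27, 24, 27, 31, 20, 30, 29, 29] [.sub [19, 30, 20, 19, 18, 27, 31, 29, 24, 30, 27] [.out 2317]]],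
  .sub [3, 4, 1, 3, 1, 2, 1, 3, 1, 3, 2, 3, 4] [.out 3988],
  .sub [1, 4, 1, 3, 1, 2, 1, 3, 1, 3, 2, 3, 4] [.out 2454],
  .sub [2, 4, 1, 3, 1, 2, 1, 3, 1, 3, 2, 3, 4] [.sub [30, 31, 20, 25, 18, 31, 31, 24, 25, 24, 30, 25] [.sub [27, 31, 18, 18, 25, 31, 31, 20, 25, 29] [.out 3134]]],
  .sub [3, 2, 1, 3, 1, 2, 1, 3, 1, 3, 2, 3, 4] [.out 2432],
  .sub [1, 3, 4, 1, 4, 3, 2, 3, 1, 3, 2, 3, 4] [.sub [24, 20, 29, 20, 18, 30, 27, 24] [.out 3733]],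
  .sub [3, 2, 4, 1, 4, 3, 2, 3, 1, 3, 2, 3, 4] [.out 2872],
  .sub [4, 1, 3, 1, 4, 3, 2, 3, 1, 3, 2, 3, 4] [.out 2597],
  .sub [2, 1, 3, 1, 4, 3, 2, 3, 1, 3, 2, 3, 4] [.sub [19, 18, 31, 18, 18, 30, 20, 24, 20, 20, 25, 29] [.out 3492]],
  .sub [1, 3, 2, 1, 4, 3, 2, 3, 1, 3, 2, 3, 4] [.out 2758],
  .sub [2, 3, 2, 1, 4, 3, 2, 3, 1, 3, 2, 3, 4] [.out 3271],
  .sub [3, 1, 2, 1, 4, 3, 2, 3, 1, 3, 2, 3, 4] [.out 3008],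
  .sub [4, 1, 3, 2, 4, 3, 2, 3, 1, 3, 2, 3, 4] [.out 3364],
  .sub [1, 2, 3, 2, 4, 3, 2, 3, 1, 3, 2, 3, 4] [.out 4004],
  .sub [1, 3, 1, 2, 4, 3, 2, 3, 1, 3, 2, 3, 4] [.sub [18, 20, 18, 18, 31, 27, 30, 20, 20, 27, 30, 29] [.out 2084]],
  .sub [2, 3, 1, 2, 4, 3, 2, 3, 1, 3, 2, 3, 4] [.out 3720],
  .sub [2, 4, 3, 4, 1, 3, 2, 3, 1, 3, 2, 3, 4] [.sub [20, 19, 20, 19, 18, 27, 24, 20, 24, 29] [.out 3097]],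
  .sub [4, 1, 3, 4, 1, 3, 2, 3, 1, 3, 2, 3, 4] [.sub [18, 20, 24, 20, 18, 25, 31, 31, 20] [.out 2989]],
  .sub [2, 1, 3, 4, 1, 3, 2, 3, 1, 3, 2, 3, 4] [.sub [18, 27, 18, 20, 18, 18, 31, 25, 20, 31, 30, 29] [.out 2345]],
  .sub [3, 2, 3, 4, 1, 3, 2, 3, 1, 3, 2, 3, 4] [.sub [18, 18, 30, 19, 18, 20, 27, 30, 31, 30, 25, 29, 29] [.out 2815]],
  .sub [1, 2, 3, 4, 1, 3, 2, 3, 1, 3, 2, 3, 4] [.sub [31, 18, 31, 24, 19, 30, 20, 31, 30, 27, 29, 29] [.sub [30, 31, 27, 19, 18, 20, 27, 24, 20, 30, 27, 29] [.out 3207]]],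
  .sub [1, 3, 1, 4, 1, 3, 2, 3, 1, 3, 2, 3, 4] [.sub [18, 25, 27, 24, 18, 18, 27, 30, 31, 24, 20, 30, 29, 29] [.out 1977]],
  .sub [2, 3, 1, 4, 1, 3, 2, 3, 1, 3, 2, 3, 4] [.sub [31, 18, 24, 20, 18, 30, 20] [.out 3935]],
  .sub [1, 3, 2, 4, 1, 3, 2, 3, 1, 3, 2, 3, 4] [.out 3701],
  .sub [2, 3, 2, 4, 1, 3, 2, 3, 1, 3, 2, 3, 4] [.out 3441],
  .sub [2, 4, 1, 3, 1, 3, 2, 3, 1, 3, 2, 3, 4] [.sub [27, 19, 18, 19, 20, 31, 29, 31, 24, 30, 27, 29, 29] [.out 1922]],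
  .sub [1, 2, 1, 3, 1, 3, 2, 3, 1, 3, 2, 3, 4] [.sub [19, 20, 27, 19, 18, 31, 27, 24, 20, 27, 30, 29] [.out 1812]],
  .sub [4, 1, 3, 2, 1, 3, 2, 3, 1, 3, 2, 3, 4] [.sub [25, 18, 20, 24, 18, 24, 30, 24, 20, 29, 25] [.out 2393]],
  .sub [3, 1, 3, 2, 1, 3, 2, 3, 1, 3, 2, 3, 4] [.out 3655],
  .sub [2, 1, 3, 2, 1, 3, 2, 3, 1, 3, 2, 3, 4] [.out 3357],
  .sub [3, 4, 1, 2, 1, 3, 2, 3, 1, 3, 2, 3, 4] [.out 3461],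
  .sub [4, 3, 1, 2, 1, 3, 2, 3, 1, 3, 2, 3, 4] [.sub [19, 31, 29, 18, 19, 27, 20, 20, 24, 29, 25, 29, 29] [.sub [18, 30, 31, 19, 18, 29, 31, 25, 20, 29, 25, 29] [.bad [18, 19, 18, 18, 24, 25, 20, 29] 1]]],
  .sub [1, 3, 1, 2, 1, 3, 2, 3, 1, 3, 2, 3, 4] [.sub [18, 20, 20, 18, 19, 31, 30, 29, 20, 20, 27, 30, 29] [.out 3470]],
  .sub [2, 3, 1, 2, 1, 3, 2, 3, 1, 3, 2, 3, 4] [.sub [19, 29, 31, 20, 18, 29, 25, 24, 20, 30, 29, 29] [.sub [31, 29, 19, 29, 18, 18, 31, 24, 29, 24, 27, 29, 29] [.out 692]]],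
  .sub [1, 3, 4, 1, 2, 3, 2, 3, 1, 3, 2, 3, 4] [.out 3167],
  .sub [2, 3, 4, 1, 2, 3, 2, 3, 1, 3, 2, 3, 4] [.out 1922],
  .sub [3, 1, 4, 1, 2, 3, 2, 3, 1, 3, 2, 3, 4] [.sub [31, 29, 19, 20, 18, 20, 31, 24, 30, 29, 29] [.out 1675]],
  .sub [1, 3, 4, 1, 3, 1, 2, 3, 1, 3, 2, 3, 4] [.sub [27, 27, 19, 18, 19, 20, 31, 20, 25, 20, 30, 27, 29, 29] [.sub [27, 20, 31, 19, 30, 27, 24, 20, 20, 29, 25] [.out 141]]],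
  .sub [2, 3, 4, 1, 3, 1, 2, 3, 1, 3, 2, 3, 4] [.sub [19, 19, 31, 19, 18, 31, 31, 20, 31, 25, 29, 29] [.sub [30, 29, 18, 19, 18, 25, 24, 27, 31, 30, 29] [.out 2183]]],
  .sub [3, 1, 4, 1, 3, 1, 2, 3, 1, 3, 2, 3, 4] [.out 2937],
  .sub [2, 3, 2, 1, 3, 1, 2, 3, 1, 3, 2, 3, 4] [.out 2724],
  .sub [1, 2, 1, 4, 1, 4, 3, 2, 1, 3, 2, 3, 4] [.sub [31, 20, 29, 18, 18, 31, 30, 27, 24] [.sub [24, 18, 31, 24, 18, 29, 25, 20, 31, 20, 29, 25, 29, 29] [.out 611]]],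
  .sub [4, 3, 2, 4, 1, 4, 3, 2, 1, 3, 2, 3, 4] [.sub [18, 19, 20, 24, 18, 18, 31, 31, 24, 25, 24, 30, 27] [.out 2618]],
  .sub [1, 3, 2, 4, 1, 4, 3, 2, 1, 3, 2, 3, 4] [.sub [19, 20, 20, 18, 20, 24, 31, 24, 30, 25, 29, 29] [.out 2655]],
  .sub [4, 1, 2, 4, 1, 4, 3, 2, 1, 3, 2, 3, 4] [.sub [20, 18, 19, 19, 31, 24, 20, 31, 27, 29, 29] [.out 1126]],
  .sub [3, 1, 2, 4, 1, 4, 3, 2, 1, 3, 2, 3, 4] [.sub [19, 20, 18, 18, 29, 24, 30, 31, 20, 27, 30] [.out 2360]],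
  .sub [3, 4, 1, 3, 1, 4, 3, 2, 1, 3, 2, 3, 4] [.sub [18, 20, 19, 30, 18, 18, 24, 20, 31, 30, 27] [.out 2006]],
  .sub [2, 4, 1, 3, 1, 4, 3, 2, 1, 3, 2, 3, 4] [.sub [31, 19, 31, 18, 18, 29, 24, 30, 29] [.out 3252]],
  .sub [3, 2, 1, 3, 1, 4, 3, 2, 1, 3, 2, 3, 4] [.out 3265]]

/-- Branches. -/
def kidsYPart43 : List Branch := [
  .sub [1, 4, 3, 2, 1, 4, 3, 2, 1, 3, 2, 3, 4] [.sub [18, 31, 18, 20, 18, 18, 27, 27, 31, 30] [.out 59]],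
  .sub [4, 1, 3, 2, 1, 4, 3, 2, 1, 3, 2, 3, 4] [.sub [24, 27, 31, 18, 27, 29, 20, 20, 20, 27, 29, 29] [.out 767]],
  .sub [2, 1, 3, 2, 1, 4, 3, 2, 1, 3, 2, 3, 4] [.sub [18, 24, 20, 18, 31, 20, 20, 25, 20, 29, 25, 29, 29] [.out 4016]],
  .sub [3, 4, 1, 2, 1, 4, 3, 2, 1, 3, 2, 3, 4] [.out 1803],
  .sub [1, 4, 1, 2, 1, 4, 3, 2, 1, 3, 2, 3, 4] [.out 3678],
  .sub [4, 3, 1, 2, 1, 4, 3, 2, 1, 3, 2, 3, 4] [.sub [27, 25, 18, 18, 18, 24, 29, 31, 30, 25, 29] [.out 3362]],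
  .sub [1, 3, 1, 2, 1, 4, 3, 2, 1, 3, 2, 3, 4] [.sub [18, 18, 20, 19, 20, 18, 25, 31, 31, 20, 20, 29, 25, 29, 29] [.out 2788]],
  .sub [2, 3, 1, 2, 1, 4, 3, 2, 1, 3, 2, 3, 4] [.sub [29, 24, 18, 29, 20, 31, 20, 29] [.sub [27, 27, 31, 19, 31, 31, 31, 27, 30] [.out 3274]]],
  .sub [4, 3, 1, 3, 2, 4, 3, 2, 1, 3, 2, 3, 4] [.sub [18, 20, 29, 18, 20, 24, 29, 31, 29, 25, 29, 29] [.out 4053]],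
  .sub [2, 3, 1, 3, 2, 4, 3, 2, 1, 3, 2, 3, 4] [.sub [19, 31, 19, 25, 18, 24, 24, 27, 25, 20, 30, 25, 29, 29] [.out 2264]],
  .sub [3, 2, 1, 3, 2, 4, 3, 2, 1, 3, 2, 3, 4] [.out 2478],
  .sub [1, 2, 1, 3, 2, 4, 3, 2, 1, 3, 2, 3, 4] [.out 3450],
  .sub [4, 1, 2, 3, 2, 4, 3, 2, 1, 3, 2, 3, 4] [.out 3062],
  .sub [3, 1, 2, 3, 2, 4, 3, 2, 1, 3, 2, 3, 4] [.sub [18, 24, 18, 25, 19, 24, 27, 29, 24, 25, 29] [.sub [18, 19, 24, 19, 24, 30, 20, 31, 27, 30] [.out 3276]]],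
  .sub [2, 1, 4, 1, 2, 4, 3, 2, 1, 3, 2, 3, 4] [.sub [18, 20, 20, 18, 18, 30, 20, 30, 29, 29] [.out 523]],
  .sub [2, 4, 3, 1, 2, 4, 3, 2, 1, 3, 2, 3, 4] [.sub [19, 24, 25, 19, 18, 24, 29, 31, 27] [.out 3389]],
  .sub [3, 2, 3, 1, 2, 4, 3, 2, 1, 3, 2, 3, 4] [.out 2883],
  .sub [1, 2, 3, 1, 2, 4, 3, 2, 1, 3, 2, 3, 4] [.sub [30, 25, 27, 20, 18, 20, 30, 29, 31, 20, 29, 29] [.sub [30, 25, 24, 19, 18, 29, 31, 20, 20, 24, 30, 27, 29, 29] [.out 3869]]],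
  .sub [2, 1, 3, 1, 4, 1, 3, 2, 1, 3, 2, 3, 4] [.sub [20, 27, 19, 31, 19, 20, 31, 31, 20, 29, 29] [.out 3348]],
  .sub [1, 2, 3, 1, 4, 1, 3, 2, 1, 3, 2, 3, 4] [.sub [19, 19, 31, 18, 18, 31, 24, 25, 20, 27, 29, 29] [.out 3188]],
  .sub [4, 3, 2, 1, 4, 1, 3, 2, 1, 3, 2, 3, 4] [.sub [25, 24, 19, 29, 18, 25, 31, 20, 30, 27, 29] [.out 3960]],
  .sub [4, 1, 2, 1, 4, 1, 3, 2, 1, 3, 2, 3, 4] [.out 3858],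
  .sub [3, 1, 2, 1, 4, 1, 3, 2, 1, 3, 2, 3, 4] [.sub [30, 19, 19, 19, 18, 24, 29, 20, 24, 20, 30] [.sub [24, 20, 19, 19, 19, 31, 30, 31, 27, 30, 29, 29] [.out 177]]],
  .sub [1, 4, 3, 2, 4, 1, 3, 2, 1, 3, 2, 3, 4] [.sub [20, 19, 24, 18, 19, 25, 20, 31, 20, 30, 27, 29, 29] [.out 476]],
  .sub [2, 4, 3, 2, 4, 1, 3, 2, 1, 3, 2, 3, 4] [.out 3725],
  .sub [1, 4, 1, 2, 4, 1, 3, 2, 1, 3, 2, 3, 4] [.sub [24, 19, 29, 18, 18, 24, 30, 25, 29, 29] [.out 3539]],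
  .sub [2, 3, 1, 2, 4, 1, 3, 2, 1, 3, 2, 3, 4] [.out 3494],
  .sub [2, 1, 4, 3, 2, 1, 3, 2, 1, 3, 2, 3, 4] [.sub [19, 24, 25, 20, 18, 30, 20, 24, 20, 20, 30, 25] [.out 1611]],
  .sub [3, 2, 4, 3, 2, 1, 3, 2, 1, 3, 2, 3, 4] [.out 2761],
  .sub [4, 3, 4, 1, 2, 1, 3, 2, 1, 3, 2, 3, 4] [.sub [19, 29, 31, 29, 19, 18, 31, 30, 25, 20, 29, 25] [.sub [27, 19, 19, 19, 18, 29, 31, 30, 20, 20, 30, 27, 29, 29] [.out 3741]]],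
  .sub [2, 3, 4, 1, 2, 1, 3, 2, 1, 3, 2, 3, 4] [.out 3074],
  .sub [2, 1, 4, 1, 2, 1, 3, 2, 1, 3, 2, 3, 4] [.sub [31, 25, 20, 19, 24, 27, 30, 31, 27, 30] [.out 305]],
  .sub [1, 4, 3, 1, 2, 1, 3, 2, 1, 3, 2, 3, 4] [.out 3302],
  .sub [2, 4, 3, 1, 2, 1, 3, 2, 1, 3, 2, 3, 4] [.out 3596],
  .sub [4, 1, 3, 1, 2, 1, 3, 2, 1, 3, 2, 3, 4] [.sub [24, 19, 18, 20, 18, 27, 31, 29, 31, 27, 30, 29] [.out 2410]],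
  .sub [2, 1, 3, 1, 2, 1, 3, 2, 1, 3, 2, 3, 4] [.sub [18, 24, 20, 18, 31, 20, 20, 25, 20, 29, 25, 29, 29] [.out 2410]],
  .sub [3, 2, 3, 1, 2, 1, 3, 2, 1, 3, 2, 3, 4] [.sub [27, 18, 29, 18, 27, 31, 20, 20, 31, 30, 27] [.sub [18, 19, 25, 18, 27, 29, 30, 24, 30, 29] [.out 884]]],
  .sub [1, 2, 3, 1, 2, 1, 3, 2, 1, 3, 2, 3, 4] [.sub [18, 27, 27, 31, 18, 18, 29, 24, 25, 24, 30, 29, 29] [.out 1284]],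
  .sub [1, 4, 3, 4, 1, 2, 3, 2, 1, 3, 2, 3, 4] [.out 3795],
  .sub [2, 4, 3, 4, 1, 2, 3, 2, 1, 3, 2, 3, 4] [.sub [27, 29, 20, 18, 24, 25, 31, 25, 20, 29, 25, 29] [.out 2813]],
  .sub [4, 1, 3, 4, 1, 2, 3, 2, 1, 3, 2, 3, 4] [.sub [19, 18, 20, 29, 18, 18, 31, 24, 25, 20, 25, 29] [.out 3042]],
  .sub [2, 1, 3, 4, 1, 2, 3, 2, 1, 3, 2, 3, 4] [.out 2597],
  .sub [3, 2, 3, 4, 1, 2, 3, 2, 1, 3, 2, 3, 4] [.out 1629],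
  .sub [1, 2, 3, 4, 1, 2, 3, 2, 1, 3, 2, 3, 4] [.out 3033],
  .sub [1, 2, 4, 3, 1, 2, 3, 2, 1, 3, 2, 3, 4] [.sub [29, 31, 27, 18, 31, 20, 20, 25, 20, 27, 30, 29] [.sub [18, 31, 18, 19, 18, 25, 31, 20, 24, 30, 25, 29, 29] [.done 21]]],
  .sub [2, 4, 1, 3, 1, 2, 3, 2, 1, 3, 2, 3, 4] [.sub [19, 31, 24, 27, 19, 24, 24, 20, 24, 20, 29] [.out 1932]],
  .sub [1, 2, 1, 3, 1, 2, 3, 2, 1, 3, 2, 3, 4] [.out 3121],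
  .sub [4, 3, 2, 3, 1, 2, 3, 2, 1, 3, 2, 3, 4] [.sub [29, 25, 18, 20, 19, 18, 25, 31, 25, 20, 30] [.out 2271]],
  .sub [1, 3, 2, 3, 1, 2, 3, 2, 1, 3, 2, 3, 4] [.out 3071],
  .sub [4, 1, 2, 3, 1, 2, 3, 2, 1, 3, 2, 3, 4] [.out 3672],
  .sub [3, 1, 2, 3, 1, 2, 3, 2, 1, 3, 2, 3, 4] [.sub [19, 18, 24, 24, 18, 31, 29, 31, 24, 27, 29] [.out 1332]],
  .sub [2, 1, 3, 1, 4, 3, 2, 4, 3, 1, 2, 3, 4] [.sub [18, 20, 24, 20, 18, 29, 25, 24, 27, 24, 30, 27, 29, 29] [.sub [25, 31, 25, 19, 20, 27, 30, 31, 29, 25, 29] [.out 1890]]],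
  .sub [3, 2, 3, 1, 4, 3, 2, 4, 3, 1, 2, 3, 4] [.sub [20, 31, 18, 19, 24, 25, 24, 20, 30, 25] [.out 3734]],
  .sub [1, 2, 3, 1, 4, 3, 2, 4, 3, 1, 2, 3, 4] [.out 3961],
  .sub [4, 1, 3, 2, 4, 3, 2, 4, 3, 1, 2, 3, 4] [.out 2943],
  .sub [3, 1, 3, 2, 4, 3, 2, 4, 3, 1, 2, 3, 4] [.out 2957],
  .sub [2, 1, 3, 2, 4, 3, 2, 4, 3, 1, 2, 3, 4] [.out 3282],
  .sub [4, 3, 4, 1, 2, 3, 2, 4, 3, 1, 2, 3, 4] [.sub [30, 19, 29, 24, 18, 18, 27, 24, 31, 20, 20, 29, 25, 29, 29] [.sub [30, 20, 19, 31, 18, 18, 30, 25, 31, 20, 30, 25, 29] [.out 2989]]],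
  .sub [1, 3, 4, 1, 2, 3, 2, 4, 3, 1, 2, 3, 4] [.sub [24, 30, 18, 18, 31, 24, 29, 20, 20, 29, 25] [.out 1425]],
  .sub [2, 3, 4, 1, 2, 3, 2, 4, 3, 1, 2, 3, 4] [.sub [19, 24, 24, 19, 20, 24, 31, 24, 30, 29] [.out 2787]],
  .sub [1, 4, 3, 1, 2, 3, 2, 4, 3, 1, 2, 3, 4] [.sub [19, 20, 31, 18, 19, 31, 25, 31, 20] [.out 3613]],
  .sub [2, 4, 3, 1, 2, 3, 2, 4, 3, 1, 2, 3, 4] [.sub [20, 19, 19, 20, 18, 20, 24, 25, 24, 25] [.sub [29, 19, 29, 24, 18, 18, 31, 27, 30, 20, 20] [.out 3382]]],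
  .sub [1, 2, 3, 1, 2, 3, 2, 4, 3, 1, 2, 3, 4] [.out 2532],
  .sub [1, 4, 3, 2, 1, 3, 4, 1, 3, 1, 2, 3, 4] [.out 3555]]

/-- Branches. -/
def kidsYPart44 : List Branch := [
  .sub [3, 1, 4, 3, 2, 3, 4, 1, 3, 1, 2, 3, 4] [.out 3174],
  .sub [1, 2, 4, 3, 2, 3, 4, 1, 3, 1, 2, 3, 4] [.out 3683],
  .sub [3, 4, 1, 3, 2, 3, 4, 1, 3, 1, 2, 3, 4] [.sub [20, 19, 19, 19, 25, 31, 25, 24, 30, 27, 29, 29] [.out 2254]],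
  .sub [2, 4, 1, 3, 2, 3, 4, 1, 3, 1, 2, 3, 4] [.sub [27, 24, 20, 18, 29, 30, 31, 27, 29, 29] [.out 369]],
  .sub [1, 2, 1, 3, 2, 3, 4, 1, 3, 1, 2, 3, 4] [.sub [30, 20, 20, 18, 30, 25, 27, 24, 29, 25, 29] [.out 257]],
  .sub [4, 1, 2, 3, 2, 3, 4, 1, 3, 1, 2, 3, 4] [.sub [24, 27, 18, 27, 29, 31, 24, 30, 27, 29] [.out 2544]],
  .sub [3, 1, 2, 3, 2, 3, 4, 1, 3, 1, 2, 3, 4] [.sub [25, 20, 18, 18, 29, 31, 20, 20, 24, 30, 25, 29] [.out 1019]],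
  .sub [1, 4, 3, 1, 2, 3, 4, 1, 3, 1, 2, 3, 4] [.out 2388],
  .sub [2, 1, 3, 1, 2, 3, 4, 1, 3, 1, 2, 3, 4] [.sub [19, 24, 24, 19, 18, 20, 27, 20, 31, 25] [.out 2937]],
  .sub [1, 4, 3, 2, 3, 1, 4, 1, 3, 1, 2, 3, 4] [.sub [27, 31, 18, 24, 20, 24, 30, 20, 29, 25, 29] [.out 3752]],
  .sub [1, 2, 3, 2, 3, 1, 4, 1, 3, 1, 2, 3, 4] [.sub [31, 20, 29, 18, 18, 31, 29, 31, 24, 29, 29] [.out 362]],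
  .sub [1, 3, 1, 2, 3, 1, 4, 1, 3, 1, 2, 3, 4] [.sub [27, 24, 20, 18, 18, 27, 25, 31, 20, 30, 27, 29, 29] [.out 2987]],
  .sub [2, 3, 1, 2, 3, 1, 4, 1, 3, 1, 2, 3, 4] [.sub [31, 25, 20, 25, 19, 18, 20, 31, 24, 29, 25, 29] [.sub [27, 27, 18, 18, 19, 29, 20, 20, 30, 25, 29, 29] [.out 3534]]],
  .sub [4, 1, 4, 3, 2, 1, 4, 1, 3, 1, 2, 3, 4] [.sub [20, 29, 19, 20, 18, 18, 24, 31, 30, 20, 27, 29] [.out 882]],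
  .sub [3, 1, 4, 3, 2, 1, 4, 1, 3, 1, 2, 3, 4] [.sub [18, 27, 19, 18, 19, 27, 30, 20, 20, 29, 25] [.out 3819]],
  .sub [4, 3, 1, 3, 2, 1, 4, 1, 3, 1, 2, 3, 4] [.out 4007],
  .sub [2, 3, 1, 3, 2, 1, 4, 1, 3, 1, 2, 3, 4] [.sub [24, 25, 31, 19, 24, 25, 24, 20, 25, 29, 29] [.out 853]],
  .sub [4, 3, 4, 1, 2, 1, 4, 1, 3, 1, 2, 3, 4] [.sub [31, 31, 19, 19, 19, 24, 30, 20, 31, 30, 27, 29, 29] [.sub [19, 19, 31, 19, 18, 31, 24, 20, 31, 30, 29] [.out 1877]]],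
  .sub [1, 3, 4, 1, 2, 1, 4, 1, 3, 1, 2, 3, 4] [.sub [27, 19, 19, 20, 18, 20, 27, 20, 31, 25, 29, 29] [.out 3712]],
  .sub [2, 3, 4, 1, 2, 1, 4, 1, 3, 1, 2, 3, 4] [.out 2454],
  .sub [1, 4, 3, 1, 2, 1, 4, 1, 3, 1, 2, 3, 4] [.out 1879],
  .sub [2, 4, 3, 1, 2, 1, 4, 1, 3, 1, 2, 3, 4] [.out 3447],
  .sub [4, 1, 3, 1, 2, 1, 4, 1, 3, 1, 2, 3, 4] [.sub [24, 18, 19, 24, 18, 30, 20, 30, 20, 29] [.out 3361]],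
  .sub [1, 2, 3, 1, 2, 1, 4, 1, 3, 1, 2, 3, 4] [.out 2731],
  .sub [1, 4, 1, 4, 3, 2, 4, 1, 3, 1, 2, 3, 4] [.out 2912],
  .sub [4, 3, 4, 1, 3, 2, 4, 1, 3, 1, 2, 3, 4] [.sub [27, 19, 19, 20, 18, 20, 31, 24, 30, 25] [.out 4012]],
  .sub [2, 3, 4, 1, 3, 2, 4, 1, 3, 1, 2, 3, 4] [.sub [25, 24, 20, 19, 18, 27, 27, 31, 30, 20, 27, 30] [.sub [24, 29, 31, 18, 31, 20, 20, 31, 27, 29] [.out 979]]],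
  .sub [3, 1, 4, 1, 3, 2, 4, 1, 3, 1, 2, 3, 4] [.out 3873],
  .sub [2, 1, 4, 1, 3, 2, 4, 1, 3, 1, 2, 3, 4] [.sub [30, 20, 24, 18, 19, 27, 24, 30, 20, 30, 27, 29, 29] [.sub [31, 18, 31, 18, 25, 31, 20, 20, 27, 30, 29] [.out 556]]],
  .sub [1, 2, 4, 1, 3, 2, 4, 1, 3, 1, 2, 3, 4] [.out 2818],
  .sub [4, 1, 3, 1, 3, 2, 4, 1, 3, 1, 2, 3, 4] [.sub [20, 18, 19, 24, 18, 27, 20, 31, 30, 20, 27, 30, 29, 29] [.out 2849]],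
  .sub [1, 3, 1, 2, 3, 2, 4, 1, 3, 1, 2, 3, 4] [.sub [19, 20, 30, 18, 18, 25, 24, 27, 24, 20, 30, 27] [.out 1311]],
  .sub [3, 1, 4, 3, 1, 2, 4, 1, 3, 1, 2, 3, 4] [.sub [25, 24, 19, 29, 18, 30, 27, 31, 29] [.sub [18, 29, 18, 18, 18, 31, 31, 20, 20, 29, 29] [.out 3426]]],
  .sub [2, 1, 4, 3, 1, 2, 4, 1, 3, 1, 2, 3, 4] [.sub [20, 27, 18, 19, 25, 24, 27, 24, 20, 30, 27, 29] [.out 3184]],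
  .sub [3, 2, 4, 3, 1, 2, 4, 1, 3, 1, 2, 3, 4] [.sub [19, 19, 25, 18, 30, 27, 20, 20, 27, 30] [.out 2574]],
  .sub [3, 2, 1, 3, 1, 2, 4, 1, 3, 1, 2, 3, 4] [.sub [31, 19, 18, 18, 19, 24, 29, 25, 24, 20, 29, 29] [.out 1354]],
  .sub [1, 2, 1, 3, 1, 2, 4, 1, 3, 1, 2, 3, 4] [.sub [19, 27, 19, 18, 19, 30, 20, 30, 20, 29, 29] [.out 606]],
  .sub [4, 1, 2, 3, 1, 2, 4, 1, 3, 1, 2, 3, 4] [.out 3248],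
  .sub [3, 1, 4, 1, 4, 3, 2, 1, 3, 1, 2, 3, 4] [.out 3626],
  .sub [1, 3, 2, 1, 4, 3, 2, 1, 3, 1, 2, 3, 4] [.out 3778],
  .sub [4, 1, 2, 1, 4, 3, 2, 1, 3, 1, 2, 3, 4] [.sub [29, 18, 27, 20, 18, 31, 24, 31, 24, 25, 29, 29] [.out 1310]],
  .sub [3, 4, 1, 2, 4, 3, 2, 1, 3, 1, 2, 3, 4] [.sub [19, 18, 31, 18, 18, 30, 20, 24, 20, 20, 25, 29] [.out 2761]],
  .sub [1, 4, 1, 2, 4, 3, 2, 1, 3, 1, 2, 3, 4] [.sub [29, 25, 19, 19, 19, 29, 20, 31, 20, 29, 29] [.out 1146]],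
  .sub [4, 3, 1, 2, 4, 3, 2, 1, 3, 1, 2, 3, 4] [.out 2062],
  .sub [3, 2, 3, 4, 1, 3, 2, 1, 3, 1, 2, 3, 4] [.out 3540],
  .sub [1, 2, 3, 4, 1, 3, 2, 1, 3, 1, 2, 3, 4] [.out 3576],
  .sub [1, 3, 2, 4, 1, 3, 2, 1, 3, 1, 2, 3, 4] [.sub [18, 19, 20, 27, 19, 18, 20, 29, 24, 30, 25, 29] [.out 2416]],
  .sub [3, 1, 2, 4, 1, 3, 2, 1, 3, 1, 2, 3, 4] [.out 2456],
  .sub [3, 1, 4, 3, 1, 3, 2, 1, 3, 1, 2, 3, 4] [.out 2409],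
  .sub [2, 1, 4, 3, 1, 3, 2, 1, 3, 1, 2, 3, 4] [.sub [31, 19, 25, 19, 29, 31, 25] [.out 3233]],
  .sub [3, 4, 1, 2, 1, 3, 2, 1, 3, 1, 2, 3, 4] [.sub [19, 24, 31, 24, 18, 24, 29, 31, 20, 20, 29, 25, 29, 29] [.out 1770]],
  .sub [1, 4, 1, 2, 1, 3, 2, 1, 3, 1, 2, 3, 4] [.sub [27, 24, 31, 19, 18, 29, 31, 30, 20, 29, 25, 29, 29] [.out 3820]],
  .sub [1, 4, 3, 1, 4, 1, 2, 1, 3, 1, 2, 3, 4] [.sub [29, 24, 24, 19, 18, 27, 24, 29] [.sub [31, 30, 18, 19, 18, 25, 24, 31, 31, 29, 25, 29, 29] [.out 561]]],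
  .sub [2, 4, 3, 1, 4, 1, 2, 1, 3, 1, 2, 3, 4] [.out 2225],
  .sub [3, 2, 3, 1, 4, 1, 2, 1, 3, 1, 2, 3, 4] [.out 3309],
  .sub [4, 1, 2, 1, 3, 1, 2, 1, 3, 1, 2, 3, 4] [.out 2066],
  .sub [1, 4, 3, 2, 3, 1, 2, 1, 3, 1, 2, 3, 4] [.out 3740],
  .sub [4, 1, 3, 2, 3, 1, 2, 1, 3, 1, 2, 3, 4] [.sub [31, 19, 30, 19, 18, 27, 29, 31, 20, 30, 29, 29] [.out 2011]],
  .sub [2, 1, 3, 2, 3, 1, 2, 1, 3, 1, 2, 3, 4] [.out 3960],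
  .sub [1, 4, 1, 2, 3, 1, 2, 1, 3, 1, 2, 3, 4] [.out 2170],
  .sub [4, 3, 1, 2, 3, 1, 2, 1, 3, 1, 2, 3, 4] [.sub [24, 29, 19, 20, 19, 24, 27, 25, 31, 30, 27, 29] [.out 3961]],
  .sub [4, 3, 2, 4, 1, 4, 3, 2, 3, 1, 2, 3, 4] [.sub [31, 19, 30, 19, 18, 27, 29, 31, 20, 30, 29, 29] [.sub [18, 18, 29, 25, 19, 18, 29, 24, 30, 31, 20, 25, 29, 29] [.out 1431]]],
  .sub [4, 3, 2, 3, 1, 4, 3, 2, 3, 1, 2, 3, 4] [.sub [25, 18, 31, 19, 24, 20, 30, 25, 29, 29] [.sub [29, 25, 20, 18, 25, 20, 20, 20, 20, 30, 29] [.out 141]]],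
  .sub [1, 3, 2, 3, 1, 4, 3, 2, 3, 1, 2, 3, 4] [.sub [25, 27, 18, 20, 19, 18, 29, 25, 24, 30, 20, 30, 25] [.out 790]]]

/-- Branches. -/
def kidsYPart45 : List Branch := [
  .sub [2, 3, 2, 3, 1, 4, 3, 2, 3, 1, 2, 3, 4] [.out 3688],
  .sub [4, 1, 2, 3, 1, 4, 3, 2, 3, 1, 2, 3, 4] [.sub [25, 24, 27, 18, 18, 30, 24, 25, 20, 30, 27, 29, 29] [.out 696]],
  .sub [3, 1, 2, 3, 1, 4, 3, 2, 3, 1, 2, 3, 4] [.sub [24, 29, 18, 29, 18, 29, 24, 29, 25] [.out 1671]],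
  .sub [2, 4, 3, 2, 1, 4, 3, 2, 3, 1, 2, 3, 4] [.out 3977],
  .sub [1, 2, 3, 2, 1, 4, 3, 2, 3, 1, 2, 3, 4] [.sub [31, 30, 27, 20, 18, 31, 30, 27, 24, 25, 29, 29] [.out 2125]],
  .sub [2, 4, 3, 1, 4, 1, 3, 2, 3, 1, 2, 3, 4] [.out 3146],
  .sub [3, 2, 3, 1, 4, 1, 3, 2, 3, 1, 2, 3, 4] [.sub [24, 20, 24, 19, 20, 20, 29, 24, 30, 25] [.out 847]],
  .sub [1, 2, 3, 1, 4, 1, 3, 2, 3, 1, 2, 3, 4] [.out 2838],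
  .sub [4, 3, 2, 1, 4, 1, 3, 2, 3, 1, 2, 3, 4] [.sub [20, 31, 31, 19, 27, 24, 30, 20, 30, 29] [.sub [30, 25, 18, 18, 18, 29, 24, 27, 27, 24, 30, 29, 29] [.out 791]]],
  .sub [2, 3, 2, 1, 4, 1, 3, 2, 3, 1, 2, 3, 4] [.sub [27, 24, 25, 19, 27, 30, 20, 24, 30, 29, 29] [.out 430]],
  .sub [4, 1, 2, 1, 4, 1, 3, 2, 3, 1, 2, 3, 4] [.sub [25, 18, 19, 20, 18, 27, 25, 31, 27, 30, 29, 29] [.out 696]],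
  .sub [4, 3, 1, 2, 4, 1, 3, 2, 3, 1, 2, 3, 4] [.out 2880],
  .sub [2, 3, 1, 2, 4, 1, 3, 2, 3, 1, 2, 3, 4] [.sub [24, 20, 19, 31, 19, 18, 29, 31, 20, 24, 20, 30, 27, 29] [.out 2303]],
  .sub [4, 3, 1, 2, 3, 1, 3, 2, 3, 1, 2, 3, 4] [.sub [27, 19, 24, 19, 20, 24, 30, 25, 20, 29, 25, 29, 29] [.out 3479]],
  .sub [3, 2, 4, 3, 2, 1, 3, 2, 3, 1, 2, 3, 4] [.out 3833],
  .sub [1, 2, 4, 3, 2, 1, 3, 2, 3, 1, 2, 3, 4] [.sub [18, 20, 20, 25, 18, 24, 27, 20, 20, 20, 27, 29, 29] [.sub [18, 20, 20, 18, 31, 30, 27, 24, 27, 30, 29] [.out 213]]],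
  .sub [2, 1, 3, 1, 4, 3, 1, 2, 3, 1, 2, 3, 4] [.out 3967],
  .sub [2, 4, 3, 2, 4, 3, 1, 2, 3, 1, 2, 3, 4] [.sub [18, 18, 30, 25, 20, 29, 25, 29, 29] [.out 334]],
  .sub [4, 1, 3, 2, 4, 3, 1, 2, 3, 1, 2, 3, 4] [.sub [29, 25, 20, 18, 29, 31, 25, 20, 20, 27, 30] [.out 2381]],
  .sub [3, 1, 3, 2, 4, 3, 1, 2, 3, 1, 2, 3, 4] [.out 3518],
  .sub [2, 1, 3, 2, 4, 3, 1, 2, 3, 1, 2, 3, 4] [.sub [18, 18, 29, 25, 19, 18, 27, 25, 31, 31, 25, 29, 29] [.out 2729]],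
  .sub [1, 2, 3, 2, 4, 3, 1, 2, 3, 1, 2, 3, 4] [.sub [31, 31, 25, 19, 18, 29, 20, 30, 20, 20, 30, 25, 29] [.out 1088]],
  .sub [4, 3, 1, 2, 4, 3, 1, 2, 3, 1, 2, 3, 4] [.sub [25, 20, 20, 19, 18, 27, 30, 31, 24, 27, 30, 29, 29] [.out 2758]],
  .sub [1, 3, 1, 2, 4, 3, 1, 2, 3, 1, 2, 3, 4] [.sub [27, 19, 27, 19, 27, 20, 31, 24] [.out 851]],
  .sub [1, 2, 1, 4, 1, 3, 1, 2, 3, 1, 2, 3, 4] [.sub [19, 19, 18, 29, 18, 24, 20, 27, 24, 25, 29] [.out 1196]],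
  .sub [4, 3, 2, 4, 1, 3, 1, 2, 3, 1, 2, 3, 4] [.sub [25, 31, 29, 18, 19, 18, 20, 31, 24, 20, 27, 29] [.out 2080]],
  .sub [1, 3, 2, 4, 1, 3, 1, 2, 3, 1, 2, 3, 4] [.out 3912],
  .sub [2, 3, 2, 4, 1, 3, 1, 2, 3, 1, 2, 3, 4] [.sub [20, 19, 19, 20, 18, 20, 24, 25, 24, 25] [.out 2122]],
  .sub [4, 1, 2, 4, 1, 3, 1, 2, 3, 1, 2, 3, 4] [.out 925],
  .sub [3, 1, 2, 4, 1, 3, 1, 2, 3, 1, 2, 3, 4] [.out 2982],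
  .sub [2, 4, 3, 2, 1, 3, 1, 2, 3, 1, 2, 3, 4] [.sub [31, 19, 27, 31, 18, 25, 27, 25, 20, 30, 27, 29] [.out 917]],
  .sub [1, 2, 3, 2, 1, 3, 1, 2, 3, 1, 2, 3, 4] [.out 2838],
  .sub [3, 4, 1, 2, 1, 3, 1, 2, 3, 1, 2, 3, 4] [.sub [31, 24, 24, 19, 20, 25, 31, 30, 27, 29, 29] [.out 2388]],
  .sub [4, 3, 1, 2, 1, 3, 1, 2, 3, 1, 2, 3, 4] [.out 3016],
  .sub [2, 3, 1, 2, 1, 3, 1, 2, 3, 1, 2, 3, 4] [.sub [25, 18, 31, 19, 24, 20, 30, 25, 29, 29] [.out 3470]],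
  .sub [3, 1, 4, 3, 2, 3, 1, 2, 3, 1, 2, 3, 4] [.sub [27, 29, 25, 19, 18, 25, 27, 31, 31, 30] [.sub [31, 24, 25, 18, 19, 24, 30, 20, 24, 20, 20, 30, 29] [.out 480]]],
  .sub [2, 1, 4, 3, 2, 3, 1, 2, 3, 1, 2, 3, 4] [.out 2434],
  .sub [4, 3, 1, 3, 2, 3, 1, 2, 3, 1, 2, 3, 4] [.out 1820],
  .sub [2, 3, 1, 3, 2, 3, 1, 2, 3, 1, 2, 3, 4] [.sub [25, 18, 30, 20, 18, 29, 25, 31, 20, 29, 25, 29, 29] [.out 2232]],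
  .sub [1, 3, 4, 1, 2, 3, 1, 2, 3, 1, 2, 3, 4] [.sub [19, 30, 19, 20, 18, 31, 24, 20, 30, 20, 27, 30, 29, 29] [.out 3481]],
  .sub [3, 2, 4, 3, 2, 4, 3, 1, 2, 1, 4, 1, 3, 4] [.sub [20, 20, 19, 19, 29, 25, 24, 31, 27, 30, 29] [.out 1314]],
  .sub [1, 2, 4, 3, 2, 4, 3, 1, 2, 1, 4, 1, 3, 4] [.out 3860],
  .sub [3, 4, 1, 3, 2, 4, 3, 1, 2, 1, 4, 1, 3, 4] [.sub [20, 27, 27, 18, 31, 29, 20, 20, 20, 29, 25, 29] [.out 1896]],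
  .sub [2, 4, 1, 3, 2, 4, 3, 1, 2, 1, 4, 1, 3, 4] [.sub [24, 18, 25, 31, 19, 31, 31, 30, 20, 20, 27, 29, 29] [.out 3877]],
  .sub [1, 2, 1, 3, 2, 4, 3, 1, 2, 1, 4, 1, 3, 4] [.sub [20, 27, 18, 18, 25, 20, 20, 29, 25, 29] [.out 2790]],
  .sub [4, 1, 2, 3, 2, 4, 3, 1, 2, 1, 4, 1, 3, 4] [.sub [24, 20, 18, 18, 29, 25, 20, 31, 20, 30, 25] [.out 1443]],
  .sub [3, 1, 2, 3, 2, 4, 3, 1, 2, 1, 4, 1, 3, 4] [.sub [30, 25, 24, 19, 18, 29, 31, 24, 20, 30, 25, 29] [.out 3707]],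
  .sub [3, 1, 4, 1, 2, 4, 3, 1, 2, 1, 4, 1, 3, 4] [.sub [29, 31, 30, 18, 19, 24, 24, 27, 25, 20, 30, 29, 29] [.out 2787]],
  .sub [1, 4, 3, 1, 2, 4, 3, 1, 2, 1, 4, 1, 3, 4] [.sub [30, 24, 27, 19, 25, 20, 24, 27] [.out 3712]],
  .sub [4, 1, 3, 1, 2, 4, 3, 1, 2, 1, 4, 1, 3, 4] [.out 2708],
  .sub [1, 2, 3, 1, 2, 4, 3, 1, 2, 1, 4, 1, 3, 4] [.out 2821],
  .sub [1, 4, 3, 2, 4, 1, 3, 1, 2, 1, 4, 1, 3, 4] [.sub [25, 24, 30, 19, 18, 24, 31, 24] [.out 1474]],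
  .sub [2, 4, 3, 2, 4, 1, 3, 1, 2, 1, 4, 1, 3, 4] [.out 3402],
  .sub [3, 1, 3, 2, 4, 1, 3, 1, 2, 1, 4, 1, 3, 4] [.sub [25, 20, 18, 24, 18, 30, 31, 20, 30, 20, 29, 29] [.out 2955]],
  .sub [1, 2, 3, 2, 4, 1, 3, 1, 2, 1, 4, 1, 3, 4] [.out 1268],
  .sub [4, 3, 1, 2, 4, 1, 3, 1, 2, 1, 4, 1, 3, 4] [.out 3686],
  .sub [1, 3, 1, 2, 4, 1, 3, 1, 2, 1, 4, 1, 3, 4] [.out 2178],
  .sub [2, 3, 1, 2, 4, 1, 3, 1, 2, 1, 4, 1, 3, 4] [.sub [31, 31, 18, 19, 18, 29, 31, 24, 29, 25, 29] [.out 12]],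
  .sub [3, 1, 4, 3, 2, 1, 3, 1, 2, 1, 4, 1, 3, 4] [.out 2446],
  .sub [1, 2, 4, 3, 2, 1, 3, 1, 2, 1, 4, 1, 3, 4] [.sub [25, 24, 24, 20, 18, 30, 24, 30, 25, 20, 30, 25, 29] [.out 527]],
  .sub [3, 2, 1, 3, 2, 1, 3, 1, 2, 1, 4, 1, 3, 4] [.out 3805],
  .sub [4, 3, 4, 1, 2, 1, 3, 1, 2, 1, 4, 1, 3, 4] [.out 947],
  .sub [1, 3, 4, 1, 2, 1, 3, 1, 2, 1, 4, 1, 3, 4] [.out 3968],
  .sub [1, 4, 3, 1, 2, 1, 3, 1, 2, 1, 4, 1, 3, 4] [.sub [24, 19, 19, 19, 24, 24, 20, 20, 27, 30, 29] [.out 3789]]]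

/-- Branches. -/
def kidsYPart46 : List Branch := [
  .sub [2, 4, 3, 1, 2, 1, 3, 1, 2, 1, 4, 1, 3, 4] [.out 3520],
  .sub [4, 1, 3, 1, 2, 1, 3, 1, 2, 1, 4, 1, 3, 4] [.sub [18, 20, 24, 20, 18, 31, 25, 20, 20, 27, 30] [.out 2207]],
  .sub [2, 1, 3, 1, 2, 1, 3, 1, 2, 1, 4, 1, 3, 4] [.sub [20, 19, 24, 25, 20, 18, 20, 20, 30, 25, 29] [.sub [31, 19, 19, 20, 18, 27, 20, 20, 24, 30, 29, 29] [.out 2727]]],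
  .sub [3, 2, 3, 1, 2, 1, 3, 1, 2, 1, 4, 1, 3, 4] [.out 1315],
  .sub [1, 2, 3, 1, 2, 1, 3, 1, 2, 1, 4, 1, 3, 4] [.out 2657],
  .sub [4, 3, 1, 4, 3, 2, 3, 1, 2, 1, 4, 1, 3, 4] [.sub [18, 27, 27, 31, 18, 18, 29, 24, 25, 24, 30, 29, 29] [.out 877]],
  .sub [1, 3, 1, 4, 3, 2, 3, 1, 2, 1, 4, 1, 3, 4] [.out 2804],
  .sub [2, 3, 1, 4, 3, 2, 3, 1, 2, 1, 4, 1, 3, 4] [.out 3058],
  .sub [1, 3, 4, 1, 3, 2, 3, 1, 2, 1, 4, 1, 3, 4] [.sub [18, 18, 25, 18, 18, 25, 20, 20] [.out 3105]],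
  .sub [3, 2, 4, 1, 3, 2, 3, 1, 2, 1, 4, 1, 3, 4] [.sub [31, 20, 29, 18, 18, 31, 30, 27, 24] [.sub [25, 18, 24, 24, 19, 31, 29, 20, 30, 20, 30, 29, 29] [.out 1695]]],
  .sub [1, 2, 4, 1, 3, 2, 3, 1, 2, 1, 4, 1, 3, 4] [.sub [20, 19, 27, 19, 18, 20, 20, 30, 20, 29, 25] [.out 216]],
  .sub [4, 3, 1, 4, 1, 2, 3, 1, 2, 1, 4, 1, 3, 4] [.out 2641],
  .sub [1, 2, 1, 3, 1, 2, 3, 1, 2, 1, 4, 1, 3, 4] [.out 3354],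
  .sub [4, 3, 2, 3, 1, 2, 3, 1, 2, 1, 4, 1, 3, 4] [.sub [20, 24, 20, 20, 18, 31, 30, 31, 30] [.out 136]],
  .sub [4, 1, 2, 3, 1, 2, 3, 1, 2, 1, 4, 1, 3, 4] [.sub [20, 19, 19, 18, 29, 30, 31, 20, 27, 29, 29] [.out 3112]],
  .sub [4, 3, 1, 2, 1, 4, 1, 4, 3, 2, 4, 1, 3, 4] [.sub [29, 18, 19, 18, 31, 20, 24, 30, 27, 29, 29] [.out 3394]],
  .sub [4, 1, 4, 3, 2, 4, 1, 4, 3, 2, 4, 1, 3, 4] [.sub [31, 20, 29, 18, 25, 31, 25, 20, 27, 30] [.sub [31, 19, 24, 18, 24, 18, 27, 29, 20, 31, 27, 30] [.out 2398]]],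
  .sub [1, 2, 4, 3, 2, 4, 1, 4, 3, 2, 4, 1, 3, 4] [.sub [31, 29, 18, 18, 18, 18, 29, 24, 20, 27] [.out 166]],
  .sub [3, 4, 1, 3, 2, 4, 1, 4, 3, 2, 4, 1, 3, 4] [.out 2163],
  .sub [1, 4, 1, 3, 2, 4, 1, 4, 3, 2, 4, 1, 3, 4] [.out 1934],
  .sub [2, 4, 1, 3, 2, 4, 1, 4, 3, 2, 4, 1, 3, 4] [.out 2657],
  .sub [3, 2, 1, 3, 2, 4, 1, 4, 3, 2, 4, 1, 3, 4] [.sub [27, 18, 27, 18, 19, 20, 20, 25, 20, 27, 30] [.out 1440]],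
  .sub [1, 2, 1, 3, 2, 4, 1, 4, 3, 2, 4, 1, 3, 4] [.sub [19, 18, 24, 24, 19, 27, 25, 20, 29, 25, 29] [.out 3434]],
  .sub [4, 1, 2, 3, 2, 4, 1, 4, 3, 2, 4, 1, 3, 4] [.sub [27, 27, 31, 18, 18, 24, 20, 30, 24] [.out 428]],
  .sub [3, 1, 2, 3, 2, 4, 1, 4, 3, 2, 4, 1, 3, 4] [.sub [18, 18, 31, 25, 18, 25, 20, 20, 31, 25, 29] [.sub [24, 31, 31, 18, 18, 27, 29, 24, 29, 25, 29] [.out 1401]]],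
  .sub [1, 4, 3, 2, 1, 3, 1, 4, 3, 2, 4, 1, 3, 4] [.sub [25, 31, 29, 24, 18, 25, 27, 20, 20, 30, 27] [.out 524]],
  .sub [4, 3, 1, 3, 2, 3, 1, 4, 3, 2, 4, 1, 3, 4] [.out 2566],
  .sub [2, 1, 3, 1, 2, 3, 1, 4, 3, 2, 4, 1, 3, 4] [.sub [29, 19, 18, 19, 19, 31, 20, 27, 24, 30, 25, 29, 29] [.out 4056]],
  .sub [1, 3, 2, 4, 3, 2, 1, 4, 3, 2, 4, 1, 3, 4] [.out 3829],
  .sub [4, 3, 4, 1, 3, 2, 1, 4, 3, 2, 4, 1, 3, 4] [.out 3729],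
  .sub [2, 3, 4, 1, 3, 2, 1, 4, 3, 2, 4, 1, 3, 4] [.out 4048],
  .sub [2, 4, 3, 1, 3, 2, 1, 4, 3, 2, 4, 1, 3, 4] [.sub [29, 30, 31, 18, 25, 27, 31, 30, 27, 29] [.out 1872]],
  .sub [3, 2, 3, 1, 3, 2, 1, 4, 3, 2, 4, 1, 3, 4] [.out 2718],
  .sub [3, 2, 4, 3, 1, 2, 1, 4, 3, 2, 4, 1, 3, 4] [.out 1215],
  .sub [4, 3, 2, 3, 1, 2, 1, 4, 3, 2, 4, 1, 3, 4] [.out 3601],
  .sub [3, 2, 4, 3, 1, 3, 2, 4, 3, 2, 4, 1, 3, 4] [.sub [19, 29, 18, 27, 19, 27, 27, 31, 30, 20, 29, 25, 29, 29] [.sub [30, 19, 20, 18, 19, 31, 25, 27, 24, 29, 25, 29, 29] [.out 801]]],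
  .sub [1, 2, 4, 3, 1, 3, 2, 4, 3, 2, 4, 1, 3, 4] [.out 3460],
  .sub [2, 4, 1, 3, 1, 3, 2, 4, 3, 2, 4, 1, 3, 4] [.out 985],
  .sub [3, 2, 1, 3, 1, 3, 2, 4, 3, 2, 4, 1, 3, 4] [.sub [24, 31, 31, 19, 18, 24, 27, 30, 31, 20, 29, 25, 29] [.out 3712]],
  .sub [3, 2, 1, 4, 3, 1, 2, 4, 3, 2, 4, 1, 3, 4] [.out 2134],
  .sub [1, 2, 1, 4, 3, 1, 2, 4, 3, 2, 4, 1, 3, 4] [.out 3205],
  .sub [4, 3, 2, 4, 3, 1, 2, 4, 3, 2, 4, 1, 3, 4] [.out 1787],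
  .sub [1, 3, 2, 4, 3, 1, 2, 4, 3, 2, 4, 1, 3, 4] [.out 1880],
  .sub [2, 3, 2, 4, 3, 1, 2, 4, 3, 2, 4, 1, 3, 4] [.out 2384],
  .sub [1, 3, 4, 1, 3, 1, 2, 4, 3, 2, 4, 1, 3, 4] [.sub [18, 30, 25, 20, 18, 27, 25, 31, 29, 25, 29] [.sub [18, 25, 27, 24, 18, 18, 24, 25, 31, 29, 25, 29, 29] [.out 2441]]],
  .sub [3, 2, 4, 1, 3, 1, 2, 4, 3, 2, 4, 1, 3, 4] [.out 3183],
  .sub [1, 2, 4, 1, 3, 1, 2, 4, 3, 2, 4, 1, 3, 4] [.out 3570],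
  .sub [1, 4, 3, 2, 3, 1, 2, 4, 3, 2, 4, 1, 3, 4] [.out 1822],
  .sub [3, 4, 1, 2, 3, 1, 2, 4, 3, 2, 4, 1, 3, 4] [.out 2829],
  .sub [4, 3, 1, 2, 3, 1, 2, 4, 3, 2, 4, 1, 3, 4] [.sub [24, 19, 29, 18, 18, 24, 30, 25, 29, 29] [.out 1574]],
  .sub [2, 3, 1, 2, 3, 1, 2, 4, 3, 2, 4, 1, 3, 4] [.out 3928],
  .sub [4, 3, 1, 2, 4, 3, 4, 1, 3, 2, 4, 1, 3, 4] [.sub [27, 18, 19, 31, 18, 18, 27, 24, 20, 20, 29] [.out 1206]],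
  .sub [3, 2, 3, 4, 1, 3, 4, 1, 3, 2, 4, 1, 3, 4] [.out 3798],
  .sub [3, 1, 2, 4, 1, 3, 4, 1, 3, 2, 4, 1, 3, 4] [.out 3580],
  .sub [1, 4, 3, 2, 1, 3, 4, 1, 3, 2, 4, 1, 3, 4] [.sub [31, 19, 31, 18, 18, 20, 20, 29, 24, 30, 25] [.out 2779]],
  .sub [4, 1, 3, 2, 1, 3, 4, 1, 3, 2, 4, 1, 3, 4] [.sub [20, 18, 30, 19, 18, 30, 20, 20, 27, 30, 29, 29] [.sub [18, 20, 31, 18, 19, 18, 27, 29, 20, 20, 29, 29] [.bad [] 1]]],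
  .sub [3, 1, 3, 2, 1, 3, 4, 1, 3, 2, 4, 1, 3, 4] [.sub [27, 30, 31, 18, 20, 20, 25, 29, 29] [.sub [20, 20, 29, 19, 18, 24, 20, 30, 24, 20, 27, 30] [.out 884]]],
  .sub [2, 1, 3, 2, 1, 3, 4, 1, 3, 2, 4, 1, 3, 4] [.out 3631],
  .sub [3, 4, 1, 2, 1, 3, 4, 1, 3, 2, 4, 1, 3, 4] [.sub [30, 19, 31, 27, 18, 31, 25, 27, 31, 30] [.out 799]],
  .sub [1, 4, 1, 2, 1, 3, 4, 1, 3, 2, 4, 1, 3, 4] [.sub [29, 19, 19, 24, 18, 24, 27, 27, 31, 27, 29, 29] [.out 177]],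
  .sub [4, 3, 1, 2, 1, 3, 4, 1, 3, 2, 4, 1, 3, 4] [.sub [31, 20, 19, 19, 24, 25, 27, 20, 20, 30, 27, 29, 29] [.out 1871]],
  .sub [1, 3, 1, 2, 1, 3, 4, 1, 3, 2, 4, 1, 3, 4] [.out 3143],
  .sub [2, 3, 1, 2, 1, 3, 4, 1, 3, 2, 4, 1, 3, 4] [.out 4033],
  .sub [3, 1, 4, 3, 2, 3, 4, 1, 3, 2, 4, 1, 3, 4] [.sub [24, 19, 19, 18, 27, 25, 31, 31, 30, 27] [.out 1568]]]

/-- Branches. -/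
def kidsYPart47 : List Branch := [
  .sub [3, 2, 4, 3, 2, 3, 4, 1, 3, 2, 4, 1, 3, 4] [.sub [18, 19, 29, 20, 18, 31, 30, 29, 20, 20, 25, 29] [.sub [25, 18, 19, 18, 19, 20, 29, 24, 25, 29] [.done 26]]],
  .sub [3, 4, 1, 3, 2, 3, 4, 1, 3, 2, 4, 1, 3, 4] [.out 3850],
  .sub [1, 4, 1, 3, 2, 3, 4, 1, 3, 2, 4, 1, 3, 4] [.out 1884],
  .sub [4, 3, 1, 3, 2, 3, 4, 1, 3, 2, 4, 1, 3, 4] [.sub [18, 25, 18, 29, 31, 29] [.out 3827]],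
  .sub [2, 3, 1, 3, 2, 3, 4, 1, 3, 2, 4, 1, 3, 4] [.sub [27, 24, 20, 19, 19, 18, 29, 25, 20, 20, 27, 30] [.out 236]],
  .sub [3, 2, 1, 3, 2, 3, 4, 1, 3, 2, 4, 1, 3, 4] [.sub [19, 29, 25, 20, 18, 31, 24, 27, 25, 20, 30, 27] [.out 2410]],
  .sub [1, 2, 1, 3, 2, 3, 4, 1, 3, 2, 4, 1, 3, 4] [.sub [19, 19, 24, 18, 18, 25, 31, 24, 20, 27, 29] [.sub [29, 24, 31, 19, 20, 31, 24, 20, 29, 25, 29] [.out 2794]]],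
  .sub [4, 1, 3, 1, 2, 3, 4, 1, 3, 2, 4, 1, 3, 4] [.sub [29, 18, 19, 24, 19, 31, 30, 31, 29, 25, 29] [.out 3051]],
  .sub [2, 1, 3, 1, 2, 3, 4, 1, 3, 2, 4, 1, 3, 4] [.out 2924],
  .sub [3, 2, 3, 1, 2, 3, 4, 1, 3, 2, 4, 1, 3, 4] [.sub [30, 25, 18, 31, 18, 30, 24, 30, 31, 29, 25, 29] [.sub [30, 19, 29, 18, 18, 24, 20, 30, 24, 29, 29] [.out 1132]]],
  .sub [1, 2, 3, 1, 2, 3, 4, 1, 3, 2, 4, 1, 3, 4] [.out 3210],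
  .sub [2, 4, 3, 1, 2, 1, 4, 1, 3, 2, 4, 1, 3, 4] [.sub [20, 19, 20, 25, 18, 27, 29, 20, 20, 30] [.out 3875]],
  .sub [4, 1, 3, 1, 2, 1, 4, 1, 3, 2, 4, 1, 3, 4] [.sub [18, 25, 24, 18, 18, 20, 30, 20, 20, 30, 27, 29] [.sub [20, 24, 25, 19, 24, 31, 27, 24, 20, 27] [.out 2048]]],
  .sub [1, 2, 3, 1, 2, 1, 4, 1, 3, 2, 4, 1, 3, 4] [.out 3416],
  .sub [1, 3, 2, 4, 3, 2, 4, 1, 3, 2, 4, 1, 3, 4] [.sub [19, 27, 19, 20, 18, 18, 31, 20, 25, 20, 30] [.out 2286]],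
  .sub [2, 3, 2, 4, 3, 2, 4, 1, 3, 2, 4, 1, 3, 4] [.sub [31, 18, 18, 31, 30, 27, 24, 25, 29, 29] [.out 3219]],
  .sub [2, 3, 4, 1, 3, 2, 4, 1, 3, 2, 4, 1, 3, 4] [.sub [19, 27, 27, 18, 29, 20, 20, 31, 30, 29, 29] [.out 1588]],
  .sub [2, 1, 4, 3, 1, 2, 4, 1, 3, 2, 4, 1, 3, 4] [.out 3663],
  .sub [1, 2, 4, 3, 1, 2, 4, 1, 3, 2, 4, 1, 3, 4] [.out 3803],
  .sub [1, 4, 1, 2, 4, 1, 3, 1, 3, 2, 4, 1, 3, 4] [.sub [29, 18, 19, 24, 19, 31, 31, 24, 25, 24, 30, 27, 29, 29] [.sub [30, 18, 18, 24, 18, 27, 31, 27, 20, 20] [.out 3389]]],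
  .sub [2, 1, 4, 1, 2, 1, 3, 1, 3, 2, 4, 1, 3, 4] [.sub [30, 27, 19, 20, 18, 30, 25, 31, 25, 24, 25, 29, 29] [.out 2489]],
  .sub [3, 4, 1, 4, 3, 2, 3, 1, 3, 2, 4, 1, 3, 4] [.out 3248],
  .sub [1, 4, 1, 4, 3, 2, 3, 1, 3, 2, 4, 1, 3, 4] [.sub [24, 19, 27, 19, 30, 29, 31, 30, 25, 29, 29] [.sub [24, 27, 19, 19, 19, 31, 30, 25, 20, 30, 25, 29, 29] [.bad [20, 18, 20, 19, 18, 27, 24, 29, 20, 20, 29, 25] 1]]],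
  .sub [2, 4, 1, 4, 3, 2, 3, 1, 3, 2, 4, 1, 3, 4] [.sub [30, 18, 19, 20, 18, 31, 25, 20, 31, 30, 27, 29, 29] [.out 386]],
  .sub [1, 3, 1, 4, 3, 2, 3, 1, 3, 2, 4, 1, 3, 4] [.out 2883],
  .sub [3, 1, 4, 1, 3, 2, 3, 1, 3, 2, 4, 1, 3, 4] [.out 3609],
  .sub [2, 1, 4, 1, 3, 2, 3, 1, 3, 2, 4, 1, 3, 4] [.sub [20, 29, 31, 19, 18, 31, 24, 20, 20, 29, 25, 29] [.out 3024]],
  .sub [1, 4, 3, 1, 3, 2, 3, 1, 3, 2, 4, 1, 3, 4] [.sub [18, 19, 20, 19, 30, 24, 24, 20, 20, 29, 25] [.out 3966]],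
  .sub [2, 4, 3, 1, 3, 2, 3, 1, 3, 2, 4, 1, 3, 4] [.out 3587],
  .sub [4, 1, 3, 1, 3, 2, 3, 1, 3, 2, 4, 1, 3, 4] [.sub [31, 19, 24, 20, 18, 30, 20, 20, 29, 29] [.sub [29, 19, 24, 20, 18, 27, 25, 20, 29] [.out 1572]]],
  .sub [2, 1, 3, 1, 3, 2, 3, 1, 3, 2, 4, 1, 3, 4] [.sub [31, 31, 18, 19, 18, 31, 30, 24, 29, 25, 29] [.out 2972]],
  .sub [2, 3, 2, 1, 3, 2, 3, 1, 3, 2, 4, 1, 3, 4] [.sub [20, 24, 19, 19, 19, 24, 30, 20, 30, 20, 30, 29, 29] [.out 3587]],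
  .sub [4, 3, 1, 4, 1, 2, 3, 1, 3, 2, 4, 1, 3, 4] [.sub [31, 31, 19, 18, 19, 31, 20, 31, 25, 20, 29, 25] [.out 3097]],
  .sub [3, 4, 1, 3, 1, 2, 3, 1, 3, 2, 4, 1, 3, 4] [.out 2484],
  .sub [1, 4, 1, 3, 1, 2, 3, 1, 3, 2, 4, 1, 3, 4] [.out 3493],
  .sub [1, 3, 2, 1, 4, 3, 2, 1, 3, 2, 4, 1, 3, 4] [.out 3656],
  .sub [2, 3, 2, 1, 4, 3, 2, 1, 3, 2, 4, 1, 3, 4] [.out 3688],
  .sub [2, 1, 3, 2, 4, 3, 2, 1, 3, 2, 4, 1, 3, 4] [.sub [18, 20, 25, 27, 18, 30, 31, 30, 24, 27] [.sub [19, 27, 20, 18, 18, 25, 24, 31, 30, 27] [.out 1568]]],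
  .sub [1, 2, 3, 2, 4, 3, 2, 1, 3, 2, 4, 1, 3, 4] [.out 2240],
  .sub [2, 3, 1, 2, 4, 3, 2, 1, 3, 2, 4, 1, 3, 4] [.out 3537],
  .sub [3, 2, 3, 4, 1, 3, 2, 1, 3, 2, 4, 1, 3, 4] [.out 2416],
  .sub [1, 2, 3, 4, 1, 3, 2, 1, 3, 2, 4, 1, 3, 4] [.sub [19, 29, 18, 27, 19, 27, 27, 31, 30, 20, 29, 25, 29, 29] [.sub [29, 18, 31, 19, 18, 20, 30, 25, 31, 31, 30, 27] [.out 1609]]],
  .sub [4, 3, 1, 4, 1, 3, 2, 1, 3, 2, 4, 1, 3, 4] [.out 3760],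
  .sub [3, 2, 1, 4, 3, 1, 2, 1, 3, 2, 4, 1, 3, 4] [.out 3301],
  .sub [1, 3, 2, 4, 3, 1, 2, 1, 3, 2, 4, 1, 3, 4] [.out 3312],
  .sub [4, 1, 2, 4, 3, 1, 2, 1, 3, 2, 4, 1, 3, 4] [.out 3630],
  .sub [4, 1, 3, 2, 3, 1, 2, 1, 3, 2, 4, 1, 3, 4] [.sub [25, 20, 24, 19, 18, 31, 31, 25, 31, 30, 27, 29] [.out 2826]],
  .sub [2, 1, 3, 2, 3, 1, 2, 1, 3, 2, 4, 1, 3, 4] [.sub [19, 19, 18, 20, 18, 18, 27, 31, 31, 25, 29, 29] [.out 3850]],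
  .sub [1, 4, 1, 2, 3, 1, 2, 1, 3, 2, 4, 1, 3, 4] [.sub [25, 24, 24, 20, 18, 30, 24, 30, 25, 20, 30, 25, 29] [.out 109]],
  .sub [2, 3, 1, 2, 3, 1, 2, 1, 3, 2, 4, 1, 3, 4] [.sub [24, 19, 29, 18, 18, 18, 31, 30, 24, 29, 25] [.out 326]],
  .sub [2, 4, 3, 2, 4, 3, 1, 2, 3, 2, 4, 1, 3, 4] [.out 2927],
  .sub [4, 1, 3, 2, 4, 3, 1, 2, 3, 2, 4, 1, 3, 4] [.out 3958],
  .sub [2, 1, 3, 2, 4, 3, 1, 2, 3, 2, 4, 1, 3, 4] [.out 3970],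
  .sub [3, 4, 1, 2, 4, 3, 1, 2, 3, 2, 4, 1, 3, 4] [.sub [29, 31, 20, 18, 18, 30, 31, 31, 20, 24, 25] [.sub [20, 19, 19, 24, 18, 31, 20, 31, 31, 29, 25, 29] [.out 3637]]],
  .sub [1, 4, 1, 2, 4, 3, 1, 2, 3, 2, 4, 1, 3, 4] [.sub [18, 24, 25, 20, 18, 29, 20, 31, 20, 24, 30, 27, 29] [.out 3770]],
  .sub [4, 3, 1, 2, 4, 3, 1, 2, 3, 2, 4, 1, 3, 4] [.sub [19, 24, 25, 27, 18, 31, 31, 20, 20, 30, 25] [.sub [25, 27, 20, 19, 19, 18, 30, 29, 31, 20, 30, 27] [.out 1670]]],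
  .sub [3, 1, 2, 4, 1, 3, 1, 2, 3, 2, 4, 1, 3, 4] [.sub [25, 31, 29, 18, 27, 31, 30, 20, 20, 30] [.out 3735]],
  .sub [3, 4, 1, 2, 1, 3, 1, 2, 3, 2, 4, 1, 3, 4] [.out 3323],
  .sub [4, 3, 1, 3, 2, 3, 1, 2, 3, 2, 4, 1, 3, 4] [.sub [24, 20, 20, 18, 18, 27, 29, 20, 31, 20, 30, 29, 29] [.out 2413]],
  .sub [2, 1, 4, 1, 2, 3, 1, 2, 3, 2, 4, 1, 3, 4] [.sub [27, 25, 18, 25, 18, 18, 31, 25, 20, 31, 24, 27, 30] [.out 2444]],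
  .sub [3, 1, 4, 3, 2, 1, 4, 3, 1, 2, 4, 1, 3, 4] [.sub [31, 29, 18, 24, 18, 30, 27, 20, 20, 30, 25] [.out 609]],
  .sub [1, 3, 1, 3, 2, 1, 4, 3, 1, 2, 4, 1, 3, 4] [.sub [27, 24, 31, 19, 18, 29, 31, 30, 20, 29, 25, 29, 29] [.out 2326]],
  .sub [2, 3, 1, 3, 2, 1, 4, 3, 1, 2, 4, 1, 3, 4] [.out 3699],
  .sub [1, 4, 3, 1, 2, 1, 4, 3, 1, 2, 4, 1, 3, 4] [.out 3250]]

/-- Branches. -/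
def kidsYPart48 : List Branch := [
  .sub [1, 4, 1, 4, 3, 2, 4, 3, 1, 2, 4, 1, 3, 4] [.out 3787],
  .sub [2, 4, 1, 4, 3, 2, 4, 3, 1, 2, 4, 1, 3, 4] [.sub [18, 29, 18, 31, 19, 27, 30, 20, 24, 30, 27, 29] [.sub [18, 20, 31, 18, 19, 18, 27, 20, 24, 20, 30, 25, 29] [.out 791]]],
  .sub [3, 2, 1, 4, 3, 2, 4, 3, 1, 2, 4, 1, 3, 4] [.sub [24, 18, 20, 18, 27, 29, 31, 27, 30, 29, 29] [.out 3362]],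
  .sub [1, 2, 1, 4, 3, 2, 4, 3, 1, 2, 4, 1, 3, 4] [.out 2590],
  .sub [2, 1, 4, 1, 3, 2, 4, 3, 1, 2, 4, 1, 3, 4] [.sub [18, 24, 24, 18, 30, 31, 20, 30, 20] [.out 2451]],
  .sub [3, 2, 4, 1, 3, 2, 4, 3, 1, 2, 4, 1, 3, 4] [.out 2849],
  .sub [1, 2, 4, 1, 3, 2, 4, 3, 1, 2, 4, 1, 3, 4] [.out 2679],
  .sub [4, 3, 2, 1, 3, 2, 4, 3, 1, 2, 4, 1, 3, 4] [.out 2939],
  .sub [2, 3, 2, 1, 3, 2, 4, 3, 1, 2, 4, 1, 3, 4] [.out 3949],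
  .sub [4, 1, 2, 1, 3, 2, 4, 3, 1, 2, 4, 1, 3, 4] [.sub [20, 29, 19, 19, 18, 20, 24, 31, 25, 20, 30, 29, 29] [.out 3051]],
  .sub [3, 1, 2, 1, 3, 2, 4, 3, 1, 2, 4, 1, 3, 4] [.out 3190],
  .sub [2, 4, 3, 4, 1, 2, 4, 3, 1, 2, 4, 1, 3, 4] [.out 3895],
  .sub [3, 2, 3, 4, 1, 2, 4, 3, 1, 2, 4, 1, 3, 4] [.out 3774],
  .sub [1, 2, 3, 4, 1, 2, 4, 3, 1, 2, 4, 1, 3, 4] [.sub [18, 24, 29, 19, 19, 18, 30, 24, 20, 29, 25] [.sub [30, 29, 31, 18, 18, 31, 25, 31, 29, 29] [.out 1008]]],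
  .sub [4, 3, 1, 4, 1, 2, 4, 3, 1, 2, 4, 1, 3, 4] [.out 3113],
  .sub [1, 2, 4, 3, 1, 2, 4, 3, 1, 2, 4, 1, 3, 4] [.sub [29, 24, 30, 19, 18, 24, 29, 31, 31, 27, 30, 29, 29] [.out 369]],
  .sub [4, 3, 2, 3, 1, 4, 1, 3, 1, 2, 4, 1, 3, 4] [.sub [29, 24, 19, 19, 18, 25, 31, 20, 29, 29] [.sub [30, 19, 25, 18, 18, 20, 30, 24, 25, 20, 30] [.out 2317]]],
  .sub [2, 3, 2, 3, 1, 4, 1, 3, 1, 2, 4, 1, 3, 4] [.sub [24, 27, 19, 20, 18, 27, 25, 31, 29, 25] [.out 2787]],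
  .sub [2, 4, 3, 2, 1, 4, 1, 3, 1, 2, 4, 1, 3, 4] [.sub [29, 31, 30, 18, 19, 24, 24, 27, 25, 20, 30, 29, 29] [.out 1755]],
  .sub [4, 1, 3, 2, 1, 4, 1, 3, 1, 2, 4, 1, 3, 4] [.sub [19, 27, 31, 18, 18, 31, 20, 24, 20, 30] [.out 1971]],
  .sub [3, 1, 3, 2, 1, 4, 1, 3, 1, 2, 4, 1, 3, 4] [.sub [20, 19, 31, 27, 18, 18, 31, 24, 29, 24, 30, 29, 29] [.sub [31, 29, 24, 18, 25, 31, 31, 20, 20] [.out 197]]],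
  .sub [2, 1, 3, 2, 1, 4, 1, 3, 1, 2, 4, 1, 3, 4] [.sub [20, 19, 18, 18, 18, 31, 27, 29, 20, 24, 27, 30, 29] [.sub [25, 27, 30, 20, 18, 24, 24, 27, 20, 24, 29, 25] [.out 3657]]],
  .sub [1, 2, 3, 2, 1, 4, 1, 3, 1, 2, 4, 1, 3, 4] [.sub [31, 20, 29, 18, 18, 31, 30, 27, 24] [.out 661]],
  .sub [1, 3, 1, 2, 1, 4, 1, 3, 1, 2, 4, 1, 3, 4] [.sub [30, 31, 19, 18, 19, 18, 30, 25, 20, 31, 30] [.out 3305]],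
  .sub [4, 1, 4, 3, 2, 4, 1, 3, 1, 2, 4, 1, 3, 4] [.sub [30, 24, 20, 19, 31, 20, 31, 27, 29] [.sub [18, 31, 31, 18, 18, 20, 24, 31, 25, 20, 29, 29] [.out 3125]]],
  .sub [2, 1, 4, 3, 2, 4, 1, 3, 1, 2, 4, 1, 3, 4] [.out 3373],
  .sub [3, 2, 1, 3, 2, 4, 1, 3, 1, 2, 4, 1, 3, 4] [.sub [19, 20, 19, 18, 24, 20, 20, 29, 25, 29] [.out 3811]],
  .sub [4, 3, 4, 1, 2, 4, 1, 3, 1, 2, 4, 1, 3, 4] [.sub [29, 31, 30, 18, 19, 24, 24, 27, 25, 20, 30, 29, 29] [.sub [29, 25, 18, 18, 29, 30, 31, 29, 29] [.out 2119]]],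
  .sub [1, 3, 4, 1, 2, 4, 1, 3, 1, 2, 4, 1, 3, 4] [.sub [19, 24, 25, 27, 18, 31, 31, 20, 20, 30, 25] [.out 2888]],
  .sub [3, 1, 4, 1, 2, 4, 1, 3, 1, 2, 4, 1, 3, 4] [.out 2004],
  .sub [2, 1, 4, 1, 2, 4, 1, 3, 1, 2, 4, 1, 3, 4] [.sub [31, 24, 31, 18, 29, 20, 24, 20, 25, 29] [.sub [19, 19, 27, 18, 19, 27, 30, 31, 24, 20, 30] [.out 197]]],
  .sub [1, 4, 3, 1, 2, 4, 1, 3, 1, 2, 4, 1, 3, 4] [.sub [29, 20, 18, 27, 19, 30, 20, 30, 20, 27] [.out 1426]],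
  .sub [2, 1, 3, 1, 2, 4, 1, 3, 1, 2, 4, 1, 3, 4] [.out 3253],
  .sub [3, 4, 1, 4, 3, 2, 1, 3, 1, 2, 4, 1, 3, 4] [.sub [24, 19, 20, 18, 19, 24, 27, 30, 31, 27, 29, 29] [.sub [30, 20, 18, 30, 24, 25, 24, 20, 30] [.out 1316]]],
  .sub [2, 3, 1, 4, 3, 2, 1, 3, 1, 2, 4, 1, 3, 4] [.out 2419],
  .sub [1, 2, 1, 4, 3, 2, 1, 3, 1, 2, 4, 1, 3, 4] [.sub [20, 18, 25, 19, 30, 31, 24, 20, 30, 25, 29, 29] [.sub [18, 29, 19, 20, 19, 29, 31, 27, 25, 31, 29, 25, 29, 29] [.out 3637]]],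
  .sub [3, 1, 4, 1, 3, 2, 1, 3, 1, 2, 4, 1, 3, 4] [.sub [19, 25, 19, 24, 19, 18, 20, 25, 20, 31, 29, 25, 29] [.out 4052]],
  .sub [2, 4, 3, 1, 3, 2, 1, 3, 1, 2, 4, 1, 3, 4] [.sub [18, 18, 20, 31, 18, 18, 25, 31, 25, 31, 27, 29, 29] [.out 2575]],
  .sub [4, 1, 3, 1, 3, 2, 1, 3, 1, 2, 4, 1, 3, 4] [.sub [31, 24, 19, 24, 18, 18, 31, 24, 31, 31, 20, 30, 27] [.sub [19, 30, 24, 30, 25, 20, 30, 25, 29] [.out 3726]]],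
  .sub [2, 1, 3, 1, 3, 2, 1, 3, 1, 2, 4, 1, 3, 4] [.sub [18, 25, 24, 25, 18, 27, 31, 20, 29, 29] [.out 3981]],
  .sub [2, 3, 2, 1, 3, 2, 1, 3, 1, 2, 4, 1, 3, 4] [.sub [29, 31, 25, 18, 29, 31, 29, 31, 30, 27, 29] [.out 3476]],
  .sub [4, 1, 2, 1, 3, 2, 1, 3, 1, 2, 4, 1, 3, 4] [.out 2207],
  .sub [3, 1, 2, 1, 3, 2, 1, 3, 1, 2, 4, 1, 3, 4] [.sub [31, 19, 29, 20, 18, 27, 29, 20, 31, 20] [.out 2172]],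
  .sub [1, 2, 3, 4, 1, 2, 1, 3, 1, 2, 4, 1, 3, 4] [.sub [19, 24, 19, 20, 27, 30, 20, 25] [.sub [19, 24, 19, 25, 18, 18, 20, 31, 20, 24, 30] [.out 625]]],
  .sub [3, 2, 1, 4, 1, 2, 1, 3, 1, 2, 4, 1, 3, 4] [.sub [19, 20, 24, 18, 31, 27, 30, 20, 20, 27, 29, 29] [.out 183]],
  .sub [4, 1, 4, 3, 1, 2, 1, 3, 1, 2, 4, 1, 3, 4] [.out 2171],
  .sub [3, 1, 4, 3, 1, 2, 1, 3, 1, 2, 4, 1, 3, 4] [.sub [18, 31, 19, 19, 18, 27, 25, 20, 20, 27, 30, 29] [.out 3126]],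
  .sub [1, 4, 1, 3, 1, 2, 1, 3, 1, 2, 4, 1, 3, 4] [.out 3302],
  .sub [2, 4, 1, 3, 1, 2, 1, 3, 1, 2, 4, 1, 3, 4] [.sub [24, 18, 25, 31, 19, 27, 20, 31, 30, 20, 30, 27] [.out 2686]],
  .sub [2, 1, 3, 4, 1, 3, 2, 3, 1, 2, 4, 1, 3, 4] [.sub [30, 20, 18, 18, 18, 27, 29, 30, 24, 29, 25, 29] [.out 3629]],
  .sub [4, 3, 1, 4, 1, 3, 2, 3, 1, 2, 4, 1, 3, 4] [.sub [24, 18, 25, 19, 24, 20, 24, 27, 30, 29, 29] [.sub [18, 29, 19, 25, 19, 20, 31, 30, 20, 20, 30, 25, 29] [.out 2100]]],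
  .sub [1, 3, 1, 4, 1, 3, 2, 3, 1, 2, 4, 1, 3, 4] [.sub [18, 30, 24, 18, 18, 31, 20, 29, 31, 29] [.out 2461]],
  .sub [2, 3, 1, 4, 1, 3, 2, 3, 1, 2, 4, 1, 3, 4] [.out 3738],
  .sub [1, 2, 1, 4, 1, 3, 2, 3, 1, 2, 4, 1, 3, 4] [.out 3011],
  .sub [3, 1, 3, 2, 1, 3, 2, 3, 1, 2, 4, 1, 3, 4] [.out 1625],
  .sub [3, 2, 1, 3, 4, 1, 2, 3, 1, 2, 4, 1, 3, 4] [.out 3008],
  .sub [2, 4, 3, 1, 4, 1, 2, 3, 1, 2, 4, 1, 3, 4] [.sub [27, 25, 18, 25, 18, 18, 24, 29, 25, 24, 20, 25, 29, 29] [.sub [31, 19, 19, 19, 27, 31, 25, 20, 29, 25, 29, 29] [.out 3952]]],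
  .sub [4, 1, 3, 1, 4, 1, 2, 3, 1, 2, 4, 1, 3, 4] [.sub [20, 27, 18, 19, 18, 30, 27, 24, 31, 29, 25, 29] [.sub [18, 27, 18, 18, 18, 29, 25, 20, 24, 27] [.out 29]]],
  .sub [2, 1, 3, 1, 4, 1, 2, 3, 1, 2, 4, 1, 3, 4] [.sub [29, 19, 25, 18, 18, 31, 29, 24, 30, 25, 29] [.out 3735]],
  .sub [1, 2, 3, 1, 4, 1, 2, 3, 1, 2, 4, 1, 3, 4] [.out 1578],
  .sub [2, 4, 1, 4, 3, 2, 1, 4, 3, 2, 3, 1, 3, 4] [.sub [19, 19, 18, 20, 18, 18, 27, 31, 31, 25, 29, 29] [.sub [24, 20, 27, 19, 20, 27, 31, 27, 30, 29, 29] [.out 815]]],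
  .sub [1, 3, 1, 4, 3, 2, 1, 4, 3, 2, 3, 1, 3, 4] [.out 3522],
  .sub [2, 3, 1, 4, 3, 2, 1, 4, 3, 2, 3, 1, 3, 4] [.sub [18, 19, 29, 18, 18, 27, 24, 30, 20, 25, 29] [.sub [19, 30, 20, 19, 18, 20, 30, 25, 31, 27, 30] [.out 2183]]],
  .sub [3, 2, 1, 4, 3, 2, 1, 4, 3, 2, 3, 1, 3, 4] [.out 3055]]

/-- Branches. -/
def kidsYPart49 : List Branch := [
  .sub [1, 3, 4, 1, 3, 2, 1, 4, 3, 2, 3, 1, 3, 4] [.out 3329],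
  .sub [2, 3, 4, 1, 3, 2, 1, 4, 3, 2, 3, 1, 3, 4] [.out 3391],
  .sub [3, 2, 4, 1, 3, 2, 1, 4, 3, 2, 3, 1, 3, 4] [.sub [30, 19, 20, 18, 18, 20, 20, 31, 20] [.out 560]],
  .sub [2, 3, 2, 1, 3, 2, 1, 4, 3, 2, 3, 1, 3, 4] [.out 2285],
  .sub [1, 2, 3, 2, 1, 3, 2, 4, 3, 2, 3, 1, 3, 4] [.out 2882],
  .sub [1, 3, 1, 2, 1, 3, 2, 4, 3, 2, 3, 1, 3, 4] [.out 3299],
  .sub [2, 3, 1, 2, 1, 3, 2, 4, 3, 2, 3, 1, 3, 4] [.out 1273],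
  .sub [1, 4, 3, 2, 4, 3, 4, 1, 3, 2, 3, 1, 3, 4] [.out 4046],
  .sub [2, 4, 3, 2, 4, 3, 4, 1, 3, 2, 3, 1, 3, 4] [.out 3811],
  .sub [1, 2, 3, 2, 4, 3, 4, 1, 3, 2, 3, 1, 3, 4] [.sub [29, 18, 27, 20, 18, 25, 24, 27, 24, 29, 25] [.sub [31, 20, 18, 27, 18, 31, 24, 20, 30, 20, 30] [.out 3276]]],
  .sub [3, 4, 1, 2, 4, 3, 4, 1, 3, 2, 3, 1, 3, 4] [.out 3862],
  .sub [4, 3, 1, 2, 4, 3, 4, 1, 3, 2, 3, 1, 3, 4] [.sub [29, 31, 20, 18, 18, 30, 31, 31, 20, 24, 25] [.sub [25, 20, 18, 19, 27, 24, 27, 31, 30, 27, 29] [.out 73]]],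
  .sub [1, 3, 1, 2, 4, 3, 4, 1, 3, 2, 3, 1, 3, 4] [.out 3225],
  .sub [2, 3, 1, 2, 4, 3, 4, 1, 3, 2, 3, 1, 3, 4] [.out 3616],
  .sub [3, 4, 1, 3, 2, 3, 4, 1, 3, 2, 3, 1, 3, 4] [.sub [18, 30, 31, 19, 20, 30, 20, 30, 27, 29] [.out 124]],
  .sub [1, 2, 1, 3, 2, 3, 4, 1, 3, 2, 3, 1, 3, 4] [.sub [19, 25, 24, 24, 19, 18, 29, 25, 20, 31, 20, 30, 25, 29, 29] [.out 2720]],
  .sub [4, 3, 4, 1, 2, 3, 4, 1, 3, 2, 3, 1, 3, 4] [.sub [25, 20, 19, 24, 19, 20, 25, 24, 20, 30, 25, 29] [.out 896]],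
  .sub [1, 3, 4, 1, 2, 3, 4, 1, 3, 2, 3, 1, 3, 4] [.out 1238],
  .sub [2, 1, 4, 1, 2, 3, 4, 1, 3, 2, 3, 1, 3, 4] [.out 3400],
  .sub [2, 4, 3, 1, 2, 3, 4, 1, 3, 2, 3, 1, 3, 4] [.out 1383],
  .sub [3, 2, 3, 1, 2, 3, 4, 1, 3, 2, 3, 1, 3, 4] [.sub [25, 19, 25, 19, 18, 20, 25, 31, 30, 25] [.out 2682]],
  .sub [4, 1, 3, 1, 2, 1, 4, 1, 3, 2, 3, 1, 3, 4] [.sub [29, 18, 27, 20, 18, 25, 24, 27, 24, 29, 25] [.out 2902]],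
  .sub [2, 1, 3, 1, 2, 1, 4, 1, 3, 2, 3, 1, 3, 4] [.out 2284],
  .sub [3, 2, 1, 3, 1, 2, 4, 1, 3, 2, 3, 1, 3, 4] [.sub [19, 19, 20, 19, 24, 20, 20, 29] [.out 1091]],
  .sub [2, 1, 4, 3, 2, 4, 3, 1, 3, 2, 3, 1, 3, 4] [.out 3251],
  .sub [3, 2, 4, 3, 2, 4, 3, 1, 3, 2, 3, 1, 3, 4] [.out 1961],
  .sub [1, 2, 4, 3, 2, 4, 3, 1, 3, 2, 3, 1, 3, 4] [.out 3795],
  .sub [3, 4, 1, 3, 2, 4, 3, 1, 3, 2, 3, 1, 3, 4] [.out 3326],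
  .sub [2, 4, 1, 3, 2, 4, 3, 1, 3, 2, 3, 1, 3, 4] [.sub [31, 20, 18, 27, 18, 24, 30, 20, 31, 29, 25, 29, 29] [.out 3151]],
  .sub [4, 3, 1, 3, 2, 4, 3, 1, 3, 2, 3, 1, 3, 4] [.out 3605],
  .sub [1, 3, 1, 3, 2, 4, 3, 1, 3, 2, 3, 1, 3, 4] [.out 2915],
  .sub [2, 3, 1, 3, 2, 4, 3, 1, 3, 2, 3, 1, 3, 4] [.sub [30, 31, 19, 18, 19, 18, 30, 25, 20, 31, 30] [.sub [31, 29, 24, 18, 27, 25, 24, 20, 29] [.done 19]]],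
  .sub [1, 2, 1, 3, 2, 4, 3, 1, 3, 2, 3, 1, 3, 4] [.sub [20, 18, 30, 19, 18, 30, 20, 20, 27, 30, 29, 29] [.out 960]],
  .sub [4, 1, 2, 3, 2, 4, 3, 1, 3, 2, 3, 1, 3, 4] [.out 3260],
  .sub [1, 4, 3, 1, 2, 4, 3, 1, 3, 2, 3, 1, 3, 4] [.sub [18, 27, 19, 29, 18, 24, 24, 27, 24, 30, 29, 29] [.sub [18, 31, 20, 29, 18, 31, 20, 20, 27, 30] [.out 267]]],
  .sub [2, 4, 3, 1, 2, 4, 3, 1, 3, 2, 3, 1, 3, 4] [.out 2079],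
  .sub [3, 2, 3, 1, 2, 4, 3, 1, 3, 2, 3, 1, 3, 4] [.out 2679],
  .sub [4, 3, 1, 4, 3, 2, 3, 1, 3, 2, 3, 1, 3, 4] [.out 3040],
  .sub [1, 3, 1, 4, 3, 2, 3, 1, 3, 2, 3, 1, 3, 4] [.sub [19, 31, 27, 18, 24, 24, 31, 30, 25, 29, 29] [.sub [27, 18, 27, 18, 18, 25, 31, 31, 20, 20, 30, 27] [.out 3039]]],
  .sub [4, 1, 2, 4, 3, 2, 3, 1, 3, 2, 3, 1, 3, 4] [.out 2751],
  .sub [3, 1, 2, 4, 3, 2, 3, 1, 3, 2, 3, 1, 3, 4] [.sub [29, 19, 18, 31, 24, 25, 20, 30, 25, 29, 29] [.sub [24, 31, 19, 29, 18, 20, 31, 29, 31, 29] [.out 263]]],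
  .sub [1, 4, 3, 1, 3, 2, 3, 1, 3, 2, 3, 1, 3, 4] [.sub [18, 20, 24, 20, 18, 25, 31, 31, 20] [.out 3948]],
  .sub [2, 4, 3, 1, 3, 2, 3, 1, 3, 2, 3, 1, 3, 4] [.sub [27, 27, 19, 20, 19, 30, 27, 20, 31, 29, 25, 29, 29] [.out 1884]],
  .sub [3, 2, 3, 1, 3, 2, 3, 1, 3, 2, 3, 1, 3, 4] [.out 890],
  .sub [1, 2, 3, 1, 3, 2, 3, 1, 3, 2, 3, 1, 3, 4] [.out 3753],
  .sub [1, 2, 4, 1, 4, 3, 2, 1, 3, 2, 3, 1, 3, 4] [.out 1592],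
  .sub [3, 1, 2, 1, 4, 3, 2, 1, 3, 2, 3, 1, 3, 4] [.out 2640],
  .sub [3, 1, 3, 2, 4, 3, 2, 1, 3, 2, 3, 1, 3, 4] [.out 3855],
  .sub [1, 2, 3, 2, 4, 3, 2, 1, 3, 2, 3, 1, 3, 4] [.out 1801],
  .sub [4, 3, 1, 2, 4, 3, 2, 1, 3, 2, 3, 1, 3, 4] [.sub [18, 20, 27, 18, 29, 24, 31, 20, 29] [.out 2444]],
  .sub [1, 3, 1, 2, 4, 3, 2, 1, 3, 2, 3, 1, 3, 4] [.out 1630],
  .sub [2, 4, 1, 4, 3, 1, 2, 1, 3, 2, 3, 1, 3, 4] [.out 2889],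
  .sub [2, 3, 1, 4, 3, 1, 2, 1, 3, 2, 3, 1, 3, 4] [.out 2983],
  .sub [2, 1, 3, 4, 1, 3, 1, 2, 3, 2, 3, 1, 3, 4] [.sub [31, 31, 19, 24, 24, 27, 20, 24, 29, 25, 29, 29] [.sub [31, 20, 31, 18, 19, 18, 27, 24, 25, 31, 27, 30, 29] [.out 597]]],
  .sub [3, 2, 3, 4, 1, 3, 1, 2, 3, 2, 3, 1, 3, 4] [.out 3888],
  .sub [1, 2, 3, 4, 1, 3, 1, 2, 3, 2, 3, 1, 3, 4] [.out 3285],
  .sub [3, 4, 1, 4, 3, 2, 4, 3, 1, 2, 3, 1, 3, 4] [.out 1673],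
  .sub [1, 4, 1, 4, 3, 2, 4, 3, 1, 2, 3, 1, 3, 4] [.sub [29, 25, 18, 31, 19, 29, 31, 30, 20, 27, 30, 29, 29] [.out 3859]],
  .sub [2, 4, 1, 4, 3, 2, 4, 3, 1, 2, 3, 1, 3, 4] [.sub [27, 18, 27, 18, 27, 29, 20, 20, 30, 27, 29] [.out 3869]],
  .sub [3, 2, 1, 4, 3, 2, 4, 3, 1, 2, 3, 1, 3, 4] [.sub [20, 29, 19, 25, 18, 18, 31, 24, 31, 31, 30, 29] [.out 3333]],
  .sub [1, 2, 1, 4, 3, 2, 4, 3, 1, 2, 3, 1, 3, 4] [.sub [30, 19, 18, 18, 19, 18, 25, 20, 30, 24, 20, 27, 30, 29] [.out 1359]],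
  .sub [3, 1, 4, 1, 3, 2, 4, 3, 1, 2, 3, 1, 3, 4] [.sub [18, 31, 24, 20, 19, 31, 27, 20, 31, 20, 27, 30, 29, 29] [.out 1944]],
  .sub [2, 1, 4, 1, 3, 2, 4, 3, 1, 2, 3, 1, 3, 4] [.out 3518],
  .sub [1, 2, 4, 1, 3, 2, 4, 3, 1, 2, 3, 1, 3, 4] [.out 3700]]

/-- Branches. -/
def kidsYPart50 : List Branch := [
  .sub [3, 1, 2, 1, 3, 2, 4, 3, 1, 2, 3, 1, 3, 4] [.out 1280],
  .sub [4, 3, 1, 4, 1, 2, 4, 3, 1, 2, 3, 1, 3, 4] [.sub [30, 24, 20, 19, 27, 31, 25, 20, 27, 30] [.out 2440]],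
  .sub [4, 1, 4, 3, 1, 2, 4, 3, 1, 2, 3, 1, 3, 4] [.out 930],
  .sub [3, 1, 4, 3, 1, 2, 4, 3, 1, 2, 3, 1, 3, 4] [.out 2134],
  .sub [1, 2, 4, 3, 1, 2, 4, 3, 1, 2, 3, 1, 3, 4] [.out 3611],
  .sub [1, 4, 1, 3, 1, 2, 4, 3, 1, 2, 3, 1, 3, 4] [.sub [29, 18, 31, 19, 24, 29, 24, 31, 29, 25, 29] [.sub [19, 31, 20, 19, 31, 27, 20, 20, 20, 25] [.out 1776]]],
  .sub [2, 4, 1, 3, 1, 2, 4, 3, 1, 2, 3, 1, 3, 4] [.sub [20, 19, 27, 19, 18, 20, 31, 30, 24, 29, 29] [.out 1244]],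
  .sub [1, 2, 1, 3, 1, 2, 4, 3, 1, 2, 3, 1, 3, 4] [.out 2798],
  .sub [3, 2, 1, 4, 1, 2, 1, 3, 1, 2, 3, 1, 3, 4] [.sub [29, 25, 19, 24, 18, 18, 29, 20, 31, 20, 29, 25, 29] [.out 3429]],
  .sub [4, 3, 1, 4, 1, 3, 2, 3, 1, 2, 3, 1, 3, 4] [.sub [31, 19, 31, 18, 31, 30, 25, 20, 30, 27, 29, 29] [.out 945]],
  .sub [1, 2, 1, 4, 1, 3, 2, 3, 1, 2, 3, 1, 3, 4] [.sub [24, 29, 19, 20, 19, 24, 27, 25, 31, 30, 27, 29] [.out 327]],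
  .sub [4, 1, 2, 4, 1, 3, 2, 3, 1, 2, 3, 1, 3, 4] [.sub [18, 29, 31, 25, 18, 29, 24, 27, 24, 27, 29, 29] [.out 551]],
  .sub [3, 4, 1, 3, 1, 3, 2, 3, 1, 2, 3, 1, 3, 4] [.out 3535],
  .sub [4, 1, 3, 2, 1, 3, 2, 3, 1, 2, 3, 1, 3, 4] [.sub [19, 18, 31, 18, 18, 27, 24, 31, 20, 20, 30, 27, 29, 29] [.out 3350]],
  .sub [3, 1, 3, 2, 1, 3, 2, 3, 1, 2, 3, 1, 3, 4] [.sub [27, 27, 18, 29, 18, 29, 30, 24, 30, 27, 29] [.sub [18, 30, 31, 19, 18, 29, 20, 20, 30, 29, 29] [.out 73]]],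
  .sub [2, 1, 3, 2, 1, 3, 2, 3, 1, 2, 3, 1, 3, 4] [.out 3019],
  .sub [3, 4, 1, 3, 4, 1, 2, 3, 1, 2, 3, 1, 3, 4] [.out 1549],
  .sub [1, 4, 1, 3, 4, 1, 2, 3, 1, 2, 3, 1, 3, 4] [.sub [19, 24, 27, 18, 25, 24, 30, 24, 20, 30, 25, 29, 29] [.out 3712]],
  .sub [3, 2, 1, 3, 4, 1, 2, 3, 1, 2, 3, 1, 3, 4] [.sub [24, 18, 29, 18, 18, 18, 29, 31, 25, 31, 20, 30, 25, 29, 29] [.sub [25, 18, 27, 19, 18, 30, 24, 25, 20, 25] [.out 3638]]],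
  .sub [1, 4, 3, 1, 4, 1, 2, 3, 1, 2, 3, 1, 3, 4] [.out 3300],
  .sub [2, 1, 3, 1, 4, 1, 2, 3, 1, 2, 3, 1, 3, 4] [.out 3472],
  .sub [2, 1, 4, 1, 3, 1, 2, 3, 1, 2, 3, 1, 3, 4] [.sub [19, 29, 25, 19, 18, 24, 29, 20, 24, 25, 29, 29] [.sub [30, 20, 20, 19, 18, 20, 20, 20, 20, 27] [.out 2923]]],
  .sub [1, 4, 3, 2, 1, 3, 4, 1, 4, 3, 2, 1, 3, 4] [.out 3857],
  .sub [4, 1, 4, 3, 2, 3, 4, 1, 4, 3, 2, 1, 3, 4] [.sub [27, 30, 19, 25, 18, 18, 30, 24, 29, 20, 20, 30, 27, 29] [.sub [31, 20, 18, 27, 18, 31, 24, 20, 30, 20, 30] [.out 1854]]],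
  .sub [3, 1, 4, 3, 2, 3, 4, 1, 4, 3, 2, 1, 3, 4] [.sub [27, 30, 19, 20, 18, 31, 24, 30, 31, 29, 25] [.sub [29, 18, 25, 18, 30, 29, 31, 20, 30] [.out 924]]],
  .sub [3, 2, 1, 3, 2, 3, 4, 1, 4, 3, 2, 1, 3, 4] [.out 3130],
  .sub [4, 1, 3, 1, 2, 1, 4, 1, 4, 3, 2, 1, 3, 4] [.sub [25, 24, 27, 18, 18, 27, 20, 31, 30, 20, 30, 27, 29] [.out 3441]],
  .sub [1, 3, 2, 4, 1, 4, 3, 1, 4, 3, 2, 1, 3, 4] [.sub [31, 29, 25, 19, 18, 20, 27, 30, 31, 30, 25, 29, 29] [.out 2397]],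
  .sub [2, 4, 3, 2, 1, 4, 3, 1, 4, 3, 2, 1, 3, 4] [.sub [18, 25, 18, 24, 18, 27, 31, 27, 20, 20, 30, 29, 29] [.sub [18, 24, 18, 19, 18, 27, 29, 31, 31, 29] [.out 2369]]],
  .sub [4, 1, 3, 2, 1, 4, 3, 1, 4, 3, 2, 1, 3, 4] [.out 3588],
  .sub [2, 1, 3, 2, 1, 4, 3, 1, 4, 3, 2, 1, 3, 4] [.out 3540],
  .sub [1, 2, 3, 2, 1, 4, 3, 1, 4, 3, 2, 1, 3, 4] [.out 2473],
  .sub [3, 4, 1, 2, 1, 4, 3, 1, 4, 3, 2, 1, 3, 4] [.sub [19, 20, 24, 19, 18, 31, 24, 25, 24, 20, 30, 25, 29] [.out 1288]],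
  .sub [2, 4, 3, 1, 2, 4, 3, 1, 4, 3, 2, 1, 3, 4] [.sub [29, 19, 25, 19, 31, 31, 24, 29, 29] [.out 256]],
  .sub [3, 2, 3, 1, 2, 4, 3, 1, 4, 3, 2, 1, 3, 4] [.out 1783],
  .sub [1, 2, 3, 1, 2, 4, 3, 1, 4, 3, 2, 1, 3, 4] [.sub [31, 19, 18, 18, 18, 30, 20, 24, 20, 20, 29, 29] [.sub [18, 20, 18, 29, 20, 31, 20, 29] [.out 1983]]],
  .sub [3, 1, 3, 2, 4, 1, 3, 1, 4, 3, 2, 1, 3, 4] [.out 3924],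
  .sub [4, 3, 1, 2, 4, 1, 3, 1, 4, 3, 2, 1, 3, 4] [.sub [24, 24, 19, 25, 18, 18, 25, 27, 25, 31, 30, 27, 29, 29] [.sub [20, 24, 25, 19, 24, 31, 27, 24, 20, 27] [.out 3850]]],
  .sub [3, 1, 2, 3, 2, 1, 3, 1, 4, 3, 2, 1, 3, 4] [.sub [20, 25, 20, 18, 30, 20, 24, 20, 20, 29, 25, 29] [.out 430]],
  .sub [4, 3, 1, 4, 3, 2, 3, 1, 4, 3, 2, 1, 3, 4] [.sub [19, 29, 31, 29, 19, 18, 20, 30, 29, 24, 27, 30] [.out 2762]],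
  .sub [1, 3, 1, 4, 3, 2, 3, 1, 4, 3, 2, 1, 3, 4] [.out 1270],
  .sub [2, 3, 1, 4, 3, 2, 3, 1, 4, 3, 2, 1, 3, 4] [.out 3596],
  .sub [1, 3, 2, 4, 3, 2, 3, 1, 4, 3, 2, 1, 3, 4] [.out 3239],
  .sub [1, 3, 4, 1, 3, 2, 3, 1, 4, 3, 2, 1, 3, 4] [.out 3484],
  .sub [2, 4, 3, 1, 3, 2, 3, 1, 4, 3, 2, 1, 3, 4] [.out 2829],
  .sub [3, 1, 3, 4, 1, 2, 3, 1, 4, 3, 2, 1, 3, 4] [.sub [25, 20, 24, 19, 18, 20, 24, 29, 25, 29] [.out 59]],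
  .sub [2, 1, 3, 4, 1, 2, 3, 1, 4, 3, 2, 1, 3, 4] [.sub [31, 19, 31, 19, 31, 25, 20, 25, 29, 29] [.out 3931]],
  .sub [2, 3, 1, 4, 1, 2, 3, 1, 4, 3, 2, 1, 3, 4] [.out 2744],
  .sub [3, 2, 1, 4, 1, 2, 3, 1, 4, 3, 2, 1, 3, 4] [.sub [18, 31, 24, 19, 18, 20, 27, 31, 30, 25, 29] [.out 2815]],
  .sub [3, 4, 1, 3, 1, 2, 3, 1, 4, 3, 2, 1, 3, 4] [.sub [25, 27, 24, 25, 18, 31, 27, 30, 20, 20, 25, 29, 29] [.out 1732]],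
  .sub [2, 4, 3, 1, 4, 3, 2, 1, 4, 3, 2, 1, 3, 4] [.sub [19, 31, 25, 19, 20, 25, 20, 20] [.sub [24, 19, 20, 18, 18, 30, 27, 24, 27, 24, 30, 29] [.out 458]]],
  .sub [4, 3, 2, 1, 4, 3, 2, 1, 4, 3, 2, 1, 3, 4] [.sub [19, 24, 31, 24, 18, 24, 29, 31, 20, 20, 29, 25, 29, 29] [.out 3540]],
  .sub [1, 3, 2, 1, 4, 3, 2, 1, 4, 3, 2, 1, 3, 4] [.sub [27, 20, 31, 20, 18, 24, 27, 24, 20, 20, 30] [.sub [24, 19, 31, 25, 19, 24, 20, 30, 29, 24, 27, 29, 29] [.bad [31, 25, 18, 19, 27, 31, 25, 20, 29, 25, 29, 29] 1]]],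
  .sub [2, 3, 2, 1, 4, 3, 2, 1, 4, 3, 2, 1, 3, 4] [.out 1588],
  .sub [4, 1, 2, 1, 4, 3, 2, 1, 4, 3, 2, 1, 3, 4] [.sub [31, 29, 19, 18, 19, 29, 20, 30, 20, 29, 25] [.sub [20, 19, 31, 27, 18, 18, 27, 31, 25, 29] [.out 2048]]],
  .sub [3, 1, 2, 1, 4, 3, 2, 1, 4, 3, 2, 1, 3, 4] [.sub [29, 20, 19, 27, 19, 24, 31, 24, 30, 25, 29] [.sub [19, 30, 20, 19, 18, 20, 30, 25, 31, 27, 30] [.out 2967]]],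
  .sub [2, 1, 3, 2, 4, 3, 2, 1, 4, 3, 2, 1, 3, 4] [.sub [24, 19, 24, 18, 18, 31, 20, 31, 31, 29] [.sub [27, 31, 18, 19, 24, 31, 27, 24, 20, 29] [.out 885]]],
  .sub [3, 4, 1, 2, 4, 3, 2, 1, 4, 3, 2, 1, 3, 4] [.out 3626],
  .sub [1, 4, 1, 2, 4, 3, 2, 1, 4, 3, 2, 1, 3, 4] [.out 3271],
  .sub [4, 3, 1, 2, 4, 3, 2, 1, 4, 3, 2, 1, 3, 4] [.out 2843],
  .sub [1, 3, 1, 2, 4, 3, 2, 1, 4, 3, 2, 1, 3, 4] [.sub [20, 30, 25, 20, 18, 31, 31, 31, 24, 30, 27, 29, 29] [.out 3187]],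
  .sub [3, 2, 3, 4, 1, 3, 2, 1, 4, 3, 2, 1, 3, 4] [.sub [18, 24, 19, 18, 18, 27, 20, 20, 31, 30] [.out 3343]],
  .sub [2, 3, 2, 4, 1, 3, 2, 1, 4, 3, 2, 1, 3, 4] [.sub [31, 18, 27, 20, 18, 18, 24, 31, 20, 30, 27, 29] [.out 2484]],
  .sub [1, 4, 1, 2, 1, 3, 2, 1, 4, 3, 2, 1, 3, 4] [.sub [30, 18, 31, 18, 19, 30, 24] [.out 3244]]]

/-- Branches. -/
def kidsYPart51 : List Branch := [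
  .sub [4, 3, 4, 1, 2, 3, 2, 1, 4, 3, 2, 1, 3, 4] [.out 3729],
  .sub [1, 3, 4, 1, 2, 3, 2, 1, 4, 3, 2, 1, 3, 4] [.sub [19, 18, 20, 29, 18, 18, 31, 24, 25, 20, 25, 29] [.out 1425]],
  .sub [3, 1, 4, 1, 2, 3, 2, 1, 4, 3, 2, 1, 3, 4] [.sub [20, 24, 24, 18, 20, 30, 25, 24, 29, 25, 29, 29] [.out 3629]],
  .sub [2, 1, 4, 1, 2, 3, 2, 1, 4, 3, 2, 1, 3, 4] [.out 2416],
  .sub [2, 4, 3, 1, 2, 3, 2, 1, 4, 3, 2, 1, 3, 4] [.sub [25, 18, 31, 18, 18, 25, 20, 31, 25, 20, 30, 29, 29] [.out 1028]],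
  .sub [4, 1, 3, 1, 2, 3, 2, 1, 4, 3, 2, 1, 3, 4] [.out 3012],
  .sub [2, 1, 3, 1, 2, 3, 2, 1, 4, 3, 2, 1, 3, 4] [.sub [27, 30, 20, 18, 29, 31, 20, 20, 27] [.out 3734]],
  .sub [3, 2, 3, 1, 2, 3, 2, 1, 4, 3, 2, 1, 3, 4] [.out 2744],
  .sub [3, 2, 1, 4, 3, 1, 2, 1, 4, 3, 2, 1, 3, 4] [.out 1030],
  .sub [1, 4, 3, 2, 4, 1, 3, 2, 4, 3, 2, 1, 3, 4] [.sub [30, 19, 31, 18, 18, 31, 20, 31, 25, 20, 27, 30] [.out 2900]],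
  .sub [1, 3, 2, 4, 3, 1, 3, 2, 4, 3, 2, 1, 3, 4] [.sub [27, 20, 18, 19, 18, 27, 27, 24, 27, 24, 30, 25] [.out 3631]],
  .sub [1, 2, 4, 3, 2, 1, 3, 2, 4, 3, 2, 1, 3, 4] [.sub [19, 18, 19, 20, 18, 24, 29, 24, 29] [.sub [18, 25, 20, 19, 31, 29, 25, 20, 20, 27] [.out 875]]],
  .sub [1, 3, 1, 3, 2, 1, 3, 2, 4, 3, 2, 1, 3, 4] [.out 3328],
  .sub [4, 3, 4, 1, 2, 1, 3, 2, 4, 3, 2, 1, 3, 4] [.out 2338],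
  .sub [4, 1, 3, 4, 1, 2, 3, 2, 4, 3, 2, 1, 3, 4] [.out 3962],
  .sub [3, 2, 3, 4, 1, 2, 3, 2, 4, 3, 2, 1, 3, 4] [.sub [19, 19, 30, 18, 19, 24, 20, 27, 24, 27] [.out 2991]],
  .sub [3, 4, 1, 3, 1, 2, 3, 2, 4, 3, 2, 1, 3, 4] [.out 3052],
  .sub [1, 3, 4, 1, 2, 4, 3, 4, 1, 3, 2, 1, 3, 4] [.out 2912],
  .sub [2, 3, 4, 1, 2, 4, 3, 4, 1, 3, 2, 1, 3, 4] [.sub [31, 24, 19, 30, 31, 27, 20, 20, 27, 30, 29, 29] [.sub [30, 25, 18, 18, 18, 24, 24, 27, 20, 24, 27, 29] [.out 2048]]],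
  .sub [1, 4, 3, 2, 4, 1, 3, 4, 1, 3, 2, 1, 3, 4] [.out 2781],
  .sub [4, 1, 3, 2, 4, 1, 3, 4, 1, 3, 2, 1, 3, 4] [.out 3862],
  .sub [3, 1, 3, 2, 4, 1, 3, 4, 1, 3, 2, 1, 3, 4] [.out 2702],
  .sub [2, 1, 3, 2, 4, 1, 3, 4, 1, 3, 2, 1, 3, 4] [.out 1831],
  .sub [1, 3, 1, 2, 4, 1, 3, 4, 1, 3, 2, 1, 3, 4] [.out 4000],
  .sub [3, 4, 1, 2, 3, 1, 3, 4, 1, 3, 2, 1, 3, 4] [.sub [19, 24, 25, 20, 18, 24, 31, 31, 31, 24] [.out 3782]],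
  .sub [1, 3, 1, 2, 3, 1, 3, 4, 1, 3, 2, 1, 3, 4] [.sub [24, 18, 31, 18, 19, 27, 27, 31, 30, 20, 29, 25] [.sub [30, 31, 19, 29, 18, 27, 29, 20, 31, 30, 25] [.out 1854]]],
  .sub [3, 1, 4, 3, 2, 1, 3, 4, 1, 3, 2, 1, 3, 4] [.sub [31, 31, 18, 19, 18, 25, 20, 31, 24] [.out 3339]],
  .sub [3, 2, 4, 3, 2, 1, 3, 4, 1, 3, 2, 1, 3, 4] [.sub [18, 18, 18, 18, 18, 31, 20, 20, 20, 27] [.out 166]],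
  .sub [1, 2, 4, 3, 2, 1, 3, 4, 1, 3, 2, 1, 3, 4] [.out 3609],
  .sub [4, 3, 4, 1, 2, 1, 3, 4, 1, 3, 2, 1, 3, 4] [.out 3502],
  .sub [2, 3, 4, 1, 2, 1, 3, 4, 1, 3, 2, 1, 3, 4] [.sub [25, 19, 19, 27, 18, 31, 20, 20, 20, 30, 25] [.out 2986]],
  .sub [1, 4, 3, 1, 2, 1, 3, 4, 1, 3, 2, 1, 3, 4] [.out 3110],
  .sub [2, 4, 3, 1, 2, 1, 3, 4, 1, 3, 2, 1, 3, 4] [.sub [18, 18, 20, 31, 18, 18, 27, 31, 29, 31, 30, 27, 29, 29] [.out 1301]],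
  .sub [3, 2, 3, 1, 2, 1, 3, 4, 1, 3, 2, 1, 3, 4] [.out 3913],
  .sub [1, 2, 3, 1, 2, 1, 3, 4, 1, 3, 2, 1, 3, 4] [.sub [19, 18, 27, 27, 18, 30, 31, 30, 20, 29, 25, 29] [.out 3087]],
  .sub [4, 3, 1, 4, 3, 2, 3, 4, 1, 3, 2, 1, 3, 4] [.out 932],
  .sub [2, 3, 1, 4, 3, 2, 3, 4, 1, 3, 2, 1, 3, 4] [.sub [25, 27, 19, 18, 18, 31, 30, 24, 30] [.out 3966]],
  .sub [2, 3, 2, 4, 3, 2, 3, 4, 1, 3, 2, 1, 3, 4] [.sub [20, 31, 24, 18, 24, 29, 31, 30, 29, 29] [.out 3854]],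
  .sub [3, 1, 2, 4, 3, 2, 3, 4, 1, 3, 2, 1, 3, 4] [.sub [24, 29, 24, 19, 18, 27, 20, 31, 31, 25, 29] [.sub [31, 18, 27, 18, 18, 18, 27, 25, 20, 31, 30, 25, 29, 29] [.out 3638]]],
  .sub [3, 2, 3, 4, 1, 2, 3, 4, 1, 3, 2, 1, 3, 4] [.out 3316],
  .sub [1, 3, 2, 3, 1, 2, 3, 4, 1, 3, 2, 1, 3, 4] [.sub [20, 19, 25, 18, 30, 31, 20, 30, 20, 27, 29, 29] [.out 967]],
  .sub [3, 1, 2, 3, 1, 2, 3, 4, 1, 3, 2, 1, 3, 4] [.sub [25, 27, 19, 18, 19, 29, 31, 29, 31, 27, 30, 29] [.out 1592]],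
  .sub [4, 1, 3, 1, 3, 2, 1, 4, 1, 3, 2, 1, 3, 4] [.sub [25, 20, 31, 18, 27, 25, 20, 25, 29, 29] [.sub [25, 27, 20, 19, 19, 18, 30, 29, 31, 20, 30, 27] [.out 2584]]],
  .sub [3, 4, 1, 3, 1, 2, 1, 4, 1, 3, 2, 1, 3, 4] [.sub [20, 19, 19, 19, 18, 25, 31, 24, 20, 25, 29] [.sub [19, 24, 20, 18, 29, 31, 27, 25, 31, 25] [.out 282]]],
  .sub [2, 4, 1, 3, 1, 2, 1, 4, 1, 3, 2, 1, 3, 4] [.sub [24, 30, 19, 20, 20, 18, 25, 24, 20, 27, 30, 29] [.out 4037]],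
  .sub [3, 2, 1, 3, 1, 2, 1, 4, 1, 3, 2, 1, 3, 4] [.out 2718],
  .sub [4, 1, 3, 1, 4, 3, 2, 4, 1, 3, 2, 1, 3, 4] [.sub [19, 24, 18, 24, 18, 24, 30, 20, 27, 29, 29] [.sub [25, 20, 19, 24, 27, 27, 31, 30, 27, 29] [.out 2688]]],
  .sub [2, 1, 3, 1, 4, 3, 2, 4, 1, 3, 2, 1, 3, 4] [.out 2641],
  .sub [2, 3, 2, 1, 4, 3, 2, 4, 1, 3, 2, 1, 3, 4] [.sub [24, 18, 19, 20, 18, 20, 24, 20, 27] [.out 2902]],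
  .sub [4, 1, 2, 1, 4, 3, 2, 4, 1, 3, 2, 1, 3, 4] [.out 1003],
  .sub [3, 1, 2, 1, 4, 3, 2, 4, 1, 3, 2, 1, 3, 4] [.sub [31, 19, 18, 19, 20, 30, 29] [.out 2516]],
  .sub [2, 1, 3, 2, 4, 3, 2, 4, 1, 3, 2, 1, 3, 4] [.sub [19, 18, 29, 18, 18, 30, 27, 31, 20, 25, 29, 29] [.out 3291]],
  .sub [1, 2, 3, 2, 4, 3, 2, 4, 1, 3, 2, 1, 3, 4] [.sub [20, 25, 20, 18, 24, 31, 24, 20, 20, 30, 29, 29] [.sub [18, 31, 31, 18, 18, 24, 29, 24, 25, 20, 27, 30, 29] [.out 1983]]],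
  .sub [1, 3, 1, 2, 4, 3, 2, 4, 1, 3, 2, 1, 3, 4] [.sub [20, 18, 24, 29, 24, 20, 30, 29] [.out 1508]],
  .sub [1, 3, 2, 4, 1, 3, 2, 4, 1, 3, 2, 1, 3, 4] [.sub [24, 18, 19, 18, 18, 27, 25, 20, 24, 30] [.sub [18, 29, 25, 20, 18, 29, 25, 24, 25] [.out 2808]]],
  .sub [4, 1, 2, 4, 1, 3, 2, 4, 1, 3, 2, 1, 3, 4] [.out 2178],
  .sub [1, 4, 1, 2, 1, 3, 2, 4, 1, 3, 2, 1, 3, 4] [.sub [24, 24, 18, 18, 19, 25, 24] [.out 852]],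
  .sub [1, 4, 3, 1, 2, 3, 2, 4, 1, 3, 2, 1, 3, 4] [.out 2472],
  .sub [2, 3, 1, 4, 3, 1, 2, 4, 1, 3, 2, 1, 3, 4] [.out 3702],
  .sub [2, 3, 2, 4, 3, 2, 4, 3, 1, 3, 2, 1, 3, 4] [.sub [18, 29, 31, 25, 19, 25, 31, 24, 30, 29, 29] [.out 3566]],
  .sub [4, 1, 3, 2, 3, 4, 1, 3, 1, 3, 2, 1, 3, 4] [.out 4033],
  .sub [4, 1, 4, 3, 2, 4, 1, 3, 1, 3, 2, 1, 3, 4] [.sub [25, 18, 19, 20, 18, 27, 25, 31, 27, 30, 29, 29] [.sub [19, 18, 18, 19, 20, 18, 20, 20, 27, 31, 27, 29, 29] [.out 2835]]],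
  .sub [3, 1, 4, 3, 2, 4, 1, 3, 1, 3, 2, 1, 3, 4] [.sub [18, 19, 24, 19, 29, 31, 24, 20, 30] [.sub [25, 31, 19, 18, 19, 30, 24, 20, 27, 24, 25] [.out 1078]]],
  .sub [2, 1, 4, 3, 2, 4, 1, 3, 1, 3, 2, 1, 3, 4] [.sub [19, 29, 25, 19, 18, 25, 27, 20, 31, 30, 25, 29] [.sub [18, 31, 24, 20, 19, 31, 29, 20, 20, 20, 27, 29, 29] [.out 2528]]]]

/-- Branches. -/
def kidsYPart52 : List Branch := [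
  .sub [1, 2, 4, 3, 2, 4, 1, 3, 1, 3, 2, 1, 3, 4] [.sub [24, 27, 31, 18, 19, 29, 20, 24, 20, 25, 29] [.sub [19, 31, 30, 31, 19, 24, 25, 29, 29] [.out 683]]],
  .sub [3, 4, 1, 3, 2, 4, 1, 3, 1, 3, 2, 1, 3, 4] [.out 1460],
  .sub [1, 4, 1, 3, 2, 4, 1, 3, 1, 3, 2, 1, 3, 4] [.sub [31, 18, 19, 20, 18, 20, 31, 24, 27, 29] [.out 3361]],
  .sub [4, 3, 1, 3, 2, 4, 1, 3, 1, 3, 2, 1, 3, 4] [.sub [25, 18, 30, 19, 18, 25, 27, 25, 20, 30, 25, 29, 29] [.out 3522]],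
  .sub [2, 3, 1, 3, 2, 4, 1, 3, 1, 3, 2, 1, 3, 4] [.sub [19, 24, 27, 19, 18, 27, 24, 27, 31, 20, 29, 25, 29] [.out 2982]],
  .sub [4, 1, 3, 1, 2, 4, 1, 3, 1, 3, 2, 1, 3, 4] [.sub [31, 24, 27, 19, 18, 25, 20, 31, 25, 20] [.out 2204]],
  .sub [1, 3, 1, 4, 3, 2, 1, 3, 1, 3, 2, 1, 3, 4] [.sub [31, 27, 19, 31, 18, 24, 20, 30, 25, 20, 27, 29] [.out 3799]],
  .sub [2, 3, 2, 4, 3, 2, 1, 3, 1, 3, 2, 1, 3, 4] [.sub [31, 20, 31, 18, 19, 18, 20, 24, 30, 20, 30, 27] [.out 2129]],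
  .sub [4, 3, 4, 1, 3, 2, 1, 3, 1, 3, 2, 1, 3, 4] [.out 4000],
  .sub [3, 2, 4, 1, 3, 2, 1, 3, 1, 3, 2, 1, 3, 4] [.out 1993],
  .sub [2, 4, 3, 1, 3, 2, 1, 3, 1, 3, 2, 1, 3, 4] [.out 2831],
  .sub [3, 2, 3, 1, 3, 2, 1, 3, 1, 3, 2, 1, 3, 4] [.out 3493],
  .sub [1, 3, 2, 1, 3, 2, 1, 3, 1, 3, 2, 1, 3, 4] [.sub [29, 31, 29, 18, 24, 20, 24, 30, 20, 30, 27, 29] [.out 3788]],
  .sub [2, 3, 2, 1, 3, 2, 1, 3, 1, 3, 2, 1, 3, 4] [.out 3069],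
  .sub [3, 1, 2, 1, 3, 2, 1, 3, 1, 3, 2, 1, 3, 4] [.sub [30, 31, 25, 19, 18, 24, 31, 20, 27, 29, 29] [.sub [19, 24, 19, 18, 20, 30, 29, 24, 29] [.out 3450]]],
  .sub [1, 3, 1, 2, 3, 2, 1, 3, 1, 3, 2, 1, 3, 4] [.sub [24, 31, 18, 19, 18, 27, 31, 25, 20, 20, 30, 27] [.out 1835]],
  .sub [4, 1, 3, 4, 1, 2, 1, 3, 1, 3, 2, 1, 3, 4] [.sub [18, 27, 18, 20, 27, 20, 31, 25] [.out 1222]],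
  .sub [3, 1, 3, 4, 1, 2, 1, 3, 1, 3, 2, 1, 3, 4] [.sub [18, 19, 18, 20, 18, 18, 20, 24, 25, 24, 30, 27, 29, 29] [.sub [19, 19, 20, 18, 18, 20, 20, 20, 24, 30, 25] [.out 2471]]],
  .sub [2, 3, 4, 1, 2, 3, 2, 3, 1, 3, 2, 1, 3, 4] [.out 3512],
  .sub [4, 1, 3, 1, 2, 3, 2, 3, 1, 3, 2, 1, 3, 4] [.sub [31, 19, 25, 18, 29, 31, 27, 25, 31, 30, 29, 29] [.out 924]],
  .sub [2, 1, 3, 1, 2, 3, 2, 3, 1, 3, 2, 1, 3, 4] [.out 3241],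
  .sub [2, 3, 1, 2, 3, 1, 2, 3, 1, 3, 2, 1, 3, 4] [.sub [27, 24, 31, 25, 18, 27, 24, 20, 20, 30, 25, 29, 29] [.out 1009]],
  .sub [2, 1, 4, 3, 1, 4, 3, 2, 1, 3, 2, 1, 3, 4] [.out 1945],
  .sub [3, 2, 4, 3, 1, 4, 3, 2, 1, 3, 2, 1, 3, 4] [.sub [27, 31, 19, 24, 18, 27, 27, 24, 27, 24, 25] [.out 325]],
  .sub [1, 2, 4, 3, 1, 4, 3, 2, 1, 3, 2, 1, 3, 4] [.out 3883],
  .sub [1, 2, 1, 3, 1, 4, 3, 2, 1, 3, 2, 1, 3, 4] [.out 2779],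
  .sub [4, 3, 2, 3, 1, 4, 3, 2, 1, 3, 2, 1, 3, 4] [.sub [25, 19, 19, 18, 19, 31, 29, 24, 25, 20, 29, 25] [.out 2879]],
  .sub [1, 3, 2, 3, 1, 4, 3, 2, 1, 3, 2, 1, 3, 4] [.sub [27, 19, 25, 18, 18, 30, 31, 20, 25, 20, 27, 29] [.out 1054]],
  .sub [4, 1, 2, 3, 1, 4, 3, 2, 1, 3, 2, 1, 3, 4] [.sub [19, 19, 30, 19, 18, 31, 25, 20, 20, 30, 27] [.out 2441]],
  .sub [3, 4, 1, 2, 1, 4, 3, 2, 1, 3, 2, 1, 3, 4] [.out 2300],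
  .sub [2, 3, 1, 3, 2, 4, 3, 2, 1, 3, 2, 1, 3, 4] [.sub [30, 24, 27, 19, 29, 20, 24, 29, 29] [.out 704]],
  .sub [3, 4, 1, 3, 4, 1, 3, 2, 1, 3, 2, 1, 3, 4] [.sub [24, 31, 18, 20, 18, 31, 20, 29, 24, 27, 29, 29] [.out 1750]],
  .sub [1, 3, 2, 1, 4, 1, 3, 2, 1, 3, 2, 1, 3, 4] [.sub [19, 19, 24, 25, 18, 29, 31, 29, 30, 24, 30, 29] [.sub [18, 25, 19, 18, 24, 29, 24, 31, 29, 25, 29, 29] [.out 3439]]],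
  .sub [2, 3, 2, 1, 4, 1, 3, 2, 1, 3, 2, 1, 3, 4] [.sub [31, 31, 18, 19, 19, 18, 24, 27, 31, 20, 20, 30, 25, 29] [.out 3849]],
  .sub [3, 2, 1, 4, 3, 1, 3, 2, 1, 3, 2, 1, 3, 4] [.sub [24, 19, 30, 20, 18, 30, 31, 25, 31, 25] [.out 3491]],
  .sub [2, 3, 4, 1, 2, 1, 3, 2, 1, 3, 2, 1, 3, 4] [.out 4001],
  .sub [4, 1, 3, 4, 1, 2, 3, 2, 1, 3, 2, 1, 3, 4] [.out 3816],
  .sub [2, 1, 4, 3, 1, 2, 3, 2, 1, 3, 2, 1, 3, 4] [.sub [31, 30, 19, 19, 18, 24, 25, 31, 25, 20, 30, 27, 29, 29] [.out 3263]],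
  .sub [1, 3, 4, 1, 3, 4, 1, 2, 1, 3, 2, 1, 3, 4] [.sub [25, 27, 25, 18, 30, 20, 30, 27, 29, 29] [.sub [19, 30, 24, 30, 25, 20, 30, 25, 29] [.out 3374]]],
  .sub [1, 2, 3, 1, 4, 3, 1, 2, 1, 3, 2, 1, 3, 4] [.sub [25, 20, 25, 19, 27, 20, 20, 24, 29, 25] [.out 2731]],
  .sub [2, 4, 3, 2, 4, 3, 1, 2, 1, 3, 2, 1, 3, 4] [.out 2883],
  .sub [1, 3, 1, 4, 1, 3, 1, 2, 1, 3, 2, 1, 3, 4] [.sub [31, 20, 18, 27, 18, 24, 30, 20, 31, 29, 25, 29, 29] [.sub [18, 19, 24, 27, 18, 25, 20, 30, 20, 29, 25, 29] [.out 2299]]],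
  .sub [2, 3, 1, 4, 1, 3, 1, 2, 1, 3, 2, 1, 3, 4] [.out 1944],
  .sub [3, 1, 2, 4, 1, 3, 1, 2, 1, 3, 2, 1, 3, 4] [.sub [24, 31, 18, 30, 25, 20, 31, 30, 25, 29, 29] [.out 603]],
  .sub [3, 4, 1, 2, 1, 3, 1, 2, 1, 3, 2, 1, 3, 4] [.out 3120],
  .sub [3, 1, 4, 3, 2, 3, 1, 2, 1, 3, 2, 1, 3, 4] [.out 3787],
  .sub [1, 4, 3, 1, 2, 3, 1, 2, 1, 3, 2, 1, 3, 4] [.out 3774],
  .sub [4, 1, 3, 1, 2, 3, 1, 2, 1, 3, 2, 1, 3, 4] [.out 2691],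
  .sub [1, 2, 3, 1, 2, 3, 1, 2, 1, 3, 2, 1, 3, 4] [.sub [19, 20, 27, 18, 27, 30, 27, 31, 20, 30, 25] [.out 1604]],
  .sub [2, 1, 3, 2, 4, 3, 4, 1, 2, 3, 2, 1, 3, 4] [.out 3265],
  .sub [1, 2, 3, 2, 4, 3, 4, 1, 2, 3, 2, 1, 3, 4] [.sub [19, 31, 31, 27, 18, 31, 31, 24, 29, 29] [.sub [19, 19, 20, 18, 18, 27, 24, 30, 20, 25, 29] [.out 605]]],
  .sub [2, 3, 1, 2, 4, 3, 4, 1, 2, 3, 2, 1, 3, 4] [.sub [19, 27, 19, 20, 18, 18, 31, 20, 25, 20, 30] [.out 548]],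
  .sub [1, 2, 3, 4, 1, 3, 4, 1, 2, 3, 2, 1, 3, 4] [.sub [25, 27, 19, 18, 19, 30, 25, 31, 25, 24] [.out 2911]],
  .sub [1, 3, 2, 3, 1, 3, 4, 1, 2, 3, 2, 1, 3, 4] [.out 1873],
  .sub [4, 1, 2, 3, 1, 3, 4, 1, 2, 3, 2, 1, 3, 4] [.sub [25, 19, 19, 25, 18, 27, 24, 20, 20, 30, 25, 29, 29] [.out 2305]],
  .sub [4, 1, 4, 3, 2, 4, 3, 1, 2, 3, 2, 1, 3, 4] [.out 3462],
  .sub [3, 1, 4, 3, 2, 4, 3, 1, 2, 3, 2, 1, 3, 4] [.sub [30, 20, 20, 18, 30, 25, 27, 24, 29, 25, 29] [.out 2892]],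
  .sub [2, 1, 4, 3, 2, 4, 3, 1, 2, 3, 2, 1, 3, 4] [.sub [30, 18, 31, 19, 24, 30, 20, 30, 20, 27, 29, 29] [.out 1296]],
  .sub [3, 2, 4, 3, 2, 4, 3, 1, 2, 3, 2, 1, 3, 4] [.sub [31, 19, 20, 31, 18, 24, 29, 25, 31, 30, 27, 29] [.sub [25, 18, 31, 18, 18, 20, 30, 31, 20, 29, 29] [.out 2841]]],
  .sub [2, 4, 1, 3, 2, 4, 3, 1, 2, 3, 2, 1, 3, 4] [.sub [24, 31, 18, 19, 20, 30, 20, 20, 24, 27, 29] [.sub [24, 20, 25, 18, 20, 31, 30, 24, 30, 27] [.out 4008]]],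
  .sub [1, 3, 1, 3, 2, 4, 3, 1, 2, 3, 2, 1, 3, 4] [.out 3061],
  .sub [2, 3, 1, 3, 2, 4, 3, 1, 2, 3, 2, 1, 3, 4] [.out 150],
  .sub [3, 2, 1, 3, 2, 4, 3, 1, 2, 3, 2, 1, 3, 4] [.out 2901],
  .sub [1, 2, 1, 3, 2, 4, 3, 1, 2, 3, 2, 1, 3, 4] [.sub [20, 27, 24, 19, 18, 25, 20, 30, 24, 20, 30, 27, 29, 29] [.out 3964]]]

/-- Branches. -/
def kidsYPart53 : List Branch := [
  .sub [4, 1, 2, 3, 2, 4, 3, 1, 2, 3, 2, 1, 3, 4] [.sub [18, 24, 20, 20, 18, 29, 20, 30, 20, 20, 25, 29, 29] [.out 3455]],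
  .sub [3, 1, 2, 3, 2, 4, 3, 1, 2, 3, 2, 1, 3, 4] [.out 3470],
  .sub [2, 1, 3, 1, 2, 4, 3, 1, 2, 3, 2, 1, 3, 4] [.sub [20, 20, 20, 19, 18, 29, 30, 31, 20, 30, 25, 29] [.out 1428]],
  .sub [1, 2, 3, 1, 2, 4, 3, 1, 2, 3, 2, 1, 3, 4] [.sub [25, 27, 31, 18, 27, 25, 20, 31, 30, 29] [.out 3737]],
  .sub [3, 2, 1, 3, 4, 1, 3, 1, 2, 3, 2, 1, 3, 4] [.sub [25, 18, 19, 18, 18, 20, 30, 20, 31, 25, 29, 29] [.sub [25, 18, 31, 24, 19, 27, 24, 30, 27, 29] [.done 18]]],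
  .sub [1, 2, 1, 3, 4, 1, 3, 1, 2, 3, 2, 1, 3, 4] [.out 2353],
  .sub [3, 1, 2, 3, 4, 1, 3, 1, 2, 3, 2, 1, 3, 4] [.out 1903],
  .sub [1, 3, 1, 4, 3, 2, 3, 1, 2, 3, 2, 1, 3, 4] [.out 3602],
  .sub [1, 4, 3, 4, 1, 2, 3, 1, 2, 3, 2, 1, 3, 4] [.out 2094],
  .sub [1, 3, 2, 3, 1, 2, 3, 1, 2, 3, 2, 1, 3, 4] [.sub [24, 19, 27, 31, 19, 30, 20, 30, 24, 30, 25] [.out 4042]],
  .sub [1, 4, 3, 2, 1, 4, 1, 4, 3, 1, 2, 1, 3, 4] [.out 3002],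
  .sub [4, 1, 4, 3, 2, 4, 1, 4, 3, 1, 2, 1, 3, 4] [.sub [19, 20, 18, 19, 31, 31, 20, 24, 30, 25] [.out 3453]],
  .sub [2, 1, 4, 3, 2, 4, 1, 4, 3, 1, 2, 1, 3, 4] [.sub [18, 20, 20, 18, 24, 30, 25, 31, 25] [.sub [24, 31, 19, 29, 18, 31, 30, 24, 20, 27, 30] [.bad [18, 24, 25, 18, 20, 24, 27, 24, 27, 30, 29, 29] 1]]],
  .sub [1, 2, 4, 3, 2, 4, 1, 4, 3, 1, 2, 1, 3, 4] [.out 3718],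
  .sub [1, 3, 1, 3, 2, 4, 1, 4, 3, 1, 2, 1, 3, 4] [.out 2987],
  .sub [2, 3, 1, 3, 2, 4, 1, 4, 3, 1, 2, 1, 3, 4] [.out 2708],
  .sub [4, 1, 2, 3, 2, 4, 1, 4, 3, 1, 2, 1, 3, 4] [.sub [18, 24, 29, 19, 19, 18, 30, 24, 20, 29, 25] [.out 3373]],
  .sub [4, 3, 4, 1, 2, 4, 1, 4, 3, 1, 2, 1, 3, 4] [.out 2826],
  .sub [1, 4, 3, 1, 2, 4, 1, 4, 3, 1, 2, 1, 3, 4] [.out 2642],
  .sub [2, 4, 3, 1, 2, 4, 1, 4, 3, 1, 2, 1, 3, 4] [.sub [19, 18, 27, 27, 18, 24, 20, 25, 20, 20, 30, 27, 29] [.out 2412]],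
  .sub [1, 3, 4, 1, 2, 3, 1, 4, 3, 1, 2, 1, 3, 4] [.out 2756],
  .sub [3, 4, 1, 4, 3, 2, 1, 4, 3, 1, 2, 1, 3, 4] [.sub [30, 31, 20, 19, 31, 24, 29, 20, 20, 27] [.out 3589]],
  .sub [1, 4, 1, 4, 3, 2, 1, 4, 3, 1, 2, 1, 3, 4] [.sub [19, 25, 24, 19, 18, 30, 31, 25, 24, 30, 25, 29] [.out 2159]],
  .sub [2, 4, 1, 4, 3, 2, 1, 4, 3, 1, 2, 1, 3, 4] [.sub [31, 24, 19, 24, 19, 20, 24, 20, 24, 30, 25, 29] [.sub [29, 18, 25, 18, 31, 29, 20, 24, 20, 30] [.out 2781]]],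
  .sub [2, 3, 1, 4, 3, 2, 1, 4, 3, 1, 2, 1, 3, 4] [.out 2297],
  .sub [3, 2, 1, 4, 3, 2, 1, 4, 3, 1, 2, 1, 3, 4] [.sub [20, 19, 27, 19, 18, 25, 20, 31, 27, 29] [.out 2242]],
  .sub [1, 2, 1, 4, 3, 2, 1, 4, 3, 1, 2, 1, 3, 4] [.sub [31, 18, 19, 18, 18, 25, 20, 20, 20, 20, 27, 30, 29, 29] [.out 1812]],
  .sub [4, 1, 2, 4, 3, 2, 1, 4, 3, 1, 2, 1, 3, 4] [.out 3604],
  .sub [3, 1, 4, 1, 3, 2, 1, 4, 3, 1, 2, 1, 3, 4] [.out 3821],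
  .sub [2, 1, 4, 1, 3, 2, 1, 4, 3, 1, 2, 1, 3, 4] [.sub [19, 20, 27, 18, 31, 24, 25, 20, 30, 27, 29] [.sub [31, 18, 19, 18, 18, 30, 31, 29, 30, 24, 30] [.out 625]]],
  .sub [3, 2, 4, 1, 3, 2, 1, 4, 3, 1, 2, 1, 3, 4] [.sub [19, 20, 31, 18, 24, 31, 25, 20, 27, 30, 29] [.out 2686]],
  .sub [4, 3, 2, 1, 3, 2, 1, 4, 3, 1, 2, 1, 3, 4] [.out 2742],
  .sub [1, 3, 2, 1, 3, 2, 1, 4, 3, 1, 2, 1, 3, 4] [.sub [19, 19, 25, 18, 30, 27, 20, 20, 27, 30] [.out 2714]],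
  .sub [4, 1, 4, 3, 1, 2, 1, 4, 3, 1, 2, 1, 3, 4] [.sub [24, 19, 31, 18, 18, 29, 24, 31, 25] [.out 947]],
  .sub [3, 1, 4, 3, 1, 2, 1, 4, 3, 1, 2, 1, 3, 4] [.sub [19, 19, 24, 18, 30, 20, 29, 20, 31, 30] [.out 210]],
  .sub [1, 3, 4, 1, 4, 3, 2, 4, 3, 1, 2, 1, 3, 4] [.sub [24, 18, 29, 18, 18, 18, 27, 24, 30, 24, 20, 25] [.out 3819]],
  .sub [2, 3, 4, 1, 4, 3, 2, 4, 3, 1, 2, 1, 3, 4] [.sub [18, 18, 27, 18, 18, 20, 24, 30, 20] [.sub [27, 19, 29, 18, 18, 29, 31, 30, 20, 24, 30, 27, 29, 29] [.done 16]]],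
  .sub [1, 4, 3, 1, 4, 3, 2, 4, 3, 1, 2, 1, 3, 4] [.out 3205],
  .sub [4, 1, 3, 4, 1, 3, 2, 4, 3, 1, 2, 1, 3, 4] [.sub [30, 31, 20, 19, 27, 24, 27, 31, 20, 29, 29] [.out 3246]],
  .sub [2, 1, 3, 4, 1, 3, 2, 4, 3, 1, 2, 1, 3, 4] [.out 940],
  .sub [1, 2, 3, 4, 1, 3, 2, 4, 3, 1, 2, 1, 3, 4] [.sub [19, 24, 24, 19, 20, 20, 30, 20, 30, 29, 29] [.out 2621]],
  .sub [1, 3, 2, 4, 1, 3, 2, 4, 3, 1, 2, 1, 3, 4] [.sub [31, 24, 19, 19, 19, 29, 25, 20, 31, 27] [.out 1588]],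
  .sub [4, 1, 2, 4, 1, 3, 2, 4, 3, 1, 2, 1, 3, 4] [.out 2420],
  .sub [3, 1, 2, 4, 1, 3, 2, 4, 3, 1, 2, 1, 3, 4] [.sub [27, 30, 18, 20, 19, 18, 31, 27, 25, 20, 20, 27, 30] [.out 32]],
  .sub [3, 2, 4, 3, 1, 3, 2, 4, 3, 1, 2, 1, 3, 4] [.sub [25, 19, 18, 20, 18, 18, 20, 30, 20, 24] [.out 882]],
  .sub [4, 3, 2, 3, 1, 3, 2, 4, 3, 1, 2, 1, 3, 4] [.sub [24, 29, 24, 27, 18, 24, 20, 30, 31, 20, 30, 27, 29] [.out 3348]],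
  .sub [4, 1, 3, 1, 4, 1, 2, 4, 3, 1, 2, 1, 3, 4] [.sub [18, 19, 20, 19, 30, 24, 24, 20, 20, 29, 25] [.sub [18, 24, 20, 20, 18, 24, 27, 20, 20, 20] [.out 66]]],
  .sub [4, 3, 2, 1, 3, 1, 2, 4, 3, 1, 2, 1, 3, 4] [.sub [20, 19, 30, 18, 18, 29, 20, 20, 31, 27] [.out 164]],
  .sub [3, 4, 1, 3, 2, 3, 4, 1, 3, 1, 2, 1, 3, 4] [.sub [30, 29, 20, 19, 18, 24, 29, 30, 31, 29, 25, 29] [.out 3906]],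
  .sub [3, 2, 4, 3, 2, 1, 4, 1, 3, 1, 2, 1, 3, 4] [.sub [19, 27, 20, 19, 18, 29, 24, 27, 27, 24, 30, 27, 29] [.out 3678]],
  .sub [1, 2, 4, 3, 2, 1, 4, 1, 3, 1, 2, 1, 3, 4] [.out 1820],
  .sub [3, 4, 1, 3, 2, 1, 4, 1, 3, 1, 2, 1, 3, 4] [.sub [30, 20, 24, 18, 25, 31, 29, 30, 24, 30, 27, 29] [.out 3767]],
  .sub [4, 3, 1, 3, 2, 1, 4, 1, 3, 1, 2, 1, 3, 4] [.sub [20, 19, 27, 19, 24, 27, 27, 24, 27, 30, 29, 29] [.out 3230]],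
  .sub [1, 3, 1, 3, 2, 1, 4, 1, 3, 1, 2, 1, 3, 4] [.sub [25, 19, 27, 31, 18, 24, 25, 31] [.out 392]],
  .sub [4, 3, 4, 1, 2, 1, 4, 1, 3, 1, 2, 1, 3, 4] [.out 3606],
  .sub [2, 1, 3, 1, 2, 1, 4, 1, 3, 1, 2, 1, 3, 4] [.sub [19, 30, 19, 20, 18, 18, 24, 24, 20, 24, 20, 30, 27] [.out 3326]],
  .sub [1, 2, 1, 4, 3, 2, 4, 1, 3, 1, 2, 1, 3, 4] [.out 3148],
  .sub [1, 3, 2, 4, 3, 2, 4, 1, 3, 1, 2, 1, 3, 4] [.sub [30, 18, 19, 24, 25, 24, 20, 20, 27, 29] [.out 560]],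
  .sub [2, 3, 2, 4, 3, 2, 4, 1, 3, 1, 2, 1, 3, 4] [.sub [18, 24, 19, 20, 19, 27, 24, 27, 31, 20, 25, 29] [.out 1259]],
  .sub [1, 3, 1, 2, 3, 2, 4, 1, 3, 1, 2, 1, 3, 4] [.out 3859],
  .sub [2, 3, 1, 4, 1, 2, 4, 1, 3, 1, 2, 1, 3, 4] [.sub [30, 20, 25, 19, 18, 24, 20, 25, 20, 20, 27, 30, 29, 29] [.sub [18, 31, 31, 18, 18, 30, 25, 20, 31, 27, 30, 29, 29] [.out 1572]]],
  .sub [3, 2, 1, 4, 1, 2, 4, 1, 3, 1, 2, 1, 3, 4] [.out 1037],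
  .sub [3, 2, 4, 3, 1, 2, 4, 1, 3, 1, 2, 1, 3, 4] [.out 3640],
  .sub [4, 3, 2, 3, 1, 2, 4, 1, 3, 1, 2, 1, 3, 4] [.sub [18, 29, 19, 18, 24, 27, 29, 31, 30, 29, 29] [.sub [18, 19, 24, 25, 18, 29, 25, 31, 24, 30, 25, 29] [.done 8]]]]

/-- Branches. -/
def kidsYPart54 : List Branch := [
  .sub [1, 3, 2, 3, 1, 2, 4, 1, 3, 1, 2, 1, 3, 4] [.out 1820],
  .sub [4, 1, 2, 3, 1, 2, 4, 1, 3, 1, 2, 1, 3, 4] [.sub [18, 24, 25, 20, 18, 29, 20, 31, 20, 24, 30, 27, 29] [.out 1672]],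
  .sub [3, 1, 2, 3, 1, 2, 4, 1, 3, 1, 2, 1, 3, 4] [.out 2600],
  .sub [1, 4, 3, 1, 4, 3, 2, 1, 3, 1, 2, 1, 3, 4] [.sub [19, 31, 27, 27, 18, 25, 31, 29, 31, 30, 27] [.out 2094]],
  .sub [2, 4, 3, 1, 4, 3, 2, 1, 3, 1, 2, 1, 3, 4] [.sub [19, 19, 20, 19, 24, 20, 20, 29] [.out 3945]],
  .sub [4, 1, 3, 1, 4, 3, 2, 1, 3, 1, 2, 1, 3, 4] [.out 2403],
  .sub [3, 2, 3, 1, 4, 3, 2, 1, 3, 1, 2, 1, 3, 4] [.out 3772],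
  .sub [2, 3, 2, 1, 4, 3, 2, 1, 3, 1, 2, 1, 3, 4] [.out 3998],
  .sub [2, 1, 3, 2, 4, 3, 2, 1, 3, 1, 2, 1, 3, 4] [.out 830],
  .sub [1, 2, 3, 2, 4, 3, 2, 1, 3, 1, 2, 1, 3, 4] [.sub [18, 19, 18, 24, 18, 20, 20, 25, 31, 30, 27, 29, 29] [.out 360]],
  .sub [2, 4, 3, 4, 1, 3, 2, 1, 3, 1, 2, 1, 3, 4] [.sub [31, 25, 31, 19, 18, 27, 31, 20, 20, 31, 30, 27, 29] [.out 3606]],
  .sub [4, 3, 2, 4, 1, 3, 2, 1, 3, 1, 2, 1, 3, 4] [.sub [19, 25, 24, 24, 19, 18, 29, 31, 31, 20, 24, 25, 29, 29] [.sub [25, 31, 25, 19, 20, 27, 30, 31, 29, 25, 29] [.out 1499]]],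
  .sub [1, 4, 3, 1, 2, 3, 2, 1, 3, 1, 2, 1, 3, 4] [.out 1176],
  .sub [4, 3, 2, 1, 3, 1, 2, 1, 3, 1, 2, 1, 3, 4] [.out 3385],
  .sub [3, 4, 1, 2, 3, 1, 2, 1, 3, 1, 2, 1, 3, 4] [.out 4059],
  .sub [2, 1, 3, 2, 1, 4, 3, 2, 3, 1, 2, 1, 3, 4] [.sub [20, 19, 19, 24, 18, 18, 24, 24, 20, 24, 20, 29, 25, 29] [.out 225]],
  .sub [3, 4, 1, 3, 4, 1, 3, 2, 3, 1, 2, 1, 3, 4] [.out 1945],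
  .sub [1, 3, 1, 3, 4, 1, 3, 2, 3, 1, 2, 1, 3, 4] [.out 3308],
  .sub [2, 4, 3, 1, 4, 1, 3, 2, 3, 1, 2, 1, 3, 4] [.out 3794],
  .sub [4, 1, 3, 1, 4, 1, 3, 2, 3, 1, 2, 1, 3, 4] [.sub [20, 24, 18, 18, 25, 27, 20, 31, 30, 25] [.out 3194]],
  .sub [3, 2, 3, 1, 4, 1, 3, 2, 3, 1, 2, 1, 3, 4] [.sub [25, 19, 18, 18, 18, 31, 31, 27, 20, 20, 30, 27] [.out 430]],
  .sub [1, 2, 3, 1, 4, 1, 3, 2, 3, 1, 2, 1, 3, 4] [.out 3505],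
  .sub [4, 3, 1, 4, 3, 1, 3, 2, 3, 1, 2, 1, 3, 4] [.out 2475],
  .sub [2, 3, 4, 1, 3, 1, 3, 2, 3, 1, 2, 1, 3, 4] [.out 1910],
  .sub [3, 2, 4, 1, 3, 1, 3, 2, 3, 1, 2, 1, 3, 4] [.out 2720],
  .sub [4, 3, 2, 1, 3, 1, 3, 2, 3, 1, 2, 1, 3, 4] [.sub [24, 20, 24, 18, 19, 27, 24, 27, 31, 20, 30, 25, 29, 29] [.out 609]],
  .sub [1, 3, 2, 1, 3, 1, 3, 2, 3, 1, 2, 1, 3, 4] [.out 3609],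
  .sub [2, 3, 2, 1, 3, 1, 3, 2, 3, 1, 2, 1, 3, 4] [.sub [30, 20, 18, 27, 29, 30, 24, 30, 27] [.out 3301]],
  .sub [1, 2, 1, 4, 3, 4, 1, 2, 3, 1, 2, 1, 3, 4] [.out 870],
  .sub [3, 1, 2, 4, 3, 4, 1, 2, 3, 1, 2, 1, 3, 4] [.sub [19, 31, 19, 25, 18, 30, 24, 31, 29, 29] [.sub [19, 27, 19, 19, 19, 30, 27, 20, 20, 27, 30] [.out 1826]]],
  .sub [2, 1, 4, 1, 3, 4, 1, 2, 3, 1, 2, 1, 3, 4] [.out 3604],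
  .sub [3, 2, 4, 1, 3, 4, 1, 2, 3, 1, 2, 1, 3, 4] [.out 2420],
  .sub [2, 3, 1, 2, 3, 4, 1, 2, 3, 1, 2, 1, 3, 4] [.sub [18, 19, 20, 31, 18, 18, 29, 24, 31, 20, 25, 29, 29] [.out 584]],
  .sub [1, 2, 4, 3, 1, 4, 1, 2, 3, 1, 2, 1, 3, 4] [.out 4045],
  .sub [3, 4, 1, 3, 1, 4, 1, 2, 3, 1, 2, 1, 3, 4] [.out 3770],
  .sub [1, 4, 1, 3, 1, 4, 1, 2, 3, 1, 2, 1, 3, 4] [.sub [24, 29, 31, 29, 18, 20, 30, 20, 20, 30, 25] [.out 1487]],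
  .sub [4, 3, 2, 3, 1, 4, 1, 2, 3, 1, 2, 1, 3, 4] [.sub [19, 30, 19, 25, 19, 24, 25, 27, 24, 25] [.sub [30, 19, 25, 18, 24, 31, 29, 31, 30, 27, 29, 29] [.out 2899]]],
  .sub [1, 3, 2, 3, 1, 4, 1, 2, 3, 1, 2, 1, 3, 4] [.out 4039],
  .sub [4, 1, 2, 3, 1, 4, 1, 2, 3, 1, 2, 1, 3, 4] [.out 3517],
  .sub [2, 4, 3, 2, 1, 4, 1, 2, 3, 1, 2, 1, 3, 4] [.out 4017],
  .sub [1, 4, 3, 1, 4, 3, 1, 2, 3, 1, 2, 1, 3, 4] [.sub [24, 18, 20, 19, 18, 30, 25, 24, 27, 30, 29] [.sub [31, 19, 19, 19, 27, 31, 25, 20, 29, 25, 29, 29] [.done 22]]],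
  .sub [2, 1, 3, 4, 1, 3, 1, 2, 3, 1, 2, 1, 3, 4] [.sub [24, 27, 19, 19, 19, 24, 27, 31, 20, 20, 27, 30, 29] [.out 3888]],
  .sub [3, 2, 3, 4, 1, 3, 1, 2, 3, 1, 2, 1, 3, 4] [.sub [29, 25, 18, 31, 19, 29, 31, 30, 20, 27, 30, 29, 29] [.sub [27, 31, 18, 19, 24, 31, 27, 24, 20, 29] [.out 3956]]],
  .sub [1, 2, 3, 4, 1, 3, 1, 2, 3, 1, 2, 1, 3, 4] [.out 3348],
  .sub [1, 2, 1, 4, 1, 3, 1, 2, 3, 1, 2, 1, 3, 4] [.sub [20, 31, 27, 19, 29, 31, 29, 25] [.out 1717]],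
  .sub [4, 3, 2, 4, 1, 3, 1, 2, 3, 1, 2, 1, 3, 4] [.out 3745],
  .sub [2, 3, 2, 4, 1, 3, 1, 2, 3, 1, 2, 1, 3, 4] [.out 3857],
  .sub [4, 1, 2, 4, 1, 3, 1, 2, 3, 1, 2, 1, 3, 4] [.out 3024],
  .sub [2, 4, 3, 2, 1, 3, 1, 2, 3, 1, 2, 1, 3, 4] [.out 2459],
  .sub [1, 2, 3, 2, 1, 3, 1, 2, 3, 1, 2, 1, 3, 4] [.sub [31, 27, 19, 20, 20, 20, 25, 29] [.out 392]],
  .sub [2, 1, 4, 1, 2, 3, 1, 2, 3, 1, 2, 1, 3, 4] [.out 1273],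
  .sub [1, 4, 3, 1, 2, 3, 1, 2, 3, 1, 2, 1, 3, 4] [.sub [18, 27, 18, 19, 30, 31, 24, 31, 29, 25, 29] [.out 915]],
  .sub [4, 1, 4, 3, 2, 1, 3, 4, 1, 4, 3, 2, 3, 4] [.sub [20, 20, 18, 18, 30, 25, 24, 20, 30, 25, 29, 29] [.out 256]],
  .sub [3, 1, 4, 3, 2, 1, 3, 4, 1, 4, 3, 2, 3, 4] [.sub [19, 29, 18, 19, 18, 27, 27, 31, 31, 30, 25] [.out 3954]],
  .sub [2, 1, 4, 3, 2, 1, 3, 4, 1, 4, 3, 2, 3, 4] [.out 2600],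
  .sub [3, 2, 4, 3, 2, 1, 3, 4, 1, 4, 3, 2, 3, 4] [.out 935],
  .sub [1, 2, 4, 3, 2, 1, 3, 4, 1, 4, 3, 2, 3, 4] [.sub [18, 19, 20, 24, 18, 18, 31, 31, 24, 25, 24, 30, 27] [.out 2089]],
  .sub [1, 4, 1, 3, 2, 1, 3, 4, 1, 4, 3, 2, 3, 4] [.sub [19, 19, 18, 29, 18, 24, 20, 27, 24, 25, 29] [.sub [18, 31, 31, 18, 18, 27, 29, 25, 20, 24, 30, 25, 29, 29] [.out 3092]]],
  .sub [2, 4, 1, 3, 2, 1, 3, 4, 1, 4, 3, 2, 3, 4] [.out 2908],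
  .sub [4, 3, 1, 3, 2, 1, 3, 4, 1, 4, 3, 2, 3, 4] [.out 3595],
  .sub [2, 3, 1, 3, 2, 1, 3, 4, 1, 4, 3, 2, 3, 4] [.sub [30, 19, 27, 19, 31, 20, 27, 24, 30, 25, 29, 29] [.out 1103]],
  .sub [3, 2, 1, 3, 2, 1, 3, 4, 1, 4, 3, 2, 3, 4] [.sub [30, 24, 29, 18, 20, 31, 31, 25, 20, 30, 29] [.out 3732]],
  .sub [1, 2, 1, 3, 2, 1, 3, 4, 1, 4, 3, 2, 3, 4] [.out 3808],
  .sub [4, 1, 2, 3, 2, 1, 3, 4, 1, 4, 3, 2, 3, 4] [.sub [31, 20, 24, 19, 24, 27, 24, 30, 25, 29, 29] [.out 2104]]]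

/-- Branches. -/
def kidsYPart55 : List Branch := [
  .sub [3, 1, 2, 3, 2, 1, 3, 4, 1, 4, 3, 2, 3, 4] [.sub [30, 19, 27, 18, 18, 18, 29, 20, 24, 20, 20, 30, 27] [.out 3348]],
  .sub [3, 2, 1, 4, 1, 2, 4, 3, 1, 4, 3, 2, 3, 4] [.sub [18, 20, 31, 20, 18, 30, 31, 20, 31, 27, 29] [.sub [18, 27, 27, 18, 18, 20, 29, 20, 20, 20, 29, 25] [.out 3925]]],
  .sub [1, 4, 3, 1, 2, 4, 1, 3, 1, 4, 3, 2, 3, 4] [.out 1174],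
  .sub [1, 4, 1, 4, 3, 2, 1, 3, 1, 4, 3, 2, 3, 4] [.out 634],
  .sub [2, 3, 2, 4, 3, 2, 1, 3, 1, 4, 3, 2, 3, 4] [.out 2365],
  .sub [3, 1, 4, 1, 3, 2, 1, 3, 1, 4, 3, 2, 3, 4] [.sub [29, 19, 27, 19, 18, 31, 30, 31, 27, 30, 29] [.sub [29, 18, 27, 27, 18, 27, 29, 20, 31, 20, 30, 25, 29, 29] [.out 3484]]],
  .sub [4, 3, 1, 2, 3, 2, 1, 3, 1, 4, 3, 2, 3, 4] [.sub [25, 19, 19, 18, 20, 24, 31, 31, 30] [.out 3019]],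
  .sub [1, 3, 1, 2, 3, 2, 1, 3, 1, 4, 3, 2, 3, 4] [.out 2310],
  .sub [2, 3, 1, 2, 3, 2, 1, 3, 1, 4, 3, 2, 3, 4] [.out 2875],
  .sub [3, 1, 4, 3, 1, 2, 1, 3, 1, 4, 3, 2, 3, 4] [.out 1805],
  .sub [1, 3, 2, 4, 1, 3, 2, 3, 1, 4, 3, 2, 3, 4] [.sub [25, 24, 19, 18, 18, 25, 20, 30, 24, 27] [.out 1613]],
  .sub [2, 1, 4, 3, 4, 1, 2, 3, 1, 4, 3, 2, 3, 4] [.sub [20, 20, 19, 25, 18, 18, 31, 27, 20, 20, 20, 30, 27, 29, 29] [.out 1981]],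
  .sub [1, 2, 4, 3, 4, 1, 2, 3, 1, 4, 3, 2, 3, 4] [.sub [27, 18, 31, 24, 19, 25, 27, 30, 20, 27, 30, 29] [.out 2454]],
  .sub [1, 4, 3, 1, 4, 1, 2, 3, 1, 4, 3, 2, 3, 4] [.out 3684],
  .sub [2, 3, 1, 4, 3, 1, 2, 3, 1, 4, 3, 2, 3, 4] [.sub [19, 18, 27, 27, 18, 25, 27, 24, 30, 27, 29, 29] [.out 820]],
  .sub [4, 3, 2, 4, 1, 4, 3, 2, 1, 4, 3, 2, 3, 4] [.sub [27, 19, 31, 18, 27, 29, 20, 31, 20, 30, 25, 29] [.out 113]],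
  .sub [2, 4, 1, 3, 1, 4, 3, 2, 1, 4, 3, 2, 3, 4] [.sub [30, 24, 19, 24, 18, 20, 31, 31, 30, 27] [.out 223]],
  .sub [2, 3, 1, 2, 1, 4, 3, 2, 1, 4, 3, 2, 3, 4] [.sub [30, 20, 29, 31, 18, 30, 20, 29, 20, 31] [.sub [31, 18, 27, 18, 18, 18, 27, 25, 20, 31, 30, 25, 29, 29] [.out 824]]],
  .sub [2, 4, 3, 1, 2, 4, 3, 2, 1, 4, 3, 2, 3, 4] [.out 1592],
  .sub [3, 2, 3, 1, 2, 4, 3, 2, 1, 4, 3, 2, 3, 4] [.out 3584],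
  .sub [2, 4, 3, 4, 1, 2, 3, 2, 1, 4, 3, 2, 3, 4] [.sub [31, 20, 18, 27, 18, 24, 30, 20, 31, 29, 25, 29, 29] [.out 1330]],
  .sub [4, 3, 1, 4, 1, 2, 3, 2, 1, 4, 3, 2, 3, 4] [.sub [18, 19, 30, 20, 18, 25, 24, 31, 31, 27, 30, 29, 29] [.out 674]],
  .sub [1, 4, 3, 2, 3, 4, 1, 3, 4, 1, 3, 2, 3, 4] [.out 3286],
  .sub [4, 1, 2, 3, 1, 2, 1, 3, 4, 1, 3, 2, 3, 4] [.sub [30, 31, 19, 29, 18, 30, 20, 31, 27, 30, 29] [.out 1625]],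
  .sub [1, 3, 4, 1, 4, 3, 2, 3, 4, 1, 3, 2, 3, 4] [.out 3000],
  .sub [2, 4, 3, 4, 1, 3, 2, 3, 4, 1, 3, 2, 3, 4] [.sub [18, 20, 27, 19, 20, 29, 20, 31, 27] [.sub [18, 24, 30, 18, 19, 20, 31, 29, 24, 27, 29] [.out 2015]]],
  .sub [2, 1, 3, 4, 1, 3, 2, 3, 4, 1, 3, 2, 3, 4] [.sub [24, 24, 20, 19, 18, 31, 31, 20, 24, 25, 29] [.out 3735]],
  .sub [3, 2, 1, 3, 1, 3, 2, 3, 4, 1, 3, 2, 3, 4] [.out 2358],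
  .sub [1, 3, 1, 2, 3, 1, 2, 3, 4, 1, 3, 2, 3, 4] [.sub [24, 18, 24, 27, 19, 31, 25, 20, 25, 29, 29] [.out 942]],
  .sub [2, 3, 1, 2, 3, 1, 2, 3, 4, 1, 3, 2, 3, 4] [.out 3255],
  .sub [1, 3, 1, 3, 2, 4, 3, 2, 4, 1, 3, 2, 3, 4] [.out 1819],
  .sub [1, 4, 3, 1, 2, 4, 3, 2, 4, 1, 3, 2, 3, 4] [.sub [19, 19, 19, 19, 24, 20, 30, 29, 24, 30, 29, 29] [.out 1192]],
  .sub [2, 4, 3, 1, 2, 4, 3, 2, 4, 1, 3, 2, 3, 4] [.sub [25, 19, 29, 31, 18, 31, 31, 31, 31, 24, 29] [.out 3263]],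
  .sub [4, 1, 3, 1, 2, 4, 3, 2, 4, 1, 3, 2, 3, 4] [.out 3787],
  .sub [2, 1, 3, 1, 2, 4, 3, 2, 4, 1, 3, 2, 3, 4] [.sub [27, 31, 18, 19, 31, 31, 20, 31, 27, 29] [.sub [30, 18, 19, 18, 27, 30, 31, 20, 30, 27] [.out 866]]],
  .sub [3, 2, 3, 1, 2, 4, 3, 2, 4, 1, 3, 2, 3, 4] [.out 2736],
  .sub [2, 1, 3, 1, 4, 1, 3, 2, 4, 1, 3, 2, 3, 4] [.sub [25, 20, 20, 19, 18, 27, 31, 25, 31, 20, 27, 30, 29, 29] [.out 2331]],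
  .sub [1, 2, 3, 1, 4, 1, 3, 2, 4, 1, 3, 2, 3, 4] [.sub [30, 20, 24, 19, 18, 30, 31, 20, 25, 20, 27, 29, 29] [.out 877]],
  .sub [1, 2, 3, 2, 4, 1, 3, 2, 4, 1, 3, 2, 3, 4] [.sub [18, 20, 20, 18, 18, 20, 24, 31, 25, 20, 30, 25, 29, 29] [.sub [25, 19, 24, 24, 19, 27, 31, 25, 20, 20, 27, 30, 29, 29] [.out 3734]]],
  .sub [2, 4, 3, 2, 3, 1, 3, 2, 4, 1, 3, 2, 3, 4] [.sub [29, 20, 19, 27, 19, 27, 25, 20, 25, 29, 29] [.out 195]],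
  .sub [2, 1, 3, 2, 3, 1, 3, 2, 4, 1, 3, 2, 3, 4] [.sub [19, 30, 31, 25, 18, 30, 29, 20, 20, 30, 25, 29, 29] [.out 1594]],
  .sub [1, 2, 3, 2, 3, 1, 3, 2, 4, 1, 3, 2, 3, 4] [.out 3456],
  .sub [4, 3, 4, 1, 2, 1, 3, 2, 4, 1, 3, 2, 3, 4] [.out 3236],
  .sub [2, 3, 4, 1, 2, 1, 3, 2, 4, 1, 3, 2, 3, 4] [.sub [18, 19, 18, 24, 18, 20, 20, 25, 31, 30, 27, 29, 29] [.sub [25, 19, 20, 24, 18, 29, 25, 24, 30, 20, 29, 25, 29, 29] [.out 2531]]],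
  .sub [2, 4, 3, 1, 2, 1, 3, 2, 4, 1, 3, 2, 3, 4] [.out 3983],
  .sub [3, 1, 3, 4, 1, 2, 3, 2, 4, 1, 3, 2, 3, 4] [.out 2106],
  .sub [2, 1, 3, 4, 1, 2, 3, 2, 4, 1, 3, 2, 3, 4] [.out 3917],
  .sub [1, 2, 3, 4, 1, 2, 3, 2, 4, 1, 3, 2, 3, 4] [.sub [30, 20, 18, 19, 18, 24, 29, 31, 20, 30, 27, 29] [.sub [27, 27, 31, 19, 31, 31, 31, 27, 30] [.out 213]]],
  .sub [4, 3, 1, 4, 1, 2, 3, 2, 4, 1, 3, 2, 3, 4] [.sub [27, 19, 19, 25, 18, 18, 31, 30, 31, 31, 27, 30, 29, 29] [.out 1515]],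
  .sub [2, 1, 3, 2, 4, 3, 2, 4, 3, 1, 3, 2, 3, 4] [.out 3437],
  .sub [2, 4, 3, 4, 1, 3, 2, 4, 3, 1, 3, 2, 3, 4] [.out 3314],
  .sub [2, 1, 3, 4, 1, 3, 2, 4, 3, 1, 3, 2, 3, 4] [.sub [25, 19, 25, 18, 19, 31, 24, 20, 29, 29] [.out 2112]],
  .sub [1, 2, 3, 4, 1, 3, 2, 4, 3, 1, 3, 2, 3, 4] [.out 3231],
  .sub [2, 3, 2, 3, 1, 3, 2, 4, 3, 1, 3, 2, 3, 4] [.sub [27, 29, 24, 18, 18, 27, 20, 31, 31, 27] [.out 2153]],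
  .sub [2, 4, 3, 2, 1, 3, 2, 4, 3, 1, 3, 2, 3, 4] [.sub [19, 27, 31, 18, 18, 29, 30, 24, 27, 30] [.out 923]],
  .sub [1, 3, 2, 1, 3, 1, 2, 4, 3, 1, 3, 2, 3, 4] [.sub [19, 31, 31, 19, 24, 20, 24, 27, 24, 27, 29, 29] [.sub [18, 20, 19, 18, 18, 24, 29, 20, 24, 29] [.out 1010]]],
  .sub [3, 2, 1, 4, 3, 2, 4, 1, 3, 1, 3, 2, 3, 4] [.out 2837],
  .sub [1, 3, 2, 4, 3, 2, 4, 1, 3, 1, 3, 2, 3, 4] [.sub [31, 31, 19, 29, 18, 24, 27, 20, 24, 27, 29, 29] [.out 2749]],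
  .sub [2, 1, 4, 1, 3, 2, 4, 1, 3, 1, 3, 2, 3, 4] [.sub [24, 24, 31, 19, 18, 24, 29, 24, 25, 20, 25] [.sub [31, 31, 25, 19, 18, 27, 30, 31, 31, 30, 25] [.out 2744]]],
  .sub [3, 2, 3, 4, 1, 2, 4, 1, 3, 1, 3, 2, 3, 4] [.sub [18, 29, 19, 18, 18, 29, 24, 29, 24, 30, 29] [.out 2459]],
  .sub [1, 4, 1, 3, 1, 2, 4, 1, 3, 1, 3, 2, 3, 4] [.sub [30, 20, 18, 19, 18, 27, 30, 20, 20, 30, 25] [.out 2694]],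
  .sub [4, 3, 2, 1, 4, 3, 2, 1, 3, 1, 3, 2, 3, 4] [.sub [24, 18, 30, 20, 18, 27, 30, 20, 29] [.out 1340]],
  .sub [3, 1, 2, 1, 4, 3, 2, 1, 3, 1, 3, 2, 3, 4] [.sub [19, 31, 25, 19, 20, 25, 20, 20] [.out 1868]],
  .sub [2, 4, 3, 4, 1, 3, 2, 1, 3, 1, 3, 2, 3, 4] [.out 3856]]

/-- Branches. -/
def kidsYPart56 : List Branch := [
  .sub [3, 2, 3, 4, 1, 3, 2, 1, 3, 1, 3, 2, 3, 4] [.sub [20, 30, 18, 18, 19, 25, 27, 25, 20, 30] [.out 759]],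
  .sub [4, 3, 2, 4, 1, 3, 2, 1, 3, 1, 3, 2, 3, 4] [.out 2378],
  .sub [2, 3, 2, 4, 1, 3, 2, 1, 3, 1, 3, 2, 3, 4] [.out 1819],
  .sub [3, 1, 2, 4, 1, 3, 2, 1, 3, 1, 3, 2, 3, 4] [.sub [29, 25, 19, 18, 31, 27, 20, 20, 20, 30, 29, 29] [.sub [29, 19, 29, 20, 18, 25, 20, 31, 20, 29, 25, 29] [.out 3876]]],
  .sub [3, 1, 3, 2, 1, 3, 2, 1, 3, 1, 3, 2, 3, 4] [.sub [24, 18, 27, 31, 20, 29] [.out 3961]],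
  .sub [2, 1, 3, 2, 1, 3, 2, 1, 3, 1, 3, 2, 3, 4] [.out 2302],
  .sub [3, 4, 1, 2, 1, 3, 2, 1, 3, 1, 3, 2, 3, 4] [.out 2831],
  .sub [4, 3, 1, 2, 1, 3, 2, 1, 3, 1, 3, 2, 3, 4] [.sub [18, 19, 24, 19, 29, 31, 24, 20, 30] [.sub [20, 20, 24, 18, 18, 20, 27, 30, 31, 27, 30, 29, 29] [.out 447]]],
  .sub [1, 3, 1, 2, 1, 3, 2, 1, 3, 1, 3, 2, 3, 4] [.sub [18, 18, 18, 19, 18, 30, 31, 30, 31, 30, 27, 29] [.out 1509]],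
  .sub [2, 3, 1, 2, 1, 3, 2, 1, 3, 1, 3, 2, 3, 4] [.sub [24, 30, 18, 18, 19, 18, 29, 24, 31, 20, 30, 25] [.sub [29, 25, 18, 31, 19, 31, 30, 27, 29, 29] [.out 4008]]],
  .sub [3, 2, 3, 1, 2, 3, 2, 1, 3, 1, 3, 2, 3, 4] [.sub [24, 24, 31, 18, 25, 20, 31, 31, 27] [.sub [24, 19, 18, 20, 18, 31, 25, 31, 20, 27, 30, 29, 29] [.done 17]]],
  .sub [2, 1, 4, 1, 3, 1, 2, 1, 3, 1, 3, 2, 3, 4] [.sub [25, 19, 18, 25, 18, 18, 31, 31, 25, 20, 30, 25, 29, 29] [.out 3373]],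
  .sub [1, 2, 4, 1, 3, 1, 2, 1, 3, 1, 3, 2, 3, 4] [.sub [20, 20, 24, 18, 18, 31, 24, 31, 31, 20, 27, 30, 29] [.out 1812]],
  .sub [2, 3, 2, 4, 1, 4, 3, 2, 3, 1, 3, 2, 3, 4] [.sub [24, 18, 30, 20, 18, 27, 30, 20, 29] [.out 778]],
  .sub [1, 4, 1, 3, 1, 4, 3, 2, 3, 1, 3, 2, 3, 4] [.sub [29, 24, 18, 18, 24, 20, 30, 31, 20, 27] [.out 3379]],
  .sub [2, 4, 1, 3, 1, 4, 3, 2, 3, 1, 3, 2, 3, 4] [.sub [29, 18, 25, 18, 18, 20, 27, 30, 20, 27, 29] [.out 817]],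
  .sub [3, 2, 1, 3, 1, 4, 3, 2, 3, 1, 3, 2, 3, 4] [.sub [31, 31, 25, 19, 18, 29, 20, 30, 20, 20, 30, 25, 29] [.sub [18, 25, 27, 24, 18, 18, 24, 25, 31, 29, 25, 29, 29] [.out 2538]]],
  .sub [4, 3, 1, 2, 1, 4, 3, 2, 3, 1, 3, 2, 3, 4] [.sub [19, 18, 18, 18, 18, 25, 31, 24, 20] [.out 3421]],
  .sub [4, 1, 3, 1, 2, 4, 3, 2, 3, 1, 3, 2, 3, 4] [.out 3241],
  .sub [2, 1, 3, 1, 2, 4, 3, 2, 3, 1, 3, 2, 3, 4] [.out 4039],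
  .sub [1, 2, 4, 3, 4, 1, 3, 2, 3, 1, 3, 2, 3, 4] [.sub [25, 18, 27, 18, 18, 18, 29, 24, 24, 31, 30, 29] [.sub [31, 27, 19, 18, 31, 20, 24, 20, 30, 27] [.out 3207]]],
  .sub [2, 4, 1, 3, 4, 1, 3, 2, 3, 1, 3, 2, 3, 4] [.out 2377],
  .sub [2, 3, 2, 3, 4, 1, 3, 2, 3, 1, 3, 2, 3, 4] [.sub [24, 19, 25, 18, 29, 31, 25, 31, 20, 27, 30, 29] [.sub [29, 24, 31, 19, 20, 31, 24, 20, 29, 25, 29] [.out 1826]]],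
  .sub [4, 1, 2, 3, 4, 1, 3, 2, 3, 1, 3, 2, 3, 4] [.out 2740],
  .sub [3, 1, 2, 3, 4, 1, 3, 2, 3, 1, 3, 2, 3, 4] [.out 3409],
  .sub [1, 2, 3, 1, 4, 1, 3, 2, 3, 1, 3, 2, 3, 4] [.sub [29, 18, 19, 24, 19, 31, 30, 31, 29, 25, 29] [.sub [25, 20, 19, 20, 20, 24, 20, 20, 29, 29] [.out 360]]],
  .sub [2, 4, 1, 3, 2, 1, 3, 2, 3, 1, 3, 2, 3, 4] [.out 3538],
  .sub [3, 2, 1, 3, 2, 1, 3, 2, 3, 1, 3, 2, 3, 4] [.sub [24, 19, 27, 31, 19, 31, 31, 30, 20, 25] [.out 546]],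
  .sub [1, 3, 4, 1, 2, 1, 3, 2, 3, 1, 3, 2, 3, 4] [.out 2487],
  .sub [1, 4, 3, 1, 2, 1, 3, 2, 3, 1, 3, 2, 3, 4] [.sub [19, 18, 27, 27, 18, 25, 27, 24, 30, 27, 29, 29] [.out 216]],
  .sub [2, 4, 3, 1, 2, 1, 3, 2, 3, 1, 3, 2, 3, 4] [.sub [18, 31, 30, 18, 19, 30, 29, 24, 30, 25, 29] [.out 3491]],
  .sub [1, 2, 3, 1, 2, 1, 3, 2, 3, 1, 3, 2, 3, 4] [.sub [31, 24, 19, 24, 19, 20, 24, 20, 24, 30, 25, 29] [.sub [18, 30, 31, 19, 18, 29, 31, 25, 20, 29, 25, 29] [.out 884]]],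
  .sub [4, 1, 3, 4, 1, 2, 3, 2, 3, 1, 3, 2, 3, 4] [.sub [19, 18, 20, 25, 19, 24, 20, 24, 30, 20, 25, 29, 29] [.out 1009]],
  .sub [3, 1, 3, 4, 1, 2, 3, 2, 3, 1, 3, 2, 3, 4] [.sub [25, 20, 25, 19, 20, 20, 20, 24, 29, 25, 29] [.sub [31, 20, 18, 27, 18, 31, 24, 20, 30, 20, 30] [.out 3039]]],
  .sub [2, 1, 3, 4, 1, 2, 3, 2, 3, 1, 3, 2, 3, 4] [.out 3928],
  .sub [4, 3, 1, 4, 1, 2, 3, 2, 3, 1, 3, 2, 3, 4] [.sub [31, 24, 29, 18, 29, 24, 27, 24, 30, 27] [.out 2781]],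
  .sub [1, 3, 1, 4, 1, 2, 3, 2, 3, 1, 3, 2, 3, 4] [.out 2500],
  .sub [2, 3, 1, 4, 1, 2, 3, 2, 3, 1, 3, 2, 3, 4] [.sub [20, 19, 20, 25, 18, 30, 24, 30, 25, 20, 27, 29] [.out 2365]],
  .sub [1, 4, 3, 2, 4, 1, 4, 3, 2, 1, 3, 2, 3, 4] [.out 2130],
  .sub [4, 1, 3, 2, 4, 1, 4, 3, 2, 1, 3, 2, 3, 4] [.out 3958],
  .sub [3, 4, 1, 2, 4, 1, 4, 3, 2, 1, 3, 2, 3, 4] [.out 3154],
  .sub [4, 3, 1, 2, 4, 1, 4, 3, 2, 1, 3, 2, 3, 4] [.sub [18, 31, 31, 19, 19, 27, 31, 20, 20, 29, 25, 29, 29] [.out 962]],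
  .sub [2, 3, 4, 1, 3, 1, 4, 3, 2, 1, 3, 2, 3, 4] [.sub [] [.out 1196]],
  .sub [3, 2, 4, 1, 3, 1, 4, 3, 2, 1, 3, 2, 3, 4] [.out 2928],
  .sub [4, 1, 4, 3, 2, 1, 4, 3, 2, 1, 3, 2, 3, 4] [.sub [27, 31, 18, 29, 18, 31, 20, 24, 20, 29, 25, 29, 29] [.sub [25, 18, 31, 24, 19, 27, 24, 30, 27, 29] [.out 1342]]],
  .sub [3, 1, 4, 3, 2, 1, 4, 3, 2, 1, 3, 2, 3, 4] [.sub [18, 25, 19, 18, 24, 20, 27, 31, 29, 25, 29, 29] [.sub [24, 19, 29, 18, 18, 18, 27, 20, 31, 24] [.out 3111]]],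
  .sub [2, 1, 4, 3, 2, 1, 4, 3, 2, 1, 3, 2, 3, 4] [.out 3789],
  .sub [1, 3, 4, 1, 2, 1, 4, 3, 2, 1, 3, 2, 3, 4] [.out 1981],
  .sub [2, 1, 4, 1, 2, 1, 4, 3, 2, 1, 3, 2, 3, 4] [.out 3162],
  .sub [2, 4, 3, 1, 2, 1, 4, 3, 2, 1, 3, 2, 3, 4] [.sub [18, 27, 25, 20, 18, 30, 20, 31, 29, 24, 27, 29] [.out 1693]],
  .sub [3, 2, 3, 1, 2, 1, 4, 3, 2, 1, 3, 2, 3, 4] [.sub [19, 25, 18, 24, 18, 27, 24, 20, 24, 30, 27, 29, 29] [.out 551]],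
  .sub [3, 2, 3, 1, 3, 2, 4, 3, 2, 1, 3, 2, 3, 4] [.out 3800],
  .sub [4, 3, 2, 1, 3, 2, 4, 3, 2, 1, 3, 2, 3, 4] [.sub [30, 19, 29, 25, 18, 30, 25, 31, 25, 24, 25] [.out 3839]],
  .sub [1, 3, 2, 1, 3, 2, 4, 3, 2, 1, 3, 2, 3, 4] [.out 2006],
  .sub [2, 3, 2, 1, 3, 2, 4, 3, 2, 1, 3, 2, 3, 4] [.out 4025],
  .sub [4, 3, 1, 2, 3, 2, 4, 3, 2, 1, 3, 2, 3, 4] [.out 3577],
  .sub [3, 2, 4, 3, 1, 2, 4, 3, 2, 1, 3, 2, 3, 4] [.sub [20, 27, 18, 18, 25, 20, 20, 29, 25, 29] [.out 851]],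
  .sub [4, 3, 2, 3, 1, 2, 4, 3, 2, 1, 3, 2, 3, 4] [.out 2828],
  .sub [1, 3, 2, 3, 1, 2, 4, 3, 2, 1, 3, 2, 3, 4] [.sub [27, 25, 19, 25, 18, 31, 24, 27, 24, 27, 30] [.out 12]],
  .sub [3, 1, 2, 3, 1, 2, 4, 3, 2, 1, 3, 2, 3, 4] [.out 3895],
  .sub [1, 2, 1, 3, 1, 4, 1, 3, 2, 1, 3, 2, 3, 4] [.out 3481],
  .sub [1, 3, 1, 2, 1, 4, 1, 3, 2, 1, 3, 2, 3, 4] [.sub [20, 27, 18, 31, 24, 31, 31, 20, 30, 27, 29, 29] [.out 605]],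
  .sub [2, 3, 1, 2, 1, 4, 1, 3, 2, 1, 3, 2, 3, 4] [.sub [24, 18, 27, 19, 18, 29, 20, 31, 20, 24, 30, 27] [.out 815]],
  .sub [3, 1, 4, 3, 2, 4, 1, 3, 2, 1, 3, 2, 3, 4] [.out 2700]]

/-- Branches. -/
def kidsYPart57 : List Branch := [
  .sub [3, 2, 3, 1, 2, 4, 1, 3, 2, 1, 3, 2, 3, 4] [.sub [18, 27, 18, 19, 30, 31, 24, 31, 29, 25, 29] [.sub [19, 24, 19, 25, 18, 18, 20, 31, 20, 24, 30] [.out 3719]]],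
  .sub [1, 2, 3, 1, 2, 4, 1, 3, 2, 1, 3, 2, 3, 4] [.sub [25, 19, 29, 31, 18, 29, 24, 25, 20, 29, 25] [.out 16]],
  .sub [1, 4, 3, 4, 1, 2, 1, 3, 2, 1, 3, 2, 3, 4] [.sub [27, 18, 19, 18, 18, 24, 25, 31, 25, 20, 27] [.out 3915]],
  .sub [2, 4, 3, 4, 1, 2, 1, 3, 2, 1, 3, 2, 3, 4] [.sub [30, 19, 18, 25, 18, 24, 29, 24, 31, 20, 25] [.out 1222]],
  .sub [3, 2, 3, 4, 1, 2, 1, 3, 2, 1, 3, 2, 3, 4] [.out 954],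
  .sub [1, 2, 3, 4, 1, 2, 1, 3, 2, 1, 3, 2, 3, 4] [.sub [24, 18, 18, 19, 25, 31, 31, 20, 30, 25, 29] [.sub [24, 29, 19, 18, 18, 20, 30, 20, 24, 30, 27, 29, 29] [.out 466]]],
  .sub [1, 2, 4, 3, 1, 2, 1, 3, 2, 1, 3, 2, 3, 4] [.sub [19, 29, 18, 18, 19, 29, 31, 20, 20, 30, 29, 29] [.out 931]],
  .sub [1, 4, 1, 3, 1, 2, 1, 3, 2, 1, 3, 2, 3, 4] [.out 2986],
  .sub [2, 4, 1, 3, 1, 2, 1, 3, 2, 1, 3, 2, 3, 4] [.out 3147],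
  .sub [1, 2, 1, 3, 1, 2, 1, 3, 2, 1, 3, 2, 3, 4] [.sub [29, 31, 31, 25, 18, 20, 24, 30, 31, 24, 30, 25, 29, 29] [.out 2063]],
  .sub [1, 3, 2, 3, 1, 2, 1, 3, 2, 1, 3, 2, 3, 4] [.out 678],
  .sub [4, 1, 2, 3, 1, 2, 1, 3, 2, 1, 3, 2, 3, 4] [.sub [18, 24, 25, 20, 18, 29, 25, 20, 20, 29, 29] [.sub [29, 19, 19, 29, 18, 31, 20, 24, 30, 27, 29, 29] [.out 3274]]],
  .sub [3, 1, 2, 3, 1, 2, 1, 3, 2, 1, 3, 2, 3, 4] [.out 2416],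
  .sub [3, 2, 4, 3, 4, 1, 2, 3, 2, 1, 3, 2, 3, 4] [.out 3244],
  .sub [1, 4, 1, 3, 4, 1, 2, 3, 2, 1, 3, 2, 3, 4] [.sub [19, 25, 18, 24, 18, 24, 24, 27, 31, 30, 25] [.sub [31, 19, 24, 18, 25, 31, 25, 31, 30, 25] [.out 2394]]],
  .sub [2, 4, 1, 3, 4, 1, 2, 3, 2, 1, 3, 2, 3, 4] [.out 3683],
  .sub [1, 2, 1, 3, 4, 1, 2, 3, 2, 1, 3, 2, 3, 4] [.sub [31, 20, 19, 18, 18, 24, 27, 31, 20, 20, 25] [.sub [25, 24, 18, 20, 18, 30, 24, 20, 27, 24, 25] [.out 979]]],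
  .sub [4, 3, 2, 3, 4, 1, 2, 3, 2, 1, 3, 2, 3, 4] [.out 3841],
  .sub [4, 1, 2, 4, 3, 1, 2, 3, 2, 1, 3, 2, 3, 4] [.sub [31, 20, 19, 19, 24, 25, 27, 20, 20, 30, 27, 29, 29] [.sub [24, 20, 18, 27, 19, 18, 31, 31, 20, 20, 30, 29, 29] [.out 3972]]],
  .sub [1, 2, 4, 1, 3, 1, 2, 3, 2, 1, 3, 2, 3, 4] [.sub [31, 25, 20, 25, 19, 18, 24, 27, 31, 29, 29] [.out 3584]],
  .sub [4, 1, 2, 1, 3, 1, 2, 3, 2, 1, 3, 2, 3, 4] [.sub [18, 31, 20, 20, 18, 31, 29, 20, 24, 27] [.out 3827]],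
  .sub [4, 1, 3, 2, 3, 1, 2, 3, 2, 1, 3, 2, 3, 4] [.sub [31, 24, 18, 18, 29, 20, 20, 20, 29, 25] [.out 2123]],
  .sub [3, 1, 3, 2, 3, 1, 2, 3, 2, 1, 3, 2, 3, 4] [.out 3431],
  .sub [2, 1, 3, 2, 3, 1, 2, 3, 2, 1, 3, 2, 3, 4] [.sub [24, 19, 27, 31, 19, 30, 20, 30, 24, 30, 25] [.sub [27, 19, 20, 29, 18, 20, 27, 20, 20, 30, 27] [.out 3382]]],
  .sub [1, 4, 1, 2, 3, 1, 2, 3, 2, 1, 3, 2, 3, 4] [.sub [19, 29, 20, 18, 18, 30, 20, 20, 29, 25] [.out 1863]],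
  .sub [4, 3, 1, 2, 3, 1, 2, 3, 2, 1, 3, 2, 3, 4] [.sub [25, 18, 19, 25, 18, 20, 31, 27, 20, 20, 27, 30] [.out 2487]],
  .sub [1, 2, 1, 3, 1, 4, 3, 2, 4, 3, 1, 2, 3, 4] [.out 3007],
  .sub [1, 4, 1, 3, 2, 4, 3, 2, 4, 3, 1, 2, 3, 4] [.out 2238],
  .sub [2, 3, 1, 3, 2, 4, 3, 2, 4, 3, 1, 2, 3, 4] [.sub [29, 31, 29, 18, 24, 20, 24, 30, 20, 30, 27, 29] [.out 3188]],
  .sub [3, 2, 1, 3, 2, 4, 3, 2, 4, 3, 1, 2, 3, 4] [.out 3891],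
  .sub [2, 4, 3, 4, 1, 2, 3, 2, 4, 3, 1, 2, 3, 4] [.out 603],
  .sub [4, 1, 3, 4, 1, 2, 3, 2, 4, 3, 1, 2, 3, 4] [.out 3405],
  .sub [3, 1, 2, 3, 1, 2, 3, 2, 4, 3, 1, 2, 3, 4] [.sub [30, 20, 19, 31, 18, 18, 30, 24, 24, 31, 29, 25, 29] [.out 4016]],
  .sub [3, 1, 4, 3, 2, 1, 3, 4, 1, 3, 1, 2, 3, 4] [.out 3947],
  .sub [4, 3, 1, 4, 3, 2, 3, 4, 1, 3, 1, 2, 3, 4] [.out 3880],
  .sub [4, 1, 2, 1, 3, 2, 3, 4, 1, 3, 1, 2, 3, 4] [.out 2575],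
  .sub [1, 4, 1, 2, 3, 2, 3, 4, 1, 3, 1, 2, 3, 4] [.sub [20, 18, 27, 19, 31, 24, 20, 30, 27] [.out 243]],
  .sub [3, 1, 4, 3, 1, 2, 3, 4, 1, 3, 1, 2, 3, 4] [.out 3863],
  .sub [4, 1, 2, 3, 2, 3, 1, 4, 1, 3, 1, 2, 3, 4] [.sub [31, 19, 24, 20, 18, 24, 31, 31, 29, 25, 29, 29] [.out 1447]],
  .sub [1, 3, 1, 4, 3, 2, 1, 4, 1, 3, 1, 2, 3, 4] [.out 2479],
  .sub [2, 3, 1, 4, 3, 2, 1, 4, 1, 3, 1, 2, 3, 4] [.out 3604],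
  .sub [2, 4, 3, 1, 3, 2, 1, 4, 1, 3, 1, 2, 3, 4] [.sub [20, 29, 20, 18, 24, 31, 25, 29, 29] [.out 1069]],
  .sub [1, 4, 3, 4, 1, 2, 1, 4, 1, 3, 1, 2, 3, 4] [.sub [19, 29, 18, 27, 19, 27, 27, 31, 30, 20, 29, 25, 29, 29] [.sub [31, 27, 19, 18, 31, 20, 24, 20, 30, 27] [.out 2342]]],
  .sub [2, 4, 3, 4, 1, 2, 1, 4, 1, 3, 1, 2, 3, 4] [.out 3491],
  .sub [4, 1, 3, 4, 1, 2, 1, 4, 1, 3, 1, 2, 3, 4] [.out 3815],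
  .sub [3, 1, 3, 4, 1, 2, 1, 4, 1, 3, 1, 2, 3, 4] [.sub [24, 18, 18, 19, 24, 30, 31, 24, 20, 30, 25, 29, 29] [.out 3079]],
  .sub [4, 1, 4, 3, 1, 2, 1, 4, 1, 3, 1, 2, 3, 4] [.out 568],
  .sub [3, 1, 4, 3, 1, 2, 1, 4, 1, 3, 1, 2, 3, 4] [.sub [19, 25, 19, 18, 25, 27, 31, 31] [.out 66]],
  .sub [2, 1, 4, 3, 1, 2, 1, 4, 1, 3, 1, 2, 3, 4] [.out 2539],
  .sub [3, 4, 1, 3, 1, 2, 1, 4, 1, 3, 1, 2, 3, 4] [.sub [24, 27, 18, 19, 18, 29, 24, 30, 31, 20, 27] [.out 958]],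
  .sub [3, 1, 2, 3, 1, 2, 1, 4, 1, 3, 1, 2, 3, 4] [.sub [18, 20, 24, 20, 18, 27, 27, 31, 31, 27, 29] [.out 2034]],
  .sub [3, 1, 4, 1, 4, 3, 2, 4, 1, 3, 1, 2, 3, 4] [.sub [31, 19, 24, 18, 18, 18, 20, 31, 31, 25, 20, 30, 29, 29] [.out 2960]],
  .sub [3, 2, 3, 4, 1, 3, 2, 4, 1, 3, 1, 2, 3, 4] [.sub [29, 24, 27, 19, 18, 24, 20, 24, 20] [.sub [30, 27, 31, 24, 18, 30, 31, 24, 20, 29, 29] [.out 1006]]],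
  .sub [4, 3, 2, 1, 3, 1, 2, 4, 1, 3, 1, 2, 3, 4] [.out 3748],
  .sub [2, 3, 4, 1, 2, 4, 3, 2, 1, 3, 1, 2, 3, 4] [.sub [29, 31, 31, 25, 18, 25, 24, 31, 31, 27, 30, 29, 29] [.sub [29, 24, 31, 19, 20, 31, 24, 20, 29, 25, 29] [.out 3199]]],
  .sub [3, 1, 2, 3, 4, 1, 3, 2, 1, 3, 1, 2, 3, 4] [.sub [20, 27, 18, 18, 25, 20, 20, 29, 25, 29] [.sub [30, 29, 18, 19, 18, 25, 24, 27, 31, 30, 29] [.out 3657]]],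
  .sub [1, 3, 1, 2, 4, 1, 3, 2, 1, 3, 1, 2, 3, 4] [.sub [18, 29, 18, 18, 19, 31, 20, 31, 20, 30, 29, 29] [.out 2803]],
  .sub [3, 1, 4, 1, 2, 1, 3, 2, 1, 3, 1, 2, 3, 4] [.out 2104],
  .sub [3, 2, 4, 3, 1, 4, 1, 2, 1, 3, 1, 2, 3, 4] [.sub [31, 31, 19, 19, 25, 27, 24, 30, 29] [.out 3726]],
  .sub [1, 4, 1, 2, 1, 3, 1, 2, 1, 3, 1, 2, 3, 4] [.out 3255],
  .sub [2, 4, 3, 2, 3, 1, 4, 3, 2, 3, 1, 2, 3, 4] [.out 2030],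
  .sub [3, 1, 3, 2, 3, 1, 4, 3, 2, 3, 1, 2, 3, 4] [.sub [18, 24, 30, 31, 18, 31, 20, 20, 24, 27, 30] [.out 3837]],
  .sub [2, 1, 3, 2, 3, 1, 4, 3, 2, 3, 1, 2, 3, 4] [.sub [31, 18, 27, 20, 18, 18, 24, 31, 20, 30, 27, 29] [.out 3125]],
  .sub [1, 4, 1, 2, 3, 1, 4, 3, 2, 3, 1, 2, 3, 4] [.sub [29, 31, 31, 19, 18, 30, 25, 20, 20, 30, 25, 29, 29] [.out 2261]]]

/-- Branches. -/
def kidsYPart58 : List Branch := [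
  .sub [1, 3, 1, 2, 3, 1, 4, 3, 2, 3, 1, 2, 3, 4] [.sub [18, 18, 19, 18, 19, 20, 20, 31, 30, 20, 30, 27, 29] [.out 3460]],
  .sub [4, 1, 2, 3, 2, 1, 4, 3, 2, 3, 1, 2, 3, 4] [.sub [19, 24, 20, 31, 18, 27, 24, 29, 20, 20, 27] [.sub [20, 24, 18, 25, 18, 24, 30, 31, 24, 30] [.out 3362]]],
  .sub [4, 3, 2, 3, 1, 4, 1, 3, 2, 3, 1, 2, 3, 4] [.out 3868],
  .sub [2, 3, 2, 3, 1, 4, 1, 3, 2, 3, 1, 2, 3, 4] [.out 3760],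
  .sub [4, 1, 2, 3, 1, 4, 1, 3, 2, 3, 1, 2, 3, 4] [.sub [18, 20, 31, 20, 18, 30, 31, 20, 31, 27] [.out 3851]],
  .sub [1, 4, 3, 2, 1, 4, 1, 3, 2, 3, 1, 2, 3, 4] [.sub [18, 30, 25, 18, 18, 24, 30, 31, 27, 30, 29] [.out 1440]],
  .sub [2, 4, 3, 2, 1, 4, 1, 3, 2, 3, 1, 2, 3, 4] [.out 2810],
  .sub [2, 4, 3, 1, 2, 4, 1, 3, 2, 3, 1, 2, 3, 4] [.sub [24, 24, 27, 18, 25, 31, 20, 20] [.out 1091]],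
  .sub [1, 2, 3, 1, 2, 4, 1, 3, 2, 3, 1, 2, 3, 4] [.sub [31, 29, 25, 19, 18, 24, 20, 31, 20] [.out 3961]],
  .sub [1, 2, 4, 3, 2, 4, 3, 1, 2, 3, 1, 2, 3, 4] [.out 3248],
  .sub [1, 3, 1, 3, 2, 4, 3, 1, 2, 3, 1, 2, 3, 4] [.sub [18, 31, 19, 19, 18, 27, 25, 20, 20, 27, 30, 29] [.sub [25, 20, 25, 19, 18, 27, 30, 27, 24, 30, 27] [.out 2342]]],
  .sub [2, 3, 1, 3, 2, 4, 3, 1, 2, 3, 1, 2, 3, 4] [.out 3830],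
  .sub [3, 1, 2, 3, 2, 4, 3, 1, 2, 3, 1, 2, 3, 4] [.sub [19, 27, 18, 19, 18, 18, 29, 30, 20, 24, 29, 25] [.out 3090]],
  .sub [1, 4, 3, 1, 2, 4, 3, 1, 2, 3, 1, 2, 3, 4] [.sub [25, 19, 18, 25, 18, 18, 31, 31, 25, 20, 30, 25, 29, 29] [.out 3972]],
  .sub [2, 1, 3, 1, 2, 4, 3, 1, 2, 3, 1, 2, 3, 4] [.sub [19, 18, 18, 18, 18, 25, 31, 24, 20] [.sub [19, 24, 19, 25, 18, 18, 20, 31, 20, 24, 30] [.out 992]]],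
  .sub [1, 2, 3, 2, 4, 1, 3, 1, 2, 3, 1, 2, 3, 4] [.sub [20, 20, 18, 19, 18, 25, 31, 31, 24, 20, 30, 25, 29] [.out 3213]],
  .sub [4, 3, 1, 2, 4, 1, 3, 1, 2, 3, 1, 2, 3, 4] [.sub [19, 18, 19, 29, 18, 20, 31, 31, 27, 30] [.out 3040]],
  .sub [1, 3, 1, 2, 4, 1, 3, 1, 2, 3, 1, 2, 3, 4] [.out 2804],
  .sub [2, 3, 1, 2, 4, 1, 3, 1, 2, 3, 1, 2, 3, 4] [.out 3889],
  .sub [3, 1, 2, 3, 2, 1, 3, 1, 2, 3, 1, 2, 3, 4] [.sub [27, 20, 19, 27, 19, 18, 29, 20, 31, 20, 24, 27, 29] [.out 2063]],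
  .sub [1, 3, 1, 4, 3, 2, 3, 1, 2, 3, 1, 2, 3, 4] [.out 3739],
  .sub [3, 1, 2, 4, 3, 2, 4, 3, 1, 2, 1, 4, 1, 3, 4] [.sub [20, 18, 18, 19, 19, 27, 25, 31, 20, 30, 27, 29] [.out 2090]],
  .sub [1, 3, 4, 1, 3, 2, 4, 3, 1, 2, 1, 4, 1, 3, 4] [.sub [18, 25, 18, 18, 31, 29, 20, 24, 20, 27, 30] [.out 3896]],
  .sub [1, 2, 4, 1, 3, 2, 4, 3, 1, 2, 1, 4, 1, 3, 4] [.out 2468],
  .sub [4, 1, 2, 1, 3, 2, 4, 3, 1, 2, 1, 4, 1, 3, 4] [.sub [30, 18, 24, 25, 18, 29, 24, 27, 27, 24, 30, 27, 29] [.out 1865]],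
  .sub [2, 3, 1, 4, 1, 2, 4, 3, 1, 2, 1, 4, 1, 3, 4] [.sub [19, 19, 27, 19, 18, 27, 20, 20, 20, 27, 30] [.out 430]],
  .sub [3, 1, 4, 3, 1, 2, 4, 3, 1, 2, 1, 4, 1, 3, 4] [.out 4016],
  .sub [2, 1, 4, 3, 1, 2, 4, 3, 1, 2, 1, 4, 1, 3, 4] [.sub [30, 24, 19, 19, 18, 27, 20, 20, 20, 25, 29] [.out 2894]],
  .sub [4, 1, 2, 3, 1, 2, 4, 3, 1, 2, 1, 4, 1, 3, 4] [.sub [27, 24, 20, 18, 29, 30, 31, 27, 29, 29] [.out 2479]],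
  .sub [3, 1, 4, 3, 2, 4, 1, 3, 1, 2, 1, 4, 1, 3, 4] [.sub [18, 25, 19, 18, 29, 31, 25, 31, 29, 25, 29] [.sub [24, 29, 18, 18, 18, 24, 31, 20, 20, 27, 29] [.done 15]]],
  .sub [1, 3, 2, 1, 3, 2, 1, 3, 1, 2, 1, 4, 1, 3, 4] [.sub [31, 29, 19, 19, 18, 29, 20, 20, 24, 30, 27, 29, 29] [.out 1540]],
  .sub [1, 4, 3, 4, 1, 2, 1, 3, 1, 2, 1, 4, 1, 3, 4] [.sub [30, 20, 18, 20, 30, 29, 20, 20, 29, 25, 29] [.out 817]],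
  .sub [4, 3, 2, 3, 1, 2, 1, 3, 1, 2, 1, 4, 1, 3, 4] [.sub [25, 20, 31, 18, 27, 25, 20, 25, 29, 29] [.out 330]],
  .sub [4, 1, 2, 3, 1, 2, 1, 3, 1, 2, 1, 4, 1, 3, 4] [.sub [24, 29, 24, 19, 18, 25, 27, 25, 24, 27, 30] [.out 3972]],
  .sub [1, 4, 3, 1, 4, 3, 2, 3, 1, 2, 1, 4, 1, 3, 4] [.out 1619],
  .sub [4, 1, 3, 1, 4, 3, 2, 3, 1, 2, 1, 4, 1, 3, 4] [.sub [29, 18, 29, 18, 29, 31, 20, 24, 29] [.sub [18, 30, 31, 19, 18, 29, 20, 20, 30, 29, 29] [.out 3004]]],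
  .sub [2, 1, 3, 1, 4, 3, 2, 3, 1, 2, 1, 4, 1, 3, 4] [.out 3158],
  .sub [3, 2, 3, 1, 4, 3, 2, 3, 1, 2, 1, 4, 1, 3, 4] [.sub [18, 31, 18, 20, 18, 18, 27, 27, 31, 30] [.out 3348]],
  .sub [4, 1, 3, 4, 1, 3, 2, 3, 1, 2, 1, 4, 1, 3, 4] [.sub [27, 20, 19, 18, 31, 31, 31, 25, 31, 30, 29, 29] [.out 647]],
  .sub [1, 3, 2, 4, 1, 3, 2, 3, 1, 2, 1, 4, 1, 3, 4] [.sub [18, 31, 31, 19, 27, 30, 20, 20, 27, 29, 29] [.sub [19, 31, 25, 19, 18, 27, 31, 27, 20, 20, 30, 27, 29] [.out 1251]]],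
  .sub [1, 4, 3, 1, 4, 1, 2, 3, 1, 2, 1, 4, 1, 3, 4] [.sub [25, 24, 20, 19, 18, 27, 27, 31, 30, 20, 27, 30] [.out 2596]],
  .sub [4, 1, 2, 4, 3, 2, 4, 1, 4, 3, 2, 4, 1, 3, 4] [.sub [25, 18, 19, 19, 18, 24, 20, 24, 27, 24, 30] [.out 3424]],
  .sub [3, 2, 1, 3, 1, 2, 3, 1, 4, 3, 2, 4, 1, 3, 4] [.sub [29, 19, 29, 19, 18, 31, 20, 27, 29] [.out 3921]],
  .sub [1, 3, 2, 3, 1, 3, 2, 1, 4, 3, 2, 4, 1, 3, 4] [.sub [25, 18, 24, 24, 19, 24, 27, 24, 20, 30] [.out 2344]],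
  .sub [1, 4, 3, 2, 3, 1, 2, 1, 4, 3, 2, 4, 1, 3, 4] [.sub [27, 19, 18, 18, 18, 24, 27, 25, 20, 27, 30, 29, 29] [.out 1773]],
  .sub [2, 3, 2, 4, 3, 1, 3, 2, 4, 3, 2, 4, 1, 3, 4] [.out 3999],
  .sub [3, 1, 2, 4, 3, 1, 3, 2, 4, 3, 2, 4, 1, 3, 4] [.sub [30, 20, 24, 18, 24, 29, 20, 20, 30, 27] [.out 3676]],
  .sub [1, 4, 3, 2, 4, 3, 1, 2, 4, 3, 2, 4, 1, 3, 4] [.out 3765],
  .sub [2, 4, 3, 2, 4, 3, 1, 2, 4, 3, 2, 4, 1, 3, 4] [.out 2320],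
  .sub [4, 1, 2, 4, 1, 3, 1, 2, 4, 3, 2, 4, 1, 3, 4] [.sub [24, 19, 24, 18, 19, 24, 27, 27, 31, 25] [.out 89]],
  .sub [3, 1, 2, 4, 1, 3, 1, 2, 4, 3, 2, 4, 1, 3, 4] [.sub [18, 27, 24, 20, 18, 31, 30, 27, 31] [.sub [19, 29, 18, 18, 31, 29, 30, 24, 27] [.out 2689]]],
  .sub [3, 1, 4, 3, 2, 3, 1, 2, 4, 3, 2, 4, 1, 3, 4] [.out 3667],
  .sub [2, 1, 4, 3, 2, 3, 1, 2, 4, 3, 2, 4, 1, 3, 4] [.sub [24, 25, 19, 18, 18, 20, 29, 24, 30, 29, 29] [.out 1604]],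
  .sub [4, 3, 4, 1, 2, 3, 1, 2, 4, 3, 2, 4, 1, 3, 4] [.out 3664],
  .sub [1, 4, 3, 1, 2, 3, 1, 2, 4, 3, 2, 4, 1, 3, 4] [.sub [19, 19, 27, 20, 18, 18, 27, 24, 31, 31, 30, 27, 29, 29] [.out 3723]],
  .sub [4, 3, 1, 2, 4, 1, 3, 4, 1, 3, 2, 4, 1, 3, 4] [.sub [31, 19, 18, 20, 18, 30, 27, 24, 29, 25, 29] [.out 725]],
  .sub [4, 3, 4, 1, 2, 1, 3, 4, 1, 3, 2, 4, 1, 3, 4] [.sub [18, 20, 20, 19, 19, 20, 30, 24, 31, 25, 29] [.out 3982]],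
  .sub [2, 4, 3, 1, 2, 1, 3, 4, 1, 3, 2, 4, 1, 3, 4] [.sub [31, 24, 19, 20, 18, 18, 29, 31, 27, 25, 31, 30] [.out 2294]],
  .sub [3, 2, 3, 1, 2, 1, 3, 4, 1, 3, 2, 4, 1, 3, 4] [.out 3304],
  .sub [1, 2, 3, 1, 2, 1, 3, 4, 1, 3, 2, 4, 1, 3, 4] [.sub [18, 24, 29, 19, 19, 18, 20, 24, 30, 25, 20, 29, 29] [.sub [20, 27, 18, 31, 18, 27, 25, 31, 31] [.bad [] 1]]],
  .sub [2, 3, 1, 4, 3, 2, 3, 4, 1, 3, 2, 4, 1, 3, 4] [.out 1881],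
  .sub [1, 3, 4, 1, 3, 2, 3, 4, 1, 3, 2, 4, 1, 3, 4] [.sub [19, 29, 25, 20, 18, 24, 31, 25, 24, 30, 29, 29] [.out 2723]],
  .sub [3, 1, 4, 1, 3, 2, 3, 4, 1, 3, 2, 4, 1, 3, 4] [.sub [29, 18, 18, 27, 18, 20, 30, 24, 20, 30, 29, 29] [.out 1186]],
  .sub [1, 4, 3, 1, 3, 2, 3, 4, 1, 3, 2, 4, 1, 3, 4] [.sub [25, 18, 27, 18, 18, 18, 29, 24, 24, 31, 30, 29] [.out 3875]]]

/-- Branches. -/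
def kidsYPart59 : List Branch := [
  .sub [2, 4, 1, 3, 1, 2, 3, 4, 1, 3, 2, 4, 1, 3, 4] [.sub [29, 19, 25, 18, 27, 31, 30, 20, 20, 30, 25, 29] [.out 1728]],
  .sub [1, 2, 1, 3, 1, 2, 3, 4, 1, 3, 2, 4, 1, 3, 4] [.sub [19, 25, 19, 24, 19, 24, 25, 27, 31, 27, 29] [.out 3425]],
  .sub [3, 4, 1, 3, 1, 2, 1, 4, 1, 3, 2, 4, 1, 3, 4] [.sub [29, 25, 20, 18, 20, 31, 29, 31, 24, 30] [.out 3213]],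
  .sub [4, 1, 3, 2, 4, 3, 2, 4, 1, 3, 2, 4, 1, 3, 4] [.sub [31, 27, 18, 27, 19, 20, 24, 31, 24, 27, 29, 29] [.out 4028]],
  .sub [3, 1, 3, 2, 4, 3, 2, 4, 1, 3, 2, 4, 1, 3, 4] [.out 2274],
  .sub [1, 2, 3, 2, 4, 3, 2, 4, 1, 3, 2, 4, 1, 3, 4] [.out 3183],
  .sub [1, 2, 1, 4, 3, 1, 2, 4, 1, 3, 2, 4, 1, 3, 4] [.sub [30, 19, 27, 18, 18, 18, 29, 20, 24, 20, 20, 30, 27] [.sub [20, 18, 19, 27, 29, 24, 27, 30] [.out 2727]]],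
  .sub [4, 1, 3, 1, 4, 3, 2, 3, 1, 3, 2, 4, 1, 3, 4] [.sub [27, 24, 18, 18, 25, 20, 31, 25, 20, 30] [.out 3184]],
  .sub [2, 1, 3, 1, 4, 3, 2, 3, 1, 3, 2, 4, 1, 3, 4] [.sub [25, 18, 19, 18, 31, 27, 20, 20, 20, 30, 25, 29, 29] [.sub [30, 19, 18, 24, 18, 27, 31, 24, 20, 27, 30] [.out 2800]]],
  .sub [2, 1, 4, 3, 1, 3, 2, 3, 1, 3, 2, 4, 1, 3, 4] [.sub [19, 29, 18, 18, 19, 30, 29, 24, 29, 29] [.out 3492]],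
  .sub [3, 4, 1, 3, 1, 3, 2, 3, 1, 3, 2, 4, 1, 3, 4] [.sub [25, 31, 20, 18, 25, 24, 27, 31] [.out 3720]],
  .sub [3, 2, 1, 3, 1, 3, 2, 3, 1, 3, 2, 4, 1, 3, 4] [.sub [31, 24, 19, 31, 20, 25, 29, 29] [.out 1436]],
  .sub [2, 3, 4, 1, 3, 1, 2, 3, 1, 3, 2, 4, 1, 3, 4] [.out 3481],
  .sub [1, 2, 3, 2, 1, 4, 3, 2, 1, 3, 2, 4, 1, 3, 4] [.sub [20, 19, 18, 25, 31, 29, 31, 30, 29, 29] [.out 1977]],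
  .sub [3, 2, 1, 3, 2, 4, 3, 2, 1, 3, 2, 4, 1, 3, 4] [.out 2898],
  .sub [1, 2, 1, 3, 2, 4, 3, 2, 1, 3, 2, 4, 1, 3, 4] [.out 1816],
  .sub [4, 1, 2, 3, 2, 4, 3, 2, 1, 3, 2, 4, 1, 3, 4] [.sub [25, 27, 18, 19, 18, 31, 25, 31, 20, 30] [.sub [18, 31, 31, 18, 18, 20, 24, 31, 25, 20, 29, 29] [.out 2777]]],
  .sub [3, 1, 2, 3, 2, 4, 3, 2, 1, 3, 2, 4, 1, 3, 4] [.out 2545],
  .sub [1, 2, 3, 1, 2, 4, 3, 2, 1, 3, 2, 4, 1, 3, 4] [.sub [20, 18, 27, 18, 24, 24, 27, 25, 20, 29, 25, 29, 29] [.out 882]],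
  .sub [1, 3, 2, 3, 4, 1, 3, 2, 1, 3, 2, 4, 1, 3, 4] [.sub [27, 27, 25, 18, 18, 31, 30, 31, 27, 30] [.out 2760]],
  .sub [3, 1, 2, 3, 4, 1, 3, 2, 1, 3, 2, 4, 1, 3, 4] [.sub [27, 27, 31, 18, 18, 25, 31, 30, 24, 27, 29, 29] [.sub [31, 30, 31, 19, 31, 24, 20, 30, 20, 30, 25, 29] [.out 3895]]],
  .sub [2, 3, 2, 1, 4, 3, 1, 2, 1, 3, 2, 4, 1, 3, 4] [.sub [25, 31, 19, 24, 20, 30, 24, 30] [.out 3850]],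
  .sub [4, 1, 3, 2, 4, 3, 1, 2, 1, 3, 2, 4, 1, 3, 4] [.out 3811],
  .sub [3, 4, 1, 2, 4, 3, 1, 2, 1, 3, 2, 4, 1, 3, 4] [.sub [24, 20, 25, 19, 18, 24, 27, 31, 27, 29, 29] [.out 4007]],
  .sub [1, 4, 1, 2, 4, 3, 1, 2, 1, 3, 2, 4, 1, 3, 4] [.out 2345],
  .sub [1, 4, 1, 3, 2, 3, 1, 2, 1, 3, 2, 4, 1, 3, 4] [.sub [30, 24, 19, 19, 18, 27, 20, 20, 20, 25, 29] [.out 3627]],
  .sub [2, 4, 1, 3, 2, 3, 1, 2, 1, 3, 2, 4, 1, 3, 4] [.sub [29, 18, 18, 18, 18, 30, 20, 29, 20, 31, 25, 29] [.out 1932]],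
  .sub [3, 1, 4, 1, 2, 3, 1, 2, 1, 3, 2, 4, 1, 3, 4] [.out 3392],
  .sub [2, 1, 4, 1, 2, 3, 1, 2, 1, 3, 2, 4, 1, 3, 4] [.sub [27, 18, 25, 31, 19, 18, 20, 31, 24, 20, 20, 30, 29] [.out 1627]],
  .sub [3, 2, 4, 3, 2, 4, 3, 1, 2, 3, 2, 4, 1, 3, 4] [.out 1902],
  .sub [3, 4, 1, 3, 2, 4, 3, 1, 2, 3, 2, 4, 1, 3, 4] [.sub [31, 18, 31, 24, 18, 24, 31, 31, 27] [.out 2946]],
  .sub [1, 4, 1, 3, 2, 4, 3, 1, 2, 3, 2, 4, 1, 3, 4] [.sub [20, 19, 18, 18, 18, 31, 29, 20, 20, 27, 30] [.sub [24, 20, 19, 24, 27, 31, 20, 30, 29] [.out 2117]]],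
  .sub [2, 4, 1, 3, 2, 4, 3, 1, 2, 3, 2, 4, 1, 3, 4] [.out 2359],
  .sub [1, 4, 3, 1, 3, 2, 3, 1, 2, 3, 2, 4, 1, 3, 4] [.sub [19, 19, 24, 18, 30, 20, 29, 20, 31, 30] [.sub [25, 20, 25, 19, 18, 27, 30, 31, 20, 27, 30, 29, 29] [.out 181]]],
  .sub [3, 2, 1, 4, 1, 2, 3, 1, 2, 3, 2, 4, 1, 3, 4] [.sub [25, 18, 30, 19, 18, 25, 27, 25, 20, 30, 25, 29, 29] [.out 1567]],
  .sub [4, 3, 1, 4, 3, 2, 1, 4, 3, 1, 2, 4, 1, 3, 4] [.out 1926],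
  .sub [4, 1, 3, 1, 3, 2, 1, 4, 3, 1, 2, 4, 1, 3, 4] [.out 3284],
  .sub [1, 3, 2, 1, 4, 3, 2, 4, 3, 1, 2, 4, 1, 3, 4] [.sub [19, 24, 27, 18, 25, 24, 30, 24, 20, 30, 25, 29, 29] [.out 2274]],
  .sub [3, 1, 2, 1, 4, 3, 2, 4, 3, 1, 2, 4, 1, 3, 4] [.out 2939],
  .sub [3, 4, 1, 2, 1, 3, 2, 4, 3, 1, 2, 4, 1, 3, 4] [.sub [19, 18, 19, 19, 31, 30, 20, 24, 30, 27] [.out 3166]],
  .sub [1, 4, 1, 2, 1, 3, 2, 4, 3, 1, 2, 4, 1, 3, 4] [.out 3374],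
  .sub [1, 2, 4, 3, 4, 1, 2, 4, 3, 1, 2, 4, 1, 3, 4] [.out 3663],
  .sub [4, 3, 2, 3, 4, 1, 2, 4, 3, 1, 2, 4, 1, 3, 4] [.sub [18, 27, 18, 19, 30, 31, 24, 31, 29, 25, 29] [.out 3778]],
  .sub [3, 1, 2, 4, 3, 1, 2, 4, 3, 1, 2, 4, 1, 3, 4] [.out 4007],
  .sub [2, 4, 3, 2, 3, 1, 4, 1, 3, 1, 2, 4, 1, 3, 4] [.out 3866],
  .sub [2, 4, 1, 3, 2, 1, 4, 1, 3, 1, 2, 4, 1, 3, 4] [.sub [27, 18, 19, 18, 18, 24, 25, 31, 25, 20, 27] [.out 2981]],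
  .sub [1, 2, 1, 3, 2, 1, 4, 1, 3, 1, 2, 4, 1, 3, 4] [.sub [20, 19, 20, 25, 18, 27, 29, 20, 20, 30] [.sub [31, 19, 19, 31, 18, 30, 24, 31, 27, 29, 29] [.out 3996]]],
  .sub [2, 1, 3, 1, 2, 1, 4, 1, 3, 1, 2, 4, 1, 3, 4] [.out 3100],
  .sub [2, 4, 1, 4, 3, 2, 4, 1, 3, 1, 2, 4, 1, 3, 4] [.out 2924],
  .sub [4, 3, 2, 1, 3, 2, 4, 1, 3, 1, 2, 4, 1, 3, 4] [.sub [19, 27, 18, 19, 18, 18, 24, 24, 27, 24, 30, 25, 29, 29] [.out 1892]],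
  .sub [2, 3, 1, 4, 1, 2, 4, 1, 3, 1, 2, 4, 1, 3, 4] [.out 3323],
  .sub [4, 1, 4, 3, 1, 2, 4, 1, 3, 1, 2, 4, 1, 3, 4] [.out 1611],
  .sub [3, 2, 3, 1, 4, 3, 2, 1, 3, 1, 2, 4, 1, 3, 4] [.sub [31, 31, 19, 18, 19, 31, 20, 31, 25, 20, 29, 25] [.out 1040]],
  .sub [1, 2, 4, 3, 1, 3, 2, 1, 3, 1, 2, 4, 1, 3, 4] [.out 2803],
  .sub [1, 2, 3, 2, 1, 3, 2, 1, 3, 1, 2, 4, 1, 3, 4] [.sub [18, 24, 19, 20, 19, 27, 24, 27, 31, 20, 25, 29] [.out 606]],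
  .sub [1, 4, 1, 4, 3, 1, 2, 1, 3, 1, 2, 4, 1, 3, 4] [.out 4001],
  .sub [4, 3, 1, 4, 3, 1, 2, 1, 3, 1, 2, 4, 1, 3, 4] [.sub [30, 18, 25, 18, 20, 24, 27, 24, 20, 30, 27, 29] [.sub [31, 30, 19, 20, 18, 20, 31, 20, 31, 30, 25, 29, 29] [.bad [20, 29, 18, 30, 24, 27, 24, 20, 30, 27, 29] 1]]],
  .sub [2, 3, 1, 4, 3, 1, 2, 1, 3, 1, 2, 4, 1, 3, 4] [.sub [20, 20, 19, 24, 19, 20, 30, 29, 20, 20, 27] [.out 113]],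
  .sub [1, 2, 4, 3, 1, 4, 1, 2, 3, 1, 2, 4, 1, 3, 4] [.out 3674],
  .sub [1, 3, 2, 4, 1, 3, 2, 1, 4, 3, 2, 3, 1, 3, 4] [.sub [25, 19, 24, 25, 18, 31, 29, 24, 25, 20, 27, 29, 29] [.out 3862]],
  .sub [1, 2, 3, 1, 2, 1, 3, 2, 4, 3, 2, 3, 1, 3, 4] [.sub [27, 27, 19, 20, 18, 24, 24, 27, 25, 20, 30, 27, 29, 29] [.out 3954]],
  .sub [4, 1, 3, 1, 2, 4, 3, 4, 1, 3, 2, 3, 1, 3, 4] [.out 3603],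
  .sub [2, 1, 3, 1, 2, 4, 3, 4, 1, 3, 2, 3, 1, 3, 4] [.out 3855],
  .sub [4, 3, 2, 3, 1, 2, 3, 4, 1, 3, 2, 3, 1, 3, 4] [.sub [31, 19, 20, 19, 20, 30, 29, 24, 30, 29] [.out 3161]]]

/-- Branches. -/
def kidsYPart60 : List Branch := [
  .sub [3, 4, 1, 3, 1, 2, 1, 4, 1, 3, 2, 3, 1, 3, 4] [.out 3711],
  .sub [1, 3, 2, 4, 3, 2, 4, 3, 1, 3, 2, 3, 1, 3, 4] [.sub [18, 30, 18, 18, 30, 31, 24, 31, 29, 25, 29, 29] [.out 2351]],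
  .sub [1, 3, 4, 1, 3, 2, 4, 3, 1, 3, 2, 3, 1, 3, 4] [.out 4057],
  .sub [1, 2, 3, 1, 3, 2, 4, 3, 1, 3, 2, 3, 1, 3, 4] [.out 3142],
  .sub [4, 1, 2, 1, 3, 2, 4, 3, 1, 3, 2, 3, 1, 3, 4] [.out 3550],
  .sub [4, 3, 2, 3, 1, 2, 4, 3, 1, 3, 2, 3, 1, 3, 4] [.sub [31, 18, 30, 19, 18, 20, 31, 30, 20, 20, 29, 25] [.out 2260]],
  .sub [1, 4, 3, 1, 4, 3, 2, 3, 1, 3, 2, 3, 1, 3, 4] [.sub [18, 25, 31, 24, 18, 29, 20, 20, 25] [.out 2981]],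
  .sub [1, 2, 4, 3, 1, 3, 2, 3, 1, 3, 2, 3, 1, 3, 4] [.sub [20, 19, 19, 18, 29, 30, 31, 20, 27, 29, 29] [.sub [27, 24, 27, 18, 31, 31, 20, 20, 30, 29] [.out 1133]]],
  .sub [4, 1, 2, 4, 1, 4, 3, 2, 1, 3, 2, 3, 1, 3, 4] [.sub [31, 29, 18, 24, 18, 30, 27, 20, 20, 30, 25] [.sub [30, 25, 20, 19, 18, 24, 30, 20, 25, 29, 29] [.out 2322]]],
  .sub [1, 2, 3, 1, 4, 3, 1, 2, 1, 3, 2, 3, 1, 3, 4] [.sub [25, 27, 18, 24, 31, 20, 20, 29, 25, 29] [.out 1774]],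
  .sub [1, 2, 1, 3, 4, 1, 3, 1, 2, 3, 2, 3, 1, 3, 4] [.sub [29, 24, 19, 29, 18, 31, 27, 25, 31, 20, 25, 29, 29] [.out 2080]],
  .sub [4, 3, 2, 3, 4, 1, 3, 1, 2, 3, 2, 3, 1, 3, 4] [.out 3061],
  .sub [1, 3, 2, 3, 4, 1, 3, 1, 2, 3, 2, 3, 1, 3, 4] [.out 2805],
  .sub [4, 1, 2, 3, 4, 1, 3, 1, 2, 3, 2, 3, 1, 3, 4] [.sub [31, 18, 19, 20, 18, 20, 31, 24, 27, 29] [.out 2094]],
  .sub [3, 1, 4, 1, 4, 3, 2, 4, 3, 1, 2, 3, 1, 3, 4] [.out 3601],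
  .sub [1, 2, 4, 1, 4, 3, 2, 4, 3, 1, 2, 3, 1, 3, 4] [.out 1938],
  .sub [1, 3, 2, 1, 4, 3, 2, 4, 3, 1, 2, 3, 1, 3, 4] [.sub [20, 29, 18, 18, 31, 30, 20, 24, 27, 30, 29, 29] [.out 3153]],
  .sub [2, 3, 1, 2, 1, 3, 2, 4, 3, 1, 2, 3, 1, 3, 4] [.sub [18, 27, 24, 20, 18, 31, 30, 27, 31] [.out 3255]],
  .sub [3, 4, 1, 4, 3, 1, 2, 4, 3, 1, 2, 3, 1, 3, 4] [.sub [18, 20, 31, 20, 18, 30, 31, 20, 31, 27, 29] [.out 1896]],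
  .sub [4, 1, 2, 1, 4, 1, 3, 2, 3, 1, 2, 3, 1, 3, 4] [.sub [20, 30, 18, 18, 19, 25, 27, 25, 20, 30] [.out 834]],
  .sub [3, 4, 1, 2, 4, 1, 3, 2, 3, 1, 2, 3, 1, 3, 4] [.sub [20, 20, 19, 24, 18, 25, 24, 20, 29] [.out 1098]],
  .sub [4, 3, 1, 3, 2, 1, 3, 2, 3, 1, 2, 3, 1, 3, 4] [.sub [27, 18, 24, 27, 19, 27, 30, 27, 31, 20, 30, 25, 29] [.out 2382]],
  .sub [2, 1, 4, 3, 1, 4, 1, 2, 3, 1, 2, 3, 1, 3, 4] [.out 1886],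
  .sub [4, 1, 4, 3, 2, 1, 3, 4, 1, 4, 3, 2, 1, 3, 4] [.sub [31, 29, 19, 18, 19, 29, 20, 30, 20, 29, 25] [.out 1595]],
  .sub [2, 1, 4, 3, 2, 1, 3, 4, 1, 4, 3, 2, 1, 3, 4] [.sub [24, 19, 18, 27, 19, 20, 25, 27, 20, 31, 27, 30, 29, 29] [.sub [31, 20, 18, 27, 18, 31, 24, 20, 30, 20, 30] [.out 201]]],
  .sub [1, 3, 1, 4, 3, 2, 3, 4, 1, 4, 3, 2, 1, 3, 4] [.out 2413],
  .sub [2, 3, 2, 1, 3, 2, 3, 4, 1, 4, 3, 2, 1, 3, 4] [.out 2454],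
  .sub [1, 2, 4, 3, 2, 1, 4, 3, 1, 4, 3, 2, 1, 3, 4] [.sub [25, 19, 19, 19, 18, 27, 30, 31, 31, 29, 25, 29, 29] [.out 2733]],
  .sub [2, 4, 1, 3, 2, 1, 4, 3, 1, 4, 3, 2, 1, 3, 4] [.sub [19, 29, 19, 25, 18, 18, 25, 24, 30, 24, 20, 30] [.out 1428]],
  .sub [3, 1, 2, 3, 2, 1, 4, 3, 1, 4, 3, 2, 1, 3, 4] [.sub [19, 24, 25, 18, 19, 31, 25, 24, 31, 27, 30, 29, 29] [.out 3425]],
  .sub [3, 2, 4, 3, 1, 2, 4, 3, 1, 4, 3, 2, 1, 3, 4] [.sub [19, 29, 24, 18, 18, 24, 31, 31, 30, 27] [.out 3483]],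
  .sub [1, 3, 2, 3, 1, 2, 4, 3, 1, 4, 3, 2, 1, 3, 4] [.out 3735],
  .sub [1, 3, 1, 2, 3, 2, 1, 3, 1, 4, 3, 2, 1, 3, 4] [.out 2718],
  .sub [2, 4, 3, 1, 4, 3, 2, 3, 1, 4, 3, 2, 1, 3, 4] [.out 2309],
  .sub [4, 1, 3, 2, 4, 3, 2, 3, 1, 4, 3, 2, 1, 3, 4] [.out 3091],
  .sub [3, 1, 3, 2, 4, 3, 2, 3, 1, 4, 3, 2, 1, 3, 4] [.sub [31, 18, 31, 18, 20, 27, 30, 20, 30, 27, 29] [.out 529]],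
  .sub [3, 2, 3, 1, 4, 1, 2, 3, 1, 4, 3, 2, 1, 3, 4] [.sub [30, 19, 27, 18, 18, 18, 29, 20, 24, 20, 20, 30, 27] [.out 917]],
  .sub [1, 3, 2, 1, 4, 1, 2, 3, 1, 4, 3, 2, 1, 3, 4] [.out 2796],
  .sub [2, 3, 2, 1, 4, 1, 2, 3, 1, 4, 3, 2, 1, 3, 4] [.sub [27, 27, 19, 20, 18, 31, 27, 24, 25] [.out 2582]],
  .sub [3, 1, 3, 2, 1, 4, 3, 2, 1, 4, 3, 2, 1, 3, 4] [.out 4055],
  .sub [1, 4, 1, 2, 1, 4, 3, 2, 1, 4, 3, 2, 1, 3, 4] [.out 3020],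
  .sub [2, 3, 1, 2, 1, 4, 3, 2, 1, 4, 3, 2, 1, 3, 4] [.out 2488],
  .sub [1, 3, 4, 1, 2, 4, 3, 2, 1, 4, 3, 2, 1, 3, 4] [.out 3883],
  .sub [2, 3, 4, 1, 2, 4, 3, 2, 1, 4, 3, 2, 1, 3, 4] [.sub [18, 25, 20, 19, 27, 24, 30, 31, 25] [.sub [30, 24, 27, 19, 31, 27, 25, 20, 20, 25, 29, 29] [.out 501]]],
  .sub [1, 4, 3, 1, 2, 4, 3, 2, 1, 4, 3, 2, 1, 3, 4] [.out 3259],
  .sub [4, 3, 2, 3, 4, 1, 3, 2, 1, 4, 3, 2, 1, 3, 4] [.sub [31, 20, 24, 18, 19, 30, 24, 27, 24, 20, 27, 30, 29, 29] [.sub [20, 19, 25, 19, 24, 30, 29, 31, 25] [.out 556]]],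
  .sub [2, 1, 4, 1, 2, 1, 3, 2, 1, 4, 3, 2, 1, 3, 4] [.out 2595],
  .sub [1, 4, 3, 4, 1, 2, 3, 2, 1, 4, 3, 2, 1, 3, 4] [.out 1270],
  .sub [1, 3, 1, 4, 1, 2, 3, 2, 1, 4, 3, 2, 1, 3, 4] [.sub [20, 29, 20, 18, 24, 31, 25, 29, 29] [.out 1595]],
  .sub [3, 4, 1, 3, 1, 2, 3, 2, 1, 4, 3, 2, 1, 3, 4] [.out 3166],
  .sub [2, 4, 1, 3, 1, 2, 3, 2, 1, 4, 3, 2, 1, 3, 4] [.sub [19, 20, 27, 18, 27, 30, 27, 31, 20, 30, 25] [.out 3096]],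
  .sub [3, 2, 1, 3, 1, 2, 3, 2, 1, 4, 3, 2, 1, 3, 4] [.sub [19, 29, 18, 30, 31, 20, 30, 20, 27, 30, 29, 29] [.sub [29, 19, 18, 24, 18, 24, 20, 24, 27, 24, 29, 29] [.out 261]]],
  .sub [4, 1, 4, 3, 2, 4, 1, 3, 2, 4, 3, 2, 1, 3, 4] [.sub [30, 20, 18, 19, 18, 27, 29, 25, 20, 24, 29, 25] [.out 747]],
  .sub [1, 4, 3, 4, 1, 2, 1, 3, 2, 4, 3, 2, 1, 3, 4] [.sub [20, 19, 20, 18, 20, 27, 31, 25, 20, 27] [.sub [18, 18, 29, 18, 18, 31, 27, 27, 31, 27, 29] [.out 2989]]],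
  .sub [3, 4, 1, 3, 4, 1, 2, 3, 2, 4, 3, 2, 1, 3, 4] [.out 2462],
  .sub [2, 3, 4, 1, 3, 1, 2, 3, 2, 4, 3, 2, 1, 3, 4] [.sub [19, 18, 18, 19, 20, 18, 24, 27, 27, 24, 27, 29, 29] [.sub [19, 31, 19, 24, 31, 27, 24, 20, 27, 29, 29] [.out 3869]]],
  .sub [4, 1, 3, 4, 1, 2, 4, 3, 4, 1, 3, 2, 1, 3, 4] [.out 2500],
  .sub [2, 1, 3, 4, 1, 2, 4, 3, 4, 1, 3, 2, 1, 3, 4] [.sub [24, 18, 24, 18, 19, 29, 31, 25, 20, 20, 30, 25] [.out 3678]],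
  .sub [3, 1, 4, 3, 2, 4, 1, 3, 4, 1, 3, 2, 1, 3, 4] [.sub [19, 19, 27, 20, 18, 18, 27, 24, 31, 31, 30, 27, 29, 29] [.sub [27, 19, 20, 18, 27, 29, 31, 20, 30, 27] [.out 4028]]],
  .sub [2, 4, 1, 3, 2, 4, 1, 3, 4, 1, 3, 2, 1, 3, 4] [.sub [31, 29, 19, 29, 18, 18, 24, 24, 27, 25, 20, 30, 27] [.out 1019]],
  .sub [2, 3, 1, 3, 2, 4, 1, 3, 4, 1, 3, 2, 1, 3, 4] [.out 3462],
  .sub [4, 1, 3, 1, 2, 4, 1, 3, 4, 1, 3, 2, 1, 3, 4] [.sub [31, 24, 19, 25, 18, 30, 29, 31, 27, 30, 29, 29] [.out 1186]],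
  .sub [2, 1, 3, 1, 2, 4, 1, 3, 4, 1, 3, 2, 1, 3, 4] [.sub [25, 19, 18, 20, 18, 18, 20, 30, 20, 24] [.out 1868]],
  .sub [1, 3, 1, 4, 3, 2, 1, 3, 4, 1, 3, 2, 1, 3, 4] [.sub [25, 20, 19, 18, 29, 24, 31, 27, 30] [.out 1515]]]

/-- Branches. -/
def kidsYPart61 : List Branch := [
  .sub [2, 3, 2, 4, 3, 2, 1, 3, 4, 1, 3, 2, 1, 3, 4] [.out 2715],
  .sub [1, 2, 4, 3, 1, 2, 1, 3, 4, 1, 3, 2, 1, 3, 4] [.sub [27, 29, 18, 18, 31, 20, 31, 30, 27] [.out 3741]],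
  .sub [2, 4, 3, 1, 4, 3, 2, 3, 4, 1, 3, 2, 1, 3, 4] [.out 3643],
  .sub [3, 2, 3, 1, 4, 3, 2, 3, 4, 1, 3, 2, 1, 3, 4] [.sub [27, 18, 20, 18, 18, 24, 30, 27, 27, 24, 30, 27] [.out 1523]],
  .sub [1, 2, 3, 2, 4, 3, 2, 3, 4, 1, 3, 2, 1, 3, 4] [.sub [27, 19, 25, 18, 18, 24, 24, 27, 31, 30, 25, 29, 29] [.out 2715]],
  .sub [1, 3, 1, 2, 4, 3, 2, 3, 4, 1, 3, 2, 1, 3, 4] [.sub [20, 19, 18, 18, 29, 25, 31, 29, 25, 29, 29] [.sub [24, 31, 19, 30, 29, 31, 31, 25, 29, 29] [.out 3534]]],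
  .sub [3, 1, 3, 2, 3, 1, 2, 3, 4, 1, 3, 2, 1, 3, 4] [.sub [25, 20, 19, 18, 20, 24, 30, 20, 30, 27, 29, 29] [.out 3463]],
  .sub [4, 3, 1, 2, 3, 1, 2, 3, 4, 1, 3, 2, 1, 3, 4] [.sub [29, 18, 24, 18, 18, 27, 24, 27, 24, 30, 25, 29] [.out 3007]],
  .sub [1, 3, 1, 2, 3, 1, 2, 3, 4, 1, 3, 2, 1, 3, 4] [.sub [18, 20, 31, 18, 31, 24, 30, 25] [.out 1329]],
  .sub [3, 2, 1, 3, 2, 4, 3, 2, 4, 1, 3, 2, 1, 3, 4] [.sub [31, 20, 27, 19, 29, 24, 24, 31, 27, 29] [.out 3683]],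
  .sub [1, 2, 1, 3, 2, 4, 3, 2, 4, 1, 3, 2, 1, 3, 4] [.out 3702],
  .sub [2, 1, 3, 2, 4, 1, 3, 2, 4, 1, 3, 2, 1, 3, 4] [.sub [31, 29, 25, 19, 18, 25, 31, 27, 20, 20, 30, 27, 29] [.out 335]],
  .sub [1, 2, 1, 4, 3, 2, 4, 1, 3, 1, 3, 2, 1, 3, 4] [.sub [31, 20, 25, 18, 20, 27, 24, 20, 20, 30, 29, 29] [.out 2281]],
  .sub [4, 3, 4, 1, 3, 2, 4, 1, 3, 1, 3, 2, 1, 3, 4] [.out 1432],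
  .sub [2, 4, 3, 1, 3, 2, 4, 1, 3, 1, 3, 2, 1, 3, 4] [.out 1912],
  .sub [1, 2, 3, 2, 1, 3, 2, 1, 3, 1, 3, 2, 1, 3, 4] [.sub [30, 19, 20, 18, 18, 27, 25, 20, 24, 30] [.out 2404]],
  .sub [3, 4, 1, 3, 4, 1, 2, 1, 3, 1, 3, 2, 1, 3, 4] [.out 2361],
  .sub [3, 1, 2, 4, 3, 1, 4, 3, 2, 1, 3, 2, 1, 3, 4] [.sub [29, 25, 18, 20, 19, 18, 25, 31, 25, 20, 30] [.out 3992]],
  .sub [3, 1, 2, 1, 3, 1, 4, 3, 2, 1, 3, 2, 1, 3, 4] [.out 2939],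
  .sub [3, 4, 1, 2, 3, 1, 4, 3, 2, 1, 3, 2, 1, 3, 4] [.out 3872],
  .sub [3, 1, 3, 2, 1, 4, 1, 3, 2, 1, 3, 2, 1, 3, 4] [.out 3033],
  .sub [2, 1, 3, 2, 1, 4, 1, 3, 2, 1, 3, 2, 1, 3, 4] [.sub [24, 18, 29, 18, 25, 31, 25, 29] [.out 2947]],
  .sub [3, 2, 3, 1, 4, 1, 3, 1, 2, 1, 3, 2, 1, 3, 4] [.out 3837],
  .sub [3, 2, 1, 3, 2, 4, 3, 4, 1, 2, 3, 2, 1, 3, 4] [.sub [18, 18, 27, 20, 18, 27, 24, 20, 24, 20, 29, 25, 29, 29] [.out 1314]],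
  .sub [4, 1, 2, 3, 4, 1, 3, 4, 1, 2, 3, 2, 1, 3, 4] [.sub [29, 19, 18, 27, 25, 20, 31, 30, 27] [.sub [19, 25, 27, 18, 27, 31, 29, 20, 20, 27, 29, 29] [.out 2168]]],
  .sub [4, 1, 3, 2, 3, 1, 3, 4, 1, 2, 3, 2, 1, 3, 4] [.out 1857],
  .sub [2, 3, 1, 4, 3, 2, 4, 3, 1, 2, 3, 2, 1, 3, 4] [.sub [29, 18, 31, 18, 18, 20, 30, 20, 20, 27] [.out 3534]],
  .sub [3, 2, 3, 1, 3, 2, 4, 3, 1, 2, 3, 2, 1, 3, 4] [.out 3319],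
  .sub [3, 1, 2, 1, 3, 2, 4, 3, 1, 2, 3, 2, 1, 3, 4] [.out 1315],
  .sub [3, 4, 1, 2, 3, 2, 4, 3, 1, 2, 3, 2, 1, 3, 4] [.out 3720],
  .sub [4, 3, 1, 2, 3, 2, 4, 3, 1, 2, 3, 2, 1, 3, 4] [.out 2888],
  .sub [1, 3, 1, 2, 3, 2, 4, 3, 1, 2, 3, 2, 1, 3, 4] [.sub [19, 27, 19, 18, 27, 27, 24, 27, 24, 29, 29] [.out 3700]],
  .sub [1, 3, 2, 1, 3, 4, 1, 3, 1, 2, 3, 2, 1, 3, 4] [.out 2057],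
  .sub [3, 1, 2, 1, 3, 4, 1, 3, 1, 2, 3, 2, 1, 3, 4] [.sub [18, 24, 19, 20, 19, 24, 27, 24, 20, 25] [.sub [27, 18, 19, 25, 18, 31, 31, 20, 24, 25] [.out 3778]]],
  .sub [4, 1, 4, 3, 1, 2, 4, 1, 4, 3, 1, 2, 1, 3, 4] [.out 3972],
  .sub [2, 1, 4, 3, 1, 2, 4, 1, 4, 3, 1, 2, 1, 3, 4] [.out 1628],
  .sub [1, 3, 4, 1, 4, 3, 2, 1, 4, 3, 1, 2, 1, 3, 4] [.sub [20, 31, 24, 18, 19, 27, 24, 29, 20, 20, 25] [.sub [19, 29, 18, 19, 18, 31, 25, 20, 31, 27, 30] [.out 98]]],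
  .sub [2, 3, 2, 1, 4, 3, 2, 1, 4, 3, 1, 2, 1, 3, 4] [.out 4011],
  .sub [3, 2, 1, 3, 4, 1, 3, 2, 4, 3, 1, 2, 1, 3, 4] [.sub [29, 25, 18, 18, 29, 24, 29, 24, 20, 30, 27, 29] [.out 3533]],
  .sub [1, 2, 1, 3, 4, 1, 3, 2, 4, 3, 1, 2, 1, 3, 4] [.out 3683],
  .sub [3, 1, 2, 3, 4, 1, 3, 2, 4, 3, 1, 2, 1, 3, 4] [.sub [20, 24, 19, 18, 19, 30, 24, 31, 20, 20, 30, 27] [.out 3644]],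
  .sub [3, 1, 3, 2, 4, 1, 3, 2, 4, 3, 1, 2, 1, 3, 4] [.out 1820],
  .sub [2, 1, 3, 2, 4, 1, 3, 2, 4, 3, 1, 2, 1, 3, 4] [.sub [18, 20, 29, 18, 18, 20, 30, 24, 20, 30, 27] [.sub [19, 29, 18, 18, 18, 31, 27, 25, 20, 20, 25, 29] [.out 1062]]],
  .sub [1, 4, 3, 2, 1, 3, 1, 2, 4, 3, 1, 2, 1, 3, 4] [.out 2813],
  .sub [2, 3, 4, 1, 3, 2, 3, 4, 1, 3, 1, 2, 1, 3, 4] [.sub [31, 27, 18, 27, 19, 20, 24, 31, 24, 27, 29, 29] [.out 2603]],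
  .sub [4, 3, 4, 1, 3, 2, 1, 4, 1, 3, 1, 2, 1, 3, 4] [.sub [31, 18, 30, 19, 18, 20, 31, 30, 20, 20, 29, 25] [.sub [24, 31, 18, 31, 31, 31, 29, 25, 29] [.out 2794]]],
  .sub [1, 3, 4, 1, 3, 2, 1, 4, 1, 3, 1, 2, 1, 3, 4] [.sub [20, 19, 27, 19, 18, 30, 29, 31, 27, 30] [.out 1555]],
  .sub [3, 4, 1, 2, 3, 1, 2, 4, 1, 3, 1, 2, 1, 3, 4] [.sub [18, 19, 29, 18, 18, 27, 24, 30, 20, 25, 29] [.out 1114]],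
  .sub [4, 1, 4, 3, 1, 4, 3, 2, 1, 3, 1, 2, 1, 3, 4] [.sub [24, 18, 18, 19, 25, 31, 31, 20, 30, 25, 29] [.sub [19, 29, 20, 18, 18, 20, 27, 20, 20, 27, 29, 29] [.out 2637]]],
  .sub [2, 1, 4, 3, 1, 4, 3, 2, 1, 3, 1, 2, 1, 3, 4] [.out 3995],
  .sub [1, 2, 4, 3, 1, 4, 3, 2, 1, 3, 1, 2, 1, 3, 4] [.out 2853],
  .sub [2, 3, 2, 3, 1, 4, 3, 2, 1, 3, 1, 2, 1, 3, 4] [.sub [27, 31, 18, 19, 31, 31, 20, 31, 27, 29] [.out 1813]],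
  .sub [1, 2, 1, 3, 2, 4, 3, 2, 1, 3, 1, 2, 1, 3, 4] [.sub [30, 31, 20, 19, 27, 24, 27, 31, 20, 29, 29] [.out 3953]],
  .sub [4, 1, 2, 3, 2, 4, 3, 2, 1, 3, 1, 2, 1, 3, 4] [.sub [27, 27, 19, 24, 18, 18, 31, 31, 30, 25, 29, 29] [.out 2673]],
  .sub [1, 3, 2, 3, 1, 4, 1, 3, 2, 3, 1, 2, 1, 3, 4] [.sub [18, 19, 20, 19, 30, 24, 24, 20, 20, 29, 25] [.sub [25, 18, 24, 24, 19, 31, 29, 20, 30, 20, 30, 29, 29] [.out 2471]]],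
  .sub [4, 3, 2, 4, 1, 3, 1, 3, 2, 3, 1, 2, 1, 3, 4] [.out 2321],
  .sub [2, 3, 2, 4, 1, 3, 1, 3, 2, 3, 1, 2, 1, 3, 4] [.sub [29, 19, 19, 24, 19, 29, 20, 20, 31, 30, 27] [.sub [19, 27, 27, 18, 31, 31, 20, 31, 30, 29, 29] [.out 1387]]],
  .sub [2, 4, 3, 2, 1, 3, 1, 3, 2, 3, 1, 2, 1, 3, 4] [.out 3357],
  .sub [3, 4, 1, 2, 3, 1, 4, 1, 2, 3, 1, 2, 1, 3, 4] [.sub [30, 19, 31, 18, 18, 31, 20, 31, 25, 20, 27, 30] [.out 2374]],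
  .sub [2, 1, 4, 3, 1, 4, 3, 1, 2, 3, 1, 2, 1, 3, 4] [.out 2235],
  .sub [1, 2, 1, 3, 4, 1, 3, 1, 2, 3, 1, 2, 1, 3, 4] [.out 1102],
  .sub [4, 3, 2, 3, 4, 1, 3, 1, 2, 3, 1, 2, 1, 3, 4] [.out 3241],
  .sub [1, 3, 2, 3, 4, 1, 3, 1, 2, 3, 1, 2, 1, 3, 4] [.out 2446],
  .sub [2, 3, 2, 3, 4, 1, 3, 1, 2, 3, 1, 2, 1, 3, 4] [.out 3718]]

/-- Branches. -/
def kidsYPart62 : List Branch := [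
  .sub [4, 1, 2, 1, 4, 1, 3, 1, 2, 3, 1, 2, 1, 3, 4] [.sub [27, 18, 19, 20, 18, 27, 24, 29, 24] [.out 2804]],
  .sub [2, 4, 3, 2, 4, 1, 3, 1, 2, 3, 1, 2, 1, 3, 4] [.out 3028],
  .sub [4, 1, 2, 3, 2, 1, 3, 1, 2, 3, 1, 2, 1, 3, 4] [.out 3016],
  .sub [3, 4, 1, 4, 3, 2, 1, 3, 4, 1, 4, 3, 2, 3, 4] [.out 3255],
  .sub [1, 3, 1, 4, 3, 2, 1, 3, 4, 1, 4, 3, 2, 3, 4] [.out 328],
  .sub [1, 2, 1, 4, 3, 2, 1, 3, 4, 1, 4, 3, 2, 3, 4] [.sub [30, 18, 25, 18, 18, 24, 20, 31, 25, 29] [.out 480]],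
  .sub [1, 3, 2, 4, 3, 2, 1, 3, 4, 1, 4, 3, 2, 3, 4] [.out 3539],
  .sub [4, 1, 2, 4, 3, 2, 1, 3, 4, 1, 4, 3, 2, 3, 4] [.sub [19, 20, 19, 30, 18, 18, 31, 20, 20, 24, 27, 29, 29] [.out 3761]],
  .sub [3, 1, 4, 1, 3, 2, 1, 3, 4, 1, 4, 3, 2, 3, 4] [.out 3817],
  .sub [3, 2, 4, 1, 3, 2, 1, 3, 4, 1, 4, 3, 2, 3, 4] [.sub [18, 18, 20, 19, 20, 18, 25, 31, 31, 20, 20, 29, 25, 29, 29] [.out 3832]],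
  .sub [1, 4, 3, 1, 3, 2, 1, 3, 4, 1, 4, 3, 2, 3, 4] [.sub [18, 19, 31, 20, 18, 29, 30, 20, 24, 29, 25, 29, 29] [.sub [30, 25, 18, 18, 18, 24, 24, 27, 20, 24, 27, 29] [.out 1401]]],
  .sub [2, 4, 3, 1, 3, 2, 1, 3, 4, 1, 4, 3, 2, 3, 4] [.out 3259],
  .sub [3, 2, 3, 1, 3, 2, 1, 3, 4, 1, 4, 3, 2, 3, 4] [.sub [24, 29, 18, 18, 18, 27, 29, 25, 20, 24, 27, 29, 29] [.out 1259]],
  .sub [2, 1, 4, 3, 1, 4, 1, 2, 3, 1, 4, 3, 2, 3, 4] [.out 1945],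
  .sub [3, 2, 3, 1, 4, 3, 1, 2, 3, 1, 4, 3, 2, 3, 4] [.out 1595],
  .sub [1, 4, 3, 2, 4, 1, 4, 3, 2, 1, 4, 3, 2, 3, 4] [.sub [30, 31, 19, 20, 18, 31, 20, 20, 24, 25] [.out 1652]],
  .sub [3, 2, 4, 3, 1, 2, 4, 3, 2, 1, 4, 3, 2, 3, 4] [.out 2321],
  .sub [1, 2, 4, 3, 1, 2, 4, 3, 2, 1, 4, 3, 2, 3, 4] [.out 3649],
  .sub [3, 1, 4, 3, 2, 3, 4, 1, 3, 4, 1, 3, 2, 3, 4] [.sub [18, 27, 18, 18, 18, 24, 31, 30, 20, 29, 25, 29, 29] [.out 2903]],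
  .sub [4, 1, 4, 3, 1, 2, 4, 3, 2, 4, 1, 3, 2, 3, 4] [.sub [19, 18, 24, 24, 19, 27, 25, 20, 29, 25, 29] [.out 3287]],
  .sub [2, 1, 4, 3, 1, 2, 4, 3, 2, 4, 1, 3, 2, 3, 4] [.out 2790],
  .sub [1, 2, 1, 3, 1, 4, 1, 3, 2, 4, 1, 3, 2, 3, 4] [.out 2086],
  .sub [3, 1, 2, 3, 2, 4, 1, 3, 2, 4, 1, 3, 2, 3, 4] [.out 3801],
  .sub [1, 2, 4, 3, 2, 3, 1, 3, 2, 4, 1, 3, 2, 3, 4] [.sub [19, 20, 27, 19, 31, 30, 31, 31, 30, 29] [.out 615]],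
  .sub [1, 4, 3, 4, 1, 2, 1, 3, 2, 4, 1, 3, 2, 3, 4] [.sub [19, 20, 19, 18, 24, 24, 27, 20, 24, 29] [.out 1091]],
  .sub [2, 4, 3, 4, 1, 2, 1, 3, 2, 4, 1, 3, 2, 3, 4] [.sub [24, 29, 31, 29, 18, 30, 27, 31, 20, 30, 25, 29] [.sub [24, 19, 18, 20, 18, 31, 25, 31, 20, 27, 30, 29, 29] [.out 685]]],
  .sub [1, 2, 3, 4, 1, 2, 1, 3, 2, 4, 1, 3, 2, 3, 4] [.sub [20, 30, 31, 19, 25, 31, 31, 20, 27, 30, 29, 29] [.sub [30, 20, 18, 19, 19, 31, 31, 25, 31, 30, 27, 29, 29] [.bad [19, 20, 19, 18, 18, 18, 25, 24, 30, 20, 29, 29] 1]]],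
  .sub [2, 3, 1, 3, 4, 1, 2, 3, 2, 4, 1, 3, 2, 3, 4] [.sub [19, 25, 19, 24, 19, 18, 20, 25, 20, 31, 29, 25, 29] [.out 1943]],
  .sub [3, 1, 2, 3, 4, 1, 2, 3, 2, 4, 1, 3, 2, 3, 4] [.sub [29, 18, 29, 18, 24, 25, 31, 20, 20, 27, 30, 29, 29] [.out 1499]],
  .sub [3, 2, 4, 3, 4, 1, 3, 2, 4, 3, 1, 3, 2, 3, 4] [.out 2143],
  .sub [3, 2, 4, 3, 2, 1, 3, 2, 4, 3, 1, 3, 2, 3, 4] [.sub [27, 31, 18, 19, 31, 31, 20, 31, 27, 29] [.sub [30, 31, 27, 19, 18, 31, 30, 25, 20, 29, 25] [.done 13]]],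
  .sub [1, 3, 1, 3, 2, 1, 3, 2, 1, 3, 1, 3, 2, 3, 4] [.out 830],
  .sub [2, 3, 1, 3, 2, 1, 3, 2, 1, 3, 1, 3, 2, 3, 4] [.sub [29, 19, 29, 31, 18, 24, 27, 24, 20, 29, 29] [.out 1287]],
  .sub [1, 2, 1, 4, 1, 3, 1, 2, 1, 3, 1, 3, 2, 3, 4] [.out 3513],
  .sub [4, 1, 2, 4, 1, 3, 1, 2, 1, 3, 1, 3, 2, 3, 4] [.out 3577],
  .sub [2, 1, 4, 1, 3, 1, 4, 3, 2, 3, 1, 3, 2, 3, 4] [.out 3420],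
  .sub [4, 3, 2, 1, 3, 1, 4, 3, 2, 3, 1, 3, 2, 3, 4] [.sub [27, 24, 25, 19, 27, 30, 20, 24, 30, 29, 29] [.sub [24, 24, 19, 19, 20, 18, 27, 25, 31, 31, 29, 25, 29] [.out 2572]]],
  .sub [1, 4, 3, 1, 2, 1, 4, 3, 2, 3, 1, 3, 2, 3, 4] [.out 1910],
  .sub [3, 4, 1, 3, 1, 2, 4, 3, 2, 3, 1, 3, 2, 3, 4] [.out 2107],
  .sub [4, 3, 1, 2, 3, 4, 1, 3, 2, 3, 1, 3, 2, 3, 4] [.sub [19, 19, 18, 20, 18, 18, 27, 31, 31, 25, 29, 29] [.out 1926]],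
  .sub [2, 4, 1, 3, 4, 1, 2, 3, 2, 3, 1, 3, 2, 3, 4] [.out 3149],
  .sub [1, 3, 1, 3, 4, 1, 2, 3, 2, 3, 1, 3, 2, 3, 4] [.sub [30, 20, 19, 31, 18, 31, 25, 20, 31, 20, 30, 25] [.sub [30, 29, 18, 19, 18, 25, 24, 27, 31, 30, 29] [.out 3426]]],
  .sub [3, 1, 4, 3, 2, 4, 1, 4, 3, 2, 1, 3, 2, 3, 4] [.out 3390],
  .sub [4, 3, 2, 3, 1, 2, 1, 4, 3, 2, 1, 3, 2, 3, 4] [.out 3264],
  .sub [2, 1, 3, 2, 1, 3, 2, 4, 3, 2, 1, 3, 2, 3, 4] [.sub [19, 29, 19, 18, 24, 31, 31, 27, 29, 29] [.sub [19, 29, 24, 31, 19, 30, 31, 24, 31, 30, 25] [.out 3980]]],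
  .sub [1, 4, 3, 2, 3, 1, 2, 4, 3, 2, 1, 3, 2, 3, 4] [.sub [18, 24, 19, 18, 18, 20, 31, 30, 24, 30, 25] [.out 3145]],
  .sub [4, 1, 3, 2, 3, 1, 2, 4, 3, 2, 1, 3, 2, 3, 4] [.sub [27, 20, 18, 25, 18, 18, 27, 31, 29] [.out 1608]],
  .sub [3, 1, 3, 2, 3, 1, 2, 4, 3, 2, 1, 3, 2, 3, 4] [.out 2274],
  .sub [3, 1, 2, 3, 4, 1, 2, 1, 3, 2, 1, 3, 2, 3, 4] [.sub [30, 18, 18, 24, 18, 20, 30, 25, 24, 30] [.sub [19, 30, 19, 25, 19, 30, 31, 25, 24, 29] [.bad [24, 19, 27, 31, 19, 30, 31, 25, 24, 30, 25, 29] 1]]],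
  .sub [3, 2, 4, 1, 3, 1, 2, 1, 3, 2, 1, 3, 2, 3, 4] [.out 3779],
  .sub [4, 1, 2, 1, 3, 1, 2, 1, 3, 2, 1, 3, 2, 3, 4] [.out 1549],
  .sub [3, 1, 2, 1, 3, 1, 2, 1, 3, 2, 1, 3, 2, 3, 4] [.out 3689],
  .sub [4, 1, 3, 2, 3, 1, 2, 1, 3, 2, 1, 3, 2, 3, 4] [.out 1823],
  .sub [3, 1, 3, 2, 3, 1, 2, 1, 3, 2, 1, 3, 2, 3, 4] [.sub [18, 24, 25, 20, 18, 20, 24, 31, 24, 25] [.out 1750]],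
  .sub [1, 3, 1, 2, 3, 1, 2, 1, 3, 2, 1, 3, 2, 3, 4] [.sub [31, 20, 19, 19, 24, 29, 20, 31, 30, 25, 29] [.out 3530]],
  .sub [1, 4, 1, 2, 4, 3, 1, 2, 3, 2, 1, 3, 2, 3, 4] [.out 2058],
  .sub [2, 3, 2, 1, 3, 2, 4, 3, 2, 4, 3, 1, 2, 3, 4] [.sub [27, 20, 19, 27, 19, 18, 27, 24, 31, 20, 30, 29, 29] [.out 3126]],
  .sub [4, 3, 1, 2, 3, 1, 2, 1, 4, 1, 3, 1, 2, 3, 4] [.out 3675],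
  .sub [2, 4, 3, 2, 3, 1, 4, 1, 3, 2, 3, 1, 2, 3, 4] [.out 3342],
  .sub [2, 1, 3, 1, 3, 2, 4, 3, 1, 2, 3, 1, 2, 3, 4] [.out 3364],
  .sub [2, 1, 4, 3, 1, 2, 4, 3, 1, 2, 3, 1, 2, 3, 4] [.out 3793],
  .sub [4, 3, 1, 2, 4, 3, 2, 4, 3, 1, 2, 1, 4, 1, 3, 4] [.sub [25, 24, 19, 24, 18, 25, 27, 24, 29] [.out 3396]],
  .sub [4, 1, 3, 4, 1, 3, 2, 4, 3, 1, 2, 1, 4, 1, 3, 4] [.sub [19, 24, 25, 20, 18, 30, 20, 24, 20, 20, 30, 25] [.out 428]],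
  .sub [3, 1, 3, 4, 1, 3, 2, 4, 3, 1, 2, 1, 4, 1, 3, 4] [.out 3558]]

/-- Branches. -/
def kidsYPart63 : List Branch := [
  .sub [1, 3, 1, 4, 3, 1, 2, 4, 3, 1, 2, 1, 4, 1, 3, 4] [.sub [29, 18, 24, 20, 18, 20, 24, 30, 20, 27, 29] [.sub [30, 31, 27, 19, 18, 31, 30, 25, 20, 29, 25] [.out 4048]]],
  .sub [4, 1, 3, 2, 1, 3, 2, 1, 3, 1, 2, 1, 4, 1, 3, 4] [.sub [31, 31, 18, 18, 30, 25, 24, 31, 30, 25] [.out 2972]],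
  .sub [2, 1, 3, 2, 1, 3, 2, 1, 3, 1, 2, 1, 4, 1, 3, 4] [.out 3472],
  .sub [4, 1, 4, 3, 1, 4, 3, 2, 3, 1, 2, 1, 4, 1, 3, 4] [.sub [31, 30, 19, 19, 18, 24, 25, 31, 25, 20, 30, 27, 29, 29] [.out 3157]],
  .sub [1, 4, 1, 3, 1, 4, 3, 2, 3, 1, 2, 1, 4, 1, 3, 4] [.sub [19, 18, 20, 18, 20, 24, 27, 29] [.out 2015]],
  .sub [2, 4, 1, 3, 1, 4, 3, 2, 3, 1, 2, 1, 4, 1, 3, 4] [.out 3726],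
  .sub [4, 1, 4, 3, 2, 4, 3, 1, 2, 4, 3, 2, 4, 1, 3, 4] [.out 3483],
  .sub [1, 3, 2, 3, 1, 2, 1, 3, 4, 1, 3, 2, 4, 1, 3, 4] [.out 3469],
  .sub [4, 1, 3, 4, 1, 3, 2, 3, 4, 1, 3, 2, 4, 1, 3, 4] [.sub [31, 29, 19, 19, 18, 29, 20, 20, 24, 30, 27, 29, 29] [.out 1971]],
  .sub [2, 3, 1, 3, 2, 4, 3, 2, 4, 1, 3, 2, 4, 1, 3, 4] [.out 3015],
  .sub [3, 1, 2, 3, 2, 1, 4, 3, 2, 1, 3, 2, 4, 1, 3, 4] [.sub [18, 24, 19, 24, 18, 24, 30, 20, 25, 29, 29] [.out 3695]],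
  .sub [4, 1, 2, 1, 3, 2, 4, 3, 2, 1, 3, 2, 4, 1, 3, 4] [.out 3157],
  .sub [1, 2, 3, 2, 1, 4, 3, 1, 2, 1, 3, 2, 4, 1, 3, 4] [.out 3027],
  .sub [1, 4, 3, 2, 1, 3, 2, 4, 1, 3, 1, 2, 4, 1, 3, 4] [.sub [31, 31, 25, 18, 30, 25, 20, 31, 27, 30] [.out 3297]],
  .sub [1, 4, 3, 1, 4, 3, 1, 2, 1, 3, 1, 2, 4, 1, 3, 4] [.sub [29, 31, 18, 18, 31, 29, 20, 20, 30, 29] [.out 3494]],
  .sub [3, 1, 3, 2, 4, 3, 2, 4, 3, 1, 3, 2, 3, 1, 3, 4] [.sub [27, 18, 25, 31, 19, 18, 27, 25, 31, 27, 29, 29] [.sub [20, 19, 25, 19, 24, 30, 29, 31, 25] [.out 2777]]],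
  .sub [2, 4, 1, 4, 3, 2, 1, 3, 4, 1, 4, 3, 2, 1, 3, 4] [.out 2814],
  .sub [3, 2, 1, 4, 3, 2, 1, 3, 4, 1, 4, 3, 2, 1, 3, 4] [.out 1985],
  .sub [4, 3, 1, 3, 2, 4, 3, 2, 3, 1, 4, 3, 2, 1, 3, 4] [.sub [20, 20, 18, 18, 19, 18, 25, 31, 25, 31, 25, 29] [.out 734]],
  .sub [2, 3, 2, 3, 1, 4, 1, 2, 3, 1, 4, 3, 2, 1, 3, 4] [.sub [27, 31, 18, 19, 31, 31, 20, 31, 27, 29] [.out 1438]],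
  .sub [3, 2, 3, 4, 1, 3, 1, 2, 3, 2, 4, 3, 2, 1, 3, 4] [.out 1961],
  .sub [1, 3, 1, 4, 3, 2, 4, 1, 3, 4, 1, 3, 2, 1, 3, 4] [.sub [20, 19, 20, 18, 20, 27, 31, 25, 20, 27] [.out 2244]],
  .sub [4, 1, 3, 1, 4, 3, 2, 1, 3, 4, 1, 3, 2, 1, 3, 4] [.out 2932],
  .sub [2, 3, 1, 3, 2, 1, 4, 1, 3, 2, 1, 3, 2, 1, 3, 4] [.sub [18, 19, 24, 18, 18, 24, 25, 31, 20, 29, 25, 29] [.out 1882]],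
  .sub [4, 3, 4, 1, 2, 3, 2, 4, 3, 1, 2, 3, 2, 1, 3, 4] [.sub [27, 20, 18, 25, 18, 18, 27, 31, 29] [.sub [19, 29, 18, 18, 18, 31, 27, 25, 20, 20, 25, 29] [.out 1812]]],
  .sub [4, 1, 3, 2, 1, 3, 4, 1, 3, 1, 2, 3, 2, 1, 3, 4] [.sub [31, 18, 18, 19, 19, 25, 24, 30, 31, 30, 27] [.out 3769]],
  .sub [1, 3, 1, 2, 3, 2, 4, 1, 3, 2, 4, 1, 3, 2, 3, 4] [.out 3942],
  .sub [1, 2, 3, 1, 3, 2, 4, 3, 2, 4, 1, 3, 2, 4, 1, 3, 4] [.sub [29, 19, 29, 18, 20, 30, 25, 20, 30, 29, 29] [.out 2500]]]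

/-- Branches. -/
def kidsYRow0 : List Branch := kidsYPart0 ++ kidsYPart1 ++ kidsYPart2 ++ kidsYPart3 ++ kidsYPart4 ++ kidsYPart5 ++ kidsYPart6 ++ kidsYPart7 ++ kidsYPart8 ++ kidsYPart9 ++ kidsYPart10 ++ kidsYPart11 ++ kidsYPart12 ++ kidsYPart13 ++ kidsYPart14 ++ kidsYPart15

/-- Branches. -/
def kidsYRow1 : List Branch := kidsYPart16 ++ kidsYPart17 ++ kidsYPart18 ++ kidsYPart19 ++ kidsYPart20 ++ kidsYPart21 ++ kidsYPart22 ++ kidsYPart23 ++ kidsYPart24 ++ kidsYPart25 ++ kidsYPart26 ++ kidsYPart27 ++ kidsYPart28 ++ kidsYPart29 ++ kidsYPart30 ++ kidsYPart31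

/-- Branches. -/
def kidsYRow2 : List Branch := kidsYPart32 ++ kidsYPart33 ++ kidsYPart34 ++ kidsYPart35 ++ kidsYPart36 ++ kidsYPart37 ++ kidsYPart38 ++ kidsYPart39 ++ kidsYPart40 ++ kidsYPart41 ++ kidsYPart42 ++ kidsYPart43 ++ kidsYPart44 ++ kidsYPart45 ++ kidsYPart46 ++ kidsYPart47

/-- Branches. -/
def kidsYRow3 : List Branch := kidsYPart48 ++ kidsYPart49 ++ kidsYPart50 ++ kidsYPart51 ++ kidsYPart52 ++ kidsYPart53 ++ kidsYPart54 ++ kidsYPart55 ++ kidsYPart56 ++ kidsYPart57 ++ kidsYPart58 ++ kidsYPart59 ++ kidsYPart60 ++ kidsYPart61 ++ kidsYPart62 ++ kidsYPart63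

/-- All branches. -/
def kidsY : List Branch := (kidsYRow0 ++ kidsYRow1 ++ kidsYRow2 ++ kidsYRow3)

/-- The modes. -/
def modesY : List Mode := [.free, .det 0 1, .det 1 1, .det 2 1]

end CfsgLib.Spor.RuOut
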