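import Cfsg.Agent.Lib.Spor.RuOut.Data
import Cfsg.Agent.Lib.Spor.RuOut.ChainY
import Cfsg.Agent.Lib.Spor.RuOut.KidsY
import Cfsg.Agent.Lib.Spor.ActCert.SearchSplit

/-!
A centralizer search.
-/

set_option autoImplicit false
set_option maxRecDepth 100000
set_option maxHeartbeats 0
set_option Elab.async false

namespace CfsgLib.Spor.RuOut

open CfsgLib.Spor.TC CfsgLib.Spor.ActCert

theorem modesY_ok : modesOK CfsgLib.Spor.Ru.ActR.act dat.yw [] levY modesY = true := by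
  decide +kernel

theorem sliceY0 : sliceOK CfsgLib.Spor.Ru.ActR.act dat.yw [] allowed levY0
    [levY1, levY2, levY3] [.det 0 1, .det 1 1, .det 2 1] 0 256 (kidsYPart0 ++ kidsYPart1 ++ kidsYPart2 ++ kidsYPart3) = true := by
  decide +kernel

theorem sliceY1 : sliceOK CfsgLib.Spor.Ru.ActR.act dat.yw [] allowed levY0
    [levY1, levY2, levY3] [.det 0 1, .det 1 1, .det 2 1] 256 256 (kidsYPart4 ++ kidsYPart5 ++ kidsYPart6 ++ kidsYPart7) = true := by
  decide +kernel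

theorem sliceY2 : sliceOK CfsgLib.Spor.Ru.ActR.act dat.yw [] allowed levY0
    [levY1, levY2, levY3] [.det 0 1, .det 1 1, .det 2 1] 512 256 (kidsYPart8 ++ kidsYPart9 ++ kidsYPart10 ++ kidsYPart11) = true := by
  decide +kernel

theorem sliceY3 : sliceOK CfsgLib.Spor.Ru.ActR.act dat.yw [] allowed levY0
    [levY1, levY2, levY3] [.det 0 1, .det 1 1, .det 2 1] 768 256 (kidsYPart12 ++ kidsYPart13 ++ kidsYPart14 ++ kidsYPart15) = true := by
  decide +kernel

theorem sliceY4 : sliceOK CfsgLib.Spor.Ru.ActR.act dat.yw [] allowed levY0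
    [levY1, levY2, levY3] [.det 0 1, .det 1 1, .det 2 1] 1024 256 (kidsYPart16 ++ kidsYPart17 ++ kidsYPart18 ++ kidsYPart19) = true := by
  decide +kernel

theorem sliceY5 : sliceOK CfsgLib.Spor.Ru.ActR.act dat.yw [] allowed levY0
    [levY1, levY2, levY3] [.det 0 1, .det 1 1, .det 2 1] 1280 256 (kidsYPart20 ++ kidsYPart21 ++ kidsYPart22 ++ kidsYPart23) = true := by
  decide +kernel

theorem sliceY6 : sliceOK CfsgLib.Spor.Ru.ActR.act dat.yw [] allowed levY0
    [levY1, levY2, levY3] [.det 0 1, .det 1 1, .det 2 1] 1536 256 (kidsYPart24 ++ kidsYPart25 ++ kidsYPart26 ++ kidsYPart27) = true := by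
  decide +kernel

theorem sliceY7 : sliceOK CfsgLib.Spor.Ru.ActR.act dat.yw [] allowed levY0
    [levY1, levY2, levY3] [.det 0 1, .det 1 1, .det 2 1] 1792 256 (kidsYPart28 ++ kidsYPart29 ++ kidsYPart30 ++ kidsYPart31) = true := by
  decide +kernel

theorem sliceY8 : sliceOK CfsgLib.Spor.Ru.ActR.act dat.yw [] allowed levY0
    [levY1, levY2, levY3] [.det 0 1, .det 1 1, .det 2 1] 2048 256 (kidsYPart32 ++ kidsYPart33 ++ kidsYPart34 ++ kidsYPart35) = true := by
  decide +kernel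

theorem sliceY9 : sliceOK CfsgLib.Spor.Ru.ActR.act dat.yw [] allowed levY0
    [levY1, levY2, levY3] [.det 0 1, .det 1 1, .det 2 1] 2304 256 (kidsYPart36 ++ kidsYPart37 ++ kidsYPart38 ++ kidsYPart39) = true := by
  decide +kernel

theorem sliceY10 : sliceOK CfsgLib.Spor.Ru.ActR.act dat.yw [] allowed levY0
    [levY1, levY2, levY3] [.det 0 1, .det 1 1, .det 2 1] 2560 256 (kidsYPart40 ++ kidsYPart41 ++ kidsYPart42 ++ kidsYPart43) = true := by
  decide +kernel

theorem sliceY11 : sliceOK CfsgLib.Spor.Ru.ActR.act dat.yw [] allowed levY0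
    [levY1, levY2, levY3] [.det 0 1, .det 1 1, .det 2 1] 2816 256 (kidsYPart44 ++ kidsYPart45 ++ kidsYPart46 ++ kidsYPart47) = true := by
  decide +kernel

theorem sliceY12 : sliceOK CfsgLib.Spor.Ru.ActR.act dat.yw [] allowed levY0
    [levY1, levY2, levY3] [.det 0 1, .det 1 1, .det 2 1] 3072 256 (kidsYPart48 ++ kidsYPart49 ++ kidsYPart50 ++ kidsYPart51) = true := by
  decide +kernel

theorem sliceY13 : sliceOK CfsgLib.Spor.Ru.ActR.act dat.yw [] allowed levY0
    [levY1, levY2, levY3] [.det 0 1, .det 1 1, .det 2 1] 3328 256 (kidsYPart52 ++ kidsYPart53 ++ kidsYPart54 ++ kidsYPart55) = true := by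
  decide +kernel

theorem sliceY14 : sliceOK CfsgLib.Spor.Ru.ActR.act dat.yw [] allowed levY0
    [levY1, levY2, levY3] [.det 0 1, .det 1 1, .det 2 1] 3584 256 (kidsYPart56 ++ kidsYPart57 ++ kidsYPart58 ++ kidsYPart59) = true := by
  decide +kernel

theorem sliceY15 : sliceOK CfsgLib.Spor.Ru.ActR.act dat.yw [] allowed levY0
    [levY1, levY2, levY3] [.det 0 1, .det 1 1, .det 2 1] 3840 220 (kidsYPart60 ++ kidsYPart61 ++ kidsYPart62 ++ kidsYPart63) = true := by
  decide +kernel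

theorem kidsY_eq : kidsY = (kidsYPart0 ++ kidsYPart1 ++ kidsYPart2 ++ kidsYPart3) ++ (kidsYPart4 ++ kidsYPart5 ++ kidsYPart6 ++ kidsYPart7) ++ (kidsYPart8 ++ kidsYPart9 ++ kidsYPart10 ++ kidsYPart11) ++ (kidsYPart12 ++ kidsYPart13 ++ kidsYPart14 ++ kidsYPart15) ++ (kidsYPart16 ++ kidsYPart17 ++ kidsYPart18 ++ kidsYPart19) ++ (kidsYPart20 ++ kidsYPart21 ++ kidsYPart22 ++ kidsYPart23) ++ (kidsYPart24 ++ kidsYPart25 ++ kidsYPart26 ++ kidsYPart27) ++ (kidsYPart28 ++ kidsYPart29 ++ kidsYPart30 ++ kidsYPart31) ++ (kidsYPart32 ++ kidsYPart33 ++ kidsYPart34 ++ kidsYPart35) ++ (kidsYPart36 ++ kidsYPart37 ++ kidsYPart38 ++ kidsYPart39) ++ (kidsYPart40 ++ kidsYPart41 ++ kidsYPart42 ++ kidsYPart43) ++ (kidsYPart44 ++ kidsYPart45 ++ kidsYPart46 ++ kidsYPart47) ++ (kidsYPart48 ++ kidsYPart49 ++ kidsYPart50 ++ kidsYPart51) ++ (kidsYPart52 ++ kidsYPart53 ++ kidsYPart54 ++ kidsYPart55) ++ (kidsYPart56 ++ kidsYPart57 ++ kidsYPart58 ++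 kidsYPart59) ++ (kidsYPart60 ++ kidsYPart61 ++ kidsYPart62 ++ kidsYPart63) := by
  simp only [kidsY, kidsYRow0, kidsYRow1, kidsYRow2, kidsYRow3, List.append_assoc]

theorem searchY_ok : searchOK CfsgLib.Spor.Ru.ActR.act dat.yw [] allowed levY modesY [] [] [] kidsY = true := by
  rw [kidsY_eq]
  exact searchOK_of_slices CfsgLib.Spor.Ru.ActR.act (slice_append CfsgLib.Spor.Ru.ActR.act (slice_append CfsgLib.Spor.Ru.ActR.act (slice_append CfsgLib.Spor.Ru.ActR.act (slice_append CfsgLib.Spor.Ru.ActR.act (slice_append CfsgLib.Spor.Ru.ActR.act (slice_append CfsgLib.Spor.Ru.ActR.act (slice_append CfsgLib.Spor.Ru.ActR.act (slice_append CfsgLib.Spor.Ru.ActR.act (slice_append CfsgLib.Spor.Ru.ActR.act (slice_append CfsgLib.Spor.Ru.ActR.act (slice_append CfsgLib.Spor.Ru.ActR.act (slice_append CfsgLib.Spor.Ru.ActR.act (slice_append CfsgLib.Spor.Ru.ActR.act (slice_append CfsgLib.Spor.Ru.ActR.act (slice_append CfsgLib.Spor.Ru.ActR.act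 sliceY0 sliceY1) sliceY2) sliceY3) sliceY4) sliceY5) sliceY6) sliceY7) sliceY8) sliceY9) sliceY10) sliceY11) sliceY12) sliceY13) sliceY14) sliceY15)

end CfsgLib.Spor.RuOut
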