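import Cfsg.Agent.Lib.Spor.RuOut.CheckChainX
import Cfsg.Agent.Lib.Spor.RuOut.CheckChainY
import Cfsg.Agent.Lib.Spor.RuOut.CheckX
import Cfsg.Agent.Lib.Spor.RuOut.CheckY
import Cfsg.Agent.Lib.Spor.RuOut.CheckPair
import Cfsg.Agent.Lib.Spor.Ru.Order

/-!
The group of order 145926144000 on five involutions has no outer automorphisms.
-/

set_option autoImplicit false
set_option maxRecDepth 100000

namespace CfsgLib.Spor.RuOut

open Cfsg CfsgLib.Spor.TC CfsgLib.Spor.ActCert

instance neZero_points : NeZero CfsgLib.Spor.Ru.ActR.act.n := ⟨Nat.succ_ne_zero 4059⟩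

theorem exact_of {Ls : List WLevel}
    (h : chainW CfsgLib.Spor.Ru.ActR.act [] Ls = true ∧ chainProd Ls = 145926144000) :
    Exact Ru.ActR.valid Ls :=
  ⟨h.1, Ru.rho_injective, by rw [Ru.card_r, h.2], by rw [h.2]; norm_num⟩

theorem out_pres : Nat.card (Out (Pres CfsgLib.Spor.Ru.ActR.act.k CfsgLib.Spor.Ru.relsR)) = 1 := by
  haveI : Fact dat.p.Prime := ⟨by norm_num [dat]⟩
  refine out_one dat (exact_of chainX_ok) ?_ (by decide) (by decide) ?_ elts_ok (exact_of chainX_ok) modesX_ok
    searchX_ok (exact_of chainY_ok) modesY_ok searchY_ok cands_ok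
  · rw [Ru.card_r, show dat.p = 29 from rfl, show (145926144000 : ℕ) = 29 ^ 1 * 5031936000 by norm_num,
      Nat.factorization_mul (by norm_num) (by norm_num), Nat.factorization_pow, Finsupp.add_apply,
      Finsupp.smul_apply, Nat.Prime.factorization_self (by norm_num),
      Nat.factorization_eq_zero_of_not_dvd (by norm_num)]
    rfl
  · have h : ∀ k < 29, k ≠ 0 → ∃ i < 14, k * dat.r ^ i % dat.p ∈ dat.S := by decide
    intro k hk h0
    obtain ⟨i, -, hi⟩ := h k hk h0
    exact ⟨i, hi⟩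

end CfsgLib.Spor.RuOut
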