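import Cfsg.Agent.Lib.Spor.ActCert.OutOne

/-!
The named elements.
-/

set_option autoImplicit false
set_option maxRecDepth 100000
set_option maxHeartbeats 0
set_option Elab.async false

namespace CfsgLib.Spor.RuOut

open CfsgLib.Spor.TC CfsgLib.Spor.ActCert

/-- The data. -/
def dat : OneData where
  p := 29
  r := 4
  xw := [26, 14, 5, 4, 18, 24, 20, 18, 20, 31, 29, 31, 27]
  yw := [26, 5, 7, 25, 31, 18, 25, 27, 24, 29, 24]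
  ww := [6, 28, 5, 9, 24, 25, 18, 18, 18, 18, 25, 31, 29, 30, 24, 27, 30, 29, 29]
  S := [1, 2]
  forms := [([1], 29), ([1, 4], 12)]
  gens := [
    [0, 0, 0, 0, 1, 0, 0, 1, 0, 1, 0, 1, 0, 0, 1, 0, 0, 0, 0, 1, 0, 0, 0, 1, 0, 0, 1, 0, 0, 1, 0, 1, 0, 1, 0, 0, 1, 0, 0, 0, 1, 0, 0, 0, 1, 0, 0, 1, 0, 0, 0, 1, 0, 1, 0, 0, 0, 1, 0, 0, 0, 1, 0, 0],
    [1, 0, 0, 0, 1, 0, 0, 0, 0, 0, 0, 1, 0, 0, 1, 0, 0, 0, 0, 0, 0, 0, 0, 1, 0, 0, 1, 0, 1, 0, 0, 0, 1, 0, 0, 0, 0, 0, 0, 1, 0, 1],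
    [0, 0, 1, 0, 0, 1, 0, 1, 0, 0, 0, 1, 0, 0, 0, 1, 0, 0, 1, 0, 0, 0, 0, 1, 0, 0, 1, 0, 0, 0, 1, 0, 1, 0, 0, 1, 0, 1, 0, 0, 0, 0, 1, 0, 1, 0, 0, 1, 0, 1, 0, 0, 0, 1],
    [0, 1, 0, 1, 0, 1, 0, 1, 0, 1, 0, 0, 0, 0, 0, 0, 1, 0, 1, 0, 1, 0, 0, 0, 0, 0, 1, 0, 0, 0, 1, 0, 0, 0, 1, 0, 1, 0, 0, 0, 0, 0, 0, 1, 0, 1, 0, 0, 1, 0, 0, 1, 0, 0, 0, 0, 1, 0, 1, 0],
    [1, 0, 1, 0, 0, 0, 0, 1, 0, 0, 0, 1, 0, 1, 0, 0, 1, 0, 0, 0, 1, 0, 1, 0, 0, 0, 0, 0, 0, 1, 0, 0, 0, 1, 0, 0, 0, 0, 0, 0, 0, 0, 0, 1, 0, 0, 0, 0, 0, 1, 0, 1, 0, 1, 0, 0, 1, 0, 0, 1, 0, 0, 0, 0, 0, 0]]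

/-- The centralizer of the normalizing element. -/
def allowed : List (List ℕ) := [
    [],
    [30, 9, 6, 4, 29, 31, 19, 18, 24, 24, 24, 20, 20, 30],
    [15, 8, 4, 30, 18, 18, 18, 18, 27, 24, 31, 31, 27, 29, 29],
    [6, 28, 5, 9, 24, 25, 18, 18, 18, 18, 25, 31, 29, 30, 24, 27, 30, 29, 29],
    [18, 18, 4, 20, 30, 19, 20, 18, 30, 29, 31, 31, 29, 29],
    [13, 18, 21, 4, 30, 19, 25, 18, 20, 30, 25, 24, 30, 27, 29],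
    [26, 5, 7, 25, 31, 18, 25, 27, 24, 29, 24],
    [31, 15, 7, 29, 19, 29, 18, 18, 30, 24, 31, 24, 30, 25, 29],
    [19, 7, 27, 20, 31, 20, 18, 25, 31, 25, 20, 20, 30, 29],
    [6, 18, 4, 20, 20, 25, 19, 18, 20, 30, 20, 20, 27, 29],
    [5, 2, 17, 24, 24, 18, 19, 25, 31, 20, 27, 29],
    [11, 29, 17, 19, 18, 19, 20, 18, 20, 31, 30, 20, 20, 27, 30, 29, 29],
    [18, 22, 17, 29, 19, 18, 18, 19, 20, 20, 29, 31, 27, 30],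
    [13, 7, 14, 7, 30, 29, 20, 18, 31, 29, 30, 24, 29],
    [5, 12, 6, 4, 24, 24, 19, 31, 30, 24, 20],
    [23, 10, 5, 4, 25, 19, 31, 19, 18, 24, 27, 24, 27, 29],
    [8, 24, 9, 25, 31, 24, 19, 18, 27, 24, 30, 20, 27, 30, 29],
    [23, 17, 21, 4, 20, 27, 24, 19, 18, 29, 24, 20, 31, 27, 29],
    [9, 10, 19, 7, 18, 25, 31, 29, 18, 24, 30, 31, 30, 25, 29, 29],
    [17, 17, 19, 5, 4, 24, 20, 18, 18, 18, 29, 31, 29, 30, 24, 30, 27, 29],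
    [7, 21, 17, 8, 4, 25, 18, 31, 18, 18, 24, 30, 25, 31, 27, 29],
    [4, 14, 23, 7, 24, 27, 18, 19, 20, 25, 24, 20, 20, 30, 25],
    [28, 17, 5, 6, 4, 19, 18, 27, 19, 18, 31, 27, 30, 31],
    [11, 9, 9, 5, 4, 19, 18, 18, 25, 18, 31, 24, 29, 20, 20, 27, 30, 29, 29],
    [13, 6, 19, 7, 29, 24, 27, 18, 19, 29, 31, 25, 31, 30, 25],
    [6, 13, 10, 7, 18, 27, 20, 19, 18, 20, 31, 30, 20, 30, 27, 29],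
    [17, 27, 19, 5, 4, 30, 19, 31, 18, 18, 25, 31, 20, 20, 30, 25, 29],
    [18, 9, 11, 17, 24, 29, 18, 18, 18, 30, 20, 31, 20, 29, 29]]

end CfsgLib.Spor.RuOut
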